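import Cfsg.Agent.Lib.Char.Counting

/-!
# Kernels of characters
-/

set_option autoImplicit false
set_option linter.unusedSectionVars false

namespace CfsgLib.Char

open Cfsg
open scoped ComplexConjugate CfsgLib.Char

variable {G : Type*} [Group G]

/-- The kernel of a character as a normal subgroup. -/
theorem exists_kernel [Finite G] {χ : G → ℂ} (hχ : IsCharacter G χ) :
    ∃ K : Subgroup G, K.Normal ∧ (∀ g, g ∈ K ↔ χ g = χ 1) ∧
      ∀ k ∈ K, ∀ g, χ (k * g) = χ g := by
  obtain ⟨n, ρ, rfl⟩ := hχ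
  refine ⟨MonoidHom.ker (ρ : G →* Module.End ℂ (Fin n → ℂ)), MonoidHom.normal_ker _, fun g => ?_,
    fun k hk g => ?_⟩
  · rw [MonoidHom.mem_ker, Representation.char_one]
    exact (character_eq_finrank_iff ρ g).symm
  · show LinearMap.trace ℂ _ (ρ (k * g)) = LinearMap.trace ℂ _ (ρ g)
    rw [map_mul, show ρ k = 1 from MonoidHom.mem_ker.mp hk, one_mul]

/-- An element in the kernel of every irreducible character is trivial. -/
theorem eq_one_of_forall_irr [Finite G] {g : G}
    (h : ∀ χ : IrrCharacter G, (χ : G → ℂ) g = (χ : G → ℂ) 1) : g = 1 := by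
  obtain ⟨c, hc⟩ := isConj_iff.mp ((isConj_iff_irr_agree g 1).mpr h).symm
  simpa using hc.symm

/-- A non-trivial normal subgroup of a `p`-group contains a central element of order `p`. -/
theorem exists_central_of_normal [Finite G] {p : ℕ} [Fact p.Prime] (hG : IsPGroup p G)
    (N : Subgroup G) [hN : N.Normal] (hne : N ≠ ⊥) :
    ∃ z ∈ N, z ∈ Subgroup.center G ∧ orderOf z = p := by
  classical
  let f : G →* Equiv.Perm N :=
    (MulAut.toPerm N).comp (MulAut.conjNormal (H := N))
  have hP : IsPGroup p f.range := hG.of_surjective f.rangeRestrict f.rangeRestrict_surjective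
  have hNp : IsPGroup p N := hG.to_subgroup N
  have hdvd : p ∣ Nat.card N := by
    obtain ⟨k, hk⟩ := hNp.exists_card_eq
    rcases Nat.eq_zero_or_pos k with rfl | hk0
    · rw [pow_zero] at hk; exact absurd (Subgroup.card_eq_one.mp hk) hne
    · rw [hk]; exact dvd_pow_self p hk0.ne'
  have h1 : (1 : N) ∈ MulAction.fixedPoints f.range N := by
    rintro ⟨_, g, rfl⟩
    show f g 1 = 1
    exact map_one (MulAut.conjNormal g : MulAut N)
  obtain ⟨b, hb, hb1⟩ := hP.exists_fixed_point_of_prime_dvd_card_of_fixed_point N hdvd h1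
  have hbc : (b : G) ∈ Subgroup.center G := by
    rw [Subgroup.mem_center_iff]
    intro g
    have h2 : f g b = b := hb ⟨f g, g, rfl⟩
    have h3 : g * (b : G) * g⁻¹ = b := congrArg Subtype.val h2
    calc g * (b : G) = g * (b : G) * g⁻¹ * g := by group
      _ = (b : G) * g := by rw [h3]
  have hb1' : (b : G) ≠ 1 := fun h => hb1 (Subtype.ext h.symm)
  obtain ⟨k, hk⟩ := hG (b : G)
  have hord : p ∣ orderOf (b : G) := by
    obtain ⟨j, -, hj⟩ := (Nat.dvd_prime_pow (Fact.out : p.Prime)).mp (orderOf_dvd_of_pow_eq_one hk)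
    rcases Nat.eq_zero_or_pos j with rfl | hj0
    · exact absurd (orderOf_eq_one_iff.mp hj) hb1'
    · rw [hj]; exact dvd_pow_self p hj0.ne'
  refine ⟨(b : G) ^ (orderOf (b : G) / p), N.pow_mem b.2 _, Subgroup.pow_mem _ hbc _,
    orderOf_pow_orderOf_div (orderOf_pos _).ne' hord⟩

end CfsgLib.Char
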