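import Cfsg.Agent.Lib.Char.Virtual

/-!
# Induction from a subgroup containing a TI set
-/

set_option autoImplicit false

namespace CfsgLib.Char

open Cfsg
open scoped ComplexConjugate

variable {G : Type*} [Group G] [Fintype G]

/-- If `T ⊆ H` is TI relative to `H` and the class function `ψ` of `H` vanishes off `T`, induction
does not change the values at nontrivial elements of `T`. -/
theorem indFun_eq_of_ti (H : Subgroup G) (T : Set G)
    (hTI : ∀ g : G, g ∉ H → ∀ t ∈ T, g * t * g⁻¹ ∈ T → t = 1) (ψ : H → ℂ)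
    (hψ : IsClassFunction H ψ) (hψT : ∀ x : H, (x : G) ∉ T → ψ x = 0) (t : H)
    (ht : (t : G) ∈ T) (ht1 : t ≠ 1) : indFun H ψ t = ψ t := by
  classical
  have hval : ∀ x : G, extendByZero H ψ (x⁻¹ * t * x) = if x ∈ H then ψ t else 0 := by
    intro x
    by_cases hx : x ∈ H
    · rw [if_pos hx]
      have e : x⁻¹ * (t : G) * x = ((⟨x, hx⟩⁻¹ * t * ⟨x, hx⟩ : H) : G) := by simp
      rw [e, extendByZero_coe]
      have := hψ t (⟨x, hx⟩ : H)⁻¹
      rwa [inv_inv] at this
    · rw [if_neg hx]
      by_cases hy : x⁻¹ * (t : G) * x ∈ H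
      · rw [extendByZero_mem H ψ hy]
        refine hψT _ fun hyT => ht1 ?_
        have := hTI x⁻¹ (fun h => hx (by simpa using H.inv_mem h)) t ht (by rw [inv_inv]; exact hyT)
        exact Subtype.ext this
      · exact extendByZero_notMem H ψ hy
  simp only [indFun, hval]
  rw [← Finset.sum_filter, Finset.sum_const, nsmul_eq_mul]
  have hc : (Finset.univ.filter fun x : G => x ∈ H).card = Nat.card H := by
    rw [Nat.card_eq_fintype_card, Fintype.card_subtype]
  rw [hc, inv_mul_cancel_left₀ (Nat.cast_ne_zero.mpr Nat.card_pos.ne')]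

theorem classInner_indFun_of_ti (H : Subgroup G) [Fintype H] (T : Set G)
    (hTI : ∀ g : G, g ∉ H → ∀ t ∈ T, g * t * g⁻¹ ∈ T → t = 1) (ψ θ : H → ℂ)
    (hθ : IsClassFunction H θ) (hψT : ∀ x : H, (x : G) ∉ T → ψ x = 0)
    (hθT : ∀ x : H, (x : G) ∉ T → θ x = 0) (hψ1 : ψ 1 = 0) :
    classInner (indFun H ψ) (indFun H θ) = classInner ψ θ := by
  rw [frobenius_reciprocity H ψ (isClassFunction_indFun H θ)]
  simp only [classInner]
  congr 1
  refine Finset.sum_congr rfl fun x _ => ?_
  by_cases hx : (x : G) ∈ T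
  · by_cases h1 : x = 1
    · subst h1; rw [hψ1, zero_mul, zero_mul]
    · rw [indFun_eq_of_ti H T hTI θ hθ hθT x hx h1]
  · rw [hψT x hx, zero_mul, zero_mul]

theorem indFun_sub_apply_one (H : Subgroup G) (φ ψ : H → ℂ) (h : φ 1 = ψ 1) :
    indFun H (φ - ψ) 1 = 0 := by
  rw [indFun_one, Pi.sub_apply, h, sub_self, mul_zero]

/-- Exceptional characters for a TI set: irreducible characters of equal degree of `H` vanishing
off `S`. -/
theorem exceptional_of_ti (H : Subgroup G) [Fintype H] (S : Set G)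
    (hTI : ∀ g : G, g ∉ H → ∀ t ∈ S, g * t * g⁻¹ ∈ S → t = 1) {ι : Type*} (i₀ : ι)
    (χ : ι → H → ℂ) (hirr : ∀ i, IsIrrCharacter H (χ i)) (hinj : Function.Injective χ)
    (hvan : ∀ i j, ∀ x : H, (x : G) ∉ S → χ i x = χ j x) (hdeg : ∀ i j, χ i 1 = χ j 1) :
    ∃ ε : ℂ, (ε = 1 ∨ ε = -1) ∧ ∃ θ : ι → G → ℂ, (∀ i, IsIrrCharacter G (θ i)) ∧
      Function.Injective θ ∧ ∀ i j, indFun H (χ i) - indFun H (χ j) = ε • (θ i - θ j) := by
  classical
  have hcf : ∀ i j, IsClassFunction H (χ i - χ j) := fun i j =>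
    isClassFunction_of_isGeneralized
      (isGeneralized_sub (isGeneralized_of_isIrr (hirr i)) (isGeneralized_of_isIrr (hirr j)))
  have hoff : ∀ i j, ∀ x : H, (x : G) ∉ S → (χ i - χ j) x = 0 := fun i j x hx => by
    rw [Pi.sub_apply, hvan i j x hx, sub_self]
  have hiso : ∀ i j k, classInner (indFun H (χ i - χ k)) (indFun H (χ j - χ k)) =
      classInner (χ i) (χ j) - classInner (χ i) (χ k) - (classInner (χ k) (χ j) - classInner (χ k) (χ k)) := by
    intro i j k
    rw [classInner_indFun_of_ti H S hTI _ _ (hcf j k) (hoff i k) (hoff j k)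
        (by rw [Pi.sub_apply, hdeg i k, sub_self]),
      classInner_sub_left, classInner_sub_right, classInner_sub_right]
  obtain ⟨ε, hε, μ, hμ, hμinj, hμτ⟩ := exceptional_family i₀ (fun i => indFun H (χ i - χ i₀))
    (fun i _ => isGeneralized_indFun H
      (isGeneralized_sub (isGeneralized_of_isIrr (hirr i)) (isGeneralized_of_isIrr (hirr i₀))))
    (fun i _ => indFun_sub_apply_one H _ _ (hdeg i i₀))
    (by simp [indFun_zero])
    (fun i j hi hj => by
      constructor
      · rintro rfl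
        rw [hiso, classInner_irr_self (hirr i), classInner_irr_self (hirr i₀),
          classInner_irr_ne (hirr i) (hirr i₀) (fun e => hi (hinj e)),
          classInner_irr_ne (hirr i₀) (hirr i) (fun e => hi (hinj e).symm)]
        norm_num
      · intro hij
        rw [hiso, classInner_irr_self (hirr i₀),
          classInner_irr_ne (hirr i) (hirr i₀) (fun e => hi (hinj e)),
          classInner_irr_ne (hirr i₀) (hirr j) (fun e => hj (hinj e).symm),
          classInner_irr_ne (hirr i) (hirr j) (fun e => hij (hinj e))]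
        norm_num)
  refine ⟨ε, hε, μ, hμ, hμinj, fun i j => ?_⟩
  have h1 := hμτ i
  have h2 := hμτ j
  rw [← indFun_sub]
  have : χ i - χ j = (χ i - χ i₀) - (χ j - χ i₀) := by abel
  rw [this, indFun_sub, h1, h2, ← smul_sub]
  congr 1
  abel

end CfsgLib.Char
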