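import Cfsg.Agent.Lib.Char.Central

/-!
# Algebraic integers that are averages of roots of unity; Burnside's vanishing lemma
-/

set_option autoImplicit false

namespace CfsgLib.Char

open Module Representation Cfsg Polynomial
open scoped ComplexConjugate

/-- An algebraic integer which is an average of roots of unity is zero or has absolute value one. -/
theorem eq_zero_or_norm_eq_one {n : ℕ} (μ : Fin n → ℂ) {m : ℕ} (hm : 0 < m)
    (hμ : ∀ i, μ i ^ m = 1) {z : ℂ} (hz : z * (n : ℂ) = ∑ i, μ i) (hn : n ≠ 0)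
    (hint : IsIntegral ℤ z) : z = 0 ∨ ‖z‖ = 1 := by
  classical
  let F := algebraicClosure ℚ ℂ
  have : Algebra.IsAlgebraic ℚ F := algebraicClosure.isAlgebraic ℚ ℂ
  have hzF : z ∈ F := (mem_algebraicClosure_iff (F := ℚ) (E := ℂ)).mpr
    ((hint.tower_top (A := ℚ)).isAlgebraic)
  have hμF : ∀ i, μ i ∈ F := fun i => (mem_algebraicClosure_iff (F := ℚ) (E := ℂ)).mpr
    ((IsIntegral.of_pow hm (by rw [hμ]; exact isIntegral_one)).isAlgebraic)
  have hroot : ∀ r ∈ (minpoly ℚ z).rootSet ℂ, ‖r‖ ≤ 1 := by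
    intro r hr
    have hmin : minpoly ℚ z = minpoly ℚ (⟨z, hzF⟩ : F) :=
      minpoly.algebraMap_eq (algebraMap F ℂ).injective (⟨z, hzF⟩ : F)
    rw [hmin, ← Algebra.IsAlgebraic.range_eval_eq_rootSet_minpoly] at hr
    obtain ⟨ψ, rfl⟩ := hr
    have h1 : (⟨z, hzF⟩ : F) * (n : F) = ∑ i, (⟨μ i, hμF i⟩ : F) := by
      apply Subtype.ext
      push_cast
      exact hz
    have h2 := congrArg ψ h1
    rw [map_mul, map_natCast, map_sum] at h2
    have h3 : ∀ i, ‖ψ (⟨μ i, hμF i⟩ : F)‖ = 1 := fun i =>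
      Complex.norm_eq_one_of_pow_eq_one (by
        rw [← map_pow]
        have : (⟨μ i, hμF i⟩ : F) ^ m = 1 := Subtype.ext (by simp [hμ i])
        rw [this, map_one]) hm.ne'
    have h4 := congrArg (‖·‖) h2
    simp only [norm_mul, Complex.norm_natCast] at h4
    have h5 : ‖ψ (⟨z, hzF⟩ : F)‖ * n ≤ n := by
      rw [h4]
      exact le_trans (norm_sum_le _ _) (le_of_eq (by simp [h3]))
    exact le_of_mul_le_mul_right (by rwa [one_mul]) (Nat.cast_pos.mpr (Nat.pos_of_ne_zero hn))
  set p := minpoly ℤ z with hp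
  have hpQ : minpoly ℚ z = p.map (algebraMap ℤ ℚ) :=
    minpoly.isIntegrallyClosed_eq_field_fractions' ℚ hint
  set q := p.map (algebraMap ℤ ℂ) with hq
  have hmonic : q.Monic := (minpoly.monic hint).map _
  have hqQ : q = (minpoly ℚ z).map (algebraMap ℚ ℂ) := by
    rw [hpQ, Polynomial.map_map, hq]
    congr 1
  have hroots : ∀ r ∈ q.roots, ‖r‖ ≤ 1 := fun r hr => hroot r (by
    rw [Polynomial.mem_rootSet']
    rw [hqQ, Polynomial.mem_roots'] at hr
    exact ⟨hr.1, by rw [aeval_def, ← eval_map]; exact hr.2⟩)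
  have hzroot : z ∈ q.roots := by
    rw [Polynomial.mem_roots hmonic.ne_zero, IsRoot, hq, eval_map, ← aeval_def]
    exact minpoly.aeval ℤ z
  have hcoef : q.coeff 0 = (-1) ^ q.natDegree * q.roots.prod :=
    (IsAlgClosed.splits q).coeff_zero_eq_prod_roots_of_monic hmonic
  have hzle := hroots z hzroot
  rcases hzle.eq_or_lt with h | h
  · exact Or.inr h
  left
  have hlt : ‖q.coeff 0‖ < 1 := by
    rw [hcoef, norm_mul, norm_pow, norm_neg, norm_one, one_pow, one_mul,
      ← Multiset.cons_erase hzroot, Multiset.prod_cons, norm_mul]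
    have : ‖(q.roots.erase z).prod‖ ≤ 1 := by
      have key : ∀ s : Multiset ℂ, (∀ r ∈ s, ‖r‖ ≤ 1) → ‖s.prod‖ ≤ 1 := by
        intro s
        induction s using Multiset.induction with
        | empty => intro _; simp
        | cons a s ih =>
          intro hs
          rw [Multiset.prod_cons, norm_mul]
          exact mul_le_one₀ (hs a (Multiset.mem_cons_self a s)) (norm_nonneg _)
            (ih fun r hr => hs r (Multiset.mem_cons_of_mem hr))
      exact key _ fun r hr => hroots r (Multiset.mem_of_mem_erase hr)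
    exact lt_of_le_of_lt (mul_le_of_le_one_right (norm_nonneg z) this) h
  have h0 : p.coeff 0 = 0 := by
    rw [hq, coeff_map] at hlt
    simp only [algebraMap_int_eq, eq_intCast, Complex.norm_intCast] at hlt
    have : |p.coeff 0| < 1 := by exact_mod_cast hlt
    exact Int.abs_lt_one_iff.mp this
  by_contra hz0
  refine minpoly.coeff_zero_ne_zero (hint.tower_top (A := ℚ)) hz0 ?_
  rw [hpQ, coeff_map, h0, map_zero]

variable {G : Type*} [Group G] [Finite G] {V : Type*} [AddCommGroup V] [Module ℂ V]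
  [FiniteDimensional ℂ V]

/-- Burnside's lemma. -/
theorem burnside_zero_or_scalar (ρ : Representation ℂ G V) [ρ.IsIrreducible] (g : G)
    (hcop : Nat.Coprime (finrank ℂ V) (Subgroup.centralizer ({g} : Set G)).index) :
    ρ.character g = 0 ∨ ‖ρ.character g‖ = (finrank ℂ V : ℝ) := by
  obtain ⟨μ, h1, h2⟩ := character_pow_eq_sum ρ g
  have hg := h2 1
  simp only [pow_one] at hg
  have hn : ((finrank ℂ V : ℕ) : ℂ) ≠ 0 := Nat.cast_ne_zero.mpr (finrank_pos_of_irreducible ρ).ne'
  set z := ρ.character g / ((finrank ℂ V : ℕ) : ℂ) with hz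
  set c := (Subgroup.centralizer ({g} : Set G)).index
  have hint : IsIntegral ℤ z := by
    obtain ⟨a, b, hab⟩ : ∃ a b : ℤ, a * (finrank ℂ V : ℕ) + b * c = 1 := Int.isCoprime_iff_nat_coprime.mpr (by simpa using hcop)
    have e : z = (a : ℂ) * ρ.character g + (b : ℂ) * omega ρ.character g := by
      have hab' : (a : ℂ) * (finrank ℂ V : ℕ) + (b : ℂ) * c = 1 := by exact_mod_cast hab
      rw [hz, omega, Representation.char_one]
      field_simp
      linear_combination -(ρ.character g) * hab'
    rw [e]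
    have hi : ∀ a : ℤ, IsIntegral ℤ (a : ℂ) := fun a => by
      simpa using isIntegral_algebraMap (R := ℤ) (A := ℂ) (x := a)
    exact ((hi a).mul (isIntegral_character ρ g)).add ((hi b).mul (isIntegral_omega ρ g))
  rcases eq_zero_or_norm_eq_one μ (orderOf_pos g) h1
    (by rw [hz, div_mul_cancel₀ _ hn, hg]) (finrank_pos_of_irreducible ρ).ne' hint with h | h
  · left
    rw [hz, div_eq_zero_iff] at h
    exact h.resolve_right hn
  · right
    rw [hz, norm_div, Complex.norm_natCast,
      div_eq_one_iff_eq (Nat.cast_ne_zero.mpr (finrank_pos_of_irreducible ρ).ne')] at h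
    exact h

/-- A simple group with a nontrivial class of prime power size has prime order. -/
theorem prime_card_of_prime_power_class [IsSimpleGroup G] (p k : ℕ) (hp : p.Prime) (g : G)
    (hg : g ≠ 1) (hclass : (Subgroup.centralizer ({g} : Set G)).index = p ^ k) :
    (Nat.card G).Prime := by
  classical
  have hcentral : g ∈ Subgroup.center G → (Nat.card G).Prime := by
    intro hc
    have hne : Subgroup.center G ≠ ⊥ := fun e => hg (by rw [e] at hc; exact Subgroup.mem_bot.mp hc)
    have htop := ((inferInstance : (Subgroup.center G).Normal).eq_bot_or_eq_top).resolve_left hne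
    let _ : CommGroup G := Group.commGroupOfCenterEqTop htop
    exact IsSimpleGroup.prime_card
  rcases Nat.eq_zero_or_pos k with hk | hk
  · refine hcentral (Subgroup.mem_center_iff.mpr fun x => ?_)
    rw [hk, pow_zero, Subgroup.index_eq_one] at hclass
    have hx : x ∈ Subgroup.centralizer ({g} : Set G) := hclass ▸ Subgroup.mem_top x
    exact (Subgroup.mem_centralizer_singleton_iff.mp hx)
  by_contra hnp
  have key : ∀ χ : IrrCharacter G, (χ : G → ℂ) ≠ (fun _ => 1) →
      (χ : G → ℂ) g = 0 ∨ ∃ d : ℕ, (χ : G → ℂ) 1 = ((p * d : ℕ) : ℂ) := by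
    intro χ hχ
    obtain ⟨n, ρ, hρ, e⟩ := χ.2
    by_cases hdvd : p ∣ n
    · obtain ⟨d, hd⟩ := hdvd
      exact Or.inr ⟨d, by rw [← e, Representation.char_one, Module.finrank_fin_fun, hd]⟩
    left
    rcases burnside_zero_or_scalar ρ g (by
      rw [hclass, Module.finrank_fin_fun]
      exact ((Nat.Prime.coprime_iff_not_dvd hp).mpr hdvd).symm.pow_right k) with h | h
    · rw [← e]; exact h
    exfalso
    obtain ⟨ω, hω⟩ := (norm_character_eq_iff ρ g).mp h
    let f : G →* Module.End ℂ (Fin n → ℂ) := ρ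
    rcases (MonoidHom.normal_ker f).eq_bot_or_eq_top with hk0 | hk1
    · have hinj : Function.Injective f := (MonoidHom.ker_eq_bot_iff f).mp hk0
      refine hnp (hcentral (Subgroup.mem_center_iff.mpr fun x => hinj ?_))
      show f (x * g) = f (g * x)
      rw [map_mul, map_mul]
      show ρ x * ρ g = ρ g * ρ x
      rw [hω]
      ext v; simp
    · apply hχ
      have h1 : ρ.character = (n : ℂ) • fun _ : G => (1 : ℂ) := by
        funext x
        have : ρ x = 1 := (MonoidHom.mem_ker (f := f)).mp (hk1 ▸ Subgroup.mem_top x)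
        show LinearMap.trace ℂ _ (ρ x) = _
        rw [this]; simp
      have := Fintype.ofFinite G
      have h2 := classInner_irr_self χ.2
      rw [← e]
      by_contra hne
      have h3 := classInner_irr_ne ⟨n, ρ, hρ, rfl⟩ (isIrrCharacter_one (G := G)) hne
      rw [h1, classInner_smul_left, classInner_irr_self isIrrCharacter_one, mul_one] at h3
      have : n = 0 := Nat.cast_eq_zero.mp h3
      exact hdvd (this ▸ dvd_zero p)
  choose! d hd using fun (χ : IrrCharacter G) (h : (χ : G → ℂ) ≠ (fun _ => 1) ∧ (χ : G → ℂ) g ≠ 0) =>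
    (key χ h.1).resolve_left h.2
  have hsum := sum_degree_mul_irr g
  rw [if_neg hg, ← Finset.add_sum_erase Finset.univ _
    (Finset.mem_univ (⟨fun _ => 1, isIrrCharacter_one⟩ : IrrCharacter G))] at hsum
  set S := ∑ χ ∈ Finset.univ.erase (⟨fun _ => 1, isIrrCharacter_one⟩ : IrrCharacter G),
    (d χ : ℂ) * (χ : G → ℂ) g with hS
  have hrest : ∑ χ ∈ Finset.univ.erase (⟨fun _ => 1, isIrrCharacter_one⟩ : IrrCharacter G),
      (χ : G → ℂ) 1 * (χ : G → ℂ) g = (p : ℂ) * S := by
    rw [hS, Finset.mul_sum]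
    refine Finset.sum_congr rfl fun χ hχ => ?_
    by_cases h0 : (χ : G → ℂ) g = 0
    · simp [h0]
    · rw [hd χ ⟨fun e => (Finset.mem_erase.mp hχ).1 (Subtype.ext e), h0⟩]
      push_cast; ring
  simp only [one_mul] at hsum
  rw [hrest] at hsum
  have hSint : IsIntegral ℤ S := IsIntegral.sum _ fun χ _ =>
    (by simpa using isIntegral_algebraMap (R := ℤ) (A := ℂ) (x := (d χ : ℤ)) :
      IsIntegral ℤ (d χ : ℂ)).mul (isIntegral_value (isCharacter_of_isIrr χ.2) g)
  have hp0 : (p : ℂ) ≠ 0 := Nat.cast_ne_zero.mpr hp.ne_zero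
  have : IsIntegral ℤ ((1 : ℕ) / (p : ℂ)) := by
    have e : ((1 : ℕ) : ℂ) / (p : ℂ) = -S := by
      rw [div_eq_iff hp0, Nat.cast_one]; linear_combination hsum
    rw [e]; exact hSint.neg
  exact hp.ne_one (Nat.dvd_one.mp (dvd_of_isIntegral_div hp.ne_zero this))

end CfsgLib.Char
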