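import Cfsg.Agent.Lib.Char.Table

/-!
# Class sums, central characters, integrality, divisibility of degrees
-/

set_option autoImplicit false

namespace CfsgLib.Char

open Module Representation Cfsg
open scoped ComplexConjugate

variable {G : Type*} [Group G]

/-- The value of the central character of a function at `g` (as in `Def_Blocks`). -/
noncomputable def omega (χ : G → ℂ) (g : G) : ℂ :=
  ((Subgroup.centralizer ({g} : Set G)).index : ℂ) * χ g / χ 1

variable {V : Type*} [AddCommGroup V] [Module ℂ V]

open Classical in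
/-- The action of the class sum of `g`. -/
noncomputable def classSum [Fintype G] (ρ : Representation ℂ G V) (g : G) : V →ₗ[ℂ] V :=
  ∑ x ∈ Finset.univ.filter (fun x => IsConj x g), ρ x

theorem classSum_comm [Fintype G] (ρ : Representation ℂ G V) (g h : G) :
    classSum ρ g ∘ₗ ρ h = ρ h ∘ₗ classSum ρ g := by
  classical
  refine LinearMap.ext fun v => ?_
  simp only [classSum, LinearMap.comp_apply, LinearMap.sum_apply, map_sum]
  refine Finset.sum_equiv (MulAut.conj h⁻¹).toEquiv (fun x => ?_) fun x _ => ?_
  · simp only [Finset.mem_filter, Finset.mem_univ, true_and]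
    have hc : IsConj x ((MulAut.conj h⁻¹).toEquiv x) := isConj_iff.mpr ⟨h⁻¹, by simp⟩
    exact ⟨fun H => hc.symm.trans H, fun H => hc.trans H⟩
  · rw [← Module.End.mul_apply, ← Module.End.mul_apply, ← map_mul, ← map_mul]
    simp [mul_assoc]

variable [FiniteDimensional ℂ V]

theorem trace_classSum [Fintype G] (ρ : Representation ℂ G V) (g : G) :
    LinearMap.trace ℂ V (classSum ρ g) =
      ((Subgroup.centralizer ({g} : Set G)).index : ℂ) * ρ.character g := by
  classical
  rw [classSum, map_sum, ← card_isConj_eq_index, Nat.card_eq_fintype_card, Fintype.card_subtype]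
  rw [Finset.sum_congr rfl fun x hx => show LinearMap.trace ℂ V (ρ x) = ρ.character g from
    eq_of_isConj (isClassFunction_character ρ) (Finset.mem_filter.mp hx).2]
  simp

/-- The class sum acts on an irreducible representation by the central character. -/
theorem classSum_eq_omega [Fintype G] (ρ : Representation ℂ G V) [ρ.IsIrreducible] (g : G) :
    classSum ρ g = omega ρ.character g • LinearMap.id := by
  let T : IntertwiningMap ρ ρ := ⟨classSum ρ g, fun h => classSum_comm ρ g h⟩
  obtain ⟨c, hc⟩ := (IsIrreducible.algebraMap_intertwiningMap_bijective_of_isAlgClosed (ρ := ρ)).2 T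
  have hT : classSum ρ g = c • LinearMap.id := by
    rw [show classSum ρ g = T.toLinearMap from rfl, ← hc, Algebra.algebraMap_eq_smul_one]
    rfl
  have htr := trace_classSum ρ g
  rw [hT, map_smul, LinearMap.trace_id, smul_eq_mul] at htr
  rw [hT, omega, ← htr, Representation.char_one,
    mul_div_cancel_right₀ _ (Nat.cast_ne_zero.mpr (finrank_pos_of_irreducible ρ).ne')]

theorem isIntegral_omega [Finite G] (ρ : Representation ℂ G V) [ρ.IsIrreducible] (g : G) :
    IsIntegral ℤ (omega ρ.character g) := by
  classical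
  have : Fintype G := Fintype.ofFinite G
  have hr : IsIntegral ℤ (∑ x ∈ Finset.univ.filter (fun x => IsConj x g),
      MonoidAlgebra.single x (1 : ℤ) : MonoidAlgebra ℤ G) := IsIntegral.of_finite ℤ _
  have hT := hr.map (MonoidAlgebra.lift ℤ (Module.End ℂ V) G ρ)
  simp only [map_sum, MonoidAlgebra.lift_single, one_smul] at hT
  rw [show ∑ x ∈ Finset.univ.filter (fun x => IsConj x g), ρ x = classSum ρ g from rfl,
    classSum_eq_omega ρ g] at hT
  rw [show omega ρ.character g • (LinearMap.id : V →ₗ[ℂ] V) =
      algebraMap ℂ (Module.End ℂ V) (omega ρ.character g) from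
    (Algebra.algebraMap_eq_smul_one _).symm] at hT
  have : Nontrivial V := Module.nontrivial_of_finrank_pos (finrank_pos_of_irreducible ρ)
  exact (isIntegral_algebraMap_iff (algebraMap ℂ (Module.End ℂ V)).injective).mp hT

theorem isIntegral_omega_irr [Finite G] {χ : G → ℂ} (hχ : IsIrrCharacter G χ) (g : G) :
    IsIntegral ℤ (omega χ g) := by
  obtain ⟨n, ρ, hρ, rfl⟩ := hχ
  exact isIntegral_omega ρ g

theorem isIntegral_value [Finite G] {χ : G → ℂ} (hχ : IsCharacter G χ) (g : G) :
    IsIntegral ℤ (χ g) := by
  obtain ⟨n, ρ, rfl⟩ := hχ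
  exact isIntegral_character ρ g

theorem isIntegral_conj {z : ℂ} (h : IsIntegral ℤ z) : IsIntegral ℤ (conj z) :=
  h.map ((starRingEnd ℂ).toIntAlgHom)

/-- An algebraic integer that is rational is an integer. -/
theorem exists_int_of_isIntegral_rat {q : ℚ} (h : IsIntegral ℤ (q : ℂ)) : ∃ n : ℤ, q = n := by
  have hq : IsIntegral ℤ q :=
    (isIntegral_algebraMap_iff (algebraMap ℚ ℂ).injective).mp (by simpa using h)
  obtain ⟨n, hn⟩ := IsIntegrallyClosed.isIntegral_iff.mp hq
  exact ⟨n, by simpa using hn.symm⟩

theorem dvd_of_isIntegral_div {a b : ℕ} (hb : b ≠ 0) (h : IsIntegral ℤ ((a : ℂ) / b)) : b ∣ a := by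
  obtain ⟨n, hn⟩ := exists_int_of_isIntegral_rat (q := (a : ℚ) / b) (by simpa using h)
  rw [div_eq_iff (Nat.cast_ne_zero.mpr hb)] at hn
  have hz : (a : ℤ) = n * b := by exact_mod_cast hn
  exact Int.natCast_dvd_natCast.mp ⟨n, by rw [hz, mul_comm]⟩

/-- Sum over the group of a class function as a sum over classes. -/
theorem isIntegral_sum_classFunction [Fintype G] {f : G → ℂ}
    (h : ∀ g, IsIntegral ℤ (((Subgroup.centralizer ({g} : Set G)).index : ℂ) * f g))
    (hf : IsClassFunction G f) : IsIntegral ℤ (∑ g, f g) := by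
  classical
  rw [← Finset.sum_fiberwise Finset.univ (fun g : G => ConjClasses.mk g) f]
  refine IsIntegral.sum _ fun C _ => ?_
  obtain ⟨a, rfl⟩ := ConjClasses.exists_rep C
  have hfil : Finset.univ.filter (fun x : G => ConjClasses.mk x = ConjClasses.mk a) =
      Finset.univ.filter (fun x => IsConj x a) :=
    Finset.filter_congr fun x _ => ConjClasses.mk_eq_mk_iff_isConj
  rw [hfil, Finset.sum_congr rfl fun x hx => eq_of_isConj hf (Finset.mem_filter.mp hx).2,
    Finset.sum_const, nsmul_eq_mul, ← Fintype.card_subtype, ← Nat.card_eq_fintype_card,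
    card_isConj_eq_index]
  exact h a

theorem degree_dvd_card [Finite G] (ρ : Representation ℂ G V) [hρ : ρ.IsIrreducible] :
    finrank ℂ V ∣ Nat.card G := by
  classical
  have : Fintype G := Fintype.ofFinite G
  have hd : finrank ℂ V ≠ 0 := (finrank_pos_of_irreducible ρ).ne'
  refine dvd_of_isIntegral_div hd ?_
  have hone : classInner ρ.character ρ.character = 1 :=
    classInner_irr_self (isIrrCharacter_character ρ)
  rw [classInner, inv_mul_eq_one₀ (Nat.cast_ne_zero.mpr Nat.card_pos.ne')] at hone
  rw [hone, Finset.sum_div]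
  refine isIntegral_sum_classFunction (fun g => ?_) fun g h => ?_
  · rw [mul_div_assoc', ← mul_assoc, mul_div_right_comm, ← Representation.char_one ρ]
    exact (isIntegral_omega ρ g).mul (isIntegral_conj (isIntegral_character ρ g))
  · simp only [isClassFunction_character ρ g h]

theorem exists_degree_dvd_card [Finite G] {χ : G → ℂ} (hχ : IsIrrCharacter G χ) :
    ∃ n : ℕ, χ 1 = n ∧ 0 < n ∧ n ∣ Nat.card G := by
  obtain ⟨n, ρ, hρ, rfl⟩ := hχ
  exact ⟨_, Representation.char_one ρ, finrank_pos_of_irreducible ρ, degree_dvd_card ρ⟩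

end CfsgLib.Char
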