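import Cfsg.Agent.Lib.Char.Virtual
import Cfsg.Agent.Lib.Char.Central

/-!
# Counting with characters

Linear characters, Brauer's permutation lemma, permutation characters, class multiplication
coefficients, products of groups.
-/

set_option autoImplicit false

namespace CfsgLib.Char

open Module Representation Cfsg
open scoped ComplexConjugate

variable {G : Type*} [Group G]

section Linear

theorem linear_mul {χ : G → ℂ} (hχ : IsCharacter G χ) (h1 : χ 1 = 1) (a b : G) :
    χ (a * b) = χ a * χ b := by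
  obtain ⟨n, ρ, rfl⟩ := hχ
  rw [Representation.char_one, Module.finrank_fin_fun] at h1
  have hn : n = 1 := by exact_mod_cast h1
  subst hn
  have key : ∀ f : (Fin 1 → ℂ) →ₗ[ℂ] (Fin 1 → ℂ),
      LinearMap.trace ℂ _ f = f (fun _ => 1) 0 := by
    intro f
    rw [LinearMap.trace_eq_matrix_trace ℂ (Pi.basisFun ℂ (Fin 1)), Matrix.trace_fin_one,
      LinearMap.toMatrix_apply]
    have : Pi.basisFun ℂ (Fin 1) 0 = fun _ => (1 : ℂ) := by
      funext i; rw [Subsingleton.elim i 0]; simp
    rw [this]; simp
  have hv : ∀ v : Fin 1 → ℂ, v = v 0 • (fun _ => (1 : ℂ)) := by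
    intro v; funext i; rw [Subsingleton.elim i 0]; simp
  show LinearMap.trace ℂ _ (ρ (a * b)) =
    LinearMap.trace ℂ _ (ρ a) * LinearMap.trace ℂ _ (ρ b)
  rw [key, key, key, map_mul, Module.End.mul_apply]
  conv_lhs => rw [hv (ρ b (fun _ => 1)), map_smul]
  simp [mul_comm]

/-- A linear character as a homomorphism into `ℂˣ`. -/
noncomputable def linearHom {χ : G → ℂ} (hχ : IsCharacter G χ) (h1 : χ 1 = 1) : G →* ℂˣ :=
  MonoidHom.toHomUnits
    { toFun := χ
      map_one' := h1
      map_mul' := linear_mul hχ h1 }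

theorem linearHom_apply {χ : G → ℂ} (hχ : IsCharacter G χ) (h1 : χ 1 = 1) (g : G) :
    ((linearHom hχ h1 g : ℂˣ) : ℂ) = χ g := rfl

/-- Linear characters correspond to homomorphisms into `ℂˣ`. -/
noncomputable def linearEquiv : {χ : IrrCharacter G // (χ : G → ℂ) 1 = 1} ≃ (G →* ℂˣ) where
  toFun χ := linearHom (isCharacter_of_isIrr χ.1.2) χ.2
  invFun f := ⟨⟨fun g => (f g : ℂ), isIrrCharacter_monoidHom f⟩, by simp⟩
  left_inv χ := Subtype.ext (Subtype.ext rfl)
  right_inv f := MonoidHom.ext fun g => Units.ext rfl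

theorem card_hom_units (A : Type*) [CommGroup A] [Finite A] : Nat.card (A →* ℂˣ) = Nat.card A :=
  Nat.card_congr (CommGroup.monoidHom_mulEquiv_of_hasEnoughRootsOfUnity A ℂ).some.toEquiv

theorem card_linear [Finite G] :
    Nat.card {χ : IrrCharacter G // (χ : G → ℂ) 1 = 1} = (commutator G).index := by
  rw [Nat.card_congr (linearEquiv.trans Abelianization.lift), card_hom_units]
  exact rfl

end Linear

theorem isIrr_of_norm_one [Fintype G] {χ : G → ℂ} (hχ : IsCharacter G χ)
    (h : classInner χ χ = 1) : IsIrrCharacter G χ := by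
  obtain ⟨ε, hε, ψ, hψ⟩ := exists_of_norm_one (isGeneralized_of_isCharacter hχ) h
  rcases hε with rfl | rfl
  · rw [hψ, one_smul]; exact ψ.2
  · exfalso
    obtain ⟨n, hn, e⟩ := exists_nat_degree_irr ψ.2
    obtain ⟨m, hm⟩ := exists_nat_degree hχ
    have h1 := congrFun hψ 1
    rw [Pi.smul_apply, hm, e, neg_smul, one_smul, eq_neg_iff_add_eq_zero] at h1
    have : m + n = 0 := by exact_mod_cast h1
    omega

/-- Brauer's permutation lemma. -/
theorem brauer_perm [Finite G] (σ : Equiv.Perm (IrrCharacter G)) (τ : Equiv.Perm (ConjClasses G))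
    (h : ∀ (χ : IrrCharacter G) (g g' : G), ConjClasses.mk g' = τ (ConjClasses.mk g) →
      (σ χ : G → ℂ) g' = (χ : G → ℂ) g) :
    Nat.card {χ : IrrCharacter G // σ χ = χ} = Nat.card {C : ConjClasses G // τ C = C} := by
  classical
  have : Fintype G := Fintype.ofFinite G
  have : Fintype (ConjClasses G) := Fintype.ofFinite _
  choose r hr using fun g : G => ConjClasses.exists_rep (τ (ConjClasses.mk g))
  have hrχ : ∀ (χ : IrrCharacter G) g, (χ : G → ℂ) (r g) = (σ.symm χ : G → ℂ) g := by
    intro χ g
    have := h (σ.symm χ) g (r g) (hr g)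
    rwa [Equiv.apply_symm_apply] at this
  have e1 : (Nat.card {χ : IrrCharacter G // σ χ = χ} : ℂ) =
      ∑ χ : IrrCharacter G, classInner (σ.symm χ : G → ℂ) (χ : G → ℂ) := by
    simp only [classInner_coe, Equiv.symm_apply_eq]
    rw [Finset.sum_boole, Nat.card_eq_fintype_card, Fintype.card_subtype]
    simp [eq_comm]
  have e2 : ∀ g : G, ∑ χ : IrrCharacter G, (σ.symm χ : G → ℂ) g * conj ((χ : G → ℂ) g) =
      if τ (ConjClasses.mk g) = ConjClasses.mk g then
        (Nat.card (Subgroup.centralizer ({g} : Set G)) : ℂ) else 0 := by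
    intro g
    simp only [← hrχ]
    rw [column_orthogonality]
    have : IsConj (r g) g ↔ τ (ConjClasses.mk g) = ConjClasses.mk g := by
      rw [← ConjClasses.mk_eq_mk_iff_isConj, hr g]
    simp only [this]
  have e3 : (Nat.card {C : ConjClasses G // τ C = C} : ℂ) =
      ∑ g : G, (Nat.card G : ℂ)⁻¹ * if τ (ConjClasses.mk g) = ConjClasses.mk g then
        (Nat.card (Subgroup.centralizer ({g} : Set G)) : ℂ) else 0 := by
    rw [← Finset.sum_fiberwise Finset.univ (fun g : G => ConjClasses.mk g),
      Nat.card_eq_fintype_card, Fintype.card_subtype, ← Finset.sum_boole]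
    refine Finset.sum_congr rfl fun C _ => ?_
    obtain ⟨a, rfl⟩ := ConjClasses.exists_rep C
    rw [Finset.sum_congr rfl (g := fun _ => (Nat.card G : ℂ)⁻¹ *
      if τ (ConjClasses.mk a) = ConjClasses.mk a then
        (Nat.card (Subgroup.centralizer ({a} : Set G)) : ℂ) else 0)]
    · rw [Finset.sum_const, nsmul_eq_mul]
      have hc : (Finset.univ.filter fun x : G => ConjClasses.mk x = ConjClasses.mk a).card =
          (Subgroup.centralizer ({a} : Set G)).index := by
        rw [← card_isConj_eq_index a, Nat.card_eq_fintype_card, Fintype.card_subtype]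
        simp only [ConjClasses.mk_eq_mk_iff_isConj]
      rw [hc]
      split_ifs
      · rw [← mul_assoc, mul_comm _ ((Nat.card G : ℂ)⁻¹), mul_assoc, mul_comm _ (Nat.card _ : ℂ),
          card_centralizer_mul_index, inv_mul_cancel₀ (Nat.cast_ne_zero.mpr Nat.card_pos.ne')]
      · ring
    · intro x hx
      have hx' := (Finset.mem_filter.mp hx).2
      rw [hx', card_centralizer_eq_of_isConj (ConjClasses.mk_eq_mk_iff_isConj.mp hx')]
  have : (Nat.card {χ : IrrCharacter G // σ χ = χ} : ℂ) =
      (Nat.card {C : ConjClasses G // τ C = C} : ℂ) := by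
    rw [e1, e3]
    simp only [classInner, ← Finset.mul_sum]
    rw [Finset.sum_comm]
    simp only [e2]
  exact_mod_cast this

/-- Complex conjugation of irreducible characters. -/
noncomputable def conjPerm [Finite G] : Equiv.Perm (IrrCharacter G) :=
  Function.Involutive.toPerm
    (fun χ => ⟨fun g => conj ((χ : G → ℂ) g),
      by have : Fintype G := Fintype.ofFinite G; exact isIrrCharacter_conj χ.2⟩)
    (fun χ => Subtype.ext (funext fun g => Complex.conj_conj _))

theorem conjPerm_apply [Finite G] (χ : IrrCharacter G) (g : G) :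
    (conjPerm χ : G → ℂ) g = conj ((χ : G → ℂ) g) := rfl

theorem irr_inv [Finite G] (χ : IrrCharacter G) (g : G) :
    (χ : G → ℂ) g⁻¹ = conj ((χ : G → ℂ) g) := by
  obtain ⟨n, ρ, hρ, e⟩ := χ.2
  rw [← e]; exact char_value_inv ρ g

/-- Inversion of conjugacy classes. -/
noncomputable def invClass : Equiv.Perm (ConjClasses G) :=
  Function.Involutive.toPerm
    (Quotient.map' (fun g : G => g⁻¹) fun a b (h : IsConj a b) => by
      obtain ⟨c, rfl⟩ := isConj_iff.mp h
      exact isConj_iff.mpr ⟨c, by simp [mul_assoc]⟩)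
    (fun C => by
      obtain ⟨g, rfl⟩ := ConjClasses.exists_rep C
      exact congrArg ConjClasses.mk (inv_inv g))

theorem invClass_mk (g : G) : invClass (ConjClasses.mk g) = ConjClasses.mk g⁻¹ := rfl

theorem card_real_irr [Finite G] :
    Nat.card {χ : IrrCharacter G // ∀ g : G, ((χ : G → ℂ) g).im = 0} =
      Nat.card {C : ConjClasses G // ∀ g : G, ConjClasses.mk g = C → IsConj g g⁻¹} := by
  have h1 : Nat.card {χ : IrrCharacter G // ∀ g : G, ((χ : G → ℂ) g).im = 0} =
      Nat.card {χ : IrrCharacter G // conjPerm χ = χ} :=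
    Nat.card_congr (Equiv.subtypeEquivRight fun χ => by
      rw [Subtype.ext_iff, funext_iff]
      exact forall_congr' fun g => Complex.conj_eq_iff_im.symm)
  have h2 : Nat.card {C : ConjClasses G // ∀ g : G, ConjClasses.mk g = C → IsConj g g⁻¹} =
      Nat.card {C : ConjClasses G // invClass C = C} :=
    Nat.card_congr (Equiv.subtypeEquivRight fun C => by
      obtain ⟨a, rfl⟩ := ConjClasses.exists_rep C
      rw [invClass_mk]
      constructor
      · intro h; exact ConjClasses.mk_eq_mk_iff_isConj.mpr (h a rfl).symm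
      · intro h g hg
        have h' : invClass (ConjClasses.mk g) = ConjClasses.mk g := by rw [hg, invClass_mk, h]
        rw [invClass_mk] at h'
        exact (ConjClasses.mk_eq_mk_iff_isConj.mp h').symm)
  rw [h1, h2]
  refine brauer_perm conjPerm invClass fun χ g g' hg => ?_
  rw [conjPerm_apply, eq_of_isConj (isClassFunction_irr χ) (ConjClasses.mk_eq_mk_iff_isConj.mp
    (hg.trans (invClass_mk g))), irr_inv, Complex.conj_conj]

theorem irr_real_of_odd [Finite G] (hodd : Odd (Nat.card G)) (χ : IrrCharacter G)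
    (hreal : ∀ g : G, ((χ : G → ℂ) g).im = 0) : (χ : G → ℂ) = fun _ => 1 := by
  have hu : Subsingleton {C : ConjClasses G // ∀ g : G, ConjClasses.mk g = C → IsConj g g⁻¹} := by
    suffices ∀ C : {C : ConjClasses G // ∀ g : G, ConjClasses.mk g = C → IsConj g g⁻¹},
        C.1 = ConjClasses.mk 1 from ⟨fun a b => Subtype.ext ((this a).trans (this b).symm)⟩
    rintro ⟨C, hC⟩
    obtain ⟨g, rfl⟩ := ConjClasses.exists_rep C
    obtain ⟨c, hc⟩ := isConj_iff.mp (hC g rfl)
    obtain ⟨k, hk⟩ := Odd.of_dvd_nat hodd (orderOf_dvd_natCard c)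
    have hcomm : Commute (c ^ 2) g := by
      have hc' : c * g⁻¹ * c⁻¹ = g := by
        rw [show c * g⁻¹ * c⁻¹ = (c * g * c⁻¹)⁻¹ by group, hc, inv_inv]
      show c ^ 2 * g = g * c ^ 2
      calc c ^ 2 * g = c * (c * g * c⁻¹) * c := by rw [pow_two]; group
        _ = (c * g⁻¹ * c⁻¹) * (c * c) := by rw [hc]; group
        _ = g * c ^ 2 := by rw [hc', pow_two]
    have hcc : Commute c g := by
      have : c = (c ^ 2) ^ (k + 1) := by
        rw [← pow_mul, show 2 * (k + 1) = orderOf c + 1 by omega, pow_succ, pow_orderOf_eq_one,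
          one_mul]
      rw [this]; exact hcomm.pow_left _
    have hgg : g = g⁻¹ := by rw [← hc, hcc.eq, mul_assoc, mul_inv_cancel, mul_one]
    have h1 : g ^ 1 = 1 := by
      obtain ⟨m, hm⟩ := Odd.of_dvd_nat hodd (orderOf_dvd_natCard g)
      have h2 : g ^ 2 = 1 := by rw [pow_two]; nth_rw 2 [hgg]; exact mul_inv_cancel g
      have h3 := pow_orderOf_eq_one g
      rw [hm, pow_succ, pow_mul, h2, one_pow, one_mul] at h3
      rw [pow_one, h3]
    rw [pow_one] at h1
    exact congrArg ConjClasses.mk h1
  have hle := (Finite.card_le_one_iff_subsingleton).mpr hu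
  rw [← card_real_irr] at hle
  have := Finite.card_le_one_iff_subsingleton.mp hle
  have e := Subsingleton.elim (⟨χ, hreal⟩ : {χ : IrrCharacter G // ∀ g : G, ((χ : G → ℂ) g).im = 0})
    ⟨⟨fun _ => 1, isIrrCharacter_one⟩, fun g => Complex.one_im⟩
  exact congrArg (fun x => (x.1 : G → ℂ)) e

section ClassMult

variable [Fintype G]

theorem sum_char_mul {V : Type*} [AddCommGroup V] [Module ℂ V] [FiniteDimensional ℂ V]
    (ρ : Representation ℂ G V) [ρ.IsIrreducible] (a b : G) [DecidableRel (IsConj : G → G → Prop)] :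
    (∑ x ∈ Finset.univ.filter (fun x => IsConj x a), ∑ y ∈ Finset.univ.filter (fun y => IsConj y b),
      ρ.character (x * y)) =
      omega ρ.character a * omega ρ.character b * ρ.character 1 := by
  have h : LinearMap.trace ℂ V (classSum ρ a ∘ₗ classSum ρ b) =
      omega ρ.character a * omega ρ.character b * ρ.character 1 := by
    rw [classSum_eq_omega, classSum_eq_omega]
    simp [LinearMap.comp_smul, LinearMap.smul_comp, Representation.char_one, mul_assoc, mul_comm,
      mul_left_comm]
  rw [← h, classSum, classSum]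
  rw [← Module.End.mul_eq_comp, Finset.sum_mul_sum, map_sum]
  refine Finset.sum_congr (by congr) fun x _ => ?_
  rw [map_sum]
  refine Finset.sum_congr (by congr) fun y _ => ?_
  show LinearMap.trace ℂ V (ρ (x * y)) = _
  rw [map_mul]

/-- Class multiplication coefficients. -/
theorem class_mult (a b c : G) :
    (Nat.card {p : G × G // IsConj a p.1 ∧ IsConj b p.2 ∧ p.1 * p.2 = c} : ℂ) =
      ((Subgroup.centralizer ({a} : Set G)).index : ℂ) *
      ((Subgroup.centralizer ({b} : Set G)).index : ℂ) / (Nat.card G : ℂ) *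
      ∑ χ : IrrCharacter G,
        (χ : G → ℂ) a * (χ : G → ℂ) b * conj ((χ : G → ℂ) c) / (χ : G → ℂ) 1 := by
  classical
  set F : G → ℂ := fun z => ∑ x ∈ Finset.univ.filter (fun x => IsConj x a),
    ∑ y ∈ Finset.univ.filter (fun y => IsConj y b), if x * y = z then 1 else 0 with hF
  have hFcl : IsClassFunction G F := by
    intro z w
    simp only [hF]
    refine Finset.sum_equiv (MulAut.conj w⁻¹).toEquiv ?_ fun x _ => ?_
    · intro x
      simp only [Finset.mem_filter, Finset.mem_univ, true_and]
      have : IsConj x ((MulAut.conj w⁻¹).toEquiv x) := isConj_iff.mpr ⟨w⁻¹, by simp⟩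
      exact ⟨fun h => this.symm.trans h, fun h => this.trans h⟩
    refine Finset.sum_equiv (MulAut.conj w⁻¹).toEquiv ?_ fun y _ => ?_
    · intro y
      simp only [Finset.mem_filter, Finset.mem_univ, true_and]
      have : IsConj y ((MulAut.conj w⁻¹).toEquiv y) := isConj_iff.mpr ⟨w⁻¹, by simp⟩
      exact ⟨fun h => this.symm.trans h, fun h => this.trans h⟩
    have : x * y = w * z * w⁻¹ ↔ (MulAut.conj w⁻¹) x * (MulAut.conj w⁻¹) y = z := by
      rw [← map_mul, MulAut.conj_apply, inv_inv]
      constructor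
      · intro h; rw [h]; group
      · intro h; rw [← h]; group
    simp only [MulEquiv.toEquiv_eq_coe, EquivLike.coe_coe, this]
  have hL : (Nat.card {p : G × G // IsConj a p.1 ∧ IsConj b p.2 ∧ p.1 * p.2 = c} : ℂ) = F c := by
    rw [Nat.card_eq_fintype_card, Fintype.card_subtype, ← Finset.sum_boole, Fintype.sum_prod_type]
    simp only [hF, Finset.sum_filter]
    refine Finset.sum_congr rfl fun x _ => ?_
    simp only [isConj_comm (g := a), isConj_comm (g := b)]
    by_cases h1 : IsConj x a
    · rw [if_pos h1]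
      refine Finset.sum_congr rfl fun y _ => ?_
      by_cases h2 : IsConj y b <;> simp only [h1, h2, true_and, false_and, if_true, if_false]
    · simp only [h1, false_and, if_false, Finset.sum_const_zero]
  have hcoef : ∀ χ : IrrCharacter G, classInner F (χ : G → ℂ) =
      (Nat.card G : ℂ)⁻¹ * conj (omega (χ : G → ℂ) a * omega (χ : G → ℂ) b * (χ : G → ℂ) 1) := by
    intro χ
    obtain ⟨n, ρ, hρ, e⟩ := χ.2
    rw [← e, ← sum_char_mul ρ a b, classInner]
    congr 1
    simp only [hF, Finset.sum_mul, map_sum]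
    rw [Finset.sum_comm]
    refine Finset.sum_congr rfl fun x _ => ?_
    rw [Finset.sum_comm]
    refine Finset.sum_congr rfl fun y _ => ?_
    simp [ite_mul]
  rw [hL]
  conv_lhs => rw [classFunction_expansion hFcl]
  rw [Finset.sum_apply, Finset.mul_sum]
  have hFreal : ∀ z, conj (F z) = F z := by intro z; simp [hF, apply_ite]
  have := hFreal c
  rw [hF] at this
  refine (Eq.trans ?_ (Finset.sum_congr rfl fun χ _ => rfl))
  have hre : (∑ χ : IrrCharacter G, (classInner F (χ : G → ℂ) • (χ : G → ℂ)) c) = F c := by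
    rw [← Finset.sum_apply, ← classFunction_expansion hFcl]
  rw [hre, ← hFreal c, ← hre, map_sum]
  refine Finset.sum_congr rfl fun χ _ => ?_
  rw [Pi.smul_apply, smul_eq_mul, hcoef, map_mul, map_mul, map_inv₀, map_natCast, Complex.conj_conj]
  simp only [omega]
  have h1 := irr_degree_ne_zero χ.2
  field_simp

end ClassMult

section Perm

variable [Fintype G] (X : Type*) [MulAction G X] [Finite X]

theorem perm_eq_indFun [MulAction.IsPretransitive G X] (x : X) :
    (fun g : G => (Nat.card (MulAction.fixedBy X g) : ℂ)) =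
      indFun (MulAction.stabilizer G x) (fun _ => 1) := by
  classical
  have : Fintype X := Fintype.ofFinite X
  funext g
  have hval : ∀ y : G, extendByZero (MulAction.stabilizer G x) (fun _ => (1 : ℂ)) (y⁻¹ * g * y) =
      if g • (y • x) = y • x then 1 else 0 := by
    intro y
    have : y⁻¹ * g * y ∈ MulAction.stabilizer G x ↔ g • (y • x) = y • x := by
      rw [MulAction.mem_stabilizer_iff, mul_smul, mul_smul, inv_smul_eq_iff]
    split_ifs with h
    · exact extendByZero_mem _ _ (this.mpr h)
    · exact extendByZero_notMem _ _ fun H => h (this.mp H)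
  simp only [indFun, hval]
  rw [← Finset.sum_fiberwise Finset.univ (fun y : G => y • x)]
  have hfib : ∀ z : X, (∑ y ∈ Finset.univ.filter (fun y : G => y • x = z),
      if g • (y • x) = y • x then (1 : ℂ) else 0) =
      (Nat.card (MulAction.stabilizer G x) : ℂ) * if g • z = z then 1 else 0 := by
    intro z
    obtain ⟨a, rfl⟩ := MulAction.exists_smul_eq G x z
    rw [Finset.sum_congr rfl fun y hy => by rw [(Finset.mem_filter.mp hy).2], Finset.sum_const,
      nsmul_eq_mul]
    congr 2
    rw [← Fintype.card_subtype, ← Nat.card_eq_fintype_card]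
    refine Nat.card_congr (Equiv.subtypeEquiv (Equiv.mulLeft a⁻¹) fun y => ?_)
    rw [MulAction.mem_stabilizer_iff, Equiv.coe_mulLeft, mul_smul, inv_smul_eq_iff]
  simp only [hfib]
  rw [← Finset.mul_sum, inv_mul_cancel_left₀ (Nat.cast_ne_zero.mpr Nat.card_pos.ne'),
    Finset.sum_boole, Nat.card_eq_fintype_card]
  simp only [Nat.cast_inj]
  rw [← Fintype.card_subtype]
  exact Fintype.card_congr (Equiv.refl _)

theorem isCharacter_perm [MulAction.IsPretransitive G X] [Nonempty X] :
    IsCharacter G (fun g : G => (Nat.card (MulAction.fixedBy X g) : ℂ)) := by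
  obtain ⟨x⟩ := ‹Nonempty X›
  rw [perm_eq_indFun X x]
  exact isCharacter_indFun _ isCharacter_one

end Perm

/-- Irreducible characters of a direct product. -/
theorem isIrr_prod_iff {H : Type*} [Group H] [Finite G] [Finite H] (θ : G × H → ℂ) :
    IsIrrCharacter (G × H) θ ↔ ∃ (φ : G → ℂ) (ψ : H → ℂ), IsIrrCharacter G φ ∧ IsIrrCharacter H ψ ∧
      θ = fun x => φ x.1 * ψ x.2 := by
  classical
  have : Fintype G := Fintype.ofFinite G
  have : Fintype H := Fintype.ofFinite H
  have hinner : ∀ (φ φ' : G → ℂ) (ψ ψ' : H → ℂ),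
      classInner (fun x : G × H => φ x.1 * ψ x.2) (fun x => φ' x.1 * ψ' x.2) =
        classInner φ φ' * classInner ψ ψ' := by
    intro φ φ' ψ ψ'
    simp only [classInner, Fintype.sum_prod_type, Nat.card_prod, Nat.cast_mul, mul_inv, map_mul]
    rw [mul_mul_mul_comm, Finset.sum_mul_sum]
    congr 1
    exact Finset.sum_congr rfl fun a _ => Finset.sum_congr rfl fun b _ => by ring
  have hirr : ∀ (φ : G → ℂ) (ψ : H → ℂ), IsIrrCharacter G φ → IsIrrCharacter H ψ →
      IsIrrCharacter (G × H) (fun x => φ x.1 * ψ x.2) := by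
    intro φ ψ hφ hψ
    refine isIrr_of_norm_one ?_ ?_
    · exact isCharacter_mul (isCharacter_comp (MonoidHom.fst G H) (isCharacter_of_isIrr hφ))
        (isCharacter_comp (MonoidHom.snd G H) (isCharacter_of_isIrr hψ))
    · rw [hinner, classInner_irr_self hφ, classInner_irr_self hψ, one_mul]
  refine ⟨fun hθ => ?_, fun ⟨φ, ψ, hφ, hψ, e⟩ => e ▸ hirr φ ψ hφ hψ⟩
  by_contra hne
  push_neg at hne
  have horth : ∀ (φ : IrrCharacter G) (ψ : IrrCharacter H),
      classInner θ (fun x => (φ : G → ℂ) x.1 * (ψ : H → ℂ) x.2) = 0 := fun φ ψ =>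
    classInner_irr_ne hθ (hirr _ _ φ.2 ψ.2) (hne _ _ φ.2 ψ.2)
  have hcl := isClassFunction_of_isCharacter (isCharacter_of_isIrr hθ)
  have hc : ∀ φ : IrrCharacter G, (fun y => classInner (fun x => θ (x, y)) (φ : G → ℂ)) = 0 := by
    intro φ
    refine eq_zero_of_orthogonal ?_ fun ψ => ?_
    · intro y z
      simp only [classInner]
      congr 1
      refine Finset.sum_congr rfl fun x _ => ?_
      congr 1
      have := hcl (x, y) (1, z)
      simpa using this
    · have h := horth φ ψ
      simp only [classInner, Fintype.sum_prod_type, Nat.card_prod, Nat.cast_mul, mul_inv, map_mul] at h ⊢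
      rw [← h]
      simp only [Finset.mul_sum, Finset.sum_mul]
      rw [Finset.sum_comm]
      exact Finset.sum_congr rfl fun a _ => Finset.sum_congr rfl fun b _ => by ring
  have h0 : θ 1 = 0 := by
    have hcl1 : IsClassFunction G (fun x => θ (x, 1)) := fun x z => by
      have := hcl (x, 1) (z, 1); simpa using this
    have := eq_zero_of_orthogonal hcl1 fun φ => congrFun (hc φ) 1
    exact congrFun this 1
  exact irr_degree_ne_zero hθ h0

end CfsgLib.Char
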