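import Cfsg.Agent.Lib.Char.Clifford
import Cfsg.Agent.Lib.Char.Counting

/-!
# Averaging over a normal subgroup and Gallagher's theorem
-/

set_option autoImplicit false

namespace CfsgLib.Char

open Module Representation Cfsg
open scoped ComplexConjugate

variable {G : Type*} [Group G]

section Avg

variable (N : Subgroup G) [hN : N.Normal] [Fintype N]

/-- Average of a function over the cosets of `N`. -/
noncomputable def avgN (f : G → ℂ) (g : G) : ℂ := (Nat.card N : ℂ)⁻¹ * ∑ n : N, f ((n : G) * g)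

/-- An irreducible character is either constant on the cosets of `N` or averages to zero. -/
theorem avgN_dichotomy [Finite G] {φ : G → ℂ} (hφ : IsIrrCharacter G φ) :
    (avgN N φ = φ ∧ ∀ (n : N) (g : G), φ ((n : G) * g) = φ g) ∨
      (avgN N φ = 0 ∧ ∃ n : N, φ n ≠ φ 1) := by
  obtain ⟨d, ρ, hρ, rfl⟩ := hφ
  set P : (Fin d → ℂ) →ₗ[ℂ] (Fin d → ℂ) := (Nat.card N : ℂ)⁻¹ • ∑ n : N, ρ (n : G) with hP
  have hcard : (Nat.card N : ℂ) ≠ 0 := Nat.cast_ne_zero.mpr Nat.card_pos.ne'
  have hsum : ∀ g : G, (∑ n : N, ρ (n : G)) * ρ g = ρ g * ∑ n : N, ρ (n : G) := by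
    intro g
    rw [Finset.sum_mul, Finset.mul_sum]
    simp only [← map_mul]
    refine Fintype.sum_equiv (MulAut.conjNormal g⁻¹ : MulAut N).toEquiv _ _ fun n => ?_
    congr 1
    show (n : G) * g = g * ((MulAut.conjNormal g⁻¹ : MulAut N) n : G)
    rw [MulAut.conjNormal_apply]
    group
  have hcomm : ∀ g : G, P * ρ g = ρ g * P := fun g => by
    rw [hP, smul_mul_assoc, mul_smul_comm, hsum]
  let T : IntertwiningMap ρ ρ := ⟨P, fun g => hcomm g⟩
  obtain ⟨c, hc⟩ := (IsIrreducible.algebraMap_intertwiningMap_bijective_of_isAlgClosed (ρ := ρ)).2 T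
  have hPc : P = c • 1 := by
    have := congrArg IntertwiningMap.toLinearMap hc
    refine Eq.trans this.symm ?_
    ext v; simp [Algebra.algebraMap_eq_smul_one]
  have hnP : ∀ n : N, ρ (n : G) * P = P := by
    intro n
    rw [hP, mul_smul_comm, Finset.mul_sum]
    congr 1
    simp only [← map_mul]
    exact Fintype.sum_equiv (Equiv.mulLeft n) _ _ fun m => rfl
  have havg : ∀ g, avgN N ρ.character g = c * ρ.character g := by
    intro g
    have : avgN N ρ.character g = LinearMap.trace ℂ _ (P * ρ g) := by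
      rw [hP, smul_mul_assoc, map_smul, Finset.sum_mul, map_sum, smul_eq_mul]
      simp only [avgN, ← map_mul]
      rfl
    rw [this, hPc, smul_mul_assoc, one_mul, map_smul, smul_eq_mul]
    rfl
  by_cases h0 : c = 0
  · refine Or.inr ⟨funext fun g => by rw [havg, h0, zero_mul]; rfl, ?_⟩
    by_contra h
    push_neg at h
    have h1 := havg 1
    rw [h0, zero_mul, avgN] at h1
    simp only [mul_one, h, Finset.sum_const, Finset.card_univ, ← Nat.card_eq_fintype_card,
      nsmul_eq_mul] at h1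
    rw [inv_mul_cancel_left₀ hcard] at h1
    exact irr_degree_ne_zero ⟨d, ρ, hρ, rfl⟩ h1
  · have hid : ∀ n : N, ρ (n : G) = 1 := fun n => by
      have := hnP n
      rw [hPc, mul_smul_comm, mul_one] at this
      exact smul_right_injective _ h0 this
    have hcoset : ∀ (n : N) (g : G), ρ.character ((n : G) * g) = ρ.character g := fun n g => by
      show LinearMap.trace ℂ _ (ρ _) = LinearMap.trace ℂ _ (ρ g)
      rw [map_mul, hid, one_mul]
    refine Or.inl ⟨funext fun g => ?_, hcoset⟩
    simp only [avgN, hcoset, Finset.sum_const, Finset.card_univ, ← Nat.card_eq_fintype_card,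
      nsmul_eq_mul]
    rw [inv_mul_cancel_left₀ hcard]

theorem isClassFunction_avgN {f : G → ℂ} (hf : IsClassFunction G f) :
    IsClassFunction G (avgN N f) := by
  intro g h
  simp only [avgN]
  congr 1
  refine Fintype.sum_equiv (MulAut.conjNormal h⁻¹ : MulAut N).toEquiv _ _ fun n => ?_
  show f _ = f (((MulAut.conjNormal h⁻¹ : MulAut N) n : G) * g)
  rw [MulAut.conjNormal_apply, ← hf ((n : G) * (h * g * h⁻¹)) h⁻¹]
  congr 1
  group

omit hN in
theorem classInner_avgN [Fintype G] (f φ : G → ℂ) :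
    classInner (avgN N f) φ = classInner f (avgN N φ) := by
  simp only [classInner, avgN, map_mul, map_inv₀, map_natCast, map_sum, Finset.mul_sum,
    Finset.sum_mul]
  rw [Finset.sum_comm]
  refine Eq.trans ?_ Finset.sum_comm
  refine (Fintype.sum_equiv (Equiv.inv N) _ _ fun n => ?_)
  refine Fintype.sum_equiv (Equiv.mulLeft (n : G)) _ _ fun g => ?_
  simp only [Equiv.inv_apply, Equiv.coe_mulLeft, Subgroup.coe_inv, inv_mul_cancel_left]
  ring

end Avg

section Gallagher

variable [Fintype G] (N : Subgroup G) [hN : N.Normal]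

theorem indFun_mul (χ : G → ℂ) (hχ : IsClassFunction G χ) (φ : N → ℂ) :
    indFun N (φ * fun n : N => χ n) = indFun N φ * χ := by
  funext g
  by_cases hg : g ∈ N
  · rw [Pi.mul_apply, indFun_apply_of_normal N _ ⟨g, hg⟩, indFun_apply_of_normal N _ ⟨g, hg⟩,
      mul_assoc, Finset.sum_mul]
    congr 1
    refine Finset.sum_congr rfl fun x _ => ?_
    simp only [Pi.mul_apply, hχ g x]
  · rw [Pi.mul_apply, indFun_notMem_of_normal N _ hg, indFun_notMem_of_normal N _ hg, zero_mul]

variable [Fintype N]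

theorem classInner_indFun_self_of_invariant {θ : N → ℂ} (hθ : IsIrrCharacter N θ)
    (hinv : ∀ g, conjBy N θ g = θ) :
    classInner (indFun N θ) (indFun N θ) = (N.index : ℂ) := by
  classical
  rw [classInner_indFun_indFun N hθ hθ, if_pos (self_mem_orbit N θ)]
  have hT : inertia N θ = ⊤ := Subgroup.ext fun g => by simp [mem_inertia, hinv]
  rw [hT, Subgroup.card_top, ← N.card_mul_index, Nat.cast_mul,
    mul_div_cancel_left₀ _ (Nat.cast_ne_zero.mpr Nat.card_pos.ne')]

/-- **Gallagher**: multiplication by an extension of `θ` is a bijection from the constituents of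
`ind φ` to those of `ind (φθ)`. -/
theorem gallagher {φ θ : N → ℂ} (hφ : IsIrrCharacter N φ) (hφinv : ∀ g, conjBy N φ g = φ)
    (hθinv : ∀ g, conjBy N θ g = θ) (hprod : IsIrrCharacter N (φ * θ))
    {χ : G → ℂ} (hχ : IsIrrCharacter G χ) (hext : ∀ n : N, χ n = θ n) :
    Set.BijOn (fun β : G → ℂ => β * χ)
      {β : G → ℂ | IsIrrCharacter G β ∧ classInner (indFun N φ) β ≠ 0}
      {ψ : G → ℂ | IsIrrCharacter G ψ ∧ classInner (indFun N (φ * θ)) ψ ≠ 0} := by
  classical
  have hcl := isClassFunction_of_isCharacter (isCharacter_of_isIrr hχ)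
  have hθ' : θ = fun n : N => χ n := funext fun n => (hext n).symm
  have hind : indFun N (φ * θ) = indFun N φ * χ := by rw [hθ', indFun_mul N χ hcl φ]
  have hinv' : ∀ g, conjBy N (φ * θ) g = φ * θ := fun g => by
    funext n
    exact congrArg₂ (· * ·) (congrFun (hφinv g) n) (congrFun (hθinv g) n)
  obtain ⟨a, ha⟩ := exists_multiplicities (isCharacter_indFun N (isCharacter_of_isIrr hφ))
  have hsq : ∀ (β : IrrCharacter G), classInner (indFun N φ) (β : G → ℂ) = a β := fun β => by
    rw [ha, classInner_sum_smul_irr]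
  choose m hm using fun β γ : IrrCharacter G => exists_nat_classInner
    (isCharacter_mul (isCharacter_of_isIrr β.2) (isCharacter_of_isIrr hχ))
    (isCharacter_mul (isCharacter_of_isIrr γ.2) (isCharacter_of_isIrr hχ))
  have h1 : (∑ β : IrrCharacter G, a β * a β : ℕ) = N.index := by
    have h := classInner_indFun_self_of_invariant N hφ hφinv
    rw [ha, classInner_sum_smul_sum_smul] at h
    simp only [map_natCast] at h
    exact_mod_cast h
  have hexp : indFun N (φ * θ) = ∑ β : IrrCharacter G, (a β : ℂ) • ((β : G → ℂ) * χ) := by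
    rw [hind, ha, Finset.sum_mul]
    exact Finset.sum_congr rfl fun β _ => smul_mul_assoc _ _ _
  have h2 : (∑ β : IrrCharacter G, ∑ γ : IrrCharacter G, a β * a γ * m β γ : ℕ) = N.index := by
    have h := classInner_indFun_self_of_invariant N hprod hinv'
    rw [hexp, classInner_sum_left] at h
    simp only [classInner_smul_left, classInner_sum_right, classInner_smul_right, map_natCast, hm,
      Finset.mul_sum, ← mul_assoc] at h
    have h' : ((∑ β : IrrCharacter G, ∑ γ : IrrCharacter G, a β * a γ * m β γ : ℕ) : ℂ) = N.index := by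
      rw [← h]
      push_cast
      exact Finset.sum_congr rfl fun β _ => Finset.sum_congr rfl fun γ _ => by ring
    exact_mod_cast h'
  have hdiag : ∀ β, 1 ≤ m β β := fun β => Nat.one_le_iff_ne_zero.mpr fun e => by
    have h0 := hm β β
    rw [e, Nat.cast_zero] at h0
    have := congrFun (eq_zero_of_classInner_self h0) 1
    exact mul_ne_zero (irr_degree_ne_zero β.2) (irr_degree_ne_zero hχ) this
  have hle : ∀ β γ, (if β = γ then a β * a β else 0) ≤ a β * a γ * m β γ := by
    intro β γ
    split_ifs with h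
    · subst h; exact Nat.le_mul_of_pos_right _ (hdiag β)
    · exact Nat.zero_le _
  have heq : ∀ β γ, (if β = γ then a β * a β else 0) = a β * a γ * m β γ := by
    have hs : ∑ β : IrrCharacter G, ∑ γ : IrrCharacter G, (if β = γ then a β * a β else 0) =
        ∑ β : IrrCharacter G, ∑ γ : IrrCharacter G, a β * a γ * m β γ := by
      rw [h2, ← h1]; exact Finset.sum_congr rfl fun β _ => by simp
    intro β γ
    exact (Finset.sum_eq_sum_iff_of_le fun γ _ => hle β γ).mp
      ((Finset.sum_eq_sum_iff_of_le fun β _ => Finset.sum_le_sum fun γ _ => hle β γ).mp hs β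
        (Finset.mem_univ β)) γ (Finset.mem_univ γ)
  have hne : ∀ β : IrrCharacter G, classInner (indFun N φ) (β : G → ℂ) ≠ 0 ↔ a β ≠ 0 := fun β => by
    rw [hsq, Nat.cast_ne_zero]
  have hirr : ∀ β, a β ≠ 0 → IsIrrCharacter G ((β : G → ℂ) * χ) := fun β hβ => by
    refine isIrr_of_norm_one (isCharacter_mul (isCharacter_of_isIrr β.2) (isCharacter_of_isIrr hχ)) ?_
    have h := heq β β
    rw [if_pos rfl] at h
    rw [hm, Nat.cast_eq_one]
    exact (Nat.mul_eq_left (Nat.mul_ne_zero hβ hβ)).mp h.symm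
  have horth : ∀ β γ, a β ≠ 0 → a γ ≠ 0 → β ≠ γ → m β γ = 0 := fun β γ hβ hγ h => by
    have := heq β γ
    rw [if_neg h] at this
    exact ((mul_eq_zero.mp this.symm).resolve_left (Nat.mul_ne_zero hβ hγ))
  refine ⟨?_, ?_, ?_⟩
  · rintro β ⟨hβ, hβn⟩
    have hb := (hne ⟨β, hβ⟩).mp hβn
    refine ⟨hirr ⟨β, hβ⟩ hb, ?_⟩
    rw [hexp, classInner_sum_left, Finset.sum_eq_single ⟨β, hβ⟩]
    · rw [classInner_smul_left, classInner_irr_self (hirr _ hb), mul_one]
      exact Nat.cast_ne_zero.mpr hb
    · intro γ _ hγ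
      rw [classInner_smul_left]
      by_cases h0 : a γ = 0
      · simp [h0]
      · have h := horth γ ⟨β, hβ⟩ h0 hb hγ
        have h' := hm γ ⟨β, hβ⟩
        rw [h, Nat.cast_zero] at h'
        simp only at h'
        rw [h', mul_zero]
    · simp
  · rintro β ⟨hβ, hβn⟩ γ ⟨hγ, hγn⟩ (e : β * χ = γ * χ)
    by_contra h
    have hb := (hne ⟨β, hβ⟩).mp hβn
    have hc := (hne ⟨γ, hγ⟩).mp hγn
    have h0 := hm ⟨β, hβ⟩ ⟨γ, hγ⟩
    rw [horth ⟨β, hβ⟩ ⟨γ, hγ⟩ hb hc (fun e => h (congrArg Subtype.val e)), Nat.cast_zero] at h0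
    simp only at h0
    rw [← e, classInner_irr_self (hirr ⟨β, hβ⟩ hb)] at h0
    exact one_ne_zero h0
  · rintro ψ ⟨hψ, hψn⟩
    rw [hexp, classInner_sum_left] at hψn
    obtain ⟨β, -, hβ⟩ := Finset.exists_ne_zero_of_sum_ne_zero hψn
    rw [classInner_smul_left, mul_ne_zero_iff, Nat.cast_ne_zero] at hβ
    refine ⟨β, ⟨β.2, (hne β).mpr hβ.1⟩, ?_⟩
    by_contra h
    exact hβ.2 (classInner_irr_ne (hirr β hβ.1) hψ h)

end Gallagher

end CfsgLib.Char
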