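import Cfsg.Agent.Lib.Char.Extend
import Cfsg.Agent.Lib.Char.Gallagher

/-!
# Extension theorems for invariant characters, determinantal characters
-/

set_option autoImplicit false

namespace CfsgLib.Char

open Module Representation Cfsg
open scoped ComplexConjugate

variable {G : Type*} [Group G] [Finite G]
variable {V : Type*} [AddCommGroup V] [Module ℂ V] [FiniteDimensional ℂ V]

theorem irreducible_of_comp {H : Type*} [Group H] (f : H →* G) (σ : Representation ℂ G V)
    (h : Representation.IsIrreducible (σ.comp f : Representation ℂ H V)) : σ.IsIrreducible := by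
  let F : Subrepresentation σ → Subrepresentation (σ.comp f : Representation ℂ H V) :=
    fun A => ⟨A.toSubmodule, fun x v hv => A.apply_mem_toSubmodule (f x) hv⟩
  have : Nontrivial V := Module.nontrivial_of_finrank_pos (R := ℂ)
    (finrank_pos_of_irreducible (σ.comp f : Representation ℂ H V))
  obtain ⟨v, hv⟩ := exists_ne (0 : V)
  have hne : (⊥ : Subrepresentation σ) ≠ ⊤ := fun e => by
    have e' : (⊥ : Submodule ℂ V) = ⊤ := congrArg Subrepresentation.toSubmodule e
    exact hv ((Submodule.mem_bot ℂ).mp (e' ▸ Submodule.mem_top))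
  exact
    { exists_pair_ne := ⟨⊥, ⊤, hne⟩
      eq_bot_or_eq_top := fun A => by
        rcases (h : IsSimpleOrder _).eq_bot_or_eq_top (F A) with e | e
        · exact Or.inl (Subrepresentation.toSubmodule_injective
            (show A.toSubmodule = (⊥ : Subrepresentation σ).toSubmodule from
              (congrArg Subrepresentation.toSubmodule e : _)))
        · exact Or.inr (Subrepresentation.toSubmodule_injective
            (show A.toSubmodule = (⊤ : Subrepresentation σ).toSubmodule from
              (congrArg Subrepresentation.toSubmodule e : _))) }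

theorem isIrr_of_restrict (N : Subgroup G) {χ : G → ℂ} (hχ : IsCharacter G χ)
    (h : IsIrrCharacter N (fun n : N => χ n)) : IsIrrCharacter G χ := by
  obtain ⟨k, σ, rfl⟩ := hχ
  obtain ⟨l, τ, hτ, e⟩ := h
  obtain ⟨i⟩ := equiv_of_character_eq τ (σ.comp N.subtype : Representation ℂ N (Fin k → ℂ)) e
  exact ⟨k, σ, irreducible_of_comp N.subtype σ (irreducible_equiv i hτ), rfl⟩

/-- Realise an extending character on the space of `ρ`. -/
theorem exists_rep_extending (N P : Subgroup G) (hNP : N ≤ P) (ρ : Representation ℂ N V)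
    {η : P → ℂ} (hη : IsCharacter P η) (h : ∀ n : N, η ⟨(n : G), hNP n.2⟩ = ρ.character n) :
    ∃ σ : Representation ℂ P V,
      (∀ n : N, σ ⟨(n : G), hNP n.2⟩ = ρ n) ∧ σ.character = η := by
  obtain ⟨k, τ, rfl⟩ := hη
  obtain ⟨e⟩ := equiv_of_character_eq ρ (τ.comp (Subgroup.inclusion hNP) :
    Representation ℂ N (Fin k → ℂ)) (funext fun n => (h n).symm)
  refine ⟨(LinearEquiv.conjAlgEquiv ℂ e.toLinearEquiv.symm).toAlgHom.toMonoidHom.comp τ,
    fun n => ?_, funext fun p => ?_⟩
  · refine LinearMap.ext fun v => e.toLinearEquiv.injective ?_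
    have h2 : e.toLinearEquiv (ρ n v) = τ (Subgroup.inclusion hNP n) (e.toLinearEquiv v) :=
      LinearMap.congr_fun (e.toIntertwiningMap.isIntertwining' n) v
    show e.toLinearEquiv (e.toLinearEquiv.symm
      (τ (Subgroup.inclusion hNP n) (e.toLinearEquiv.symm.symm v))) = _
    rw [LinearEquiv.apply_symm_apply, LinearEquiv.symm_symm, h2]
  · exact LinearMap.trace_conj' (τ p) e.toLinearEquiv.symm

/-- The determinant homomorphism. -/
noncomputable def detHom (σ : Representation ℂ G V) : G →* ℂˣ :=
  (LinearMap.det.comp σ).toHomUnits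

omit [Finite G] [FiniteDimensional ℂ V] in
theorem detHom_apply (σ : Representation ℂ G V) (g : G) :
    (detHom σ g : ℂ) = LinearMap.det (σ g) := rfl

theorem detChar_character (σ : Representation ℂ G V) :
    detChar σ.character = fun g => (detHom σ g : ℂ) := by
  have h := isCharacter_character σ
  unfold detChar
  rw [dif_pos h]
  funext g
  have hs := Classical.choose_spec (Classical.choose_spec h)
  obtain ⟨e⟩ := equiv_of_character_eq σ _ hs.symm
  have hc : (Classical.choose (Classical.choose_spec h)) g =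
      e.toLinearEquiv.toLinearMap ∘ₗ σ g ∘ₗ e.toLinearEquiv.symm.toLinearMap := by
    refine LinearMap.ext fun v => ?_
    have h2 := LinearMap.congr_fun (e.toIntertwiningMap.isIntertwining' g) (e.toLinearEquiv.symm v)
    refine Eq.trans ?_ h2.symm
    show _ = (Classical.choose (Classical.choose_spec h)) g
      (e.toLinearEquiv (e.toLinearEquiv.symm v))
    rw [LinearEquiv.apply_symm_apply]
  rw [hc, detHom_apply, LinearMap.det_conj]

theorem exists_det_hom {χ : G → ℂ} (hχ : IsCharacter G χ) :
    ∃ f : G →* ℂˣ, detChar χ = fun g => (f g : ℂ) := by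
  obtain ⟨k, σ, rfl⟩ := hχ
  exact ⟨detHom σ, detChar_character σ⟩

/-- The determinantal character commutes with restriction. -/
theorem detChar_restrict (N : Subgroup G) {χ : G → ℂ} (hχ : IsCharacter G χ) (n : N) :
    detChar (fun m : N => χ m) n = detChar χ n := by
  obtain ⟨k, σ, rfl⟩ := hχ
  have e : (fun m : N => σ.character m) =
      Representation.character (k := ℂ) (G := N) (V := Fin k → ℂ) (σ.comp N.subtype) := rfl
  rw [e, detChar_character, detChar_character]
  rfl

/-- The determinant of a twist by a linear character. -/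
theorem detChar_linear_mul {χ : G → ℂ} (hχ : IsCharacter G χ) (β : G →* ℂˣ) (d : ℕ)
    (hd : χ 1 = d) :
    detChar (fun g => (β g : ℂ) * χ g) = fun g => (β g : ℂ) ^ d * detChar χ g := by
  obtain ⟨k, σ, rfl⟩ := hχ
  have hk : d = k := by
    rw [Representation.char_one, Module.finrank_fin_fun] at hd
    exact_mod_cast hd.symm
  let τ : Representation ℂ G (Fin k → ℂ) :=
    { toFun := fun g => (β g : ℂ) • σ g
      map_one' := by simp
      map_mul' := fun a b => by simp [smul_smul, mul_comm] }
  have e : (fun g => (β g : ℂ) * σ.character g) = τ.character := funext fun g => by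
    show _ = LinearMap.trace ℂ _ ((β g : ℂ) • σ g)
    rw [map_smul]; rfl
  rw [e, detChar_character, detChar_character]
  funext g
  show LinearMap.det ((β g : ℂ) • σ g) = (β g : ℂ) ^ d * LinearMap.det (σ g)
  rw [LinearMap.det_smul, Module.finrank_fin_fun, hk]

omit [Finite G] in
theorem orderOf_hom (f : G →* ℂˣ) : orderOf (fun g => (f g : ℂ)) = orderOf f := by
  let Φ : (G →* ℂˣ) →* (G → ℂ) :=
    { toFun := fun f g => (f g : ℂ)
      map_one' := funext fun g => rfl
      map_mul' := fun a b => funext fun g => rfl }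
  exact orderOf_injective Φ (fun a b h => MonoidHom.ext fun g => Units.ext (congrFun h g)) f

/-- A linear character is its own determinant. -/
theorem detChar_linear {χ : G → ℂ} (hχ : IsCharacter G χ) (h1 : χ 1 = 1) : detChar χ = χ := by
  let ρ : Representation ℂ G ℂ :=
    { toFun := fun g => χ g • LinearMap.id
      map_one' := by rw [h1, one_smul]; rfl
      map_mul' := fun a b => LinearMap.ext fun v => by simp [linear_mul hχ h1, mul_assoc, mul_left_comm] }
  have e : χ = ρ.character := funext fun g => by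
    show _ = LinearMap.trace ℂ ℂ (χ g • LinearMap.id)
    simp
  conv_lhs => rw [e, detChar_character]
  funext g
  show LinearMap.det (χ g • LinearMap.id : ℂ →ₗ[ℂ] ℂ) = χ g
  rw [LinearMap.det_smul]; simp

attribute [-instance] MonoidHom.instPow in
/-- The power of a linear character by the index of a normal subgroup in its kernel. -/
theorem pow_index_eq_one (N : Subgroup G) [N.Normal] (β : G →* ℂˣ) (h : ∀ n : N, β n = 1) :
    β ^ N.index = 1 :=
  MonoidHom.ext fun g => by
    show β g ^ N.index = 1
    rw [← map_pow]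
    exact h ⟨_, N.pow_index_mem g⟩

variable (N : Subgroup G) [hN : N.Normal]

/-- An invariant irreducible extends as soon as its exponents are coprime. -/
theorem extends_core {θ : N → ℂ} (hθ : IsIrrCharacter N θ) (hinv : ∀ g, conjBy N θ g = θ)
    (hexp : ∀ (d : ℕ) (ρ : Representation ℂ N (Fin d → ℂ)), ρ.IsIrreducible → ρ.character = θ →
      Function.Surjective (proj N ρ) → (1 : ℤ) ∈ extExp N ρ) :
    ∃ χ : G → ℂ, IsIrrCharacter G χ ∧ ∀ n : N, χ n = θ n := by
  obtain ⟨d, ρ, hρ, rfl⟩ := hθ
  have hsurj : Function.Surjective (proj N ρ) := proj_surjective N ρ fun g n => by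
    have := congrFun (hinv g) n
    rw [conjBy_eq_comp] at this
    exact this
  obtain ⟨σ, hσ⟩ := exists_extension N ρ hsurj (hexp d ρ hρ rfl hsurj)
  have hres : (fun n : N => σ.character n) = ρ.character := funext fun n => by
    show LinearMap.trace ℂ _ (σ n) = LinearMap.trace ℂ _ (ρ n)
    rw [hσ]
  exact ⟨σ.character, isIrr_of_restrict N (isCharacter_character σ) (hres ▸ ⟨d, ρ, hρ, rfl⟩),
    congrFun hres⟩

theorem extends_of_cyclic {θ : N → ℂ} (hθ : IsIrrCharacter N θ) (hinv : ∀ g, conjBy N θ g = θ)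
    (hcyc : IsCyclic (G ⧸ N)) : ∃ χ : G → ℂ, IsIrrCharacter G χ ∧ ∀ n : N, χ n = θ n :=
  extends_core N hθ hinv fun _ ρ _ _ hs => one_mem_of_cyclic N ρ hs hcyc

theorem extends_of_sylow {θ : N → ℂ} (hθ : IsIrrCharacter N θ) (hinv : ∀ g, conjBy N θ g = θ)
    (hsyl : ∀ p : ℕ, p.Prime → p ∣ N.index → ∃ (P : Subgroup G) (hNP : N ≤ P) (η : P → ℂ),
      ¬ p ∣ P.index ∧ IsCharacter P η ∧ ∀ n : N, η ⟨(n : G), hNP n.2⟩ = θ n) :
    ∃ χ : G → ℂ, IsIrrCharacter G χ ∧ ∀ n : N, χ n = θ n := by
  refine extends_core N hθ hinv fun d ρ hρ hρθ hs => one_mem_of_forall_prime N ρ fun p hp => ?_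
  by_cases hpN : p ∣ N.index
  · obtain ⟨P, hNP, η, hP, hη, hres⟩ := hsyl p hp hpN
    obtain ⟨σ, hσ, -⟩ := exists_rep_extending N P hNP ρ hη fun n => by rw [hres n, hρθ]
    exact ⟨_, index_mem_extExp N ρ hs P hNP σ hσ, fun h => hP (Int.natCast_dvd_natCast.mp h)⟩
  · exact ⟨_, index_mem_extExp N ρ hs N le_rfl ρ (fun n => rfl),
      fun h => hpN (Int.natCast_dvd_natCast.mp h)⟩

/-- If a power of the determinant extends, with exponent times degree coprime to the index, then
the character extends. -/
theorem extends_of_det {θ : N → ℂ} (hθ : IsIrrCharacter N θ) (hinv : ∀ g, conjBy N θ g = θ)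
    (d k : ℕ) (hd : θ 1 = d) (μ : G →* ℂˣ) (hμ : ∀ n : N, (μ n : ℂ) = detChar θ n ^ k)
    (hcop : Nat.Coprime N.index (d * k)) :
    ∃ χ : G → ℂ, IsIrrCharacter G χ ∧ ∀ n : N, χ n = θ n := by
  refine extends_core N hθ hinv fun e ρ hρ hρθ hs => one_mem_of_forall_prime N ρ fun p hp => ?_
  by_cases hpN : p ∣ N.index
  · refine ⟨_, det_mem_extExp N ρ μ k fun n => ?_, fun h => ?_⟩
    · rw [hμ, ← hρθ, detChar_character]; rfl
    · have he : finrank ℂ (Fin e → ℂ) = d := by
        rw [← hρθ, Representation.char_one] at hd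
        exact_mod_cast hd
      rw [he] at h
      exact hp.one_lt.ne' (Nat.eq_one_of_dvd_coprimes hcop hpN (Int.natCast_dvd_natCast.mp h))
  · exact ⟨_, index_mem_extExp N ρ hs N le_rfl ρ (fun n => rfl),
      fun h => hpN (Int.natCast_dvd_natCast.mp h)⟩

/-- An invariant linear character extends if for each prime dividing its order it extends to
a subgroup of index prime to it. -/
theorem extends_linear {lam : N → ℂ} (hlam : IsCharacter N lam) (h1 : lam 1 = 1)
    (hinv : ∀ g, conjBy N lam g = lam)
    (hsyl : ∀ p : ℕ, p.Prime → p ∣ orderOf lam → ∃ (P : Subgroup G) (hNP : N ≤ P) (η : P → ℂ),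
      ¬ p ∣ P.index ∧ IsCharacter P η ∧ ∀ n : N, η ⟨(n : G), hNP n.2⟩ = lam n) :
    ∃ χ : G → ℂ, IsIrrCharacter G χ ∧ ∀ n : N, χ n = lam n := by
  refine extends_core N (isIrrCharacter_of_degree_one hlam h1) hinv fun d ρ hρ hρθ hs =>
    one_mem_of_forall_prime N ρ fun p hp => ?_
  by_cases hpo : p ∣ orderOf lam
  · obtain ⟨P, hNP, η, hP, hη, hres⟩ := hsyl p hp hpo
    obtain ⟨σ, hσ, -⟩ := exists_rep_extending N P hNP ρ hη fun n => by rw [hres n, hρθ]
    exact ⟨_, index_mem_extExp N ρ hs P hNP σ hσ, fun h => hP (Int.natCast_dvd_natCast.mp h)⟩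
  · have hd : finrank ℂ (Fin d → ℂ) = 1 := by
      rw [← hρθ, Representation.char_one] at h1
      exact_mod_cast h1
    refine ⟨_, det_mem_extExp N ρ (1 : G →* ℂˣ) (orderOf lam) fun n => ?_,
      fun h => hpo (by rw [hd, one_mul] at h; exact Int.natCast_dvd_natCast.mp h)⟩
    have e : detChar lam = fun g => LinearMap.det (ρ g) := by
      rw [← hρθ, detChar_character]; rfl
    rw [detChar_linear hlam h1] at e
    have h2 := congrFun (pow_orderOf_eq_one lam) n
    rw [Pi.pow_apply, Pi.one_apply, congrFun e n] at h2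
    simp [h2]

/-- Two extensions differ by a linear character trivial on `N`. -/
theorem extensions_differ {θ : N → ℂ} (hθ : IsIrrCharacter N θ) {χ χ' : G → ℂ}
    (hχ : IsIrrCharacter G χ) (hχ' : IsIrrCharacter G χ') (h : ∀ n : N, χ n = θ n)
    (h' : ∀ n : N, χ' n = θ n) :
    ∃ β : G →* ℂˣ, (∀ n : N, β n = 1) ∧ χ' = fun g => (β g : ℂ) * χ g := by
  classical
  have : Fintype G := Fintype.ofFinite G
  have : Fintype N := Fintype.ofFinite N
  have hθ' : θ = fun n : N => χ n := funext fun n => (h n).symm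
  have hinv : ∀ g, conjBy N θ g = θ := by
    rw [hθ']
    exact conjBy_restrict N (isClassFunction_of_isCharacter (isCharacter_of_isIrr hχ))
  have h1 : (fun _ => (1 : ℂ)) * θ = θ := funext fun n => one_mul _
  have hbij := gallagher N (φ := fun _ => 1) (θ := θ) isIrrCharacter_one (fun g => rfl) hinv
    (by rw [h1]; exact hθ) hχ h
  rw [h1] at hbij
  obtain ⟨b, ⟨hb, hbn⟩, e⟩ := hbij.surjOn (show χ' ∈ {ψ : G → ℂ | IsIrrCharacter G ψ ∧
      classInner (indFun N θ) ψ ≠ 0} from ⟨hχ', by
    rw [frobenius_reciprocity N θ (isClassFunction_of_isCharacter (isCharacter_of_isIrr hχ')),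
      show (fun n : N => χ' n) = θ from funext h', classInner_irr_self hθ]
    exact one_ne_zero⟩)
  have hb1 : b 1 = 1 := by
    have e1 := congrFun e 1
    have e2 : χ' 1 = χ 1 := (h' 1).trans (h 1).symm
    simp only [Pi.mul_apply] at e1
    rw [e2] at e1
    exact mul_right_cancel₀ (irr_degree_ne_zero hχ) (e1.trans (one_mul _).symm)
  refine ⟨linearHom (isCharacter_of_isIrr hb) hb1, fun n => Units.ext ?_, ?_⟩
  · rw [linearHom_apply, Units.val_one]
    rcases avgN_dichotomy N hb with ⟨-, hc⟩ | ⟨h0, -⟩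
    · have := hc n 1; rw [mul_one, hb1] at this; exact this
    · exfalso
      apply hbn
      rw [frobenius_reciprocity N _ (isClassFunction_of_isCharacter (isCharacter_of_isIrr hb)),
        show classInner (fun _ : N => (1 : ℂ)) (fun n : N => b n) = conj (avgN N b 1) by
          simp [classInner, avgN],
        h0, Pi.zero_apply, map_zero]
  · funext g
    rw [linearHom_apply]
    exact (congrFun e g).symm

end CfsgLib.Char
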