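import Cfsg.Agent.Lib.Char.Gallagher
import Cfsg.Agent.Lib.Char.ExtendChar
import Cfsg.Agent.Lib.Char.Counting

/-!
# Inducing from a normal subgroup with abelian quotient
-/

set_option autoImplicit false

namespace CfsgLib.Char

open Cfsg
open scoped ComplexConjugate CfsgLib.Char

variable {G : Type*} [Group G] [Fintype G] (N : Subgroup G) [hN : N.Normal]

/-- The linear characters trivial on `N`. -/
abbrev LinTriv := {β : G →* ℂˣ // ∀ n ∈ N, β n = 1}

/-- They are the characters of the quotient. -/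
noncomputable def linTrivEquiv : LinTriv N ≃ (G ⧸ N →* ℂˣ) where
  toFun β := QuotientGroup.lift N β.1 fun n hn => MonoidHom.mem_ker.mpr (β.2 n hn)
  invFun f := ⟨f.comp (QuotientGroup.mk' N), fun n hn => by
    rw [MonoidHom.comp_apply, QuotientGroup.mk'_apply, (QuotientGroup.eq_one_iff n).mpr hn, map_one]⟩
  left_inv β := Subtype.ext (MonoidHom.ext fun g => rfl)
  right_inv f := MonoidHom.ext fun q => QuotientGroup.induction_on q fun g => rfl

theorem sum_linTriv (hab : ∀ x y : G, x * y * x⁻¹ * y⁻¹ ∈ N) [Fintype (LinTriv N)] :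
    Fintype.card (LinTriv N) = N.index ∧
      indFun N (fun _ : N => (1 : ℂ)) = ∑ β : LinTriv N, fun g => (β.1 g : ℂ) := by
  classical
  letI : CommGroup (G ⧸ N) :=
    { (inferInstance : Group (G ⧸ N)) with
      mul_comm := fun a b => by
        induction a using QuotientGroup.induction_on with
        | _ a =>
          induction b using QuotientGroup.induction_on with
          | _ b =>
            rw [← QuotientGroup.mk_mul, ← QuotientGroup.mk_mul, QuotientGroup.eq]
            have := hab b⁻¹ a⁻¹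
            simpa [mul_assoc] using this }
  have hcard : Fintype.card (LinTriv N) = N.index := by
    rw [← Nat.card_eq_fintype_card, Nat.card_congr (linTrivEquiv N)]
    exact card_hom_units (G ⧸ N)
  refine ⟨hcard, funext fun g => ?_⟩
  rw [Finset.sum_apply]
  by_cases hg : g ∈ N
  · rw [show g = ((⟨g, hg⟩ : N) : G) from rfl, indFun_apply_of_normal, Finset.sum_const,
      Finset.card_univ, nsmul_one, Finset.sum_congr rfl fun (β : LinTriv N) _ => show
        ((β.1 g : ℂˣ) : ℂ) = 1 by rw [β.2 g hg, Units.val_one],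
      Finset.sum_const, Finset.card_univ, nsmul_one, hcard, ← Nat.card_eq_fintype_card,
      ← N.card_mul_index, Nat.cast_mul, inv_mul_cancel_left₀ (Nat.cast_ne_zero.mpr Nat.card_pos.ne')]
  · rw [indFun_notMem_of_normal N _ hg]
    haveI : NeZero (Monoid.exponent (G ⧸ N)) := ⟨Monoid.exponent_ne_zero_of_finite⟩
    obtain ⟨f, hf⟩ := CommGroup.exists_apply_ne_one_of_hasEnoughRootsOfUnity (G ⧸ N) ℂ
      (a := QuotientGroup.mk' N g) (fun h => hg ((QuotientGroup.eq_one_iff g).mp h))
    let β₀ := (linTrivEquiv N).symm f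
    have h0 : (β₀.1 g : ℂˣ) ≠ 1 := hf
    let e : LinTriv N ≃ LinTriv N :=
      { toFun := fun β => ⟨β₀.1 * β.1, fun n hn => by simp [β₀.2 n hn, β.2 n hn]⟩
        invFun := fun β => ⟨β₀.1⁻¹ * β.1, fun n hn => by simp [β₀.2 n hn, β.2 n hn]⟩
        left_inv := fun β => Subtype.ext (inv_mul_cancel_left β₀.1 β.1)
        right_inv := fun β => Subtype.ext (mul_inv_cancel_left β₀.1 β.1) }
    have hmul : (β₀.1 g : ℂ) * ∑ β : LinTriv N, (β.1 g : ℂ) = ∑ β : LinTriv N, (β.1 g : ℂ) := by
      rw [Finset.mul_sum]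
      exact Fintype.sum_equiv e _ _ fun β => by simp [e]
    by_contra hne
    exact h0 (Units.ext (mul_right_cancel₀ (Ne.symm hne) (hmul.trans (one_mul _).symm)))

theorem isIrrCharacter_linear_mul {χ : G → ℂ} (hχ : IsIrrCharacter G χ) (β : G →* ℂˣ) :
    IsIrrCharacter G (fun g => (β g : ℂ) * χ g) := by
  refine isIrr_of_norm_one (isCharacter_mul (isCharacter_monoidHom β) (isCharacter_of_isIrr hχ)) ?_
  rw [← classInner_irr_self hχ]
  simp only [classInner]
  congr 1
  refine Finset.sum_congr rfl fun g _ => ?_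
  have h : (β g : ℂ) * conj (β g : ℂ) = 1 := by
    have hfin : IsOfFinOrder (β g : ℂˣ) := β.isOfFinOrder (isOfFinOrder_of_finite g)
    obtain ⟨n, hn0, hn⟩ := isOfFinOrder_iff_pow_eq_one.mp hfin
    have hn1 : ‖(β g : ℂ)‖ = 1 := Complex.norm_eq_one_of_pow_eq_one (n := n)
      (by rw [← Units.val_pow_eq_pow_val, hn, Units.val_one]) hn0.ne'
    rw [Complex.mul_conj, Complex.normSq_eq_norm_sq, hn1]; norm_num
  rw [map_mul]
  linear_combination (χ g * conj (χ g)) * h

open Classical in
/-- The decomposition of an induced invariant character. -/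
theorem invariant_decomposition (hab : ∀ x y : G, x * y * x⁻¹ * y⁻¹ ∈ N) {θ : N → ℂ}
    (hθ : IsIrrCharacter N θ) (hinv : ∀ g, conjBy N θ g = θ) {ψ : G → ℂ} (hψ : IsIrrCharacter G ψ)
    (hcon : classInner (fun n : N => ψ n) θ ≠ 0) :
    ∃ (e : ℕ) (C : Finset (G → ℂ)), 0 < e ∧ classInner (fun n : N => ψ n) θ = (e : ℂ) ∧
      (∀ χ ∈ C, IsIrrCharacter G χ) ∧ e ^ 2 * C.card = N.index ∧
      indFun N θ = (e : ℂ) • ∑ χ ∈ C, χ ∧
      ∀ χ ∈ C, χ 1 = (e : ℂ) * θ 1 ∧ classInner (fun n : N => χ n) θ = (e : ℂ) := by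
  haveI : Finite (LinTriv N) := by
    haveI : Finite (G →* ℂˣ) := Finite.of_equiv _ (linearEquiv (G := G))
    infer_instance
  haveI : Fintype (LinTriv N) := Fintype.ofFinite _
  obtain ⟨hcard, hsum⟩ := sum_linTriv N hab
  obtain ⟨e, he⟩ := exists_nat_classInner (isCharacter_restrict N (isCharacter_of_isIrr hψ))
    (isCharacter_of_isIrr hθ)
  rw [he, Nat.cast_ne_zero] at hcon
  have hres : (fun n : N => ψ n) = (e : ℂ) • θ := by
    have := clifford_invariant N hψ hθ hinv (by rw [he]; exact Nat.cast_ne_zero.mpr hcon)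
    rwa [he] at this
  have hcl := isClassFunction_of_isCharacter (isCharacter_of_isIrr hψ)
  set f : LinTriv N → (G → ℂ) := fun β g => (β.1 g : ℂ) * ψ g with hf
  have hmain : (e : ℂ) • indFun N θ = ∑ β : LinTriv N, f β := by
    rw [← indFun_smul, ← hres]
    have h : (fun n : N => ψ n) = (fun _ : N => (1 : ℂ)) * fun n : N => ψ n := (one_mul _).symm
    rw [h, indFun_mul N ψ hcl, hsum, Finset.sum_mul]
    rfl
  set C := Finset.univ.image f with hC
  have hirr : ∀ χ ∈ C, IsIrrCharacter G χ := by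
    intro χ hχ
    obtain ⟨β, -, rfl⟩ := Finset.mem_image.mp hχ
    exact isIrrCharacter_linear_mul hψ β.1
  set one : LinTriv N := ⟨1, fun _ _ => rfl⟩ with hone
  have hf1 : f one = ψ := by funext g; simp [hf, hone]
  set k := (Finset.univ.filter fun β => f β = ψ).card with hk
  have hfib : ∀ χ ∈ C, (Finset.univ.filter fun β => f β = χ).card = k := by
    intro χ hχ
    obtain ⟨β₀, -, rfl⟩ := Finset.mem_image.mp hχ
    have hfm : ∀ β γ : LinTriv N, f ⟨β.1 * γ.1, fun n hn => by simp [β.2 n hn, γ.2 n hn]⟩ =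
        fun g => (β.1 g : ℂ) * f γ g := by
      intro β γ; funext g; simp [hf, mul_assoc]
    rw [hk]
    refine Finset.card_bij' (fun β _ => (⟨β₀.1⁻¹ * β.1, fun n hn => by simp [β₀.2 n hn, β.2 n hn]⟩ : LinTriv N))
      (fun β _ => (⟨β₀.1 * β.1, fun n hn => by simp [β₀.2 n hn, β.2 n hn]⟩ : LinTriv N)) ?_ ?_ ?_ ?_
    · intro β hβ
      simp only [Finset.mem_filter, Finset.mem_univ, true_and] at hβ ⊢
      funext g
      have := congrFun hβ g
      simp only [hf] at this ⊢
      simp only [MonoidHom.mul_apply, MonoidHom.inv_apply, Units.val_mul, Units.val_inv_eq_inv_val]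
      rw [mul_assoc, this, inv_mul_cancel_left₀ (Units.ne_zero _)]
    · intro β hβ
      simp only [Finset.mem_filter, Finset.mem_univ, true_and] at hβ ⊢
      funext g
      have := congrFun hβ g
      simp only [hf] at this ⊢
      simp only [MonoidHom.mul_apply, Units.val_mul]
      rw [mul_assoc, this]
    · intro β _; exact Subtype.ext (mul_inv_cancel_left β₀.1 β.1)
    · intro β _; exact Subtype.ext (inv_mul_cancel_left β₀.1 β.1)
  have hmain' : (e : ℂ) • indFun N θ = (k : ℂ) • ∑ χ ∈ C, χ := by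
    rw [hmain, ← Finset.sum_fiberwise_of_maps_to (g := f) (t := C)
      (fun β _ => Finset.mem_image_of_mem f (Finset.mem_univ β)), Finset.smul_sum]
    refine Finset.sum_congr rfl fun χ hχ => ?_
    rw [Finset.sum_congr rfl fun β hβ => (Finset.mem_filter.mp hβ).2, Finset.sum_const, hfib χ hχ,
      Nat.cast_smul_eq_nsmul]
  have hψC : ψ ∈ C := Finset.mem_image.mpr ⟨one, Finset.mem_univ _, hf1⟩
  have hke : k = e ^ 2 := by
    have h := congrArg (fun F => classInner F ψ) hmain'
    simp only [classInner_smul_left] at h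
    rw [frobenius_reciprocity N θ hcl, classInner_sum_left, Finset.sum_eq_single ψ
      (fun χ hχ hne => classInner_irr_ne (hirr χ hχ) hψ hne) (fun h => absurd hψC h),
      classInner_irr_self hψ, mul_one] at h
    have h' : classInner θ (fun n : N => ψ n) = (e : ℂ) := by
      rw [← classInner_conj_symm, he, Complex.conj_natCast]
    rw [h'] at h
    have h2 : ((e * e : ℕ) : ℂ) = (k : ℂ) := by push_cast; exact h
    rw [pow_two]; exact (Nat.cast_inj.mp h2).symm
  refine ⟨e, C, Nat.pos_of_ne_zero hcon, he, hirr, ?_, ?_, ?_⟩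
  · rw [← hke, mul_comm, ← hcard, ← Finset.card_univ, Finset.card_eq_sum_card_image f Finset.univ,
      ← hC, Finset.sum_congr rfl hfib, Finset.sum_const, smul_eq_mul]
  · have he0 : (e : ℂ) ≠ 0 := Nat.cast_ne_zero.mpr hcon
    refine smul_right_injective _ he0 ?_
    show (e : ℂ) • indFun N θ = (e : ℂ) • ((e : ℂ) • ∑ χ ∈ C, χ)
    rw [hmain', hke, smul_smul]; push_cast; rw [pow_two]
  · intro χ hχ
    obtain ⟨β, -, rfl⟩ := Finset.mem_image.mp hχ
    have hr : (fun n : N => f β n) = (e : ℂ) • θ := by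
      rw [← hres]; funext n; simp [hf, β.2 n n.2]
    refine ⟨?_, ?_⟩
    · exact congrFun hr 1
    · rw [hr, classInner_smul_left, classInner_irr_self hθ, mul_one]

end CfsgLib.Char
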