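import Cfsg.Agent.Lib.Char.BrauerInd
import Cfsg.Agent.Lib.Transfer.Hall
import Cfsg.Agent.Lib.Transfer.Basic

/-!
# Characters of defect zero vanish on singular elements
-/

set_option autoImplicit false
set_option linter.unusedSectionVars false

namespace CfsgLib.Char

open Cfsg
open scoped ComplexConjugate CfsgLib.Char

universe u

variable {G : Type u} [Group G]

/-- A finite nilpotent group has a normal subgroup consisting of its `p`-regular elements, which
centralizes the Sylow `p`-subgroup. -/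
theorem exists_regular_subgroup [Finite G] [Group.IsNilpotent G] {p : ℕ} [Fact p.Prime]
    (P : Sylow p G) : ∃ Q : Subgroup G, (∀ x, x ∈ Q ↔ (orderOf x).Coprime p) ∧
      Nat.card (P : Subgroup G) * Nat.card Q = Nat.card G ∧ (Nat.card Q).Coprime p ∧
      ∀ x ∈ P, ∀ y ∈ Q, x * y = y * x := by
  have hpp := (Fact.out : p.Prime)
  haveI := CfsgLib.Transfer.sylow_normal_of_isNilpotent P
  obtain ⟨Q, hQ⟩ := Subgroup.exists_right_complement'_of_coprime P.card_coprime_index
  have hQc : Nat.card Q = (P : Subgroup G).index := hQ.symm.index_eq_card.symm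
  have hcop : (Nat.card Q).Coprime p := by
    rw [hQc]; exact (hpp.coprime_iff_not_dvd.mpr P.not_dvd_index).symm
  have hcent : ∀ x ∈ P, ∀ y ∈ Q, x * y = y * x := by
    intro x hx y hy
    set C := Subgroup.centralizer ((P : Subgroup G) : Set G)
    haveI : C.Normal := inferInstance
    have hq : IsPGroup p (G ⧸ C) := by
      have hsup := CfsgLib.Transfer.sylow_sup_centralizer_eq_top P
      refine (P.2.of_surjective ((QuotientGroup.mk' C).comp (P : Subgroup G).subtype) fun z => ?_)
      obtain ⟨g, rfl⟩ := QuotientGroup.mk'_surjective C z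
      have hg : g ∈ (↑((P : Subgroup G) ⊔ C) : Set G) := by rw [hsup]; exact Set.mem_univ g
      rw [Subgroup.mul_normal] at hg
      obtain ⟨a, ha, c, hc, rfl⟩ := Set.mem_mul.mp hg
      refine ⟨⟨a, ha⟩, ?_⟩
      show (a : G ⧸ C) = ((a * c : G) : G ⧸ C)
      rw [QuotientGroup.mk_mul, (QuotientGroup.eq_one_iff c).mpr hc, mul_one]
    have hyC : y ∈ C := CfsgLib.Transfer.pResidual_le_of_isPGroup_quotient C hq
      (CfsgLib.Transfer.mem_pResidual_of_coprime (CfsgLib.Transfer.coprime_orderOf_of_mem hcop hy))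
    exact Subgroup.mem_centralizer_iff.mp hyC x hx
  haveI : Q.Normal := ⟨fun y hy g => by
    obtain ⟨⟨a, b⟩, hab⟩ := hQ.2 g
    simp only at hab
    subst hab
    have hm : (b : G) * y * (b : G)⁻¹ ∈ Q := Q.mul_mem (Q.mul_mem b.2 hy) (Q.inv_mem b.2)
    have e : ((a : G) * b) * y * ((a : G) * b)⁻¹ = (b : G) * y * (b : G)⁻¹ := by
      calc ((a : G) * b) * y * ((a : G) * b)⁻¹ = (a : G) * ((b : G) * y * (b : G)⁻¹) * (a : G)⁻¹ := by
            group
        _ = (b : G) * y * (b : G)⁻¹ := by rw [hcent a a.2 _ hm, mul_inv_cancel_right]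
    rw [e]; exact hm⟩
  have hq : IsPGroup p (G ⧸ Q) := by
    obtain ⟨k, hk⟩ := P.2.exists_card_eq
    exact IsPGroup.of_card (n := k) (by rw [← Subgroup.index_eq_card, hQ.index_eq_card, hk])
  exact ⟨Q, fun x => CfsgLib.Transfer.mem_iff_coprime_orderOf hcop hq, hQ.card_mul, hcop, hcent⟩

/-- An irreducible character whose degree is divisible by the `p`-part of the group order
vanishes on the `p`-singular elements. -/
theorem defect_zero_vanish [Fintype G] {χ : G → ℂ} (hχ : IsIrrCharacter G χ) {p n d : ℕ}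
    [hp : Fact p.Prime] (hd : χ 1 = d) (hn : p ^ n ∣ Nat.card G) (hn' : ¬ p ^ (n + 1) ∣ Nat.card G)
    (hdeg : p ^ n ∣ d) {x : G} (hx : p ∣ orderOf x) : χ x = 0 := by
  classical
  have hpp := hp.out
  have hχc := isCharacter_of_isIrr hχ
  have hcl := isClassFunction_of_isCharacter hχc
  obtain ⟨M, hM⟩ := hn
  have hMp : ¬ p ∣ M := fun h => hn' (by rw [pow_succ, hM]; exact mul_dvd_mul_left _ h)
  obtain ⟨m, hm⟩ := hdeg
  have hd0 : d ≠ 0 := fun h => irr_degree_ne_zero hχ (by rw [hd, h, Nat.cast_zero])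
  set θ : G → ℂ := fun g => if (orderOf g).Coprime p then χ g else 0 with hθdef
  have hθcl : IsClassFunction G θ := fun g h => by
    have : orderOf (h * g * h⁻¹) = orderOf g := by
      exact CfsgLib.Transfer.orderOf_conj h g
    simp only [hθdef, this, hcl g h]
  have hθgen : IsGeneralizedCharacter G θ := by
    refine brauer_characterisation hθcl fun E q hq hE => ?_
    haveI := isNilpotent_of_isElementary hq hE
    obtain ⟨P⟩ := (inferInstance : Nonempty (Sylow p E))
    obtain ⟨Q, hQmem, hcard, hQcop, hcomm⟩ := exists_regular_subgroup P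
    rw [isGeneralized_iff_classInner (isClassFunction_restrict E hθcl)]
    intro ψ
    obtain ⟨a, ha⟩ := P.2.exists_card_eq
    -- values on `Q` are divisible by `|P|`
    have hint : ∀ y ∈ Q, IsIntegral ℤ (χ ((y : E) : G) / (p ^ a : ℕ)) := by
      intro y hy
      set g : G := ((y : E) : G)
      set C := Subgroup.centralizer ({g} : Set G)
      have hdvd : p ^ a ∣ Nat.card C := by
        rw [← ha, ← Subgroup.card_map_of_injective (f := E.subtype) Subtype.val_injective]
        refine Subgroup.card_dvd_of_le ?_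
        rintro _ ⟨z, hz, rfl⟩
        rw [Subgroup.mem_centralizer_singleton_iff]
        exact congrArg Subtype.val (hcomm z hz y hy)
      obtain ⟨c, hc⟩ := hdvd
      have h1 : IsIntegral ℤ (omega χ g * ((c * m : ℕ) : ℂ)) :=
        (isIntegral_omega_irr hχ g).mul (isIntegral_algebraMap (x := ((c * m : ℕ) : ℤ)))
      have hcm : (C.index : ℂ) * ((c : ℂ) * m) = (d : ℂ) * M / (p ^ a : ℕ) := by
        rw [eq_div_iff (Nat.cast_ne_zero.mpr (pow_pos hpp.pos a).ne')]
        have e : C.index * (c * m) * p ^ a = d * M := by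
          calc C.index * (c * m) * p ^ a = C.index * (p ^ a * c) * m := by ring
            _ = Nat.card G * m := by rw [← hc, C.index_mul_card]
            _ = d * M := by rw [hM, hm]; ring
        exact_mod_cast e
      have h2 : omega χ g * ((c * m : ℕ) : ℂ) = (M : ℂ) * χ g / (p ^ a : ℕ) := by
        have hd' : (d : ℂ) ≠ 0 := Nat.cast_ne_zero.mpr hd0
        have : omega χ g * ((c * m : ℕ) : ℂ) = (C.index : ℂ) * ((c : ℂ) * m) * χ g / d := by
          rw [omega, hd]; push_cast; ring
        rw [this, hcm]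
        field_simp
      rw [h2] at h1
      have hco : Nat.Coprime M (p ^ a) :=
        Nat.Coprime.pow_right a (hpp.coprime_iff_not_dvd.mpr hMp).symm
      have hbez := congrArg (Int.cast : ℤ → ℂ) (Nat.gcd_eq_gcd_ab M (p ^ a))
      rw [hco.gcd_eq_one] at hbez
      push_cast at hbez
      have hP0 : ((p : ℂ) ^ a) ≠ 0 := pow_ne_zero _ (Nat.cast_ne_zero.mpr hpp.ne_zero)
      have heq : χ g / (p ^ a : ℕ) = (M : ℂ) * χ g / (p ^ a : ℕ) * (Nat.gcdA M (p ^ a) : ℂ) +
          χ g * (Nat.gcdB M (p ^ a) : ℂ) := by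
        push_cast
        field_simp
        linear_combination χ g * hbez
      rw [heq]
      exact (h1.mul (isIntegral_algebraMap (x := Nat.gcdA M (p ^ a)))).add
        ((isIntegral_value hχc g).mul (isIntegral_algebraMap (x := Nat.gcdB M (p ^ a))))
    obtain ⟨z, hz⟩ := exists_int_classInner
      (isGeneralized_restrict Q (isGeneralized_restrict E (isGeneralized_of_isCharacter hχc)))
      (isGeneralized_restrict Q (isGeneralized_of_isIrr ψ.2))
    have hsum : ∑ e : E, θ e * conj ((ψ : E → ℂ) e) =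
        ∑ y : Q, χ ((y : E) : G) * conj ((ψ : E → ℂ) y) := by
      rw [← Finset.sum_filter_add_sum_filter_not Finset.univ (fun e : E => e ∈ Q)]
      rw [Finset.sum_eq_zero (s := Finset.univ.filter fun e : E => ¬ e ∈ Q) fun e he => ?_, add_zero]
      · rw [Finset.sum_subtype (Finset.univ.filter fun e : E => e ∈ Q) (p := fun e => e ∈ Q) (by simp)]
        refine Finset.sum_congr rfl fun y _ => ?_
        have hy := (hQmem y).mp y.2
        rw [← Subgroup.orderOf_coe] at hy
        simp only [hθdef, if_pos hy]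
      · have hy : ¬ (orderOf (e : G)).Coprime p := by
          rw [Subgroup.orderOf_coe]; exact fun h => (Finset.mem_filter.mp he).2 ((hQmem e).mpr h)
        simp only [hθdef, if_neg hy, zero_mul]
    have hQ0 : (Nat.card Q : ℂ) ≠ 0 := Nat.cast_ne_zero.mpr Nat.card_pos.ne'
    have hP0 : ((p : ℂ) ^ a) ≠ 0 := pow_ne_zero _ (Nat.cast_ne_zero.mpr hpp.ne_zero)
    have hz' : ∑ y : Q, χ ((y : E) : G) * conj ((ψ : E → ℂ) y) = (Nat.card Q : ℂ) * z := by
      rw [← hz]; simp only [classInner]; field_simp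
    have hI : IsIntegral ℤ ((((Nat.card Q : ℤ) * z : ℤ) : ℂ) / (p ^ a : ℕ)) := by
      push_cast
      rw [← hz', Finset.sum_div]
      refine IsIntegral.sum _ fun y _ => ?_
      rw [mul_div_right_comm]
      have := hint y y.2
      push_cast at this
      exact this.mul (isIntegral_conj (isIntegral_value (isCharacter_of_isIrr ψ.2) y))
    obtain ⟨k, hk⟩ := exists_int_of_isIntegral_rat
      (q := (((Nat.card Q : ℤ) * z : ℤ) : ℚ) / (p ^ a : ℕ)) (by push_cast at hI ⊢; exact hI)
    rw [div_eq_iff (Nat.cast_ne_zero.mpr (pow_pos hpp.pos a).ne')] at hk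
    have hk' : (Nat.card Q : ℤ) * z = (p ^ a : ℕ) * k := by
      rw [mul_comm _ k]; exact_mod_cast hk
    have hdz : ((p ^ a : ℕ) : ℤ) ∣ z :=
      (Int.isCoprime_iff_nat_coprime.mpr
        (by simpa using (Nat.Coprime.pow_right a hQcop).symm)).dvd_of_dvd_mul_left
        (Dvd.intro k hk'.symm)
    obtain ⟨w, rfl⟩ := hdz
    refine ⟨w, ?_⟩
    simp only [classInner]
    rw [hsum, hz', ← hcard, ha]
    push_cast
    field_simp
  obtain ⟨c, hc⟩ := isGeneralized_iff.mp hθgen
  have hGc : (Nat.card G : ℂ) ≠ 0 := Nat.cast_ne_zero.mpr Nat.card_pos.ne'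
  have hsing : ¬ (orderOf x).Coprime p := fun h => hpp.coprime_iff_not_dvd.mp h.symm hx
  have hsplit : (Nat.card G : ℂ) * classInner θ θ +
      ∑ g ∈ Finset.univ.filter (fun g : G => ¬ (orderOf g).Coprime p), χ g * conj (χ g) =
      (Nat.card G : ℂ) := by
    have h1 := classInner_irr_self hχ
    unfold classInner at h1 ⊢
    rw [inv_mul_eq_one₀ hGc] at h1
    rw [← mul_assoc, mul_inv_cancel₀ hGc, one_mul, h1,
      ← Finset.sum_filter_add_sum_filter_not Finset.univ (fun g : G => (orderOf g).Coprime p)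
        (fun g => χ g * conj (χ g))]
    congr 1
    rw [Finset.sum_filter]
    refine Finset.sum_congr rfl fun g _ => ?_
    simp only [hθdef]
    split_ifs <;> simp
  set S := ∑ g ∈ Finset.univ.filter (fun g : G => ¬ (orderOf g).Coprime p), Complex.normSq (χ g)
    with hSdef
  have hN : classInner θ θ = ((∑ ξ : IrrCharacter G, c ξ ^ 2 : ℤ) : ℂ) := by
    rw [hc]; exact sum_sq_coeff c
  have hS : (Nat.card G : ℝ) * ((∑ ξ : IrrCharacter G, c ξ ^ 2 : ℤ) : ℝ) + S = Nat.card G := by
    rw [hN] at hsplit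
    simp only [Complex.mul_conj] at hsplit
    exact_mod_cast hsplit
  have hS0 : 0 ≤ S := Finset.sum_nonneg fun _ _ => Complex.normSq_nonneg _
  have hsq0 : 0 ≤ ∑ ξ : IrrCharacter G, c ξ ^ 2 := Finset.sum_nonneg fun _ _ => sq_nonneg _
  have hne : ∑ ξ : IrrCharacter G, c ξ ^ 2 ≠ 0 := by
    intro h
    have h0 : θ = 0 := eq_zero_of_classInner_self (by rw [hN, h, Int.cast_zero])
    have := congrFun h0 1
    simp [hθdef, hd, hd0] at this
  have hge : (1 : ℝ) ≤ ((∑ ξ : IrrCharacter G, c ξ ^ 2 : ℤ) : ℝ) := by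
    exact_mod_cast (lt_of_le_of_ne hsq0 (Ne.symm hne) : (0 : ℤ) < _)
  have hSz : S = 0 := by nlinarith [(Nat.cast_pos.mpr Nat.card_pos : (0 : ℝ) < Nat.card G)]
  exact Complex.normSq_eq_zero.mp ((Finset.sum_eq_zero_iff_of_nonneg fun _ _ =>
    Complex.normSq_nonneg _).mp hSz x (Finset.mem_filter.mpr ⟨Finset.mem_univ _, hsing⟩))

end CfsgLib.Char
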