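import Cfsg.Agent.Lib.Char.Orth

/-!
# The character table: second orthogonality, counting, determination by characters
-/

set_option autoImplicit false

namespace CfsgLib.Char

open Module Representation Cfsg
open scoped ComplexConjugate

variable {G : Type*} [Group G]

theorem isClassFunction_irr (χ : IrrCharacter G) : IsClassFunction G (χ : G → ℂ) :=
  isClassFunction_of_isCharacter (isCharacter_of_isIrr χ.2)

theorem eq_of_isConj {f : G → ℂ} (hf : IsClassFunction G f) {a b : G} (h : IsConj a b) :
    f a = f b := by
  obtain ⟨c, rfl⟩ := isConj_iff.mp h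
  exact (hf a c).symm

open Classical in
/-- Indicator function of the class of `h`. -/
noncomputable def classIndicator (h : G) : G → ℂ := fun x => if IsConj x h then 1 else 0

theorem isClassFunction_classIndicator (h : G) : IsClassFunction G (classIndicator h) := by
  intro g c
  have hc : IsConj g (c * g * c⁻¹) := isConj_iff.mpr ⟨c, rfl⟩
  have : IsConj (c * g * c⁻¹) h ↔ IsConj g h := ⟨fun H => hc.trans H, fun H => hc.symm.trans H⟩
  unfold classIndicator
  by_cases hg : IsConj g h
  · rw [if_pos hg, if_pos (this.mpr hg)]
  · rw [if_neg hg, if_neg (fun H => hg (this.mp H))]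

/-- The number of elements conjugate to `h` is the index of the centraliser. -/
theorem card_isConj_eq_index [Finite G] (h : G) :
    Nat.card {x : G // IsConj x h} = (Subgroup.centralizer ({h} : Set G)).index := by
  have hC : ∀ a b : G, a * h * a⁻¹ = b * h * b⁻¹ ↔ a⁻¹ * b ∈ Subgroup.centralizer ({h} : Set G) := by
    intro a b
    rw [Subgroup.mem_centralizer_iff]
    simp only [Set.mem_singleton_iff, forall_eq]
    constructor
    · intro e
      calc h * (a⁻¹ * b) = a⁻¹ * (a * h * a⁻¹) * b := by simp [mul_assoc]
        _ = a⁻¹ * (b * h * b⁻¹) * b := by rw [e]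
        _ = a⁻¹ * b * h := by simp [mul_assoc]
    · intro e
      calc a * h * a⁻¹ = a * (h * (a⁻¹ * b)) * b⁻¹ := by simp [mul_assoc]
        _ = a * (a⁻¹ * b * h) * b⁻¹ := by rw [e]
        _ = b * h * b⁻¹ := by simp [mul_assoc]
  symm
  refine Nat.card_congr (Equiv.ofBijective
    (fun q => (⟨q.out * h * q.out⁻¹, isConj_iff.mpr ⟨q.out⁻¹, by simp [mul_assoc]⟩⟩ :
      {x : G // IsConj x h})) ⟨fun q r e => ?_, fun x => ?_⟩)
  · have h1 := (hC q.out r.out).mp (congrArg Subtype.val e)
    rw [← QuotientGroup.out_eq' q, ← QuotientGroup.out_eq' r]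
    exact QuotientGroup.eq.mpr h1
  · obtain ⟨c, hc⟩ := isConj_iff.mp x.2.symm
    refine ⟨QuotientGroup.mk c, Subtype.ext ?_⟩
    have hcq : (QuotientGroup.mk (QuotientGroup.mk c : G ⧸ Subgroup.centralizer ({h} : Set G)).out :
        G ⧸ Subgroup.centralizer ({h} : Set G)) = QuotientGroup.mk c := QuotientGroup.out_eq' _
    exact ((hC _ _).mpr (QuotientGroup.eq.mp hcq)).trans hc

theorem card_centralizer_mul_index [Finite G] (h : G) :
    (Nat.card (Subgroup.centralizer ({h} : Set G)) : ℂ) *
      ((Subgroup.centralizer ({h} : Set G)).index : ℂ) = (Nat.card G : ℂ) := by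
  rw [← Nat.cast_mul, Subgroup.card_mul_index]

theorem classInner_classIndicator [Fintype G] (h : G) (χ : IrrCharacter G) :
    classInner (classIndicator h) (χ : G → ℂ) =
      conj ((χ : G → ℂ) h) / (Nat.card (Subgroup.centralizer ({h} : Set G)) : ℂ) := by
  classical
  have hsum : ∑ x, classIndicator h x * conj ((χ : G → ℂ) x) =
      ((Subgroup.centralizer ({h} : Set G)).index : ℂ) * conj ((χ : G → ℂ) h) := by
    simp only [classIndicator, ite_mul, one_mul, zero_mul]
    rw [← Finset.sum_filter, ← card_isConj_eq_index, Nat.card_eq_fintype_card,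
      Fintype.card_subtype]
    rw [Finset.sum_congr rfl fun x hx => by
      rw [eq_of_isConj (isClassFunction_irr χ) (Finset.mem_filter.mp hx).2]]
    simp
  have hC : (Nat.card (Subgroup.centralizer ({h} : Set G)) : ℂ) ≠ 0 :=
    Nat.cast_ne_zero.mpr Nat.card_pos.ne'
  have hI : ((Subgroup.centralizer ({h} : Set G)).index : ℂ) ≠ 0 :=
    Nat.cast_ne_zero.mpr Subgroup.index_ne_zero_of_finite
  rw [classInner, hsum, ← card_centralizer_mul_index h]
  field_simp

/-- Second orthogonality relation. -/
theorem column_orthogonality [Finite G] (g h : G) :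
    ∑ χ : IrrCharacter G, (χ : G → ℂ) g * conj ((χ : G → ℂ) h) = open Classical in
      if IsConj g h then (Nat.card (Subgroup.centralizer ({h} : Set G)) : ℂ) else 0 := by
  classical
  have : Fintype G := Fintype.ofFinite G
  have hC : (Nat.card (Subgroup.centralizer ({h} : Set G)) : ℂ) ≠ 0 :=
    Nat.cast_ne_zero.mpr Nat.card_pos.ne'
  have hx := congrFun (classFunction_expansion (isClassFunction_classIndicator h)) g
  simp only [Finset.sum_apply, Pi.smul_apply, smul_eq_mul, classInner_classIndicator, classIndicator,
    div_mul_eq_mul_div, ← Finset.sum_div] at hx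
  rw [eq_div_iff hC] at hx
  rw [Finset.sum_congr rfl fun χ _ => mul_comm _ _, ← hx]
  split_ifs <;> simp

theorem card_centralizer_eq_of_isConj [Finite G] {g h : G} (hgh : IsConj g h) :
    Nat.card (Subgroup.centralizer ({g} : Set G)) = Nat.card (Subgroup.centralizer ({h} : Set G)) := by
  have e : Nat.card {x : G // IsConj x g} = Nat.card {x : G // IsConj x h} :=
    Nat.card_congr (Equiv.subtypeEquivRight fun x => ⟨fun H => H.trans hgh, fun H => H.trans hgh.symm⟩)
  rw [card_isConj_eq_index, card_isConj_eq_index] at e
  have h1 := (Subgroup.centralizer ({g} : Set G)).card_mul_index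
  have h2 := (Subgroup.centralizer ({h} : Set G)).card_mul_index
  rw [e, ← h2] at h1
  exact Nat.eq_of_mul_eq_mul_right (Nat.pos_of_ne_zero Subgroup.index_ne_zero_of_finite) h1

theorem isConj_iff_irr_agree [Finite G] (g h : G) :
    IsConj g h ↔ ∀ χ : IrrCharacter G, (χ : G → ℂ) g = (χ : G → ℂ) h := by
  classical
  refine ⟨fun H χ => eq_of_isConj (isClassFunction_irr χ) H, fun H => ?_⟩
  by_contra hn
  have h1 := column_orthogonality g h
  rw [if_neg hn] at h1
  have h2 := column_orthogonality h h
  rw [if_pos (IsConj.refl h)] at h2
  rw [Finset.sum_congr rfl fun χ _ => by rw [H χ], h2] at h1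
  exact Nat.card_pos.ne' (Nat.cast_eq_zero.mp h1)

/-- The regular character is the sum of the irreducible characters weighted by their degrees. -/
theorem sum_degree_mul_irr [Finite G] (g : G) :
    ∑ χ : IrrCharacter G, (χ : G → ℂ) 1 * (χ : G → ℂ) g = open Classical in
      if g = 1 then (Nat.card G : ℂ) else 0 := by
  classical
  have h := column_orthogonality g 1
  rw [isConj_one_left (a := g)] at h
  rw [Finset.sum_congr rfl fun χ _ => mul_comm _ _]
  convert h using 1
  · refine Finset.sum_congr rfl fun χ _ => ?_
    obtain ⟨n, hn⟩ := exists_nat_degree (isCharacter_of_isIrr χ.2)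
    rw [hn, Complex.conj_natCast]
  · congr 2
    rw [Subgroup.centralizer_eq_top_iff_subset.mpr (by simp), Subgroup.card_top]

theorem sum_sq_degree [Finite G] :
    ∑ χ : IrrCharacter G, (χ : G → ℂ) 1 ^ 2 = (Nat.card G : ℂ) := by
  classical
  simpa [sq] using sum_degree_mul_irr (1 : G)

/-- Class functions as functions on the conjugacy classes. -/
noncomputable def classFunctionSubmodule : Submodule ℂ (G → ℂ) where
  carrier := {f | IsClassFunction G f}
  add_mem' := fun ha hb g h => by simp [ha g h, hb g h]
  zero_mem' := fun g h => rfl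
  smul_mem' := fun c f hf g h => by simp [hf g h]

/-- Functions on classes are class functions. -/
noncomputable def classFunctionEquiv : (ConjClasses G → ℂ) ≃ₗ[ℂ] classFunctionSubmodule (G := G) where
  toFun F := ⟨fun g => F (ConjClasses.mk g), fun g h => congrArg F
    (ConjClasses.mk_eq_mk_iff_isConj.mpr (isConj_iff.mpr ⟨h⁻¹, by simp [mul_assoc]⟩))⟩
  map_add' _ _ := rfl
  map_smul' _ _ := rfl
  invFun f C := Quotient.liftOn C (f : G → ℂ) fun _ _ hab => eq_of_isConj f.2 hab
  left_inv F := funext fun C => by
    obtain ⟨a, rfl⟩ := ConjClasses.exists_rep C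
    rfl
  right_inv f := rfl

theorem card_irr_eq_card_conjClasses [Finite G] :
    Nat.card (IrrCharacter G) = Nat.card (ConjClasses G) := by
  classical
  have : Fintype G := Fintype.ofFinite G
  have : Fintype (ConjClasses G) := Fintype.ofFinite _
  let v : IrrCharacter G → classFunctionSubmodule (G := G) := fun χ => ⟨χ, isClassFunction_irr χ⟩
  have hli : LinearIndependent ℂ v :=
    LinearIndependent.of_comp (classFunctionSubmodule (G := G)).subtype linearIndependent_irr
  have hsp : ⊤ ≤ Submodule.span ℂ (Set.range v) := by
    rintro f -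
    have : f = ∑ χ : IrrCharacter G, classInner (f : G → ℂ) (χ : G → ℂ) • v χ := by
      apply Subtype.ext
      simp only [AddSubmonoidClass.coe_finsetSum, Submodule.coe_smul, v]
      exact classFunction_expansion f.2
    rw [this]
    exact Submodule.sum_mem _ fun χ _ => Submodule.smul_mem _ _ (Submodule.subset_span ⟨χ, rfl⟩)
  have h1 := Module.finrank_eq_card_basis (Basis.mk hli hsp)
  have h2 := (classFunctionEquiv (G := G)).finrank_eq
  rw [Module.finrank_fintype_fun_eq_card] at h2
  rw [Nat.card_eq_fintype_card, Nat.card_eq_fintype_card, ← h1, h2]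

/-- An injective intertwining map gives a splitting. -/
theorem exists_equiv_prod_of_isCompl {V : Type*} [AddCommGroup V] [Module ℂ V]
    (ρ : Representation ℂ G V) (A B : Subrepresentation ρ) (h : IsCompl A B) :
    Nonempty ((A.toRepresentation.prod B.toRepresentation).Equiv ρ) := by
  have hc : IsCompl A.toSubmodule B.toSubmodule := by
    constructor
    · rw [disjoint_iff, ← Subrepresentation.toSubmodule_inf, h.inf_eq_bot]
      rfl
    · rw [codisjoint_iff, ← Subrepresentation.toSubmodule_sup, h.sup_eq_top]
      rfl
  refine ⟨Representation.Equiv.mk (A.toSubmodule.prodEquivOfIsCompl B.toSubmodule hc) fun g => ?_⟩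
  refine LinearMap.ext fun p => ?_
  simp [Subrepresentation.toRepresentation, map_add, Representation.prod]

theorem exists_irreducible_subrep [Finite G] {V : Type*} [AddCommGroup V] [Module ℂ V]
    [FiniteDimensional ℂ V] [Nontrivial V] (ρ : Representation ℂ G V) :
    ∃ A : Subrepresentation ρ, A.toRepresentation.IsIrreducible := by
  classical
  have hex : ∃ n, ∃ A : Subrepresentation ρ, A ≠ ⊥ ∧ finrank ℂ A.toSubmodule = n :=
    ⟨_, ⊤, fun h => bot_ne_top (α := Submodule ℂ V) (congrArg Subrepresentation.toSubmodule h).symm,
      rfl⟩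
  obtain ⟨A, hA0, hAn⟩ := Nat.find_spec hex
  refine ⟨A, ?_⟩
  have hA0' : A.toSubmodule ≠ ⊥ := fun h => hA0 (Subrepresentation.toSubmodule_injective h)
  have : Nontrivial A.toSubmodule := Submodule.nontrivial_iff_ne_bot.mpr hA0'
  have : Nontrivial (Subrepresentation A.toRepresentation) :=
    ⟨⊥, ⊤, fun h => bot_ne_top (α := Submodule ℂ A.toSubmodule)
      (congrArg Subrepresentation.toSubmodule h)⟩
  refine ⟨fun B => ?_⟩
  by_contra hB
  push Not at hB
  let B' : Subrepresentation ρ :=
    { toSubmodule := B.toSubmodule.map A.toSubmodule.subtype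
      apply_mem_toSubmodule := by
        rintro g _ ⟨b, hb, rfl⟩
        exact ⟨A.toRepresentation g b, B.apply_mem_toSubmodule g hb, rfl⟩ }
  have hB0 : B' ≠ ⊥ := fun h => hB.1 (Subrepresentation.toSubmodule_injective
    (Submodule.map_injective_of_injective A.toSubmodule.injective_subtype
      ((congrArg Subrepresentation.toSubmodule h).trans (Submodule.map_bot _).symm)))
  have hmin := Nat.find_min' hex ⟨B', hB0, rfl⟩
  rw [← hAn] at hmin
  have hlt : finrank ℂ B'.toSubmodule < finrank ℂ A.toSubmodule := by
    show finrank ℂ (B.toSubmodule.map A.toSubmodule.subtype) < _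
    rw [(Submodule.equivMapOfInjective _ A.toSubmodule.injective_subtype B.toSubmodule).symm.finrank_eq]
    exact Submodule.finrank_lt fun h => hB.2 (Subrepresentation.toSubmodule_injective h)
  omega

/-- Representations with equal characters are equivalent. -/
theorem equiv_of_character_eq [Finite G] {V W : Type*} [AddCommGroup V] [Module ℂ V]
    [FiniteDimensional ℂ V] [AddCommGroup W] [Module ℂ W] [FiniteDimensional ℂ W]
    (ρ : Representation ℂ G V) (σ : Representation ℂ G W) (h : ρ.character = σ.character) :
    Nonempty (ρ.Equiv σ) := by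
  classical
  have : Fintype G := Fintype.ofFinite G
  have hdim : finrank ℂ V = finrank ℂ W := by
    have h1 := congrFun h 1
    rw [Representation.char_one, Representation.char_one] at h1
    exact_mod_cast h1
  induction hn : finrank ℂ V using Nat.strong_induction_on generalizing V W with
  | _ n ih =>
    subst hn
    rcases subsingleton_or_nontrivial V with hV | hV
    · have : Subsingleton W := (Module.finrank_zero_iff (R := ℂ)).mp
        (hdim ▸ (Module.finrank_zero_iff (R := ℂ)).mpr hV)
      exact ⟨Representation.Equiv.mk (LinearEquiv.ofSubsingleton V W)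
        fun g => LinearMap.ext fun v => Subsingleton.elim _ _⟩
    · obtain ⟨A, hA⟩ := exists_irreducible_subrep ρ
      obtain ⟨A', hAA'⟩ := exists_isCompl_subrep ρ A
      -- `A` maps nontrivially into `σ`
      have hpos : finrank ℂ (IntertwiningMap A.toRepresentation σ) ≠ 0 := by
        intro h0
        have h1 := classInner_character_eq_finrank A.toRepresentation σ
        rw [h0, ← h, char_eq_add_of_isCompl ρ A A' hAA', classInner_add_left,
          classInner_irr_self (isIrrCharacter_character A.toRepresentation)] at h1
        obtain ⟨m, hm⟩ := exists_nat_classInner (isCharacter_character A'.toRepresentation)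
          (isCharacter_character A.toRepresentation)
        rw [hm, ← Nat.cast_one, ← Nat.cast_add, Nat.cast_inj] at h1
        omega
      obtain ⟨f, hf⟩ : ∃ f : IntertwiningMap A.toRepresentation σ, f ≠ 0 := by
        by_contra hall
        push Not at hall
        have : Subsingleton (IntertwiningMap A.toRepresentation σ) :=
          ⟨fun a b => by rw [hall a, hall b]⟩
        exact hpos Module.finrank_zero_of_subsingleton
      have hinj : Function.Injective f := (IsIrreducible.injective_or_eq_zero f).resolve_right hf
      obtain ⟨B', hBB'⟩ := exists_isCompl_subrep σ f.range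
      let eA : A.toRepresentation.Equiv f.range.toRepresentation :=
        Representation.Equiv.mk (LinearEquiv.ofInjective f.toLinearMap hinj) fun g =>
          LinearMap.ext fun v => Subtype.ext (f.isIntertwining _ _ g v)
      obtain ⟨eρ⟩ := exists_equiv_prod_of_isCompl ρ A A' hAA'
      obtain ⟨eσ⟩ := exists_equiv_prod_of_isCompl σ f.range B' hBB'
      have hch : A'.toRepresentation.character = B'.toRepresentation.character := by
        have := h
        rw [← char_iso eρ, ← char_iso eσ, char_prod, char_prod, char_iso eA] at this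
        exact add_left_cancel this
      have hdim' : finrank ℂ A'.toSubmodule = finrank ℂ B'.toSubmodule := by
        have h1 := congrFun hch 1
        rw [Representation.char_one, Representation.char_one] at h1
        exact_mod_cast h1
      have hlt : finrank ℂ A'.toSubmodule < finrank ℂ V := by
        have h1 := (congrArg (fun χ : G → ℂ => χ 1) (char_eq_add_of_isCompl ρ A A' hAA'))
        simp only [Pi.add_apply, Representation.char_one] at h1
        have h2 : finrank ℂ V = finrank ℂ A.toSubmodule + finrank ℂ A'.toSubmodule := by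
          exact_mod_cast h1
        have := finrank_pos_of_irreducible A.toRepresentation
        omega
      obtain ⟨eB⟩ := ih _ hlt A'.toRepresentation B'.toRepresentation hch hdim' rfl
      refine ⟨eρ.symm.trans (Representation.Equiv.trans ?_ eσ)⟩
      refine Representation.Equiv.mk (eA.toLinearEquiv.prodCongr eB.toLinearEquiv) fun g => ?_
      refine LinearMap.ext fun p => ?_
      exact Prod.ext (LinearMap.congr_fun (eA.toIntertwiningMap.isIntertwining' g) p.1)
        (LinearMap.congr_fun (eB.toIntertwiningMap.isIntertwining' g) p.2)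

end CfsgLib.Char
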