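import Cfsg.Agent.Lib.Char.Induced
import Cfsg.Agent.Lib.Char.Table

/-!
# Virtual characters, pull-backs along surjections, and virtual characters of small norm
-/

set_option autoImplicit false

namespace CfsgLib.Char

open Module Representation Cfsg
open scoped ComplexConjugate

variable {G H : Type*} [Group G] [Group H]

/-- Pulling back along a surjective homomorphism preserves irreducibility. -/
theorem irreducible_comp_surjective {V : Type*} [AddCommGroup V] [Module ℂ V] (f : H →* G)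
    (hf : Function.Surjective f) (ρ : Representation ℂ G V) (hρ : ρ.IsIrreducible) :
    Representation.IsIrreducible (ρ.comp f) := by
  let e : Subrepresentation ρ ≃o Subrepresentation (ρ.comp f : Representation ℂ H V) :=
    { toFun := fun A => ⟨A.toSubmodule, fun h v hv => A.apply_mem_toSubmodule (f h) hv⟩
      invFun := fun B => ⟨B.toSubmodule, fun g v hv => by
        obtain ⟨h, rfl⟩ := hf g
        exact B.apply_mem_toSubmodule h hv⟩
      left_inv := fun A => rfl
      right_inv := fun B => rfl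
      map_rel_iff' := Iff.rfl }
  have := hρ
  exact (OrderIso.isSimpleOrder_iff e).mp this

theorem isIrrCharacter_comp {f : H →* G} (hf : Function.Surjective f) {χ : G → ℂ}
    (hχ : IsIrrCharacter G χ) : IsIrrCharacter H (fun h => χ (f h)) := by
  obtain ⟨n, ρ, hρ, rfl⟩ := hχ
  exact ⟨n, ρ.comp f, irreducible_comp_surjective f hf ρ hρ, rfl⟩

theorem isIrrCharacter_comp_equiv (f : H ≃* G) {χ : G → ℂ} :
    IsIrrCharacter H (fun h => χ (f h)) ↔ IsIrrCharacter G χ := by
  refine ⟨fun h => ?_, isIrrCharacter_comp (f := f.toMonoidHom) f.surjective⟩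
  have := isIrrCharacter_comp (f := f.symm.toMonoidHom) f.symm.surjective h
  simpa using this

theorem classInner_comp_equiv [Fintype G] [Fintype H] (f : H ≃* G) (φ ψ : G → ℂ) :
    classInner (fun h => φ (f h)) (fun h => ψ (f h)) = classInner φ ψ := by
  simp only [classInner]
  rw [Nat.card_congr f.toEquiv, ← f.toEquiv.sum_comp (fun g => φ g * conj (ψ g))]
  rfl

theorem isClassFunction_comp (f : H →* G) {φ : G → ℂ} (hφ : IsClassFunction G φ) :
    IsClassFunction H (fun h => φ (f h)) := by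
  intro a b; simp only [map_mul, map_inv]; exact hφ _ _

theorem isClassFunction_restrict (K : Subgroup G) {φ : G → ℂ} (hφ : IsClassFunction G φ) :
    IsClassFunction K (fun k : K => φ k) := isClassFunction_comp K.subtype hφ

theorem isIrrCharacter_conj [Fintype G] {χ : G → ℂ} (hχ : IsIrrCharacter G χ) :
    IsIrrCharacter G (fun g => conj (χ g)) := by
  classical
  have hc := isCharacter_conj (isCharacter_of_isIrr hχ)
  obtain ⟨m, hm⟩ := exists_multiplicities hc
  have h1 : classInner (fun g => conj (χ g)) (fun g => conj (χ g)) = 1 := by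
    have : classInner (fun g => conj (χ g)) (fun g => conj (χ g)) = conj (classInner χ χ) := by
      simp [classInner, map_mul, map_sum]
    rw [this, classInner_irr_self hχ, map_one]
  rw [hm, classInner_sum_smul_sum_smul] at h1
  have h2 : ∑ ψ : IrrCharacter G, m ψ * m ψ = 1 := by exact_mod_cast (by simpa using h1 :
    ∑ ψ : IrrCharacter G, (m ψ : ℂ) * (m ψ : ℂ) = 1)
  obtain ⟨ψ, -, hψ⟩ := Finset.exists_ne_zero_of_sum_ne_zero (h2.trans_ne one_ne_zero)
  have h3 := Finset.add_sum_erase Finset.univ (fun ψ => m ψ * m ψ) (Finset.mem_univ ψ)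
  rw [h2] at h3
  have h4 : m ψ = 1 := by
    rcases Nat.eq_zero_or_pos (m ψ) with h | h
    · rw [h] at hψ; simp at hψ
    · have : m ψ * m ψ = 1 := by
        have := Nat.mul_pos h h; omega
      exact Nat.eq_one_of_mul_eq_one_left this
  have h5 : ∀ ξ, ξ ≠ ψ → m ξ = 0 := by
    intro ξ hξ
    have := Finset.single_le_sum (f := fun x => m x * m x) (fun _ _ => Nat.zero_le _)
      (Finset.mem_erase.mpr ⟨hξ, Finset.mem_univ ξ⟩)
    simp only [h4] at h3
    have : m ξ * m ξ = 0 := by omega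
    exact mul_self_eq_zero.mp this
  rw [hm, Finset.sum_eq_single ψ (fun ξ _ hξ => by simp [h5 ξ hξ]) (by simp), h4, Nat.cast_one,
    one_smul]
  exact ψ.2

section Virtual

theorem isGeneralized_of_isCharacter {χ : G → ℂ} (hχ : IsCharacter G χ) :
    IsGeneralizedCharacter G χ := ⟨χ, 0, hχ, isCharacter_zero, (sub_zero χ).symm⟩

theorem isGeneralized_zero : IsGeneralizedCharacter G (0 : G → ℂ) :=
  isGeneralized_of_isCharacter isCharacter_zero

theorem isGeneralized_of_isIrr {χ : G → ℂ} (hχ : IsIrrCharacter G χ) :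
    IsGeneralizedCharacter G χ := isGeneralized_of_isCharacter (isCharacter_of_isIrr hχ)

theorem isGeneralized_one : IsGeneralizedCharacter G (fun _ => (1 : ℂ)) :=
  isGeneralized_of_isCharacter isCharacter_one

theorem isGeneralized_add {φ ψ : G → ℂ} (hφ : IsGeneralizedCharacter G φ)
    (hψ : IsGeneralizedCharacter G ψ) : IsGeneralizedCharacter G (φ + ψ) := by
  obtain ⟨a, b, ha, hb, rfl⟩ := hφ
  obtain ⟨c, d, hc, hd, rfl⟩ := hψ
  exact ⟨a + c, b + d, isCharacter_add ha hc, isCharacter_add hb hd, by abel⟩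

theorem isGeneralized_neg {φ : G → ℂ} (hφ : IsGeneralizedCharacter G φ) :
    IsGeneralizedCharacter G (-φ) := by
  obtain ⟨a, b, ha, hb, rfl⟩ := hφ
  exact ⟨b, a, hb, ha, by abel⟩

theorem isGeneralized_sub {φ ψ : G → ℂ} (hφ : IsGeneralizedCharacter G φ)
    (hψ : IsGeneralizedCharacter G ψ) : IsGeneralizedCharacter G (φ - ψ) := by
  rw [sub_eq_add_neg]; exact isGeneralized_add hφ (isGeneralized_neg hψ)

theorem isGeneralized_sum {ι : Type*} (s : Finset ι) (f : ι → G → ℂ)
    (h : ∀ i ∈ s, IsGeneralizedCharacter G (f i)) : IsGeneralizedCharacter G (∑ i ∈ s, f i) :=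
  Finset.sum_induction f (IsGeneralizedCharacter G) (fun _ _ => isGeneralized_add)
    isGeneralized_zero h

theorem isGeneralized_intCast_smul {φ : G → ℂ} (hφ : IsGeneralizedCharacter G φ) (n : ℤ) :
    IsGeneralizedCharacter G ((n : ℂ) • φ) := by
  obtain ⟨a, b, ha, hb, rfl⟩ := hφ
  obtain ⟨k, rfl | rfl⟩ := Int.eq_nat_or_neg n
  · exact ⟨(k : ℂ) • a, (k : ℂ) • b, isCharacter_natCast_smul ha k, isCharacter_natCast_smul hb k,
      by rw [Int.cast_natCast, smul_sub]⟩
  · exact ⟨(k : ℂ) • b, (k : ℂ) • a, isCharacter_natCast_smul hb k, isCharacter_natCast_smul ha k,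
      by rw [Int.cast_neg, Int.cast_natCast, neg_smul, smul_sub]; abel⟩

theorem isGeneralized_mul {φ ψ : G → ℂ} (hφ : IsGeneralizedCharacter G φ)
    (hψ : IsGeneralizedCharacter G ψ) : IsGeneralizedCharacter G (φ * ψ) := by
  obtain ⟨a, b, ha, hb, rfl⟩ := hφ
  obtain ⟨c, d, hc, hd, rfl⟩ := hψ
  exact ⟨a * c + b * d, a * d + b * c, isCharacter_add (isCharacter_mul ha hc) (isCharacter_mul hb hd),
    isCharacter_add (isCharacter_mul ha hd) (isCharacter_mul hb hc), by ring⟩

theorem isGeneralized_comp (f : H →* G) {φ : G → ℂ} (hφ : IsGeneralizedCharacter G φ) :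
    IsGeneralizedCharacter H (fun h => φ (f h)) := by
  obtain ⟨a, b, ha, hb, rfl⟩ := hφ
  exact ⟨_, _, isCharacter_comp f ha, isCharacter_comp f hb, rfl⟩

theorem isGeneralized_restrict (K : Subgroup G) {φ : G → ℂ} (hφ : IsGeneralizedCharacter G φ) :
    IsGeneralizedCharacter K (fun k : K => φ k) := isGeneralized_comp K.subtype hφ

theorem isGeneralized_indFun [Fintype G] (K : Subgroup G) {φ : K → ℂ}
    (hφ : IsGeneralizedCharacter K φ) : IsGeneralizedCharacter G (indFun K φ) := by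
  obtain ⟨a, b, ha, hb, rfl⟩ := hφ
  exact ⟨_, _, isCharacter_indFun K ha, isCharacter_indFun K hb, indFun_sub K a b⟩

theorem isClassFunction_of_isGeneralized {φ : G → ℂ} (hφ : IsGeneralizedCharacter G φ) :
    IsClassFunction G φ := by
  obtain ⟨a, b, ha, hb, rfl⟩ := hφ
  intro g h
  simp only [Pi.sub_apply, isClassFunction_of_isCharacter ha g h,
    isClassFunction_of_isCharacter hb g h]

theorem isGeneralized_iff [Finite G] {φ : G → ℂ} :
    IsGeneralizedCharacter G φ ↔
      ∃ c : IrrCharacter G → ℤ, φ = ∑ ψ : IrrCharacter G, (c ψ : ℂ) • (ψ : G → ℂ) := by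
  constructor
  · rintro ⟨a, b, ha, hb, rfl⟩
    obtain ⟨m, rfl⟩ := exists_multiplicities ha
    obtain ⟨n, rfl⟩ := exists_multiplicities hb
    refine ⟨fun ψ => (m ψ : ℤ) - n ψ, ?_⟩
    rw [← Finset.sum_sub_distrib]
    exact Finset.sum_congr rfl fun ψ _ => by push_cast; rw [sub_smul]
  · rintro ⟨c, rfl⟩
    exact isGeneralized_sum _ _ fun ψ _ => isGeneralized_intCast_smul (isGeneralized_of_isIrr ψ.2) _

theorem exists_int_classInner [Fintype G] {φ ψ : G → ℂ} (hφ : IsGeneralizedCharacter G φ)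
    (hψ : IsGeneralizedCharacter G ψ) : ∃ n : ℤ, classInner φ ψ = n := by
  obtain ⟨a, b, ha, hb, rfl⟩ := hφ
  obtain ⟨c, d, hc, hd, rfl⟩ := hψ
  obtain ⟨p, hp⟩ := exists_nat_classInner ha hc
  obtain ⟨q, hq⟩ := exists_nat_classInner ha hd
  obtain ⟨r, hr⟩ := exists_nat_classInner hb hc
  obtain ⟨s, hs⟩ := exists_nat_classInner hb hd
  refine ⟨(p : ℤ) - q - (r - s), ?_⟩
  rw [classInner_sub_left, classInner_sub_right, classInner_sub_right, hp, hq, hr, hs]
  push_cast; ring

theorem isGeneralized_iff_classInner [Fintype G] {φ : G → ℂ} (hφ : IsClassFunction G φ) :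
    IsGeneralizedCharacter G φ ↔
      ∀ ψ : IrrCharacter G, ∃ n : ℤ, classInner φ (ψ : G → ℂ) = n := by
  refine ⟨fun h ψ => exists_int_classInner h (isGeneralized_of_isIrr ψ.2), fun h => ?_⟩
  choose n hn using h
  refine isGeneralized_iff.mpr ⟨n, ?_⟩
  conv_lhs => rw [classFunction_expansion hφ]
  exact Finset.sum_congr rfl fun ψ _ => by rw [hn]

theorem sum_sq_coeff [Fintype G] (c : IrrCharacter G → ℤ) :
    classInner (∑ ψ : IrrCharacter G, (c ψ : ℂ) • (ψ : G → ℂ))
      (∑ ψ : IrrCharacter G, (c ψ : ℂ) • (ψ : G → ℂ)) = ((∑ ψ : IrrCharacter G, c ψ ^ 2 : ℤ) : ℂ) := by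
  rw [classInner_sum_smul_sum_smul]
  push_cast
  exact Finset.sum_congr rfl fun ψ _ => by rw [map_intCast, sq]

/-- A virtual character of norm one is, up to sign, an irreducible character. -/
theorem exists_of_norm_one [Fintype G] {φ : G → ℂ} (hφ : IsGeneralizedCharacter G φ)
    (h : classInner φ φ = 1) : ∃ ε : ℂ, (ε = 1 ∨ ε = -1) ∧ ∃ ψ : IrrCharacter G, φ = ε • (ψ : G → ℂ) := by
  classical
  obtain ⟨c, rfl⟩ := isGeneralized_iff.mp hφ
  rw [sum_sq_coeff] at h
  have h2 : ∑ ψ : IrrCharacter G, c ψ ^ 2 = 1 := by exact_mod_cast h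
  obtain ⟨ψ, -, hψ⟩ := Finset.exists_ne_zero_of_sum_ne_zero (h2.trans_ne one_ne_zero)
  have h3 := Finset.add_sum_erase Finset.univ (fun ξ => c ξ ^ 2) (Finset.mem_univ ψ)
  rw [h2] at h3
  have hpos : 0 < c ψ ^ 2 := lt_of_le_of_ne (sq_nonneg _) (Ne.symm hψ)
  have hrest : (0 : ℤ) ≤ ∑ ξ ∈ Finset.univ.erase ψ, c ξ ^ 2 :=
    Finset.sum_nonneg fun _ _ => sq_nonneg _
  have h4 : c ψ ^ 2 = 1 := by linarith
  have h5 : ∀ ξ, ξ ≠ ψ → c ξ = 0 := by
    intro ξ hξ
    have h0 : ∑ x ∈ Finset.univ.erase ψ, c x ^ 2 = 0 := by linarith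
    exact pow_eq_zero_iff two_ne_zero |>.mp
      ((Finset.sum_eq_zero_iff_of_nonneg fun _ _ => sq_nonneg _).mp h0 ξ
        (Finset.mem_erase.mpr ⟨hξ, Finset.mem_univ ξ⟩))
  refine ⟨(c ψ : ℂ), ?_, ψ, ?_⟩
  · rcases sq_eq_one_iff.mp h4 with h | h <;> simp [h]
  · exact Finset.sum_eq_single ψ (fun ξ _ hξ => by simp [h5 ξ hξ]) (by simp)

theorem irr_eq_of_smul_eq [Fintype G] {φ ψ : G → ℂ} (hφ : IsIrrCharacter G φ)
    (hψ : IsIrrCharacter G ψ) {a : ℂ} (h : φ = a • ψ) : φ = ψ ∧ a = 1 := by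
  by_cases e : φ = ψ
  · refine ⟨e, ?_⟩
    have h1 := classInner_irr_self hφ
    nth_rw 1 [h] at h1
    rwa [classInner_smul_left, ← e, classInner_irr_self hφ, mul_one] at h1
  · exfalso
    have h1 := classInner_irr_self hφ
    nth_rw 1 [h] at h1
    rw [classInner_smul_left, classInner_irr_ne hψ hφ (Ne.symm e), mul_zero] at h1
    exact zero_ne_one h1

/-- A virtual character of norm two vanishing at `1` is a difference of two irreducibles. -/
theorem exists_of_norm_two [Fintype G] {φ : G → ℂ} (hφ : IsGeneralizedCharacter G φ)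
    (h : classInner φ φ = 2) (h1 : φ 1 = 0) :
    ∃ μ ν : G → ℂ, IsIrrCharacter G μ ∧ IsIrrCharacter G ν ∧ μ ≠ ν ∧ φ = μ - ν := by
  classical
  obtain ⟨c, rfl⟩ := isGeneralized_iff.mp hφ
  rw [sum_sq_coeff] at h
  have h2 : ∑ ψ : IrrCharacter G, c ψ ^ 2 = 2 := by exact_mod_cast h
  choose d hd0 hd using fun ψ : IrrCharacter G => exists_nat_degree_irr ψ.2
  have h1' : ∑ ψ : IrrCharacter G, c ψ * (d ψ : ℤ) = 0 := by
    have : ((∑ ψ : IrrCharacter G, c ψ * (d ψ : ℤ) : ℤ) : ℂ) = 0 := by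
      rw [← h1, Finset.sum_apply]
      push_cast
      exact Finset.sum_congr rfl fun ψ _ => by simp [hd]
    exact_mod_cast this
  have hle : ∀ ψ, c ψ = 0 ∨ c ψ = 1 ∨ c ψ = -1 := by
    intro ψ
    have := Finset.single_le_sum (f := fun x => c x ^ 2) (fun _ _ => sq_nonneg _)
      (Finset.mem_univ ψ)
    rw [h2] at this
    have : -1 ≤ c ψ ∧ c ψ ≤ 1 := ⟨by nlinarith, by nlinarith⟩
    omega
  have hpos : ∃ ψ, c ψ = 1 := by
    by_contra hne
    have hz : ∀ ψ ∈ (Finset.univ : Finset (IrrCharacter G)), c ψ * (d ψ : ℤ) ≤ 0 := fun ψ _ =>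
      mul_nonpos_of_nonpos_of_nonneg (by rcases hle ψ with e | e | e <;>
        first | omega | exact absurd ⟨ψ, e⟩ hne) (by positivity)
    have hall := (Finset.sum_eq_zero_iff_of_nonpos hz).mp h1'
    rw [Finset.sum_eq_zero fun ψ hψ => ?_] at h2
    · norm_num at h2
    · rcases mul_eq_zero.mp (hall ψ hψ) with e | e
      · rw [e]; norm_num
      · have := hd0 ψ; omega
  obtain ⟨μ, hμ⟩ := hpos
  have hneg : ∃ ψ, c ψ = -1 := by
    by_contra hne
    have hz : ∀ ψ ∈ (Finset.univ : Finset (IrrCharacter G)), 0 ≤ c ψ * (d ψ : ℤ) := fun ψ _ =>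
      mul_nonneg (by rcases hle ψ with e | e | e <;>
        first | omega | exact absurd ⟨ψ, e⟩ hne) (by positivity)
    have := (Finset.sum_eq_zero_iff_of_nonneg hz).mp h1' μ (Finset.mem_univ μ)
    rw [hμ, one_mul] at this
    have := hd0 μ
    omega
  obtain ⟨ν, hν⟩ := hneg
  have hne : μ ≠ ν := fun e => by rw [e, hν] at hμ; norm_num at hμ
  refine ⟨μ, ν, μ.2, ν.2, fun e => hne (Subtype.ext e), ?_⟩
  have hsub : ∀ ξ, ξ ≠ μ → ξ ≠ ν → c ξ = 0 := by
    intro ξ h1 h2'
    have hs := Finset.sum_le_univ_sum_of_nonneg (s := {μ, ν, ξ}) (fun x => sq_nonneg (c x))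
    rw [h2, Finset.sum_insert (by simp [hne, Ne.symm h1]), Finset.sum_insert (by simp [Ne.symm h2']),
      Finset.sum_singleton, hμ, hν] at hs
    nlinarith
  rw [← Finset.sum_subset (Finset.subset_univ {μ, ν})
    (fun ξ _ hξ => by
      rw [Finset.mem_insert, Finset.mem_singleton, not_or] at hξ
      simp [hsub ξ hξ.1 hξ.2]), Finset.sum_pair hne, hμ, hν]
  simp [sub_eq_add_neg]

end Virtual

/-- Virtual characters `τ i` with `⟨τ i, τ j⟩ = 1 + δᵢⱼ`, vanishing at `1`, are differences of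
irreducible characters with one common term. -/
theorem exceptional_family [Fintype G] {ι : Type*} (i₀ : ι) (τ : ι → G → ℂ)
    (hgen : ∀ i, i ≠ i₀ → IsGeneralizedCharacter G (τ i)) (hone : ∀ i, i ≠ i₀ → τ i 1 = 0)
    (h0 : τ i₀ = 0) (hgram : ∀ i j, i ≠ i₀ → j ≠ i₀ →
      (i = j → classInner (τ i) (τ j) = 2) ∧ (i ≠ j → classInner (τ i) (τ j) = 1)) :
    ∃ ε : ℂ, (ε = 1 ∨ ε = -1) ∧ ∃ μ : ι → G → ℂ, (∀ i, IsIrrCharacter G (μ i)) ∧
      Function.Injective μ ∧ ∀ i, τ i = ε • (μ i - μ i₀) := by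
  classical
  choose p n hp hn hpn hτ using fun (i : {i : ι // i ≠ i₀}) =>
    exists_of_norm_two (hgen i i.2) ((hgram i i i.2 i.2).1 rfl) (hone i i.2)
  have key : ∀ i j, i ≠ j → (p i = p j ∧ n i ≠ n j) ∨ (n i = n j ∧ p i ≠ p j) := by
    intro i j hij
    have h := (hgram i j i.2 j.2).2 (fun e => hij (Subtype.ext e))
    rw [hτ i, hτ j, classInner_sub_left, classInner_sub_right, classInner_sub_right,
      classInner_irr (hp i) (hp j), classInner_irr (hp i) (hn j), classInner_irr (hn i) (hp j),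
      classInner_irr (hn i) (hn j)] at h
    by_cases a : p i = p j <;> by_cases b : n i = n j
    · exfalso
      have c1 : p i ≠ n j := fun e => hpn i (e.trans b.symm)
      have c2 : n i ≠ p j := fun e => hpn i (a.trans e.symm)
      rw [if_pos a, if_pos b, if_neg c1, if_neg c2] at h
      norm_num at h
    · exact Or.inl ⟨a, b⟩
    · exact Or.inr ⟨b, a⟩
    · exfalso
      rw [if_neg a, if_neg b] at h
      split_ifs at h <;> norm_num at h
  have dich : (∀ i j, n i = n j) ∨ (∀ i j, p i = p j) := by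
    by_cases hh : ∀ i j, n i = n j
    · exact Or.inl hh
    · right
      obtain ⟨a, b, hab⟩ : ∃ a b, n a ≠ n b := by simpa using hh
      have hne : a ≠ b := fun e => hab (e ▸ rfl)
      have pab : p a = p b := ((key a b hne).resolve_right fun h => hab h.1).1
      have pk : ∀ k, p k = p a := by
        intro k
        by_cases ka : k = a
        · rw [ka]
        by_cases kb : k = b
        · rw [kb, pab]
        rcases key k a ka with h | h
        · exact h.1
        rcases key k b kb with h' | h'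
        · exact h'.1.trans pab.symm
        · exact absurd (h.1.symm.trans h'.1) hab
      exact fun i j => (pk i).trans (pk j).symm
  have hinj : ∀ i j, τ (i : {i : ι // i ≠ i₀}).1 = τ (j : {i : ι // i ≠ i₀}).1 → i = j := by
    intro i j e
    by_contra hij
    have h2 := (hgram i i i.2 i.2).1 rfl
    nth_rw 2 [e] at h2
    rw [(hgram i j i.2 j.2).2 (fun e => hij (Subtype.ext e))] at h2
    norm_num at h2
  by_cases hI : Nonempty {i : ι // i ≠ i₀}
  swap
  · refine ⟨1, Or.inl rfl, fun _ => fun _ => 1, fun _ => isIrrCharacter_one, ?_, ?_⟩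
    · intro i j _
      have hi : i = i₀ := by_contra fun h => hI ⟨⟨i, h⟩⟩
      have hj : j = i₀ := by_contra fun h => hI ⟨⟨j, h⟩⟩
      rw [hi, hj]
    · intro i
      have hi : i = i₀ := by_contra fun h => hI ⟨⟨i, h⟩⟩
      rw [hi, h0]; simp
  obtain ⟨k⟩ := hI
  rcases dich with hd | hd
  · refine ⟨1, Or.inl rfl, fun i => if h : i = i₀ then n k else p ⟨i, h⟩, ?_, ?_, ?_⟩
    · intro i; dsimp only; split_ifs with h
      exacts [hn k, hp _]
    · intro i j e
      simp only at e
      split_ifs at e with a b b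
      · rw [a, b]
      · exact absurd (e.symm.trans (hd k _)) (hpn _)
      · exact absurd (e.trans (hd k _)) (hpn _)
      · exact congrArg Subtype.val (hinj ⟨i, a⟩ ⟨j, b⟩ (by rw [hτ, hτ, e, hd ⟨i, a⟩ ⟨j, b⟩]))
    · intro i
      by_cases h : i = i₀
      · subst h; rw [h0]; simp
      · simp only [dif_pos, dif_neg h, one_smul]
        rw [hd k ⟨i, h⟩]; exact hτ ⟨i, h⟩
  · refine ⟨-1, Or.inr rfl, fun i => if h : i = i₀ then p k else n ⟨i, h⟩, ?_, ?_, ?_⟩
    · intro i; dsimp only; split_ifs with h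
      exacts [hp k, hn _]
    · intro i j e
      simp only at e
      split_ifs at e with a b b
      · rw [a, b]
      · exact absurd ((hd _ k).trans e) (hpn _)
      · exact absurd ((hd _ k).trans e.symm) (hpn _)
      · exact congrArg Subtype.val (hinj ⟨i, a⟩ ⟨j, b⟩ (by rw [hτ, hτ, e, hd ⟨i, a⟩ ⟨j, b⟩]))
    · intro i
      by_cases h : i = i₀
      · subst h; rw [h0]; simp
      · simp only [dif_pos, dif_neg h, neg_smul, one_smul, neg_sub]
        rw [hd k ⟨i, h⟩]; exact hτ ⟨i, h⟩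

end CfsgLib.Char
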