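import Cfsg.Agent.Lib.Char.Galois
import Cfsg.Agent.Lib.Char.Gallagher
import Cfsg.Agent.Lib.Char.Virtual

/-!
# Arithmetic-geometric mean bounds for non-negative characters
-/

set_option autoImplicit false
set_option linter.unusedSectionVars false

namespace CfsgLib.Char

open Cfsg
open scoped ComplexConjugate CfsgLib.Char

variable {G : Type*} [Group G]

theorem exists_pow_eq_of_zpowers_eq [Finite G] {a b : G}
    (h : Subgroup.zpowers a = Subgroup.zpowers b) : ∃ k : ℕ, k.Coprime (Nat.card G) ∧ b = a ^ k := by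
  classical
  have hb : b ∈ Subgroup.zpowers a := h ▸ Subgroup.mem_zpowers b
  obtain ⟨j, hj⟩ := mem_zpowers_iff_mem_range_orderOf.trans Finset.mem_image |>.mp hb
  have hord : orderOf a = orderOf b := by rw [← Nat.card_zpowers, h, Nat.card_zpowers]
  have hcop : j.Coprime (orderOf a) := by
    rw [← hj.2, orderOf_pow] at hord
    have hd := Nat.gcd_dvd_left (orderOf a) j
    rw [Nat.coprime_comm, Nat.coprime_iff_gcd_eq_one]
    rcases Nat.eq_or_lt_of_le (Nat.one_le_iff_ne_zero.mpr fun e =>
      (orderOf_pos a).ne' (Nat.gcd_eq_zero_iff.mp e).1) with h1 | h1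
    · exact h1.symm
    · exact absurd hord.symm (Nat.div_lt_self (orderOf_pos a) h1).ne
  obtain ⟨k, hk, hka⟩ : ∃ k : ℕ, k.Coprime (Nat.card G) ∧ k ≡ j [MOD orderOf a] := by
    have hu := ZMod.unitsMap_surjective (orderOf_dvd_natCard a) (haveI : NeZero (Nat.card G) :=
      ⟨Nat.card_pos.ne'⟩; ZMod.unitOfCoprime j hcop)
    obtain ⟨u, hu⟩ := hu
    haveI : NeZero (Nat.card G) := ⟨Nat.card_pos.ne'⟩
    haveI : NeZero (orderOf a) := ⟨(orderOf_pos a).ne'⟩
    refine ⟨(u : ZMod (Nat.card G)).val, ZMod.val_coe_unit_coprime u, ?_⟩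
    rw [← ZMod.natCast_eq_natCast_iff]
    have := congrArg (Units.val) hu
    rw [ZMod.unitsMap_val, ZMod.coe_unitOfCoprime] at this
    rw [← this, ZMod.natCast_val]
  exact ⟨k, hk, by rw [← hj.2]; exact (pow_eq_pow_iff_modEq.mpr hka).symm⟩

theorem zpowers_pow_of_coprime [Finite G] (a : G) {k : ℕ} (hk : k.Coprime (Nat.card G)) :
    Subgroup.zpowers (a ^ k) = Subgroup.zpowers a := by
  refine Subgroup.eq_of_le_of_card_ge (Subgroup.zpowers_le.mpr (Subgroup.npow_mem_zpowers a k)) ?_
  rw [Nat.card_zpowers, Nat.card_zpowers,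
    (Nat.Coprime.coprime_dvd_right (orderOf_dvd_natCard a) hk).symm.orderOf_pow]

theorem eq_zero_of_zpowers_eq [Finite G] {f : G → ℂ} (hf : IsCharacter G f) {a b : G}
    (h : Subgroup.zpowers a = Subgroup.zpowers b) (h0 : f a = 0) : f b = 0 := by
  obtain ⟨k, hk, rfl⟩ := exists_pow_eq_of_zpowers_eq h
  obtain ⟨ψ, hψ⟩ := exists_galois_of_coprime (G := G) hk
  have e : value hf a = 0 := Subtype.ext (by rw [coe_value, h0]; rfl)
  rw [← hψ hf a, e, map_zero]

/-- A character with non-negative real values is at least one on average over the places where it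
does not vanish, on every set closed under taking generators. -/
theorem card_support_le_sum [Fintype G] {f : G → ℂ} (hf : IsCharacter G f)
    (hpos : ∀ g, ∃ r : ℝ, 0 ≤ r ∧ f g = r) (T : Finset G)
    (hT : ∀ a b, Subgroup.zpowers a = Subgroup.zpowers b → a ∈ T → b ∈ T) [DecidableEq ℂ] :
    ((T.filter fun a => f a ≠ 0).card : ℝ) ≤ ∑ a ∈ T, (f a).re := by
  classical
  choose r hr0 hr using hpos
  have hre : ∀ a, (f a).re = r a := fun a => by rw [hr, Complex.ofReal_re]
  set S := T.filter fun a => f a ≠ 0 with hS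
  have hSc : ∀ a b, Subgroup.zpowers a = Subgroup.zpowers b → a ∈ S → b ∈ S := by
    intro a b h ha
    rw [hS, Finset.mem_filter] at ha ⊢
    exact ⟨hT a b h ha.1, fun h0 => ha.2 (eq_zero_of_zpowers_eq hf h.symm h0)⟩
  have hSsum : ∑ a ∈ S, (f a).re = ∑ a ∈ T, (f a).re := by
    rw [hS, Finset.sum_filter]
    refine Finset.sum_congr rfl fun a _ => ?_
    by_cases h : f a = 0
    · rw [if_neg (not_not.mpr h), h, Complex.zero_re]
    · rw [if_pos h]
  rw [← hSsum]
  let gens : Subgroup G → Finset G := fun C => S.filter fun a => Subgroup.zpowers a = C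
  have hC : ∀ C : Subgroup G, ((gens C).card : ℝ) ≤ ∑ a ∈ gens C, (f a).re := by
    intro C
    let z : QBar := ∏ a ∈ gens C, value hf a
    have hzc : (z : ℂ) = ((∏ a ∈ gens C, r a : ℝ) : ℂ) := by
      simp only [z]
      push_cast
      exact Finset.prod_congr rfl fun a _ => hr a
    have hfix : ∀ ψ : QBar →ₐ[ℚ] ℂ, ψ z = (z : ℂ) := by
      intro ψ
      obtain ⟨k, hk, hψ⟩ := exists_galois_exponent G ψ
      have hbij : Function.Injective fun a : G => a ^ k := (powCoprime hk.symm).injective
      simp only [z, map_prod, hψ hf]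
      push_cast
      have himg : (gens C).image (fun a => a ^ k) = gens C := by
        refine Finset.eq_of_subset_of_card_le (Finset.image_subset_iff.mpr fun a ha => ?_)
          (by rw [Finset.card_image_of_injective _ hbij])
        simp only [gens, Finset.mem_filter] at ha ⊢
        exact ⟨hSc _ _ (zpowers_pow_of_coprime a hk).symm ha.1, by rw [zpowers_pow_of_coprime a hk, ha.2]⟩
      conv_rhs => rw [← himg, Finset.prod_image fun a _ b _ h => hbij h]
      rfl
    obtain ⟨q, hq⟩ := exists_rat_of_fixed z hfix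
    have hqint : IsIntegral ℤ (q : ℂ) := by
      rw [← hq]; simp only [z]; push_cast
      exact IsIntegral.prod _ fun a _ => isIntegral_value hf a
    obtain ⟨n, hn⟩ := exists_int_of_isIntegral_rat hqint
    have hpn : (∏ a ∈ gens C, r a) = (n : ℝ) := by
      rw [hzc, hn] at hq; push_cast at hq; exact_mod_cast hq
    have hrp : ∀ a ∈ gens C, 0 < r a := fun a ha => by
      refine lt_of_le_of_ne (hr0 a) fun e => ?_
      have := (Finset.mem_filter.mp (Finset.mem_filter.mp ha).1).2
      rw [hr, ← e] at this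
      exact this Complex.ofReal_zero
    have hpos : (0 : ℝ) < ∏ a ∈ gens C, r a := Finset.prod_pos hrp
    have h1 : (1 : ℝ) ≤ ∏ a ∈ gens C, r a := by
      rw [hpn] at hpos ⊢
      exact_mod_cast (Int.cast_pos.mp hpos : 0 < n)
    have h2 : ∑ a ∈ gens C, Real.log (r a) ≤ ∑ a ∈ gens C, (r a - 1) :=
      Finset.sum_le_sum fun a ha => Real.log_le_sub_one_of_pos (hrp a ha)
    rw [← Real.log_prod (fun a ha => (hrp a ha).ne'), Finset.sum_sub_distrib] at h2
    have h3 := Real.log_nonneg h1
    simp only [Finset.sum_const, nsmul_eq_mul, mul_one] at h2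
    rw [Finset.sum_congr rfl fun a _ => hre a]
    linarith
  have key := Finset.sum_le_sum (s := (Finset.univ : Finset (Subgroup G))) fun C _ => hC C
  simp only [gens] at key
  rwa [Finset.sum_fiberwise S (fun a => Subgroup.zpowers a) (fun a => (f a).re), ← Nat.cast_sum,
    ← Finset.card_eq_sum_card_fiberwise (f := fun a => Subgroup.zpowers a) (s := S)
      (t := Finset.univ) fun _ _ => Finset.mem_univ _] at key

/-- The squared absolute value of a character is a character with non-negative values. -/
theorem normSq_character [Finite G] {χ : G → ℂ} (hχ : IsCharacter G χ) :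
    IsCharacter G (fun g => (Complex.normSq (χ g) : ℂ)) := by
  rw [show (fun g => (Complex.normSq (χ g) : ℂ)) = χ * fun g => conj (χ g) from
    funext fun g => (Complex.mul_conj (χ g)).symm]
  exact isCharacter_mul hχ (isCharacter_conj hχ)

/-- Bound on the support of a character inside a set closed under taking generators. -/
theorem card_support_le_sum_normSq [Fintype G] {χ : G → ℂ} (hχ : IsCharacter G χ) (T : Finset G)
    (hT : ∀ a b, Subgroup.zpowers a = Subgroup.zpowers b → a ∈ T → b ∈ T) [DecidableEq ℂ] :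
    ((T.filter fun a => χ a ≠ 0).card : ℝ) ≤ ∑ a ∈ T, Complex.normSq (χ a) := by
  have h := card_support_le_sum (normSq_character hχ)
    (fun g => ⟨_, Complex.normSq_nonneg (χ g), rfl⟩) T hT
  simpa using h

/-- The average of a character over the cosets of a normal subgroup is a character. -/
theorem isCharacter_avgN [Fintype G] (N : Subgroup G) [N.Normal] [Fintype N] {f : G → ℂ}
    (hf : IsCharacter G f) : IsCharacter G (avgN N f) := by
  classical
  obtain ⟨m, rfl⟩ := exists_multiplicities hf
  have h : avgN N (∑ ψ : IrrCharacter G, (m ψ : ℂ) • (ψ : G → ℂ)) =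
      ∑ ψ : IrrCharacter G, (m ψ : ℂ) • avgN N (ψ : G → ℂ) := by
    funext g
    simp only [avgN, Finset.sum_apply, Pi.smul_apply, smul_eq_mul]
    rw [Finset.sum_comm, Finset.mul_sum]
    refine Finset.sum_congr rfl fun ψ _ => ?_
    rw [← Finset.mul_sum]; ring
  rw [h]
  refine isCharacter_sum _ _ fun ψ _ => isCharacter_natCast_smul ?_ _
  rcases avgN_dichotomy N ψ.2 with ⟨e, -⟩ | ⟨e, -⟩
  · rw [e]; exact isCharacter_of_isIrr ψ.2
  · rw [e]; exact isCharacter_zero

/-- A central element acts on an irreducible character by a scalar. -/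
theorem central_mul [Finite G] {χ : G → ℂ} (hχ : IsIrrCharacter G χ) {z : G}
    (hz : z ∈ Subgroup.center G) (g : G) : χ (g * z) * χ 1 = χ g * χ z := by
  classical
  have : Fintype G := Fintype.ofFinite G
  obtain ⟨n, ρ, hρ, rfl⟩ := hχ
  haveI := hρ
  have hcs : classSum ρ z = ρ z := by
    have e : (Finset.univ.filter fun x => IsConj x z) = {z} := by
      ext x
      simp only [Finset.mem_filter, Finset.mem_univ, true_and, Finset.mem_singleton]
      refine ⟨fun hx => ?_, fun hx => hx ▸ IsConj.refl z⟩
      obtain ⟨c, hc⟩ := isConj_iff.mp hx.symm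
      rw [← hc, Subgroup.mem_center_iff.mp hz c, mul_inv_cancel_right]
    rw [classSum]
    convert Finset.sum_singleton (fun x => ρ x) z
  have h := classSum_eq_omega ρ z
  rw [hcs] at h
  have hval : ∀ y : G, ρ.character (y * z) = omega ρ.character z * ρ.character y := fun y => by
    show LinearMap.trace ℂ _ (ρ (y * z)) = _
    rw [map_mul, h, mul_smul_comm, map_smul, smul_eq_mul]
    congr 1
  have h1 := hval 1
  rw [one_mul] at h1
  rw [hval g, h1]; ring

end CfsgLib.Char
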