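import Cfsg.Prelude.Def_OddOrderChar
import Cfsg.Agent.Lib.Char.Central
import Cfsg.Agent.Lib.Char.Virtual

/-!
# Coherence
-/

set_option autoImplicit false

namespace CfsgLib.Char.Coherence

open Cfsg
open scoped ComplexConjugate CfsgLib.Char

variable {L : Type*} [Group L] [Fintype L] {G : Type*} [Group G] [Fintype G]

/-- The squared norm. -/
noncomputable def nrm (φ : G → ℂ) : ℝ := (classInner φ φ).re

omit [Fintype G] in
theorem eq_zero_of_apply_one [Finite G] {χ : G → ℂ} (hχ : IsCharacter G χ) (h : χ 1 = 0) : χ = 0 := by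
  obtain ⟨m, hm⟩ := exists_multiplicities hχ
  choose d hd0 hd using fun k : IrrCharacter G => exists_nat_degree_irr k.2
  have h' : ((∑ k, m k * d k : ℕ) : ℂ) = 0 := by
    rw [← h, hm]; simp [Finset.sum_apply, hd]
  rw [Nat.cast_eq_zero, Finset.sum_eq_zero_iff] at h'
  rw [hm]
  refine Finset.sum_eq_zero fun k hk => ?_
  rcases mul_eq_zero.mp (h' k hk) with h0 | h0
  · rw [h0, Nat.cast_zero, zero_smul]
  · exact absurd h0 (by have := hd0 k; omega)

theorem classInner_conjFun (φ ψ : G → ℂ) :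
    classInner (conjFun φ) (conjFun ψ) = conj (classInner φ ψ) := by
  simp [classInner, conjFun]

omit [Fintype G] in
theorem conjFun_conjFun {X : Type*} (φ : X → ℂ) : conjFun (conjFun φ) = φ :=
  funext fun _ => Complex.conj_conj _

omit [Fintype G] in
theorem conjFun_one [Finite G] {χ : G → ℂ} (hχ : IsCharacter G χ) : conjFun χ 1 = χ 1 := by
  obtain ⟨d, hd⟩ := exists_nat_degree hχ
  simp [conjFun, hd]

section Span

variable {X : Type*}

omit [Group L] [Fintype L] [Group G] [Fintype G] in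
theorem subset_zspan {S : Set (X → ℂ)} {φ : X → ℂ} (h : φ ∈ S) : φ ∈ zspan S :=
  Submodule.subset_span h

theorem zspan_mono {S T : Set (X → ℂ)} (h : S ⊆ T) {φ : X → ℂ} (hφ : φ ∈ zspan S) : φ ∈ zspan T :=
  Submodule.span_mono h hφ

theorem zspan_add {S : Set (X → ℂ)} {φ ψ : X → ℂ} (hφ : φ ∈ zspan S) (hψ : ψ ∈ zspan S) :
    φ + ψ ∈ zspan S := Submodule.add_mem _ hφ hψ

theorem zspan_sub {S : Set (X → ℂ)} {φ ψ : X → ℂ} (hφ : φ ∈ zspan S) (hψ : ψ ∈ zspan S) :
    φ - ψ ∈ zspan S := Submodule.sub_mem _ hφ hψ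

theorem zspan_zsmul {S : Set (X → ℂ)} (n : ℤ) {φ : X → ℂ} (hφ : φ ∈ zspan S) :
    n • φ ∈ zspan S := Submodule.smul_mem _ n hφ

theorem zspan_zero {S : Set (X → ℂ)} : (0 : X → ℂ) ∈ zspan S := Submodule.zero_mem _

end Span

theorem mem_zspanOn_iff {S : Set (L → ℂ)} {α : L → ℂ} :
    α ∈ zspanOn S {1}ᶜ ↔ α ∈ zspan S ∧ α 1 = 0 := by
  simp [zspanOn]

theorem zspanOn_add {S : Set (L → ℂ)} {α β : L → ℂ} (hα : α ∈ zspanOn S {1}ᶜ)
    (hβ : β ∈ zspanOn S {1}ᶜ) : α + β ∈ zspanOn S {1}ᶜ := by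
  rw [mem_zspanOn_iff] at *
  exact ⟨zspan_add hα.1 hβ.1, by simp [hα.2, hβ.2]⟩

theorem zspanOn_zsmul {S : Set (L → ℂ)} (n : ℤ) {α : L → ℂ} (hα : α ∈ zspanOn S {1}ᶜ) :
    n • α ∈ zspanOn S {1}ᶜ := by
  rw [mem_zspanOn_iff] at *
  exact ⟨zspan_zsmul n hα.1, by simp [hα.2]⟩

theorem zspanOn_mono {S T : Set (L → ℂ)} (h : S ⊆ T) {α : L → ℂ} (hα : α ∈ zspanOn S {1}ᶜ) :
    α ∈ zspanOn T {1}ᶜ := by
  rw [mem_zspanOn_iff] at *
  exact ⟨zspan_mono h hα.1, hα.2⟩

theorem sub_mem_zspanOn {S : Set (L → ℂ)} {φ ψ : L → ℂ} (hφ : φ ∈ S) (hψ : ψ ∈ S) (h : φ 1 = ψ 1) :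
    φ - ψ ∈ zspanOn S {1}ᶜ :=
  mem_zspanOn_iff.mpr ⟨zspan_sub (subset_zspan hφ) (subset_zspan hψ), by simp [h]⟩

theorem map_sub_of_isometry {E : Set (L → ℂ)} {τ : (L → ℂ) → (G → ℂ)} (hτ : IsLinearIsometryOn E τ)
    {α β : L → ℂ} (hα : α ∈ E) (hβ : β ∈ E) (hn : (-1 : ℤ) • β ∈ E) :
    τ (α - β) = τ α - τ β := by
  have h := hτ.1 α hα _ hn
  rw [hτ.2.1 β hβ (-1), neg_one_smul, neg_one_smul, ← sub_eq_add_neg, ← sub_eq_add_neg] at h
  exact h

theorem finite_of_orthogonal {S : Set (L → ℂ)} (horth : ∀ φ ∈ S, ∀ ψ ∈ S, φ ≠ ψ → classInner φ ψ = 0)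
    (hne : ∀ φ ∈ S, φ ≠ 0) : S.Finite := by
  classical
  have hli : LinearIndependent ℂ (fun φ : S => (φ : L → ℂ)) := by
    rw [linearIndependent_iff']
    intro s c hc φ hφ
    have h := congrArg (fun f => classInner f (φ : L → ℂ)) hc
    simp only [classInner_sum_left, classInner_smul_left, classInner_zero_left] at h
    rw [Finset.sum_eq_single φ (fun ψ _ hψ => by
        rw [horth _ ψ.2 _ φ.2 fun e => hψ (Subtype.ext e), mul_zero])
      (fun h' => absurd hφ h'), mul_eq_zero] at h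
    exact h.resolve_right fun h0 => hne _ φ.2 (eq_zero_of_classInner_self h0)
  haveI := hli.finite
  exact Set.toFinite S

/-- A linear map with prescribed values on an orthogonal set. -/
theorem exists_isometry {S : Set (L → ℂ)}
    (horth : ∀ φ ∈ S, ∀ ψ ∈ S, φ ≠ ψ → classInner φ ψ = 0) (hne : ∀ φ ∈ S, φ ≠ 0)
    (v : (L → ℂ) → (G → ℂ)) (hgen : ∀ φ ∈ S, IsGeneralizedCharacter G (v φ))
    (hinner : ∀ φ ∈ S, ∀ ψ ∈ S, classInner (v φ) (v ψ) = classInner φ ψ) :
    ∃ f : (L → ℂ) →ₗ[ℂ] (G → ℂ), (∀ φ ∈ S, f φ = v φ) ∧ IsLinearIsometryOn (zspan S) f := by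
  classical
  obtain ⟨T, rfl⟩ := (finite_of_orthogonal horth hne).exists_finset_coe
  let f : (L → ℂ) →ₗ[ℂ] (G → ℂ) :=
    { toFun := fun α => ∑ φ ∈ T, (classInner α φ / classInner φ φ) • v φ
      map_add' := fun α β => by
        simp only [classInner_add_left, add_div, add_smul, Finset.sum_add_distrib]
      map_smul' := fun a α => by
        simp only [classInner_smul_left, RingHom.id_apply, Finset.smul_sum, smul_smul, mul_div_assoc] }
  have hf : ∀ φ ∈ T, f φ = v φ := by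
    intro φ hφ
    show ∑ ψ ∈ T, _ = _
    rw [Finset.sum_eq_single φ (fun ψ hψ h => by rw [horth φ hφ ψ hψ h.symm, zero_div, zero_smul])
      (fun h => absurd hφ h), div_self (fun h => hne φ hφ (eq_zero_of_classInner_self h)), one_smul]
  refine ⟨f, hf, fun α _ β _ => map_add f α β, fun α _ n => map_zsmul f n α, fun α hα β hβ => ?_,
    fun α hα => ?_⟩
  · have hfix : ∀ φ ∈ (T : Set (L → ℂ)), ∀ β ∈ zspan (T : Set (L → ℂ)),
        classInner (f φ) (f β) = classInner φ β := by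
      intro φ hφ β hβ
      induction hβ using Submodule.span_induction with
      | mem ψ hψ => rw [hf φ hφ, hf ψ hψ, hinner φ hφ ψ hψ]
      | zero => simp [classInner_zero_right]
      | add a b _ _ ha hb => rw [map_add, classInner_add_right, classInner_add_right, ha, hb]
      | smul n a _ ha =>
        rw [map_zsmul, ← Int.cast_smul_eq_zsmul ℂ, ← Int.cast_smul_eq_zsmul ℂ n a,
          classInner_smul_right, classInner_smul_right, ha]
    induction hα using Submodule.span_induction with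
    | mem φ hφ => exact hfix φ hφ β hβ
    | zero => simp [classInner_zero_left]
    | add a b _ _ ha hb => rw [map_add, classInner_add_left, classInner_add_left, ha, hb]
    | smul n a _ ha =>
      rw [map_zsmul, ← Int.cast_smul_eq_zsmul ℂ, ← Int.cast_smul_eq_zsmul ℂ n a,
        classInner_smul_left, classInner_smul_left, ha]
  · induction hα using Submodule.span_induction with
    | mem φ hφ => rw [hf φ hφ]; exact hgen φ hφ
    | zero => rw [map_zero]; exact isGeneralized_zero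
    | add a b _ _ ha hb => rw [map_add]; exact isGeneralized_add ha hb
    | smul n a _ ha =>
      rw [map_zsmul, ← Int.cast_smul_eq_zsmul ℂ]; exact isGeneralized_intCast_smul ha n

theorem map_eq_of_span {S : Set (L → ℂ)} {σ : (L → ℂ) → (G → ℂ)}
    (hσ : IsLinearIsometryOn (zspan S) σ) (f : (L → ℂ) →ₗ[ℂ] (G → ℂ))
    (h : ∀ φ ∈ S, f φ = σ φ) : ∀ α ∈ zspan S, f α = σ α := by
  intro α hα
  induction hα using Submodule.span_induction with
  | mem φ hφ => exact h φ hφ
  | zero =>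
    have h0 := hσ.2.1 _ (zspan_zero (S := S)) 0
    simp only [zero_smul] at h0
    rw [map_zero, h0]
  | add a b ha' hb' ha hb => rw [map_add, ha, hb, hσ.1 a ha' b hb']
  | smul n a ha' ha => rw [map_zsmul, ha, hσ.2.1 a ha' n]

/-! ### Projections to orthonormal sets -/

/-- The projection to the span of a finite orthonormal set. -/
noncomputable def proj (R : Finset (G → ℂ)) (A : G → ℂ) : G → ℂ := ∑ α ∈ R, classInner A α • α

/-- The orthonormality condition. -/
def Orthonormal (R : Finset (G → ℂ)) : Prop :=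
  ∀ α ∈ R, ∀ β ∈ R, (α = β → classInner α β = 1) ∧ (α ≠ β → classInner α β = 0)

theorem proj_coeff {R : Finset (G → ℂ)} (hR : Orthonormal R) (A : G → ℂ) {α : G → ℂ} (hα : α ∈ R) :
    classInner (proj R A) α = classInner A α := by
  rw [proj, classInner_sum_left, Finset.sum_eq_single α
    (fun β hβ h => by rw [classInner_smul_left, (hR β hβ α hα).2 h, mul_zero])
    (fun h => absurd hα h), classInner_smul_left, (hR α hα α hα).1 rfl, mul_one]

theorem classInner_proj (R : Finset (G → ℂ)) (A B : G → ℂ) :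
    classInner B (proj R A) = ∑ α ∈ R, conj (classInner A α) * classInner B α := by
  simp only [proj, classInner_sum_right, classInner_smul_right]

theorem classInner_self_proj (R : Finset (G → ℂ)) (A : G → ℂ) :
    classInner A (proj R A) = ((∑ α ∈ R, ‖classInner A α‖ ^ 2 : ℝ) : ℂ) := by
  rw [classInner_proj, Complex.ofReal_sum]
  refine Finset.sum_congr rfl fun α _ => ?_
  rw [← Complex.normSq_eq_norm_sq, Complex.normSq_eq_conj_mul_self]

theorem classInner_proj_proj {R : Finset (G → ℂ)} (hR : Orthonormal R) (A : G → ℂ) :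
    classInner (proj R A) (proj R A) = ((∑ α ∈ R, ‖classInner A α‖ ^ 2 : ℝ) : ℂ) := by
  rw [← classInner_self_proj R A, classInner_proj, classInner_proj]
  exact Finset.sum_congr rfl fun α hα => by rw [proj_coeff hR A hα]

theorem nrm_nonneg (φ : G → ℂ) : 0 ≤ nrm φ := classInner_self_re_nonneg φ

theorem eq_zero_of_nrm {φ : G → ℂ} (h : nrm φ = 0) : φ = 0 := by
  refine eq_zero_of_classInner_self (Complex.ext h ?_)
  have := classInner_conj_symm φ φ
  rw [Complex.ext_iff] at this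
  simp only [Complex.conj_re, Complex.conj_im] at this
  simp only [Complex.zero_im]
  linarith [this.2]

theorem isGeneralized_proj {R : Finset (G → ℂ)} (hR : ∀ α ∈ R, IsGeneralizedCharacter G α)
    {A : G → ℂ} (hA : IsGeneralizedCharacter G A) : IsGeneralizedCharacter G (proj R A) := by
  refine isGeneralized_sum _ _ fun α hα => ?_
  obtain ⟨n, hn⟩ := exists_int_classInner hA (hR α hα)
  rw [hn]
  exact isGeneralized_intCast_smul (hR α hα) n

theorem sum_le_sum_sq {R : Finset (G → ℂ)} (hR : ∀ α ∈ R, IsGeneralizedCharacter G α)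
    {A : G → ℂ} (hA : IsGeneralizedCharacter G A) {n : ℝ}
    (h : classInner A (∑ α ∈ R, α) = (n : ℂ)) :
    n ≤ ∑ α ∈ R, ‖classInner A α‖ ^ 2 ∧ (∑ α ∈ R, ‖classInner A α‖ ^ 2 ≤ n →
      ∀ α ∈ R, classInner A α = 0 ∨ classInner A α = 1) := by
  classical
  have hint : ∀ α, ∃ z : ℤ, α ∈ R → classInner A α = z := fun α =>
    if hα : α ∈ R then (exists_int_classInner hA (hR α hα)).imp fun _ hz _ => hz else ⟨0, fun h => absurd h hα⟩
  choose z hz using hint
  have e1 : n = ∑ α ∈ R, (z α : ℝ) := by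
    rw [classInner_sum_right, Finset.sum_congr rfl hz] at h
    have := congrArg Complex.re h
    simpa using this.symm
  have e2 : ∀ α ∈ R, ‖classInner A α‖ ^ 2 = (z α : ℝ) ^ 2 := fun α hα => by
    rw [hz α hα, Complex.norm_intCast, sq_abs]
  rw [Finset.sum_congr rfl e2, e1]
  have hle : ∀ α ∈ R, (z α : ℝ) ≤ (z α : ℝ) ^ 2 := fun α _ => by
    exact_mod_cast Int.le_self_sq (z α)
  refine ⟨Finset.sum_le_sum hle, fun h2 α hα => ?_⟩
  have := (Finset.sum_eq_sum_iff_of_le hle).mp (le_antisymm (Finset.sum_le_sum hle) h2) α hα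
  have h3 : z α = z α ^ 2 := by exact_mod_cast this
  have h4 : z α = 0 ∨ z α = 1 := by
    have : z α * (z α - 1) = 0 := by linarith
    rcases mul_eq_zero.mp this with h | h
    · exact Or.inl h
    · exact Or.inr (by linarith)
  rcases h4 with h | h
  · exact Or.inl (by rw [hz α hα, h, Int.cast_zero])
  · exact Or.inr (by rw [hz α hα, h, Int.cast_one])

/-! ### Coherence systems -/

variable {S : Set (L → ℂ)} {τ : (L → ℂ) → (G → ℂ)} {R : (L → ℂ) → Finset (G → ℂ)}

theorem ne_zero_of_mem (hS : IsCoherenceSystem S τ R) {χ : L → ℂ} (hχ : χ ∈ S) : χ ≠ 0 := by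
  rintro rfl
  exact hS.conj_ne 0 hχ (funext fun x => by simp [conjFun])

theorem apply_one_ne_zero (hS : IsCoherenceSystem S τ R) {χ : L → ℂ} (hχ : χ ∈ S) : χ 1 ≠ 0 :=
  fun h => ne_zero_of_mem hS hχ (eq_zero_of_apply_one (hS.isCharacter χ hχ) h)

theorem exists_norm (hS : IsCoherenceSystem S τ R) {χ : L → ℂ} (hχ : χ ∈ S) :
    ∃ n : ℕ, 0 < n ∧ classInner χ χ = (n : ℂ) ∧ classInner (conjFun χ) (conjFun χ) = (n : ℂ) := by
  obtain ⟨n, hn⟩ := exists_nat_classInner (hS.isCharacter χ hχ) (hS.isCharacter χ hχ)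
  refine ⟨n, Nat.pos_of_ne_zero fun h0 => ne_zero_of_mem hS hχ
    (eq_zero_of_classInner_self (by rw [hn, h0, Nat.cast_zero])), hn, ?_⟩
  rw [classInner_conjFun, hn, Complex.conj_natCast]

theorem conj_sub_mem (hS : IsCoherenceSystem S τ R) {χ : L → ℂ} (hχ : χ ∈ S) :
    χ - conjFun χ ∈ zspanOn S {1}ᶜ :=
  sub_mem_zspanOn hχ (hS.conj_mem χ hχ) (conjFun_one (hS.isCharacter χ hχ)).symm

theorem orthonormal_R (hS : IsCoherenceSystem S τ R) {χ : L → ℂ} (hχ : χ ∈ S) :
    Orthonormal (R χ) := fun α hα β hβ =>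
  ⟨fun h => by rw [hS.orthonormal χ hχ α hα β hβ, if_pos h],
    fun h => by rw [hS.orthonormal χ hχ α hα β hβ, if_neg h]⟩

theorem classInner_of_R_disjoint (hS : IsCoherenceSystem S τ R) {χ φ : L → ℂ} (hχ : χ ∈ S)
    (hφ : φ ∈ S) (h1 : φ ≠ χ) (h2 : φ ≠ conjFun χ) {α β : G → ℂ} (hα : α ∈ R φ) (hβ : β ∈ R χ) :
    classInner α β = 0 :=
  hS.disjoint χ hχ φ hφ (hS.orthogonal φ hφ χ hχ h1)
    (hS.orthogonal φ hφ _ (hS.conj_mem χ hχ) h2) α hα β hβ

theorem other_symm {χ φ : L → ℂ} (h1 : φ ≠ χ) (h2 : φ ≠ conjFun χ) :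
    χ ≠ φ ∧ χ ≠ conjFun φ :=
  ⟨h1.symm, fun h => h2 (by rw [h, conjFun_conjFun])⟩

theorem classInner_proj_proj_other (hS : IsCoherenceSystem S τ R) {χ φ : L → ℂ} (hχ : χ ∈ S)
    (hφ : φ ∈ S) (h1 : φ ≠ χ) (h2 : φ ≠ conjFun χ) (A B : G → ℂ) :
    classInner (proj (R φ) A) (proj (R χ) B) = 0 := by
  rw [proj, classInner_sum_left]
  refine Finset.sum_eq_zero fun α hα => ?_
  rw [classInner_smul_left, classInner_proj, Finset.sum_eq_zero, mul_zero]
  intro β hβ
  rw [classInner_of_R_disjoint hS hχ hφ h1 h2 hα hβ, mul_zero]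

theorem classInner_map_sum (hS : IsCoherenceSystem S τ R) {χ : L → ℂ} (hχ : χ ∈ S)
    {α : L → ℂ} (hα : α ∈ zspanOn S {1}ᶜ) :
    classInner (τ α) (∑ β ∈ R χ, β) = classInner α χ - classInner α (conjFun χ) := by
  rw [← hS.sum_eq χ hχ, hS.isometry.2.2.1 α hα _ (conj_sub_mem hS hχ), classInner_sub_right]

theorem sum_R_self (hS : IsCoherenceSystem S τ R) {χ : L → ℂ} (hχ : χ ∈ S) {n : ℕ}
    (hn : classInner χ χ = (n : ℂ)) :
    classInner (∑ β ∈ R χ, β) (∑ β ∈ R χ, β) = 2 * (n : ℂ) := by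
  have h := classInner_map_sum hS hχ (conj_sub_mem hS hχ)
  rw [hS.sum_eq χ hχ] at h
  rw [h, classInner_sub_left, classInner_sub_left,
    hS.orthogonal χ hχ _ (hS.conj_mem χ hχ) (hS.conj_ne χ hχ).symm,
    hS.orthogonal _ (hS.conj_mem χ hχ) χ hχ (hS.conj_ne χ hχ), classInner_conjFun, hn,
    Complex.conj_natCast]
  ring

theorem card_R (hS : IsCoherenceSystem S τ R) {χ : L → ℂ} (hχ : χ ∈ S) {n : ℕ}
    (hn : classInner χ χ = (n : ℂ)) : (R χ).card = 2 * n := by
  classical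
  have h := sum_R_self hS hχ hn
  rw [classInner_sum_left, Finset.sum_congr rfl fun α hα => by
    rw [classInner_sum_right, Finset.sum_eq_single α
      (fun β hβ hne => (orthonormal_R hS hχ α hα β hβ).2 hne.symm) (fun h => absurd hα h),
      (orthonormal_R hS hχ α hα α hα).1 rfl]] at h
  rw [Finset.sum_const, nsmul_one] at h
  exact_mod_cast h

theorem projection_bound (hS : IsCoherenceSystem S τ R) {χ : L → ℂ} (hχ : χ ∈ S) {ψ : L → ℂ}
    (h1 : classInner χ ψ = 0) (h2 : classInner (conjFun χ) ψ = 0) {T : G → ℂ}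
    (hT : IsGeneralizedCharacter G T)
    (hinner : classInner T (τ (χ - conjFun χ)) = classInner (χ - ψ) (χ - conjFun χ)) :
    (classInner χ χ).re ≤ ∑ α ∈ R χ, ‖classInner T α‖ ^ 2 ∧
      (∑ α ∈ R χ, ‖classInner T α‖ ^ 2 ≤ (classInner χ χ).re →
        ∀ α ∈ R χ, classInner T α = 0 ∨ classInner T α = 1) := by
  obtain ⟨n, -, hn, -⟩ := exists_norm hS hχ
  rw [hn, Complex.natCast_re]
  refine sum_le_sum_sq (fun α hα => hS.virtual χ hχ α hα) hT ?_
  have e1 : classInner ψ χ = 0 := by rw [← classInner_conj_symm, h1, map_zero]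
  have e2 : classInner ψ (conjFun χ) = 0 := by rw [← classInner_conj_symm, h2, map_zero]
  rw [← hS.sum_eq χ hχ, hinner, classInner_sub_left, classInner_sub_right, classInner_sub_right, hn,
    hS.orthogonal χ hχ _ (hS.conj_mem χ hχ) (hS.conj_ne χ hχ).symm, e1, e2]
  simp

/-- A norm splitting: two characters from different pairs. -/
theorem split_of_sub (hS : IsCoherenceSystem S τ R) {χ φ : L → ℂ} (hχ : χ ∈ S) (hφ : φ ∈ S)
    (h1 : φ ≠ χ) (h2 : φ ≠ conjFun χ) (hdeg : χ 1 = φ 1) {n : ℕ}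
    (hn : classInner χ χ = (n : ℂ)) :
    τ (χ - φ) = proj (R χ) (τ (χ - φ)) + proj (R φ) (τ (χ - φ)) ∧
      classInner (proj (R χ) (τ (χ - φ))) (proj (R χ) (τ (χ - φ))) = (n : ℂ) ∧
      classInner (proj (R χ) (τ (χ - φ))) (∑ β ∈ R χ, β) = (n : ℂ) := by
  obtain ⟨h1', h2'⟩ := other_symm h1 h2
  obtain ⟨m, -, hm, -⟩ := exists_norm hS hφ
  set A := τ (χ - φ) with hA
  have hmem := sub_mem_zspanOn hχ hφ hdeg
  have hAg : IsGeneralizedCharacter G A := hS.isometry.2.2.2 _ hmem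
  have o1 := hS.orthogonal χ hχ φ hφ h1'
  have o2 := hS.orthogonal φ hφ χ hχ h1
  have oc := hS.orthogonal χ hχ _ (hS.conj_mem χ hχ) (hS.conj_ne χ hχ).symm
  have od := hS.orthogonal φ hφ _ (hS.conj_mem φ hφ) (hS.conj_ne φ hφ).symm
  have o3 := hS.orthogonal φ hφ _ (hS.conj_mem χ hχ) h2
  have o4 := hS.orthogonal χ hχ _ (hS.conj_mem φ hφ) h2'
  have hAχ : classInner A (∑ β ∈ R χ, β) = ((n : ℝ) : ℂ) := by
    rw [hA, classInner_map_sum hS hχ hmem, classInner_sub_left, classInner_sub_left, hn, o2, o3, oc]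
    simp
  have hAφ : classInner (-A) (∑ β ∈ R φ, β) = ((m : ℝ) : ℂ) := by
    rw [classInner_neg_left, hA, classInner_map_sum hS hφ hmem, classInner_sub_left,
      classInner_sub_left, hm, o1, o4, od]
    simp
  have b1 := (sum_le_sum_sq (fun α hα => hS.virtual χ hχ α hα) hAg hAχ).1
  have b2 := (sum_le_sum_sq (fun α hα => hS.virtual φ hφ α hα) (isGeneralized_neg hAg) hAφ).1
  simp only [classInner_neg_left, norm_neg] at b2
  have hAA : classInner A A = ((n : ℂ) + m) := by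
    rw [hA, hS.isometry.2.2.1 _ hmem _ hmem, classInner_sub_left, classInner_sub_right,
      classInner_sub_right, hn, hm, o1, o2]
    ring
  set a := ∑ α ∈ R χ, ‖classInner A α‖ ^ 2 with ha
  set b := ∑ α ∈ R φ, ‖classInner A α‖ ^ 2 with hb
  have hz : nrm (A - proj (R χ) A - proj (R φ) A) = (n : ℝ) + m - a - b := by
    have e1 := classInner_self_proj (R χ) A
    have e2 := classInner_self_proj (R φ) A
    have e3 : classInner (proj (R χ) A) A = (a : ℂ) := by
      rw [← classInner_conj_symm, e1, Complex.conj_ofReal]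
    have e4 : classInner (proj (R φ) A) A = (b : ℂ) := by
      rw [← classInner_conj_symm, e2, Complex.conj_ofReal]
    simp only [nrm, classInner_sub_left, classInner_sub_right, hAA, e1, e2, e3, e4,
      classInner_proj_proj (orthonormal_R hS hχ), classInner_proj_proj (orthonormal_R hS hφ),
      classInner_proj_proj_other hS hχ hφ h1 h2, classInner_proj_proj_other hS hφ hχ h1' h2',
      ← ha, ← hb]
    simp [Complex.add_re, Complex.sub_re]
  have h0 := nrm_nonneg (A - proj (R χ) A - proj (R φ) A)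
  have han : a = n := by linarith
  refine ⟨?_, ?_, ?_⟩
  · rw [← sub_eq_zero, ← sub_sub]
    exact eq_zero_of_nrm (by linarith)
  · rw [classInner_proj_proj (orthonormal_R hS hχ), ← ha, han]; norm_cast
  · rw [classInner_sum_right, Finset.sum_congr rfl fun β hβ =>
      proj_coeff (orthonormal_R hS hχ) A hβ, ← classInner_sum_right, hAχ]
    norm_cast

/-- Sets of characters of one degree are coherent. -/
theorem coherent_of_constant_degree (hS : IsCoherenceSystem S τ R)
    (hdeg : ∀ φ ∈ S, ∀ ψ ∈ S, φ 1 = ψ 1) : IsCoherent S {1}ᶜ τ := by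
  classical
  obtain ⟨χ, hχ⟩ := hS.nonempty
  obtain ⟨n, hnpos, hn, -⟩ := exists_norm hS hχ
  have hχc := hS.conj_mem χ hχ
  have hmem : ∀ φ ∈ S, χ - φ ∈ zspanOn S {1}ᶜ := fun φ hφ =>
    sub_mem_zspanOn hχ hφ (hdeg χ hχ φ hφ)
  refine ⟨⟨χ - conjFun χ, conj_sub_mem hS hχ, fun h => hS.conj_ne χ hχ (sub_eq_zero.mp h).symm⟩, ?_⟩
  obtain ⟨X, hXg, hXX, hXsum, hXother⟩ : ∃ X : G → ℂ, IsGeneralizedCharacter G X ∧
      classInner X X = (n : ℂ) ∧ classInner X (∑ β ∈ R χ, β) = (n : ℂ) ∧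
      ∀ φ ∈ S, φ ≠ χ → φ ≠ conjFun χ → classInner X (τ (χ - φ)) = (n : ℂ) := by
    by_cases h : ∃ φ ∈ S, φ ≠ χ ∧ φ ≠ conjFun χ
    · obtain ⟨φ₀, hφ₀, a1, a2⟩ := h
      obtain ⟨s1, s2, s3⟩ := split_of_sub hS hχ hφ₀ a1 a2 (hdeg χ hχ φ₀ hφ₀) hn
      refine ⟨_, isGeneralized_proj (fun α hα => hS.virtual χ hχ α hα)
        (hS.isometry.2.2.2 _ (hmem φ₀ hφ₀)), s2, s3, fun φ hφ b1 b2 => ?_⟩
      obtain ⟨t1, t2, -⟩ := split_of_sub hS hχ hφ b1 b2 (hdeg χ hχ φ hφ) hn
      obtain ⟨b1', b2'⟩ := other_symm b1 b2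
      have hreduce : classInner (proj (R χ) (τ (χ - φ₀))) (τ (χ - φ)) =
          classInner (proj (R χ) (τ (χ - φ₀))) (proj (R χ) (τ (χ - φ))) := by
        conv_lhs => rw [t1]
        rw [classInner_add_right, classInner_proj_proj_other hS hφ hχ b1' b2', add_zero]
      by_cases hpair : φ₀ = φ
      · subst hpair; rw [hreduce, s2]
      by_cases hpair' : φ₀ = conjFun φ
      · rw [hreduce]
        have hdiff : τ (χ - φ₀) = τ (χ - φ) + ∑ β ∈ R φ, β := by
          rw [← hS.sum_eq φ hφ, ← hS.isometry.1 _ (hmem φ hφ) _ (conj_sub_mem hS hφ), hpair']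
          congr 1; abel
        have hsame : proj (R χ) (τ (χ - φ₀)) = proj (R χ) (τ (χ - φ)) := by
          simp only [proj]
          refine Finset.sum_congr rfl fun α hα => ?_
          rw [hdiff, classInner_add_left, classInner_sum_left, Finset.sum_eq_zero, add_zero]
          exact fun β hβ => classInner_of_R_disjoint hS hχ hφ b1 b2 hβ hα
        rw [← hsame, s2]
      obtain ⟨a1', a2'⟩ := other_symm a1 a2
      have hAB : classInner (τ (χ - φ₀)) (τ (χ - φ)) = (n : ℂ) := by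
        rw [hS.isometry.2.2.1 _ (hmem φ₀ hφ₀) _ (hmem φ hφ), classInner_sub_left,
          classInner_sub_right, classInner_sub_right, hn, hS.orthogonal χ hχ φ hφ b1',
          hS.orthogonal φ₀ hφ₀ χ hχ a1, hS.orthogonal φ₀ hφ₀ φ hφ hpair]
        ring
      rw [s1, classInner_add_left] at hAB
      rw [← hAB]
      refine (left_eq_add).mpr ?_
      conv_lhs => rw [t1]
      rw [classInner_add_right, classInner_proj_proj_other hS hχ hφ₀ a1 a2,
        classInner_proj_proj_other hS hφ hφ₀ hpair hpair', add_zero]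
    · push Not at h
      obtain ⟨T, hT, hTn⟩ := Finset.exists_subset_card_eq
        (s := R χ) (n := n) (by rw [card_R hS hχ hn]; omega)
      have honT := orthonormal_R hS hχ
      refine ⟨∑ α ∈ T, α, isGeneralized_sum _ _ fun α hα => hS.virtual χ hχ α (hT hα), ?_, ?_,
        fun φ hφ b1 b2 => absurd (h φ hφ b1) b2⟩
      · rw [classInner_sum_left, Finset.sum_congr rfl fun α hα => by
          rw [classInner_sum_right, Finset.sum_eq_single α
            (fun β hβ hne => (honT α (hT hα) β (hT hβ)).2 hne.symm) (fun h => absurd hα h),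
            (honT α (hT hα) α (hT hα)).1 rfl]]
        rw [Finset.sum_const, nsmul_one, hTn]
      · rw [classInner_sum_left, Finset.sum_congr rfl fun α hα => by
          rw [classInner_sum_right, Finset.sum_eq_single α
            (fun β hβ hne => (honT α (hT hα) β hβ).2 hne.symm) (fun h => absurd (hT hα) h),
            (honT α (hT hα) α (hT hα)).1 rfl]]
        rw [Finset.sum_const, nsmul_one, hTn]
  have hXτ : ∀ φ ∈ S, classInner X (τ (χ - φ)) = (n : ℂ) - classInner χ φ := by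
    intro φ hφ
    by_cases b1 : φ = χ
    · subst b1
      have h0 := hS.isometry.2.1 _ (hmem φ hφ) 0
      rw [zero_smul, zero_smul] at h0
      rw [sub_self, h0, classInner_zero_right, hn, sub_self]
    by_cases b2 : φ = conjFun χ
    · rw [b2, hS.sum_eq χ hχ, hXsum, hS.orthogonal χ hχ _ hχc (hS.conj_ne χ hχ).symm, sub_zero]
    rw [hXother φ hφ b1 b2, hS.orthogonal χ hχ φ hφ (Ne.symm b1), sub_zero]
  obtain ⟨f, hf, hiso⟩ := exists_isometry (G := G) hS.orthogonal (fun φ hφ => ne_zero_of_mem hS hφ)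
    (fun φ => X - τ (χ - φ))
    (fun φ hφ => isGeneralized_sub hXg (hS.isometry.2.2.2 _ (hmem φ hφ)))
    (fun φ hφ ψ hψ => by
      rw [classInner_sub_left, classInner_sub_right, classInner_sub_right, hXX, hXτ ψ hψ,
        ← classInner_conj_symm X (τ (χ - φ)), hXτ φ hφ, hS.isometry.2.2.1 _ (hmem φ hφ) _ (hmem ψ hψ),
        classInner_sub_left χ φ, classInner_sub_right, classInner_sub_right, hn, map_sub,
        Complex.conj_natCast, classInner_conj_symm]
      ring)
  refine ⟨f, hiso, ?_⟩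
  have key : ∀ α ∈ zspan S, ∃ k : ℤ, α - k • χ ∈ zspanOn S {1}ᶜ ∧
      f α = τ (α - k • χ) + k • X := by
    intro α hα
    induction hα using Submodule.span_induction with
    | mem φ hφ =>
      refine ⟨1, ?_, ?_⟩
      · rw [one_smul]; exact sub_mem_zspanOn hφ hχ (hdeg φ hφ χ hχ)
      · rw [one_smul, one_smul, hf φ hφ]
        have h1 := hS.isometry.2.1 _ (hmem φ hφ) (-1)
        rw [neg_one_smul, neg_one_smul, neg_sub] at h1
        show X - τ (χ - φ) = _
        rw [h1]; abel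
    | zero =>
      refine ⟨0, ?_, ?_⟩
      · rw [zero_smul, sub_self]; exact mem_zspanOn_iff.mpr ⟨zspan_zero, rfl⟩
      · have h0 := hS.isometry.2.1 _ (hmem χ hχ) 0
        rw [zero_smul, zero_smul] at h0
        rw [map_zero, zero_smul, zero_smul, sub_self, h0, add_zero]
    | add a b _ _ ha hb =>
      obtain ⟨k, hk1, hk2⟩ := ha
      obtain ⟨l, hl1, hl2⟩ := hb
      have e : a + b - (k + l) • χ = (a - k • χ) + (b - l • χ) := by rw [add_smul]; abel
      refine ⟨k + l, e ▸ zspanOn_add hk1 hl1, ?_⟩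
      rw [e, hS.isometry.1 _ hk1 _ hl1, map_add, hk2, hl2, add_smul]; abel
    | smul m a _ ha =>
      obtain ⟨k, hk1, hk2⟩ := ha
      have e : m • a - (m * k) • χ = m • (a - k • χ) := by rw [smul_sub, mul_smul]
      refine ⟨m * k, e ▸ zspanOn_zsmul m hk1, ?_⟩
      rw [e, hS.isometry.2.1 _ hk1 m, map_zsmul, hk2, smul_add, mul_smul]
  intro α hα
  rw [mem_zspanOn_iff] at hα
  obtain ⟨k, hk1, hk2⟩ := key α hα.1
  have hk0 : (k : ℂ) * χ 1 = 0 := by
    have := (mem_zspanOn_iff.mp hk1).2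
    rw [Pi.sub_apply, Pi.smul_apply, zsmul_eq_mul, hα.2, zero_sub, neg_eq_zero] at this
    exact this
  have : k = 0 := by
    have := (mul_eq_zero.mp hk0).resolve_right (apply_one_ne_zero hS hχ)
    exact_mod_cast this
  rw [hk2, this, zero_smul, zero_smul, sub_zero, add_zero]

end CfsgLib.Char.Coherence
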