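import Cfsg.Agent.Lib.Char.TIKernel
import Cfsg.Agent.Lib.Char.Coherence

/-!
# Coherent exceptional characters of a TI kernel
-/

set_option autoImplicit false

namespace CfsgLib.Char.TIKernel

open Cfsg
open scoped ComplexConjugate CfsgLib.Char

section Kernel

variable {L : Type*} [Group L] [Fintype L] (K : Subgroup L) [hK : K.Normal]

/-- An irreducible character not constant on a normal subgroup sums to zero over it. -/
theorem sum_eq_zero_of_nonconstant [Fintype K] {χ : L → ℂ} (hχ : IsIrrCharacter L χ)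
    (hnc : ∃ k : L, k ∈ K ∧ χ k ≠ χ 1) : ∑ x : K, χ x = 0 := by
  classical
  by_contra h
  obtain ⟨k, hk, hne⟩ := hnc
  have hc : classInner (fun x : K => χ x) (fun _ => 1) ≠ 0 := by
    simp only [classInner, map_one, mul_one]
    exact mul_ne_zero (inv_ne_zero (Nat.cast_ne_zero.mpr Nat.card_pos.ne')) h
  have h2 := clifford_invariant K hχ isIrrCharacter_one (fun g => rfl) hc
  exact hne ((congrFun h2 ⟨k, hk⟩).trans (congrFun h2 1).symm)

/-- The degrees of the irreducible characters constant on a normal subgroup. -/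
theorem sum_sq_constant [DecidablePred fun ψ : IrrCharacter L => ∃ k : L, k ∈ K ∧ (ψ : L → ℂ) k ≠ (ψ : L → ℂ) 1] :
    ∑ ψ : IrrCharacter L, (if (∃ k : L, k ∈ K ∧ (ψ : L → ℂ) k ≠ (ψ : L → ℂ) 1) then 0
      else (ψ : L → ℂ) 1 * (ψ : L → ℂ) 1) = (K.index : ℂ) := by
  classical
  have hreg : ∑ x : K, ∑ ψ : IrrCharacter L, (ψ : L → ℂ) 1 * (ψ : L → ℂ) x = (Nat.card L : ℂ) := by
    simp only [sum_degree_mul_irr]
    refine (Finset.sum_eq_single (1 : K) (fun x _ hx => if_neg ?_) (by simp)).trans (by simp)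
    exact fun h => hx (Subtype.ext h)
  rw [Finset.sum_comm] at hreg
  have hterm : ∀ ψ : IrrCharacter L, ∑ x : K, (ψ : L → ℂ) 1 * (ψ : L → ℂ) x =
      (Nat.card K : ℂ) * (if (∃ k : L, k ∈ K ∧ (ψ : L → ℂ) k ≠ (ψ : L → ℂ) 1) then 0
        else (ψ : L → ℂ) 1 * (ψ : L → ℂ) 1) := by
    intro ψ
    split_ifs with h
    · rw [← Finset.mul_sum, sum_eq_zero_of_nonconstant K ψ.2 h, mul_zero, mul_zero]
    · push_neg at h
      rw [Finset.sum_congr rfl fun (x : K) _ => by rw [h x x.2], Finset.sum_const, nsmul_eq_mul,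
        Finset.card_univ, Nat.card_eq_fintype_card]
  rw [Finset.sum_congr rfl fun ψ _ => hterm ψ, ← Finset.mul_sum] at hreg
  refine mul_left_cancel₀ (Nat.cast_ne_zero.mpr (Nat.card_pos (α := K)).ne') (hreg.trans ?_)
  rw [← K.card_mul_index, Nat.cast_mul]

variable (hC : ∀ k ∈ K, k ≠ 1 → ∀ x : L, x * k = k * x → x ∈ K)
include hC

/-- Of two irreducible characters not constant on the kernel, each is nonconstant off the identity. -/
theorem exists_apart {χ ξ : L → ℂ} (hχ : IsIrrCharacter L χ) (hξ : IsIrrCharacter L ξ)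
    (hχn : ∃ k : L, k ∈ K ∧ χ k ≠ χ 1) (hξn : ∃ k : L, k ∈ K ∧ ξ k ≠ ξ 1) (hne : χ ≠ ξ) :
    ∃ a ∈ K, ∃ b ∈ K, a ≠ 1 ∧ b ≠ 1 ∧ χ a ≠ χ b := by
  classical
  by_contra h
  push_neg at h
  obtain ⟨k, hk, hkne⟩ := hχn
  have hk1 : k ≠ 1 := fun e => hkne (by rw [e])
  have h0 : ∑ x : K, χ x * conj (ξ x) = 0 := by
    have hz := classInner_irr_ne hχ hξ hne
    simp only [classInner, mul_eq_zero, inv_eq_zero, Nat.cast_eq_zero, Nat.card_pos.ne',
      false_or] at hz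
    rw [← hz, ← Finset.sum_subtype (Finset.univ.filter (· ∈ K)) (fun x => by simp)
      (fun x => χ x * conj (ξ x))]
    exact Finset.sum_filter_of_ne fun x _ hx => by
      by_contra hxK
      exact hx (by rw [vanish_off_of_nonconstant K hC hξ hξn hxK, map_zero, mul_zero])
  have hterm : ∀ x : K, χ x * conj (ξ x) =
      χ k * conj (ξ x) + if x = 1 then (χ 1 - χ k) * conj (ξ 1) else 0 := by
    intro x
    split_ifs with hx
    · subst hx; rw [OneMemClass.coe_one]; ring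
    · rw [h x x.2 k hk (fun e => hx (Subtype.ext e)) hk1, add_zero]
  rw [Finset.sum_congr rfl fun x _ => hterm x, Finset.sum_add_distrib, ← Finset.mul_sum, ← map_sum,
    sum_eq_zero_of_nonconstant K hξ hξn, map_zero, mul_zero, zero_add, Finset.sum_ite_eq',
    if_pos (Finset.mem_univ _)] at h0
  rcases mul_eq_zero.mp h0 with e | e
  · exact hkne (sub_eq_zero.mp e).symm
  · exact irr_degree_ne_zero hξ (map_eq_zero (starRingEnd ℂ) |>.mp e)

/-- Induced from a nontrivial irreducible character of the kernel: not constant on it. -/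
theorem nonconstant_indFun {τ : K → ℂ} (hτ : IsIrrCharacter K τ) (hτ1 : τ ≠ fun _ => 1) :
    IsIrrCharacter L (indFun K τ) ∧ ∃ k : L, k ∈ K ∧ indFun K τ k ≠ indFun K τ 1 := by
  classical
  refine ⟨irreducible_induced_of_centralizer K hC hτ hτ1, ?_⟩
  by_contra h
  push_neg at h
  have h1 := classInner_irr_self (irreducible_induced_of_centralizer K hC hτ hτ1)
  rw [frobenius_reciprocity K τ (isClassFunction_indFun K τ),
    show (fun x : K => indFun K τ x) = indFun K τ 1 • (fun _ => (1 : ℂ)) from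
      funext fun x => by simp [h x x.2],
    classInner_smul_right, classInner_irr_ne hτ isIrrCharacter_one hτ1, mul_zero] at h1
  exact zero_ne_one h1

end Kernel

/-- A rational multiple of all nontrivial degrees that is integral forces integrality. -/
theorem exists_int_of_mul_degree {K : Type*} [Group K] [Fintype K] (x : ℂ) {τ₀ : K → ℂ}
    (hτ₀ : IsIrrCharacter K τ₀) (h₀ : τ₀ ≠ fun _ => 1)
    (h : ∀ τ : K → ℂ, IsIrrCharacter K τ → τ ≠ (fun _ => 1) → ∃ n : ℤ, x * τ 1 = n) :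
    ∃ n : ℤ, x = n := by
  classical
  obtain ⟨n₀, hn₀⟩ := h τ₀ hτ₀ h₀
  have h1 : ∃ n : ℤ, x * (Nat.card K : ℂ) = n := by
    obtain ⟨d, hd, -, q, hq⟩ := exists_degree_dvd_card hτ₀
    exact ⟨n₀ * q, by rw [hq, Nat.cast_mul, ← hd, ← mul_assoc, hn₀]; push_cast; ring⟩
  obtain ⟨n₁, hn₁⟩ := h1
  have h2 : ∀ ψ : IrrCharacter K, ∃ n : ℤ,
      x * ((ψ : K → ℂ) 1 * (ψ : K → ℂ) 1) - (if (ψ : K → ℂ) = (fun _ => 1) then x else 0) = n := by
    intro ψ
    by_cases e : (ψ : K → ℂ) = fun _ => 1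
    · exact ⟨0, by simp [e]⟩
    · obtain ⟨n, hn⟩ := h _ ψ.2 e
      obtain ⟨d, -, hd⟩ := exists_nat_degree_irr ψ.2
      exact ⟨n * d, by rw [if_neg e, sub_zero, ← mul_assoc, hn, hd]; push_cast; ring⟩
  choose n hn using h2
  refine ⟨n₁ - ∑ ψ : IrrCharacter K, n ψ, ?_⟩
  push_cast
  rw [← Finset.sum_congr rfl fun ψ _ => hn ψ, Finset.sum_sub_distrib, ← Finset.mul_sum,
    show ∑ ψ : IrrCharacter K, (ψ : K → ℂ) 1 * (ψ : K → ℂ) 1 = (Nat.card K : ℂ) by
      simpa using sum_degree_mul_irr (G := K) (1 : K),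
    hn₁, Finset.sum_eq_single (⟨fun _ => 1, isIrrCharacter_one⟩ : IrrCharacter K)]
  · simp
  · exact fun ψ _ hψ => if_neg fun e => hψ (Subtype.ext e)
  · exact fun h => absurd (Finset.mem_univ _) h

variable {G : Type*} [Group G] [Fintype G] (L : Subgroup G) [Fintype L] (K : Subgroup L) [hK : K.Normal]

variable (hC : ∀ k ∈ K, k ≠ 1 → ∀ x : L, x * k = k * x → x ∈ K)
  (hTI : ∀ g : G, g ∉ L → ∀ t ∈ ((↑) : L → G) '' (K : Set L),
    g * t * g⁻¹ ∈ ((↑) : L → G) '' (K : Set L) → t = 1)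
  {star : (L → ℂ) → (G → ℂ)}
  (hstar : IsLinearIsometryOn
    (zspan {χ : L → ℂ | IsIrrCharacter L χ ∧ ∃ k : L, k ∈ K ∧ χ k ≠ χ 1}) star)
  (hext : ∀ α ∈ zspanOn {χ : L → ℂ | IsIrrCharacter L χ ∧ ∃ k : L, k ∈ K ∧ χ k ≠ χ 1}
    ({1}ᶜ : Set L), star α = indFun L α)

include hC hTI hstar hext

omit hC hTI in
/-- Restriction and the coherent map differ by a multiple of the degree. -/
theorem coeff_prop {χ ξ : L → ℂ} (hχ : IsIrrCharacter L χ ∧ ∃ k : L, k ∈ K ∧ χ k ≠ χ 1)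
    (hξ : IsIrrCharacter L ξ ∧ ∃ k : L, k ∈ K ∧ ξ k ≠ ξ 1) {ψ : G → ℂ} (hψ : IsIrrCharacter G ψ) :
    ξ 1 * (classInner χ (fun x : L => ψ x) - classInner (star χ) ψ) =
      χ 1 * (classInner ξ (fun x : L => ψ x) - classInner (star ξ) ψ) := by
  obtain ⟨a, -, ha⟩ := exists_nat_degree_irr hχ.1
  obtain ⟨b, -, hb⟩ := exists_nat_degree_irr hξ.1
  set S := {χ : L → ℂ | IsIrrCharacter L χ ∧ ∃ k : L, k ∈ K ∧ χ k ≠ χ 1}
  have hmχ : χ ∈ zspan S := Coherence.subset_zspan hχ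
  have hmξ : ξ ∈ zspan S := Coherence.subset_zspan hξ
  set α : L → ℂ := (b : ℤ) • χ + (-(a : ℤ)) • ξ with hα
  have hα1 : α = (b : ℂ) • χ - (a : ℂ) • ξ := by
    funext x; simp [hα, zsmul_eq_mul, sub_eq_add_neg]
  have hmem : α ∈ zspanOn S ({1}ᶜ : Set L) := by
    refine ⟨Coherence.zspan_add (Coherence.zspan_zsmul _ hmχ) (Coherence.zspan_zsmul _ hmξ), ?_⟩
    intro x hx
    have : x = 1 := by simpa using hx
    subst this
    simp [hα1, ha, hb, mul_comm]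
  have h := hext α hmem
  rw [hα, hstar.1 _ (Coherence.zspan_zsmul _ hmχ) _ (Coherence.zspan_zsmul _ hmξ), hstar.2.1 _ hmχ,
    hstar.2.1 _ hmξ, ← hα, hα1] at h
  have h' : (b : ℂ) • star χ - (a : ℂ) • star ξ = indFun L ((b : ℂ) • χ - (a : ℂ) • ξ) := by
    rw [← h]; funext x; simp [zsmul_eq_mul, sub_eq_add_neg]
  have h'' := congrArg (fun f => classInner f ψ) h'
  simp only [classInner_sub_left, classInner_smul_left] at h''
  rw [frobenius_reciprocity L _ (isClassFunction_of_isCharacter (isCharacter_of_isIrr hψ)),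
    classInner_sub_left, classInner_smul_left, classInner_smul_left, ← ha, ← hb] at h''
  linear_combination -h''

omit hC in
/-- The difference between the coherent image and the character on the kernel, per degree. -/
theorem value_prop (hC : ∀ k ∈ K, k ≠ 1 → ∀ x : L, x * k = k * x → x ∈ K) {χ ξ : L → ℂ}
    (hχ : IsIrrCharacter L χ ∧ ∃ k : L, k ∈ K ∧ χ k ≠ χ 1)
    (hξ : IsIrrCharacter L ξ ∧ ∃ k : L, k ∈ K ∧ ξ k ≠ ξ 1) {k : L} (hk : k ∈ K) (hk1 : k ≠ 1) :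
    ξ 1 * (star χ k - χ k) = χ 1 * (star ξ k - ξ k) := by
  obtain ⟨a, -, ha⟩ := exists_nat_degree_irr hχ.1
  obtain ⟨b, -, hb⟩ := exists_nat_degree_irr hξ.1
  set S := {χ : L → ℂ | IsIrrCharacter L χ ∧ ∃ k : L, k ∈ K ∧ χ k ≠ χ 1}
  have hmχ : χ ∈ zspan S := Coherence.subset_zspan hχ
  have hmξ : ξ ∈ zspan S := Coherence.subset_zspan hξ
  set α : L → ℂ := (b : ℤ) • χ + (-(a : ℤ)) • ξ with hα
  have hmem : α ∈ zspanOn S ({1}ᶜ : Set L) := by
    refine ⟨Coherence.zspan_add (Coherence.zspan_zsmul _ hmχ) (Coherence.zspan_zsmul _ hmξ), ?_⟩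
    intro x hx
    have : x = 1 := by simpa using hx
    subst this
    simp [hα, ha, hb, zsmul_eq_mul, mul_comm]
  have h := hext α hmem
  rw [hα, hstar.1 _ (Coherence.zspan_zsmul _ hmχ) _ (Coherence.zspan_zsmul _ hmξ), hstar.2.1 _ hmχ,
    hstar.2.1 _ hmξ, ← hα] at h
  have hcf : IsClassFunction L α := by
    intro g x
    simp only [hα, Pi.add_apply, Pi.smul_apply]
    rw [isClassFunction_of_isCharacter (isCharacter_of_isIrr hχ.1) g x,
      isClassFunction_of_isCharacter (isCharacter_of_isIrr hξ.1) g x]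
  have hoff : ∀ x : L, (x : G) ∉ ((↑) : L → G) '' (K : Set L) → α x = 0 := by
    intro x hx
    have hxK : x ∉ K := fun h => hx ⟨x, h, rfl⟩
    simp [hα, vanish_off_of_nonconstant K hC hχ.1 hχ.2 hxK,
      vanish_off_of_nonconstant K hC hξ.1 hξ.2 hxK]
  have hv := indFun_eq_of_ti L _ hTI α hcf hoff k ⟨k, hk, rfl⟩ hk1
  rw [← h] at hv
  simp only [hα, Pi.add_apply, zsmul_eq_mul, Pi.mul_apply, Pi.intCast_apply, Pi.natCast_apply, Pi.neg_apply, Int.cast_neg, Int.cast_natCast] at hv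
  rw [ha, hb]
  linear_combination hv

omit hC hTI in
/-- The restriction of an irreducible character to the nonidentity part of the kernel. -/
theorem restriction_formula {χ₀ : L → ℂ} (hχ₀ : IsIrrCharacter L χ₀ ∧ ∃ k : L, k ∈ K ∧ χ₀ k ≠ χ₀ 1)
    {ψ : G → ℂ} (hψ : IsIrrCharacter G ψ) :
    ∃ (t : ℂ) (c : ℤ),
      (∀ χ : L → ℂ, (IsIrrCharacter L χ ∧ ∃ k : L, k ∈ K ∧ χ k ≠ χ 1) →
        classInner χ (fun x : L => ψ x) - classInner (star χ) ψ = t * χ 1) ∧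
      ∀ [DecidablePred fun ξ : IrrCharacter L => ∃ k : L, k ∈ K ∧ (ξ : L → ℂ) k ≠ (ξ : L → ℂ) 1],
      ∀ k : L, k ∈ K → k ≠ 1 → ψ k = ∑ ξ : IrrCharacter L,
        (if (∃ k : L, k ∈ K ∧ (ξ : L → ℂ) k ≠ (ξ : L → ℂ) 1) then
          classInner (star (ξ : L → ℂ)) ψ * (ξ : L → ℂ) k else 0) - t * (K.index : ℂ) + c := by
  classical
  have hcl := isClassFunction_restrict L (isClassFunction_of_isCharacter (isCharacter_of_isIrr hψ))
  set P : IrrCharacter L → Prop := fun ξ => ∃ k : L, k ∈ K ∧ (ξ : L → ℂ) k ≠ (ξ : L → ℂ) 1 with hP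
  have hint : ∀ ξ : IrrCharacter L, ∃ n : ℤ,
      classInner (fun x : L => ψ x) (ξ : L → ℂ) = n := fun ξ =>
    exists_int_classInner (isGeneralized_restrict L (isGeneralized_of_isIrr hψ))
      (isGeneralized_of_isIrr ξ.2)
  choose n hn using hint
  set t := (classInner χ₀ (fun x : L => ψ x) - classInner (star χ₀) ψ) / χ₀ 1 with ht
  have hcoef : ∀ χ : L → ℂ, (IsIrrCharacter L χ ∧ ∃ k : L, k ∈ K ∧ χ k ≠ χ 1) →
      classInner χ (fun x : L => ψ x) - classInner (star χ) ψ = t * χ 1 := by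
    intro χ hχ
    rw [ht, div_mul_eq_mul_div, eq_div_iff (irr_degree_ne_zero hχ₀.1), mul_comm,
      coeff_prop L K hstar hext hχ hχ₀ hψ, mul_comm]
  choose d hd' hd using fun ξ : IrrCharacter L => exists_nat_degree_irr ξ.2
  refine ⟨t, ∑ ξ : IrrCharacter L, if P ξ then 0 else n ξ * (d ξ : ℤ), hcoef, fun {_} k hk hk1 => ?_⟩
  have he : ψ k = _ := congrFun (classFunction_expansion hcl) k
  rw [he, Finset.sum_apply]
  have hreg : ∑ ξ : IrrCharacter L, (ξ : L → ℂ) 1 * (ξ : L → ℂ) k = 0 := by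
    rw [sum_degree_mul_irr, if_neg hk1]
  have hE := sum_sq_constant K
  have hterm : ∀ ξ : IrrCharacter L,
      classInner (fun x : L => ψ x) (ξ : L → ℂ) * (ξ : L → ℂ) k =
      (if P ξ then classInner (star (ξ : L → ℂ)) ψ * (ξ : L → ℂ) k else 0)
        + (t * ((ξ : L → ℂ) 1 * (ξ : L → ℂ) k)
          - t * (if P ξ then 0 else (ξ : L → ℂ) 1 * (ξ : L → ℂ) 1))
        + (((if P ξ then 0 else n ξ * (d ξ : ℤ) : ℤ)) : ℂ) := by
    intro ξ
    by_cases h : P ξ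
    · have h1 := hcoef _ ⟨ξ.2, h⟩
      have h2 : classInner (ξ : L → ℂ) (fun x : L => ψ x)
          = classInner (fun x : L => ψ x) (ξ : L → ℂ) := by
        rw [← classInner_conj_symm, hn, map_intCast]
      rw [if_pos h, if_pos h, if_pos h]
      push_cast
      linear_combination (ξ : L → ℂ) k * h1 - (ξ : L → ℂ) k * h2
    · rw [if_neg h, if_neg h, if_neg h]
      simp only [hP, not_exists, not_and, not_not] at h
      rw [h k hk, hn, hd ξ]
      push_cast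
      ring
  simp only [Pi.smul_apply, smul_eq_mul]
  rw [Finset.sum_congr rfl fun ξ _ => hterm ξ, Finset.sum_add_distrib, Finset.sum_add_distrib,
    Finset.sum_sub_distrib, ← Finset.mul_sum, ← Finset.mul_sum, hreg, Int.cast_sum]
  rw [show (∑ ξ : IrrCharacter L, if P ξ then 0 else (ξ : L → ℂ) 1 * (ξ : L → ℂ) 1) = (K.index : ℂ)
    from hE]
  simp only [P]
  ring

omit hC hTI in
/-- The coherent images are, up to sign, irreducible, and orthonormal. -/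
theorem star_eq {χ : L → ℂ} (hχ : IsIrrCharacter L χ ∧ ∃ k : L, k ∈ K ∧ χ k ≠ χ 1) :
    ∃ ε : ℂ, (ε = 1 ∨ ε = -1) ∧ ∃ ψ : G → ℂ, IsIrrCharacter G ψ ∧ star χ = ε • ψ ∧
      ∀ ξ : L → ℂ, (IsIrrCharacter L ξ ∧ ∃ k : L, k ∈ K ∧ ξ k ≠ ξ 1) →
        classInner (star ξ) ψ = ε * classInner ξ χ := by
  have hm : χ ∈ zspan {χ : L → ℂ | IsIrrCharacter L χ ∧ ∃ k : L, k ∈ K ∧ χ k ≠ χ 1} :=
    Coherence.subset_zspan hχ
  obtain ⟨ε, hε, ψ, hψ⟩ := exists_of_norm_one (hstar.2.2.2 _ hm)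
    (by rw [hstar.2.2.1 _ hm _ hm, classInner_irr_self hχ.1])
  refine ⟨ε, hε, ψ, ψ.2, hψ, fun ξ hξ => ?_⟩
  have h := hstar.2.2.1 _ (Coherence.subset_zspan hξ) _ hm
  rw [hψ, classInner_smul_right] at h
  rw [← h]
  rcases hε with rfl | rfl <;> simp

omit hTI in
/-- An irreducible character is constant off the identity on the kernel, or is exceptional. -/
theorem constant_or_exceptional {χ₀ : L → ℂ}
    (hχ₀ : IsIrrCharacter L χ₀ ∧ ∃ k : L, k ∈ K ∧ χ₀ k ≠ χ₀ 1) {ψ : G → ℂ}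
    (hψ : IsIrrCharacter G ψ) :
    (∃ χ : L → ℂ, (IsIrrCharacter L χ ∧ ∃ k : L, k ∈ K ∧ χ k ≠ χ 1) ∧
      (ψ = star χ ∨ ψ = -star χ)) ∨
      ∀ a ∈ K, ∀ b ∈ K, a ≠ 1 → b ≠ 1 → ψ a = ψ b := by
  classical
  by_cases h : ∃ χ : L → ℂ, (IsIrrCharacter L χ ∧ ∃ k : L, k ∈ K ∧ χ k ≠ χ 1) ∧
      (ψ = star χ ∨ ψ = -star χ)
  · exact Or.inl h
  right
  obtain ⟨t, c, -, hf⟩ := restriction_formula L K hstar hext hχ₀ hψ
  intro a ha b hb ha1 hb1
  rw [hf a ha ha1, hf b hb hb1]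
  congr 2
  refine Finset.sum_congr rfl fun ξ _ => ?_
  split_ifs with hξ
  · obtain ⟨ε, hε, φ, hφ, hsφ, -⟩ := star_eq L K hstar hext ⟨ξ.2, hξ⟩
    have hne : φ ≠ ψ := by
      rintro rfl
      refine h ⟨ξ, ⟨ξ.2, hξ⟩, ?_⟩
      rcases hε with rfl | rfl
      · left; simp [hsφ]
      · right; simp [hsφ]
    rw [hsφ, classInner_smul_left, classInner_irr_ne hφ hψ hne]
    simp
  · rfl

/-- The coherent image of a character differs on the kernel by a constant. -/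
theorem exists_int_difference {χ : L → ℂ} (hχ : IsIrrCharacter L χ ∧ ∃ k : L, k ∈ K ∧ χ k ≠ χ 1) :
    ∃ m : ℤ, ∀ ξ : L → ℂ, (IsIrrCharacter L ξ ∧ ∃ k : L, k ∈ K ∧ ξ k ≠ ξ 1) →
      ∀ k : L, k ∈ K → k ≠ 1 → star ξ k - ξ k = (m : ℂ) * ξ 1 / (K.index : ℂ) := by
  classical
  obtain ⟨τ₀, hτ₀, hτ₀1, hτ₀χ⟩ := exists_induced_of_nonconstant K hC hχ.1 hχ.2
  have hidx : (K.index : ℂ) ≠ 0 := Nat.cast_ne_zero.mpr K.index_ne_zero_of_finite
  obtain ⟨k₀, hk₀, hk₀1⟩ : ∃ k : L, k ∈ K ∧ k ≠ 1 := by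
    obtain ⟨k, hk, hne⟩ := hχ.2
    exact ⟨k, hk, fun e => hne (by rw [e])⟩
  -- the difference is an integer, independent of the point
  have hconst : ∀ ξ : L → ℂ, (IsIrrCharacter L ξ ∧ ∃ k : L, k ∈ K ∧ ξ k ≠ ξ 1) →
      ∃ C : ℤ, ∀ k : L, k ∈ K → k ≠ 1 → star ξ k - ξ k = C := by
    intro ξ hξ
    obtain ⟨ε, hε, ψ, hψ, hsψ, horth⟩ := star_eq L K hstar hext hξ
    obtain ⟨t, c, hcoef, hf⟩ := restriction_formula L K hstar hext hχ hψ
    obtain ⟨u, hu⟩ : ∃ u : ℤ, t * (K.index : ℂ) = u := by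
      refine exists_int_of_mul_degree _ hτ₀ hτ₀1 fun τ hτ hτ1 => ?_
      have hmem := nonconstant_indFun K hC hτ hτ1
      obtain ⟨a, ha⟩ := exists_int_classInner (isGeneralized_of_isIrr hmem.1)
        (isGeneralized_restrict L (isGeneralized_of_isIrr hψ))
      obtain ⟨b, hb⟩ := exists_int_classInner (hstar.2.2.2 _ (Coherence.subset_zspan hmem))
        (isGeneralized_of_isIrr hψ)
      refine ⟨a - b, ?_⟩
      rw [mul_assoc, ← indFun_one, ← hcoef _ hmem, ha, hb]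
      push_cast
      rfl
    obtain ⟨e, he⟩ : ∃ e : ℤ, ε = e := by
      rcases hε with rfl | rfl
      · exact ⟨1, by simp⟩
      · exact ⟨-1, by simp⟩
    refine ⟨e * (c - u), fun k hk hk1 => ?_⟩
    rw [hsψ, Pi.smul_apply, smul_eq_mul, hf k hk hk1, hu,
      Finset.sum_eq_single (⟨ξ, hξ.1⟩ : IrrCharacter L)]
    · rw [if_pos hξ.2, horth ξ hξ, classInner_irr_self hξ.1]
      have h2 : ε * ε = 1 := by rcases hε with rfl | rfl <;> simp
      push_cast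
      rw [← he]
      linear_combination ξ k * h2
    · intro φ _ hφ
      split_ifs with hP
      · rw [horth _ ⟨φ.2, hP⟩, classInner_irr_ne φ.2 hξ.1 (fun e => hφ (Subtype.ext e))]
        simp
      · rfl
    · exact fun h => absurd (Finset.mem_univ _) h
  choose C hC' using hconst
  set m : ℂ := (C χ hχ : ℂ) * (K.index : ℂ) / χ 1 with hm
  have hval : ∀ ξ : L → ℂ, ∀ hξ : (IsIrrCharacter L ξ ∧ ∃ k : L, k ∈ K ∧ ξ k ≠ ξ 1),
      (C ξ hξ : ℂ) = m * ξ 1 / (K.index : ℂ) := by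
    intro ξ hξ
    have h := value_prop L K hTI hstar hext hC hξ hχ hk₀ hk₀1
    rw [hC' ξ hξ k₀ hk₀ hk₀1, hC' χ hχ k₀ hk₀ hk₀1] at h
    rw [hm]
    have hχ1 := irr_degree_ne_zero hχ.1
    field_simp
    linear_combination h
  obtain ⟨n, hn⟩ : ∃ n : ℤ, m = n := by
    refine exists_int_of_mul_degree _ hτ₀ hτ₀1 fun τ hτ hτ1 => ?_
    have hmem := nonconstant_indFun K hC hτ hτ1
    refine ⟨C _ hmem, ?_⟩
    rw [hval _ hmem, indFun_one]
    field_simp
  refine ⟨n, fun ξ hξ k hk hk1 => ?_⟩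
  rw [hC' ξ hξ k hk hk1, hval ξ hξ, hn]

/-- An exceptional character is not constant off the identity on the kernel. -/
theorem exceptional_nonconstant {χ ξ : L → ℂ}
    (hχ : IsIrrCharacter L χ ∧ ∃ k : L, k ∈ K ∧ χ k ≠ χ 1)
    (hξ : IsIrrCharacter L ξ ∧ ∃ k : L, k ∈ K ∧ ξ k ≠ ξ 1) (hne : χ ≠ ξ) {ψ : G → ℂ}
    (h : ψ = star χ ∨ ψ = -star χ) : ∃ a ∈ K, ∃ b ∈ K, a ≠ 1 ∧ b ≠ 1 ∧ ψ a ≠ ψ b := by
  obtain ⟨m, hm⟩ := exists_int_difference L K hC hTI hstar hext hχ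
  obtain ⟨a, ha, b, hb, ha1, hb1, hab⟩ := exists_apart K hC hχ.1 hξ.1 hχ.2 hξ.2 hne
  refine ⟨a, ha, b, hb, ha1, hb1, fun e => hab ?_⟩
  have h1 := hm χ hχ a ha ha1
  have h2 := hm χ hχ b hb hb1
  rcases h with rfl | rfl
  · linear_combination e - h1 + h2
  · simp only [Pi.neg_apply, neg_inj] at e
    linear_combination e - h1 + h2

end CfsgLib.Char.TIKernel
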