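import Cfsg.Agent.Lib.Char.Projective
import Cfsg.Agent.Lib.Char.Kernel
import Cfsg.Agent.Lib.Char.AbelianQuotient
import Cfsg.Agent.Lib.Char.DefectZero
import Cfsg.Agent.Lib.Blocks.Inflate
import Cfsg.Agent.Lib.Char.MeanValue
import Cfsg.Agent.Lib.Char.TICoherent
import Cfsg.Agent.Lib.PSolvable.Omega
import Cfsg.Prelude.Def_Transfer
import Cfsg.Prelude.Def_Blocks

/-!
# Characters of extraspecial groups
-/

set_option autoImplicit false

namespace CfsgLib.Char.Extraspecial

open Cfsg
open scoped ComplexConjugate CfsgLib.Char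

variable {G : Type*} [Group G] [Finite G]

theorem charDegree_eq {χ : G → ℂ} {d : ℕ} (h : χ 1 = d) : charDegree χ = d := by
  simp [charDegree, h]

/-- The degree divides the index of an abelian normal subgroup. -/
theorem ito {χ : G → ℂ} (hχ : IsIrrCharacter G χ) (A : Subgroup G) [A.Normal]
    (hab : ∀ a ∈ A, ∀ b ∈ A, a * b = b * a) {d : ℕ} (hd : χ 1 = d) : d ∣ A.index := by
  classical
  haveI : Fintype G := Fintype.ofFinite G
  haveI : Fintype A := Fintype.ofFinite A
  obtain ⟨θ, hθ⟩ := exists_constituent A (isCharacter_of_isIrr hχ) (irr_degree_ne_zero hχ)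
  obtain ⟨k, hk, hkdvd⟩ := degree_ratio A θ.2 hχ hθ
  have h1 : (θ : A → ℂ) 1 = 1 :=
    degree_one_of_comm (fun a b => Subtype.ext (hab _ a.2 _ b.2)) θ
  rw [h1, mul_one, hd] at hk
  rwa [Nat.cast_injective hk]

/-- In an extraspecial group the cosets of the centre outside it are classes. -/
theorem isConj_mul_center {p : ℕ} [hp : Fact p.Prime] (hG : IsExtraspecial p G) {x : G}
    (hx : x ∉ Subgroup.center G) {z : G} (hz : z ∈ Subgroup.center G) : IsConj x (x * z) := by
  obtain ⟨⟨-, -, hcom⟩, hcard⟩ := hG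
  have hmem : ∀ y : G, x⁻¹ * (y * x * y⁻¹) ∈ Subgroup.center G := by
    intro y
    rw [← hcom, commutator_def, show x⁻¹ * (y * x * y⁻¹) = x⁻¹ * y * x * y⁻¹ by group]
    have := Subgroup.commutator_mem_commutator (Subgroup.mem_top x⁻¹) (Subgroup.mem_top y)
    rwa [commutatorElement_def, inv_inv] at this
  let S : Subgroup G :=
    { carrier := {w | ∃ y : G, w = x⁻¹ * (y * x * y⁻¹)}
      one_mem' := ⟨1, by group⟩
      mul_mem' := by
        rintro a b ⟨u, rfl⟩ ⟨v, rfl⟩
        refine ⟨u * v, ?_⟩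
        have hc := Subgroup.mem_center_iff.mp (hmem v)
        calc x⁻¹ * (u * x * u⁻¹) * (x⁻¹ * (v * x * v⁻¹))
            = x⁻¹ * (u * x * (u⁻¹ * (x⁻¹ * (v * x * v⁻¹)))) := by group
          _ = x⁻¹ * (u * x * ((x⁻¹ * (v * x * v⁻¹)) * u⁻¹)) := by rw [hc u⁻¹]
          _ = x⁻¹ * (u * v * x * (u * v)⁻¹) := by group
      inv_mem' := by
        rintro a ⟨u, rfl⟩
        refine ⟨u⁻¹, ?_⟩
        have hc := Subgroup.mem_center_iff.mp (hmem u⁻¹)
        rw [inv_eq_iff_mul_eq_one]
        calc x⁻¹ * (u * x * u⁻¹) * (x⁻¹ * (u⁻¹ * x * u⁻¹⁻¹))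
            = x⁻¹ * (u * x * (u⁻¹ * (x⁻¹ * (u⁻¹ * x * u⁻¹⁻¹)))) := by group
          _ = x⁻¹ * (u * x * ((x⁻¹ * (u⁻¹ * x * u⁻¹⁻¹)) * u⁻¹)) := by rw [hc u⁻¹]
          _ = 1 := by group }
  have hle : S ≤ Subgroup.center G := by rintro _ ⟨y, rfl⟩; exact hmem y
  have hne : S ≠ ⊥ := by
    intro h
    refine hx (Subgroup.mem_center_iff.mpr fun y => ?_)
    have h1 : x⁻¹ * (y * x * y⁻¹) ∈ S := ⟨y, rfl⟩
    rw [h, Subgroup.mem_bot, inv_mul_eq_one] at h1
    exact mul_inv_eq_iff_eq_mul.mp h1.symm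
  have heq : S = Subgroup.center G := by
    refine Subgroup.eq_of_le_of_card_ge hle ?_
    rw [hcard]
    rcases (hp.out.eq_one_or_self_of_dvd _ (hcard ▸ Subgroup.card_dvd_of_le hle)) with h | h
    · exact absurd (Subgroup.card_eq_one.mp h) hne
    · exact h.ge
  obtain ⟨y, hy⟩ : ∃ y : G, z = x⁻¹ * (y * x * y⁻¹) := (show z ∈ S from heq ▸ hz)
  exact isConj_iff.mpr ⟨y, by rw [hy]; group⟩

/-- A class function scaled nontrivially by a central element fused into it vanishes. -/
theorem eq_zero_of_fused {f : G → ℂ} (hf : IsClassFunction G f) {x z : G} {ω : ℂ}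
    (hconj : IsConj x (x * z)) (hz : f (x * z) = ω * f x) (hω : ω ≠ 1) : f x = 0 := by
  rw [← eq_of_isConj hf hconj] at hz
  by_contra h
  exact hω (mul_right_cancel₀ h (hz.symm.trans (one_mul _).symm) )

/-- A nonlinear irreducible character of an extraspecial group. -/
theorem nonlinear {p : ℕ} [hp : Fact p.Prime] (hG : IsExtraspecial p G) {χ : G → ℂ}
    (hχ : IsIrrCharacter G χ) {d : ℕ} (hd : χ 1 = d) (hd1 : d ≠ 1) :
    (∀ x : G, x ∉ Subgroup.center G → χ x = 0) ∧ p * (d * d) = Nat.card G := by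
  classical
  haveI : Fintype G := Fintype.ofFinite G
  obtain ⟨K, hK, hmem, hKmul⟩ := exists_kernel (isCharacter_of_isIrr hχ)
  obtain ⟨z, hz, hzne⟩ : ∃ z ∈ Subgroup.center G, χ z ≠ χ 1 := by
    by_contra h
    push_neg at h
    haveI : (commutator G).Normal := by rw [hG.1.2.2]; infer_instance
    apply hd1
    have hle : commutator G ≤ K := fun z hz => (hmem z).mpr (h z (hG.1.2.2 ▸ hz))
    obtain ⟨η, hη⟩ := Blocks.exists_inflate_eq_of_ker (commutator G) ⟨χ, hχ⟩
      fun u hu => (hmem u).mp (hle hu)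
    have hc : ∀ a b : G ⧸ commutator G, a * b = b * a := fun a b => mul_comm (G := Abelianization G) a b
    have h1 := degree_one_of_comm hc η
    have h2 : χ 1 = 1 := by
      rw [show χ = ((Blocks.inflate (QuotientGroup.mk' (commutator G))
        (QuotientGroup.mk'_surjective _) η : IrrCharacter G) : G → ℂ) from congrArg Subtype.val hη]
      exact h1
    rw [hd] at h2
    exact_mod_cast h2
  have hd0 : (d : ℂ) ≠ 0 := hd ▸ irr_degree_ne_zero hχ
  have hvan : ∀ x : G, x ∉ Subgroup.center G → χ x = 0 := by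
    intro x hx
    refine eq_zero_of_fused (isClassFunction_of_isCharacter (isCharacter_of_isIrr hχ))
      (isConj_mul_center hG hx hz) (ω := χ z / χ 1) ?_ ?_
    · have := central_mul hχ hz x
      rw [div_mul_eq_mul_div, eq_div_iff (hd ▸ hd0), this, mul_comm]
    · rw [Ne, div_eq_one_iff_eq (hd ▸ hd0)]
      exact hzne
  refine ⟨hvan, ?_⟩
  have h1 := classInner_irr_self hχ
  simp only [classInner] at h1
  rw [inv_mul_eq_div, div_eq_one_iff_eq (Nat.cast_ne_zero.mpr Nat.card_pos.ne')] at h1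
  have hterm : ∀ x : G, χ x * conj (χ x) =
      if x ∈ Subgroup.center G then (d : ℂ) * d else 0 := by
    intro x
    split_ifs with hx
    · have h := central_mul hχ hx x⁻¹
      rw [inv_mul_cancel, hd, show χ x⁻¹ = conj (χ x) from irr_inv ⟨χ, hχ⟩ x] at h
      rw [h]; ring
    · rw [hvan x hx, zero_mul]
  rw [Finset.sum_congr rfl fun x _ => hterm x, ← Finset.sum_filter, Finset.sum_const, nsmul_eq_mul,
    ← Fintype.card_subtype, ← Nat.card_eq_fintype_card] at h1
  have hcz : Nat.card {x : G // x ∈ Subgroup.center G} = p := hG.2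
  rw [hcz] at h1
  exact_mod_cast h1

/-- The number of nonlinear characters of an extraspecial group. -/
theorem card_nonlinear {p : ℕ} [hp : Fact p.Prime] (hG : IsExtraspecial p G) :
    Nat.card {χ : IrrCharacter G // (χ : G → ℂ) 1 ≠ 1} = p - 1 ∧
      ∃ m : ℕ, 0 < m ∧ Nat.card G = p * (m * m) ∧ ∀ χ : IrrCharacter G, (χ : G → ℂ) 1 ≠ 1 →
        (χ : G → ℂ) 1 = m ∧ 1 < m := by
  classical
  haveI : Fintype G := Fintype.ofFinite G
  choose D hD0 hD using fun χ : IrrCharacter G => exists_nat_degree_irr χ.2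
  have hne : ∀ χ : IrrCharacter G, (χ : G → ℂ) 1 ≠ 1 ↔ D χ ≠ 1 := fun χ => by
    rw [hD χ]; norm_cast
  have hA : (commutator G).index * p = Nat.card G := by
    rw [← (commutator G).index_mul_card, hG.1.2.2, hG.2]
  have hsum : ∑ χ : IrrCharacter G, p * (D χ * D χ) = p * Nat.card G := by
    rw [← Finset.mul_sum]
    congr 1
    have : ((∑ χ : IrrCharacter G, D χ * D χ : ℕ) : ℂ) = ((Nat.card G : ℕ) : ℂ) := by
      rw [Nat.cast_sum, Finset.sum_congr rfl fun χ _ => by rw [Nat.cast_mul, ← hD χ]]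
      simpa using sum_degree_mul_irr (G := G) 1
    exact Nat.cast_injective this
  have hterm : ∀ χ : IrrCharacter G, p * (D χ * D χ) =
      (if D χ = 1 then p else 0) + (if D χ ≠ 1 then Nat.card G else 0) := by
    intro χ
    by_cases h : D χ = 1
    · simp [h]
    · rw [if_neg h, if_pos h, zero_add]
      exact (nonlinear hG χ.2 (hD χ) h).2
  rw [Finset.sum_congr rfl fun χ _ => hterm χ, Finset.sum_add_distrib, ← Finset.sum_filter,
    ← Finset.sum_filter, Finset.sum_const, Finset.sum_const, smul_eq_mul, smul_eq_mul] at hsum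
  have hlin : (Finset.univ.filter fun χ : IrrCharacter G => D χ = 1).card = (commutator G).index := by
    rw [← card_linear, Nat.card_eq_fintype_card, Fintype.card_subtype]
    congr 1
    ext χ
    simp only [Finset.mem_filter, Finset.mem_univ, true_and, hD χ]
    norm_cast
  rw [hlin, hA] at hsum
  have hcard : (Finset.univ.filter fun χ : IrrCharacter G => D χ ≠ 1).card + 1 = p := by
    refine Nat.eq_of_mul_eq_mul_right (m := Nat.card G) Nat.card_pos ?_
    linarith
  have hN : Nat.card {χ : IrrCharacter G // (χ : G → ℂ) 1 ≠ 1} = p - 1 := by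
    rw [Nat.card_eq_fintype_card, Fintype.card_subtype]
    simp only [hne]
    omega
  refine ⟨hN, ?_⟩
  obtain ⟨χ₀, hχ₀⟩ : (Finset.univ.filter fun χ : IrrCharacter G => D χ ≠ 1).Nonempty := by
    rw [← Finset.card_pos]
    have := hp.out.two_le
    omega
  have hχ₀' := (Finset.mem_filter.mp hχ₀).2
  refine ⟨D χ₀, hD0 χ₀, (nonlinear hG χ₀.2 (hD χ₀) hχ₀').2.symm, fun χ hχ => ?_⟩
  have h1 := (nonlinear hG χ.2 (hD χ) ((hne χ).mp hχ)).2
  have h2 := (nonlinear hG χ₀.2 (hD χ₀) hχ₀').2
  rw [← h2, Nat.mul_right_inj hp.out.ne_zero] at h1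
  rw [hD χ, Nat.mul_self_inj.mp h1]
  exact ⟨rfl, lt_of_le_of_ne (hD0 χ₀) (Ne.symm hχ₀')⟩

/-- A group all of whose squares lie in the commutator subgroup. -/
theorem frattini_le_commutator (h : ∀ x : G, x * x ∈ commutator G) : frattini G ≤ commutator G := by
  intro x hx
  by_contra hxc
  haveI : Finite (Abelianization G) := Finite.of_surjective _ QuotientGroup.mk_surjective
  have hne : Abelianization.of x ≠ 1 := fun e => hxc ((QuotientGroup.eq_one_iff x).mp e)
  obtain ⟨f, hf⟩ := CommGroup.exists_apply_ne_one_of_hasEnoughRootsOfUnity (Abelianization G) ℂ hne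
  set g : G →* ℂˣ := f.comp Abelianization.of with hg
  have hsq : ∀ y : G, (g y : ℂ) = 1 ∨ (g y : ℂ) = -1 := by
    intro y
    have h1 : g (y * y) = 1 := MonoidHom.mem_ker.mp (Abelianization.commutator_subset_ker g (h y))
    rw [map_mul] at h1
    have h2 : (g y : ℂ) * (g y : ℂ) = 1 := by rw [← Units.val_mul, h1, Units.val_one]
    exact mul_self_eq_one_iff.mp h2
  have hco : IsCoatom g.ker := by
    refine ⟨fun e => hf (MonoidHom.mem_ker.mp (show x ∈ g.ker from e ▸ Subgroup.mem_top x)), ?_⟩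
    intro M hM
    obtain ⟨m, hm, hmk⟩ := SetLike.exists_of_lt hM
    rw [eq_top_iff]
    intro y _
    rcases hsq y with e | e
    · exact hM.le (MonoidHom.mem_ker.mpr (Units.ext e))
    · have em : (g m : ℂ) = -1 := (hsq m).resolve_left fun e => hmk (MonoidHom.mem_ker.mpr (Units.ext e))
      have : m⁻¹ * y ∈ g.ker := by
        rw [MonoidHom.mem_ker, map_mul, map_inv, inv_mul_eq_one]
        exact Units.ext (em.trans e.symm)
      simpa using M.mul_mem hm (hM.le this)
  exact hf (MonoidHom.mem_ker.mp (frattini_le_coatom hco hx))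

end CfsgLib.Char.Extraspecial

namespace CfsgLib.Char.Extraspecial

open Cfsg
open scoped ComplexConjugate CfsgLib.Char

variable {G : Type*} [Group G] [Finite G]

/-- One character of degree divisible by `p`: an extraspecial two-group. -/
theorem of_unique [Group.IsNilpotent G] (p : ℕ) [hp : Fact p.Prime] (χ : IrrCharacter G)
    (hχp : p ∣ charDegree (χ : G → ℂ))
    (huniq : ∀ ψ : IrrCharacter G, p ∣ charDegree (ψ : G → ℂ) → ψ = χ) :
    p = 2 ∧ IsExtraspecial 2 G := by
  classical
  haveI : Fintype G := Fintype.ofFinite G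
  choose D hD0 hD using fun ψ : IrrCharacter G => exists_nat_degree_irr ψ.2
  rw [charDegree_eq (hD χ)] at hχp
  have hlinmul : ∀ (f : G →* ℂˣ) (g : G), (χ : G → ℂ) g = (f g : ℂ) * (χ : G → ℂ) g := by
    intro f g
    have hi := isIrrCharacter_linear_mul χ.2 f
    have h1 := huniq ⟨_, hi⟩ (by
      rw [charDegree_eq (d := D χ) (by simp [hD χ])]
      exact hχp)
    exact (congrFun (congrArg Subtype.val h1) g).symm
  obtain ⟨P⟩ : Nonempty (Sylow p G) := inferInstance
  haveI hPn : (P : Subgroup G).Normal := CfsgLib.Transfer.sylow_normal_of_isNilpotent P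
  obtain ⟨Q, hQmem, hPQ, hQcop, hcomm⟩ := exists_regular_subgroup P
  haveI hQn : Q.Normal := ⟨fun x hx g => (hQmem _).mpr (by
    rw [CfsgLib.Transfer.orderOf_conj]; exact (hQmem x).mp hx)⟩
  have hPQidx : Q.index = Nat.card (P : Subgroup G) := by
    have h := Q.card_mul_index
    rw [← hPQ, mul_comm _ (Nat.card Q)] at h
    exact Nat.eq_of_mul_eq_mul_left Nat.card_pos h
  have hPidx : (P : Subgroup G).index = Nat.card Q := by
    have h := (P : Subgroup G).card_mul_index
    rw [← hPQ] at h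
    exact Nat.eq_of_mul_eq_mul_left Nat.card_pos h
  -- the Sylow subgroup is not abelian
  have hPnab : ¬ ∀ a ∈ P, ∀ b ∈ P, a * b = b * a := by
    intro hab
    have h := ito χ.2 (P : Subgroup G) hab (hD χ)
    rw [hPidx] at h
    exact hp.out.not_dvd_one ((Nat.dvd_gcd (hχp.trans h) dvd_rfl).trans hQcop.dvd)
  -- the character is trivial on the regular part
  have hQker : ∀ u ∈ Q, (χ : G → ℂ) u = (χ : G → ℂ) 1 := by
    by_contra hne
    push_neg at hne
    obtain ⟨u, hu, hune⟩ := hne
    apply hPnab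
    have hlin : ∀ η : IrrCharacter (G ⧸ Q), (η : G ⧸ Q → ℂ) 1 = 1 := by
      intro η
      obtain ⟨e, he, -, hedvd⟩ := exists_degree_dvd_card η.2
      rw [← Subgroup.index_eq_card, hPQidx] at hedvd
      obtain ⟨k, hk⟩ := IsPGroup.iff_card.mp P.2
      rw [hk] at hedvd
      obtain ⟨j, -, rfl⟩ := (Nat.dvd_prime_pow hp.out).mp hedvd
      rcases j with _ | j
      · simpa using he
      · exfalso
        let ψ := Blocks.inflate (QuotientGroup.mk' Q) (QuotientGroup.mk'_surjective Q) η
        have h1 := huniq ψ (by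
          rw [charDegree_eq (d := p ^ (j + 1)) (show (ψ : G → ℂ) 1 = _ from he)]
          exact dvd_pow_self p (Nat.succ_ne_zero j))
        refine hune ?_
        rw [← h1]
        show (η : G ⧸ Q → ℂ) (QuotientGroup.mk u) = (η : G ⧸ Q → ℂ) (QuotientGroup.mk 1)
        rw [(QuotientGroup.eq_one_iff u).mpr hu]
        rfl
    intro a ha b hb
    haveI : Fintype (G ⧸ Q) := Fintype.ofFinite _
    have hcommQ : QuotientGroup.mk' Q (a * b) = QuotientGroup.mk' Q (b * a) := by
      have hall : ∀ η : IrrCharacter (G ⧸ Q),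
          (η : G ⧸ Q → ℂ) ((QuotientGroup.mk' Q (b * a))⁻¹ * QuotientGroup.mk' Q (a * b))
            = (η : G ⧸ Q → ℂ) 1 := by
        intro η
        set f := linearHom (isCharacter_of_isIrr η.2) (hlin η)
        rw [← linearHom_apply (isCharacter_of_isIrr η.2) (hlin η),
          ← linearHom_apply (isCharacter_of_isIrr η.2) (hlin η)]
        simp only [map_mul, map_inv, map_one]
        rw [mul_comm (f (QuotientGroup.mk' Q a))]
        simp [f]
      exact (inv_mul_eq_one.mp (eq_one_of_forall_irr hall)).symm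
    have hmemQ : (b * a)⁻¹ * (a * b) ∈ Q := QuotientGroup.eq.mp hcommQ.symm
    have hmemP : (b * a)⁻¹ * (a * b) ∈ (P : Subgroup G) :=
      Subgroup.mul_mem _ (Subgroup.inv_mem _ (Subgroup.mul_mem _ hb ha)) (Subgroup.mul_mem _ ha hb)
    obtain ⟨k, hk⟩ := P.2 ⟨_, hmemP⟩
    have h1 : orderOf ((b * a)⁻¹ * (a * b)) ∣ p ^ k := orderOf_dvd_of_pow_eq_one (congrArg Subtype.val hk)
    have h2 := ((hQmem _).mp hmemQ).pow_right k
    exact (inv_mul_eq_one.mp (orderOf_eq_one_iff.mp (Nat.eq_one_of_dvd_coprimes h2 dvd_rfl h1))).symm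
  -- so there is no regular part
  have hQbot : Q = ⊥ := by
    by_contra hQ
    haveI : Nontrivial (G ⧸ (P : Subgroup G)) := by
      rw [← Finite.one_lt_card_iff_nontrivial, ← Subgroup.index_eq_card, hPidx]
      exact (Subgroup.one_lt_card_iff_ne_bot Q).mpr hQ
    haveI : Group.IsNilpotent (G ⧸ (P : Subgroup G)) := inferInstance
    haveI : Group.IsSolvable (G ⧸ (P : Subgroup G)) := inferInstance
    haveI : Nontrivial (Abelianization (G ⧸ (P : Subgroup G))) :=
      QuotientGroup.nontrivial_iff.mpr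
        (Group.IsSolvable.commutator_lt_top_of_nontrivial (G := G ⧸ (P : Subgroup G))).ne
    haveI : Finite (Abelianization (G ⧸ (P : Subgroup G))) :=
      Finite.of_surjective _ QuotientGroup.mk_surjective
    obtain ⟨a, ha⟩ := exists_ne (1 : Abelianization (G ⧸ (P : Subgroup G)))
    obtain ⟨f, hf⟩ := CommGroup.exists_apply_ne_one_of_hasEnoughRootsOfUnity _ ℂ ha
    obtain ⟨y, rfl⟩ := QuotientGroup.mk_surjective a
    obtain ⟨g, rfl⟩ := QuotientGroup.mk'_surjective (P : Subgroup G) y
    let φ : G →* ℂˣ := (f.comp Abelianization.of).comp (QuotientGroup.mk' (P : Subgroup G))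
    obtain ⟨x, hx, q, hq, rfl⟩ :=
      Subgroup.mem_sup_of_normal_left.mp (show g ∈ (P : Subgroup G) ⊔ Q from by
        have : (P : Subgroup G) ⊔ Q = ⊤ := Subgroup.eq_top_of_card_eq _ (Nat.dvd_antisymm
          (Subgroup.card_subgroup_dvd_card _) (by
            rw [← hPQ]
            refine Nat.Coprime.mul_dvd_of_dvd_of_dvd ?_ (Subgroup.card_dvd_of_le le_sup_left)
              (Subgroup.card_dvd_of_le le_sup_right)
            obtain ⟨k, hk⟩ := IsPGroup.iff_card.mp P.2
            rw [hk]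
            exact hQcop.symm.pow_left k))
        rw [this]; trivial)
    have h := hlinmul φ q
    rw [hQker q hq, hD χ] at h
    have h1 : (φ q : ℂ) = 1 :=
      mul_right_cancel₀ (Nat.cast_ne_zero.mpr (hD0 χ).ne') (h.symm.trans (one_mul _).symm)
    apply hf
    have hφx : φ x = 1 := by
      show f (Abelianization.of (QuotientGroup.mk' (P : Subgroup G) x)) = 1
      rw [show QuotientGroup.mk' (P : Subgroup G) x = 1 from (QuotientGroup.eq_one_iff x).mpr hx,
        map_one, map_one]
    show φ (x * q) = 1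
    rw [map_mul, hφx, one_mul]
    exact Units.ext h1
  have hG : IsPGroup p G := by
    rw [IsPGroup.iff_card]
    obtain ⟨k, hk⟩ := IsPGroup.iff_card.mp P.2
    exact ⟨k, by rw [← hPQ, hQbot, Subgroup.card_bot, mul_one, hk]⟩
  obtain ⟨N, hN⟩ := IsPGroup.iff_card.mp hG
  have hpowD : ∀ ψ : IrrCharacter G, ∃ j, D ψ = p ^ j := fun ψ => by
    obtain ⟨e, he, -, hedvd⟩ := exists_degree_dvd_card ψ.2
    rw [hN] at hedvd
    obtain ⟨j, -, hj⟩ := (Nat.dvd_prime_pow hp.out).mp hedvd
    exact ⟨j, by rw [← hj]; exact Nat.cast_injective ((hD ψ).symm.trans he)⟩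
  have hone : ∀ ψ : IrrCharacter G, ψ ≠ χ → D ψ = 1 := fun ψ hne => by
    obtain ⟨j, hj⟩ := hpowD ψ
    rcases j with _ | j
    · simpa using hj
    · exact absurd (huniq ψ (by rw [charDegree_eq (hD ψ), hj]; exact dvd_pow_self p (Nat.succ_ne_zero j))) hne
  -- the order
  have hA : Nat.card G = (commutator G).index + D χ * D χ := by
    have h : ((∑ ψ : IrrCharacter G, D ψ * D ψ : ℕ) : ℂ) = ((Nat.card G : ℕ) : ℂ) := by
      rw [Nat.cast_sum, Finset.sum_congr rfl fun ψ _ => by rw [Nat.cast_mul, ← hD ψ]]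
      simpa using sum_degree_mul_irr (G := G) 1
    rw [← Nat.cast_injective h, ← Finset.add_sum_erase _ _ (Finset.mem_univ χ),
      Finset.sum_congr rfl fun ψ hψ => by rw [hone ψ (Finset.ne_of_mem_erase hψ), one_mul],
      Finset.sum_const, smul_eq_mul, mul_one, add_comm, ← card_linear, Nat.card_eq_fintype_card,
      Fintype.card_subtype]
    congr 2
    ext ψ
    simp only [Finset.mem_erase, Finset.mem_filter, Finset.mem_univ, true_and, and_true, hD ψ]
    constructor
    · intro h; rw [hone ψ h]; simp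
    · intro h e
      rw [e] at h
      have h1 : D χ = 1 := by exact_mod_cast h
      rw [h1] at hχp
      exact hp.out.not_dvd_one hχp
  obtain ⟨a, -, ha⟩ := (Nat.dvd_prime_pow hp.out).mp (hN ▸ Subgroup.index_dvd_card (commutator G))
  obtain ⟨b, hb⟩ := hpowD χ
  have hp2' : p = 2 ∧ N = a + 1 ∧ D χ * D χ = p ^ a := by
    rw [hN, ha, hb, ← pow_add] at hA
    have hp1 := hp.out.two_le
    have haN : a < N := (Nat.pow_lt_pow_iff_right hp1).mp (by
      rw [hA]; exact Nat.lt_add_of_pos_right (pow_pos hp.out.pos _))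
    have hbN : b + b < N := (Nat.pow_lt_pow_iff_right hp1).mp (by
      rw [hA]; exact Nat.lt_add_of_pos_left (pow_pos hp.out.pos _))
    have hle1 : p ^ (a + 1) ≤ p ^ N := Nat.pow_le_pow_right hp.out.pos haN
    have hle2 : p ^ (b + b + 1) ≤ p ^ N := Nat.pow_le_pow_right hp.out.pos hbN
    have hapos := pow_pos hp.out.pos a
    have hbpos := pow_pos hp.out.pos (b + b)
    rw [pow_succ] at hle1 hle2
    have h2p : p ^ a = p ^ (b + b) ∧ p = 2 := by
      have := Nat.mul_le_mul_left (p ^ a) hp1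
      have := Nat.mul_le_mul_left (p ^ (b + b)) hp1
      have e1 : p ^ a = p ^ (b + b) := by nlinarith
      refine ⟨e1, le_antisymm ?_ hp1⟩
      nlinarith
    refine ⟨h2p.2, ?_, by rw [hb, ← pow_add, h2p.1]⟩
    refine Nat.pow_right_injective hp1 ?_
    show p ^ N = p ^ (a + 1)
    rw [hA, ← h2p.1, pow_succ, h2p.2]
    ring
  obtain ⟨hp2, hNa, hDD⟩ := hp2'
  refine ⟨hp2, ?_⟩
  subst hp2
  have hcard' : Nat.card (commutator G) = 2 := by
    have h := (commutator G).index_mul_card
    rw [ha, hN, hNa, pow_succ] at h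
    exact Nat.eq_of_mul_eq_mul_left (pow_pos two_pos a) h
  have hvanish : ∀ x : G, x ∉ commutator G → (χ : G → ℂ) x = 0 := by
    intro x hx
    haveI : Finite (Abelianization G) := Finite.of_surjective _ QuotientGroup.mk_surjective
    obtain ⟨f, hf⟩ := CommGroup.exists_apply_ne_one_of_hasEnoughRootsOfUnity (Abelianization G) ℂ
      (a := Abelianization.of x) (fun e => hx ((QuotientGroup.eq_one_iff x).mp e))
    have h := hlinmul (f.comp Abelianization.of) x
    by_contra h0
    exact hf (Units.ext (mul_right_cancel₀ h0 (h.symm.trans (one_mul _).symm)))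
  have hle : commutator G ≤ Subgroup.center G := by
    intro z hz
    rw [Subgroup.mem_center_iff]
    intro g
    have hc : g * z * g⁻¹ ∈ commutator G := (inferInstance : (commutator G).Normal).conj_mem z hz g
    obtain ⟨u, v, huv, huniv⟩ := Nat.card_eq_two_iff.mp hcard'
    have hm : ∀ w : commutator G, w = u ∨ w = v := fun w => by
      have := Set.mem_univ w
      rw [← huniv] at this
      simpa using this
    by_cases h1 : z = 1
    · subst h1; simp
    have h2 : g * z * g⁻¹ ≠ 1 := fun e => h1 (by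
      rw [show z = g⁻¹ * (g * z * g⁻¹) * g by group, e]; group)
    have : (⟨_, hc⟩ : commutator G) = ⟨z, hz⟩ := by
      rcases hm ⟨_, hc⟩ with e1 | e1 <;> rcases hm ⟨z, hz⟩ with e2 | e2 <;> rcases hm 1 with e3 | e3
      all_goals first
        | exact e1.trans e2.symm
        | exact absurd (congrArg Subtype.val (e2.trans e3.symm)) h1
        | exact absurd (congrArg Subtype.val (e1.trans e3.symm)) h2
    exact mul_inv_eq_iff_eq_mul.mp (congrArg Subtype.val this)
  have hcenter : commutator G = Subgroup.center G := by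
    refine le_antisymm hle fun z hz => ?_
    by_contra hzc
    have h := central_mul χ.2 hz z⁻¹
    rw [inv_mul_cancel, hvanish z hzc, mul_zero] at h
    exact irr_degree_ne_zero χ.2 (mul_self_eq_zero.mp h)
  have hsq : ∀ x : G, x * x ∈ commutator G := by
    intro x
    rw [hcenter, Subgroup.mem_center_iff]
    intro g
    have hcm : x⁻¹ * g * x * g⁻¹ ∈ commutator G := by
      have := Subgroup.commutator_mem_commutator (Subgroup.mem_top x⁻¹) (Subgroup.mem_top g)
      rwa [commutatorElement_def, inv_inv, ← commutator_def] at this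
    set c := x⁻¹ * g * x * g⁻¹ with hc
    have hc2 : c * c = 1 := by
      have : (⟨c, hcm⟩ : commutator G) ^ Nat.card (commutator G) = 1 := pow_card_eq_one'
      rw [hcard', sq] at this
      exact congrArg Subtype.val this
    have hcz : ∀ w, w * c = c * w := Subgroup.mem_center_iff.mp (hle hcm)
    have e1 : g * x = x * (c * g) := by rw [hc]; group
    calc g * (x * x) = x * (c * g) * x := by rw [← mul_assoc, e1]
      _ = x * (c * (g * x)) := by group
      _ = x * (c * (x * (c * g))) := by rw [e1]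
      _ = x * ((c * x) * (c * g)) := by group
      _ = x * ((x * c) * (c * g)) := by rw [hcz x]
      _ = x * x * ((c * c) * g) := by group
      _ = x * x * g := by rw [hc2, one_mul]
  exact ⟨⟨hG, le_antisymm (hcenter ▸ frattini_le_commutator hsq)
    (hcenter ▸ (CfsgLib.PSolvable.commutator_le_frattini hG).1), hcenter⟩, hcenter ▸ hcard'⟩

end CfsgLib.Char.Extraspecial
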