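import Cfsg.Agent.Lib.Char.BrauerInd
import Cfsg.Agent.Lib.Char.Virtual
import Cfsg.Agent.Lib.Char.Counting
import Cfsg.Agent.Lib.Hall.Carter

/-!
# Parts of elements for a coprime factorisation of the order, Frobenius' count
-/

set_option autoImplicit false

namespace CfsgLib.Char.PiPart

open Cfsg
open scoped ComplexConjugate CfsgLib.Char

variable {G : Type*} [Group G] [Finite G]

/-- Elements of coprime orders of a nilpotent group commute. -/
theorem commute_of_coprime [Group.IsNilpotent G] {x y : G}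
    (h : (orderOf x).Coprime (orderOf y)) : Commute x y := by
  set C := Subgroup.zpowers x ⊓ Subgroup.centralizer ({y} : Set G) with hC
  have hdvd : orderOf x ∣ Nat.card C := by
    rw [Nat.dvd_iff_prime_pow_dvd_dvd]
    intro q j hq hqj
    rcases Nat.eq_zero_or_pos j with rfl | hj
    · simp
    haveI := Fact.mk hq
    have hz : orderOf (x ^ (orderOf x / q ^ j)) = q ^ j :=
      orderOf_pow_orderOf_div (orderOf_pos x).ne' hqj
    have hy : (orderOf y).Coprime q :=
      h.symm.coprime_dvd_right ((dvd_pow_self q hj.ne').trans hqj)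
    have hc := CfsgLib.Hall.commute_of_coprime_orderOf (dvd_of_eq hz) hy
    rw [← hz]
    exact Subgroup.orderOf_dvd_natCard _ (Subgroup.mem_inf.mpr
      ⟨Subgroup.npow_mem_zpowers x _, Subgroup.mem_centralizer_singleton_iff.mpr hc⟩)
  have hle := Subgroup.eq_of_le_of_card_ge (inf_le_left : C ≤ Subgroup.zpowers x)
    (by rw [Nat.card_zpowers]; exact Nat.le_of_dvd Nat.card_pos hdvd)
  have hx : x ∈ C := by rw [hC, hle]; exact Subgroup.mem_zpowers x
  exact Subgroup.mem_centralizer_singleton_iff.mp hx.2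

omit [Finite G] in
theorem orderOf_dvd_of_pow {x : G} {N a m : ℕ} (hN : orderOf x ∣ N) (h : N ∣ a * m) :
    (x ^ a) ^ m = 1 := by
  rw [← pow_mul]
  exact orderOf_dvd_iff_pow_eq_one.mp (hN.trans h)

/-- The exponent selecting the `m`-part of an element. -/
theorem exists_exponent {m n : ℕ} (hmn : m.Coprime n) :
    ∃ a b : ℕ, a ≡ 1 [MOD m] ∧ n ∣ a ∧ m ∣ b ∧ a + b ≡ 1 [MOD m * n] := by
  obtain ⟨a, ha1, ha2⟩ := Nat.chineseRemainder hmn 1 0
  obtain ⟨b, hb1, hb2⟩ := Nat.chineseRemainder hmn 0 1
  refine ⟨a, b, ha1, Nat.modEq_zero_iff_dvd.mp ha2, Nat.modEq_zero_iff_dvd.mp hb1,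
    (Nat.modEq_and_modEq_iff_modEq_mul hmn).mp ⟨?_, ?_⟩⟩
  · simpa using ha1.add hb1
  · simpa using ha2.add hb2

variable {m n a : ℕ} (hN : Nat.card G ∣ m * n) (ha : a ≡ 1 [MOD m]) (hna : n ∣ a)

include hN hna in
/-- The selected part is killed by `m`. -/
theorem part_pow (x : G) : (x ^ a) ^ m = 1 :=
  orderOf_dvd_of_pow ((orderOf_dvd_natCard x).trans hN)
    (by rw [mul_comm m n]; exact Nat.mul_dvd_mul_right hna m)

omit [Finite G] in
include ha in
theorem part_eq_self {x : G} (h : x ^ m = 1) : x ^ a = x := by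
  conv_rhs => rw [← pow_one x]
  exact pow_eq_pow_iff_modEq.mpr (ha.of_dvd (orderOf_dvd_of_pow_eq_one h))

include hN ha hna in
theorem part_eq_one_iff (hmn : m.Coprime n) (x : G) : x ^ a = 1 ↔ x ^ n = 1 := by
  constructor
  · intro h
    rw [← orderOf_dvd_iff_pow_eq_one] at h ⊢
    have h1 : (orderOf x).Coprime m := by
      refine Nat.Coprime.coprime_dvd_left h ?_
      rw [Nat.Coprime, ha.gcd_eq, Nat.gcd_one_left]
    exact h1.dvd_of_dvd_mul_left ((orderOf_dvd_natCard x).trans hN)
  · intro h
    obtain ⟨c, rfl⟩ := hna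
    rw [pow_mul, h, one_pow]

omit [Finite G] in
include ha hna in
/-- The part of a product of commuting parts. -/
theorem part_mul {y z : G} (hyz : Commute y z) (hy : y ^ m = 1) (hz : z ^ n = 1) :
    (y * z) ^ a = y := by
  rw [hyz.mul_pow, part_eq_self ha hy]
  obtain ⟨c, rfl⟩ := hna
  rw [pow_mul, hz, one_pow, mul_one]

include hN ha hna in
/-- The number of elements with a given part. -/
theorem card_fibre (hmn : m.Coprime n) {y : G} (hy : y ^ m = 1) :
    Nat.card {x : G // x ^ a = y} =
      Nat.card {z : Subgroup.centralizer ({y} : Set G) // z ^ n = 1} := by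
  refine Nat.card_congr
    { toFun := fun x => ⟨⟨y⁻¹ * x.1, ?_⟩, ?_⟩
      invFun := fun z => ⟨y * (z.1 : G), ?_⟩
      left_inv := fun x => Subtype.ext (mul_inv_cancel_left y x.1)
      right_inv := fun z => Subtype.ext (Subtype.ext (inv_mul_cancel_left y (z.1 : G))) }
  · rw [Subgroup.mem_centralizer_singleton_iff]
    have hc : Commute x.1 y := by
      have h := (Commute.refl x.1).pow_right a
      rwa [x.2] at h
    exact (((Commute.refl y).inv_left).mul_left hc).eq
  · refine Subtype.ext ?_
    rw [SubmonoidClass.coe_pow, OneMemClass.coe_one]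
    show (y⁻¹ * x.1) ^ n = 1
    rw [← part_eq_one_iff hN ha hna hmn]
    have hc : Commute x.1 y := by
      have h := (Commute.refl x.1).pow_right a
      rwa [x.2] at h
    rw [(hc.symm.inv_left).mul_pow, inv_pow, part_eq_self ha hy, x.2, inv_mul_cancel]
  · refine part_mul ha hna ?_ hy ?_
    · exact (show Commute (z.1 : G) y from Subgroup.mem_centralizer_singleton_iff.mp z.1.2).symm
    · rw [← SubmonoidClass.coe_pow, z.2, OneMemClass.coe_one]

include hN ha hna in
/-- In a nilpotent group taking parts is multiplicative. -/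
theorem part_hom [Group.IsNilpotent G] (hmn : m.Coprime n) (u v : G) :
    (u * v) ^ a = u ^ a * v ^ a := by
  obtain ⟨e⟩ := ((Group.isNilpotent_of_finite_tfae (G := G)).out 0 4).mp
    (inferInstance : Group.IsNilpotent G)
  obtain ⟨u, rfl⟩ := e.surjective u
  obtain ⟨v, rfl⟩ := e.surjective v
  rw [← map_mul, ← map_pow, ← map_pow, ← map_pow, ← map_mul]
  congr 1
  funext p P
  simp only [Pi.pow_apply, Pi.mul_apply]
  haveI := Fact.mk (Nat.prime_of_mem_primeFactors p.2)
  obtain ⟨k, hk⟩ := P.isPGroup'.exists_card_eq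
  have hdvd : (p : ℕ) ^ k ∣ m * n := by
    rw [← hk]
    exact (Subgroup.card_subgroup_dvd_card _).trans hN
  have hsplit : (p : ℕ) ^ k ∣ m ∨ (p : ℕ) ^ k ∣ n := by
    by_cases hp : (p : ℕ) ∣ n
    · refine Or.inr ((Nat.Coprime.pow_left k ?_).dvd_of_dvd_mul_left hdvd)
      exact (hmn.coprime_dvd_right hp).symm
    · exact Or.inl ((Nat.Coprime.pow_left k
        ((Fact.out : (p : ℕ).Prime).coprime_iff_not_dvd.mpr hp)).dvd_of_dvd_mul_right hdvd)
  rcases hsplit with h | h
  · have he : ∀ w : (P : Subgroup G), w ^ a = w := fun w =>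
      part_eq_self ha (orderOf_dvd_iff_pow_eq_one.mp ((orderOf_dvd_natCard w).trans (hk ▸ h)))
    rw [he, he, he]
  · obtain ⟨c, rfl⟩ := hna
    have he : ∀ w : (P : Subgroup G), w ^ (n * c) = 1 := fun w => by
      rw [pow_mul, orderOf_dvd_iff_pow_eq_one.mp ((orderOf_dvd_natCard w).trans (hk ▸ h)), one_pow]
    rw [he, he, he, mul_one]

include hN ha hna in
/-- The range of the part map has order dividing `m`. -/
theorem card_range_dvd (hmn : m.Coprime n) (f : G →* G) (hf : ∀ x, f x = x ^ a) :
    Nat.card f.range ∣ m := by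
  have hcop : (Nat.card f.range).Coprime n := by
    refine Nat.coprime_of_dvd fun q hq hqf hqn => ?_
    haveI := Fact.mk hq
    obtain ⟨w, hw⟩ := exists_prime_orderOf_dvd_card' q hqf
    obtain ⟨x, hx⟩ := w.2
    have h1 : orderOf (w : G) ∣ m := by
      rw [← hx, hf]
      exact orderOf_dvd_of_pow_eq_one (part_pow hN hna x)
    rw [Subgroup.orderOf_coe, hw] at h1
    exact hq.ne_one (Nat.eq_one_of_dvd_coprimes hmn h1 hqn)
  exact hcop.dvd_of_dvd_mul_right ((Subgroup.card_subgroup_dvd_card _).trans hN)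

/-- **Frobenius**: the number of solutions of `x ^ n = 1`, for a Hall divisor `n`. -/
theorem dvd_card_roots [Fintype G] {m n : ℕ} (hN : Nat.card G = m * n) (hmn : m.Coprime n) :
    n ∣ Nat.card {x : G // x ^ n = 1} := by
  classical
  obtain ⟨a, b, ha, hna, -, -⟩ := exists_exponent hmn
  set f : G → ℂ := fun x => if x ^ a = 1 then (m : ℂ) else 0 with hf
  have hcl : IsClassFunction G f := fun g h => by
    simp only [hf, conj_pow, conj_eq_one_iff]
  have hgen : IsGeneralizedCharacter G f := by
    refine brauer_characterisation hcl fun E p hp hE => isGeneralized_of_isCharacter ?_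
    haveI := isNilpotent_of_isElementary hp hE
    haveI : Fintype E := Fintype.ofFinite E
    have hNE : Nat.card E ∣ m * n := hN ▸ Subgroup.card_subgroup_dvd_card E
    let r : E →* E :=
      { toFun := fun x => x ^ a
        map_one' := one_pow a
        map_mul' := part_hom hNE ha hna hmn }
    obtain ⟨c, hc⟩ := card_range_dvd hNE ha hna hmn r fun x => rfl
    have hidx : r.ker.index = Nat.card r.range := Subgroup.index_ker r
    haveI : r.ker.Normal := r.normal_ker
    haveI : Fintype r.ker := Fintype.ofFinite _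
    have he : (fun e : E => f e) = (c : ℂ) • indFun r.ker (fun _ : r.ker => (1 : ℂ)) := by
      funext x
      simp only [hf, Pi.smul_apply, smul_eq_mul]
      by_cases hx : x ∈ r.ker
      · rw [if_pos (by exact_mod_cast congrArg Subtype.val (show x ^ a = 1 from hx)),
          show x = ((⟨x, hx⟩ : r.ker) : E) from rfl, indFun_apply_of_normal, Finset.sum_const,
          Finset.card_univ, nsmul_one, hc, ← hidx, ← Nat.card_eq_fintype_card, ← r.ker.card_mul_index,
          Nat.cast_mul, Nat.cast_mul, inv_mul_cancel_left₀ (Nat.cast_ne_zero.mpr Nat.card_pos.ne'),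
          mul_comm]
      · rw [if_neg (fun h : (x : G) ^ a = 1 => hx (MonoidHom.mem_ker.mpr (Subtype.ext h))),
          indFun_notMem_of_normal _ _ hx, mul_zero]
    rw [he]
    exact isCharacter_natCast_smul (isCharacter_indFun _ isCharacter_one) c
  obtain ⟨z, hz⟩ := exists_int_classInner hgen (isGeneralized_one (G := G))
  simp only [classInner, hf, map_one, mul_one, ← Finset.sum_filter, Finset.sum_const,
    nsmul_eq_mul, hN, Nat.cast_mul] at hz
  have hm0 : (m : ℂ) ≠ 0 := Nat.cast_ne_zero.mpr fun h => Nat.card_pos.ne' (by rw [hN, h, zero_mul] : Nat.card G = 0)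
  have hn0 : (n : ℂ) ≠ 0 := Nat.cast_ne_zero.mpr fun h => Nat.card_pos.ne' (by rw [hN, h, mul_zero] : Nat.card G = 0)
  rw [inv_mul_eq_iff_eq_mul₀ (mul_ne_zero hm0 hn0)] at hz
  have h2 : (((Finset.univ.filter fun x : G => x ^ a = 1).card : ℤ) : ℂ) = (((n : ℤ) * z : ℤ) : ℂ) := by
    refine mul_right_cancel₀ hm0 ?_
    push_cast
    rw [hz]; ring
  have h3 : ((Finset.univ.filter fun x : G => x ^ a = 1).card : ℤ) = (n : ℤ) * z := by exact_mod_cast h2
  rw [Nat.card_eq_fintype_card, Fintype.card_subtype, ← Finset.filter_congr fun x _ =>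
    part_eq_one_iff (dvd_of_eq hN) ha hna hmn x]
  exact Int.natCast_dvd_natCast.mp (Dvd.intro z h3.symm)

end CfsgLib.Char.PiPart
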