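import Cfsg.Agent.Lib.Char.Central
import Mathlib.RingTheory.Polynomial.Cyclotomic.Roots

/-!
# Galois conjugation of character values
-/

set_option autoImplicit false
set_option linter.unusedSectionVars false

namespace CfsgLib.Char

open Cfsg Polynomial
open scoped ComplexConjugate CfsgLib.Char

/-- The algebraic closure of `ℚ` inside `ℂ`. -/
noncomputable abbrev QBar := algebraicClosure ℚ ℂ

theorem mem_qbar_of_isIntegral {z : ℂ} (h : IsIntegral ℤ z) : z ∈ QBar :=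
  (mem_algebraicClosure_iff (F := ℚ) (E := ℂ)).mpr ((h.tower_top (A := ℚ)).isAlgebraic)

instance : Algebra.IsAlgebraic ℚ QBar := algebraicClosure.isAlgebraic ℚ ℂ

/-- An element fixed by all embeddings is rational. -/
theorem exists_rat_of_fixed (z : QBar) (h : ∀ ψ : QBar →ₐ[ℚ] ℂ, ψ z = (z : ℂ)) :
    ∃ q : ℚ, (z : ℂ) = q := by
  have hint : IsIntegral ℚ z := (Algebra.IsAlgebraic.isAlgebraic z).isIntegral
  have hroots : (minpoly ℚ z).rootSet ℂ ⊆ {(z : ℂ)} := by
    rw [← Algebra.IsAlgebraic.range_eval_eq_rootSet_minpoly]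
    rintro _ ⟨ψ, rfl⟩
    exact h ψ
  have hcard := Polynomial.card_rootSet_eq_natDegree (K := ℂ) (minpoly.irreducible hint).separable
    (IsAlgClosed.splits _)
  have hle : Fintype.card ((minpoly ℚ z).rootSet ℂ) ≤ 1 := by
    have := Set.card_le_card hroots
    simpa using this
  have hdeg : (minpoly ℚ z).natDegree = 1 := by
    have := minpoly.natDegree_pos hint
    omega
  obtain ⟨q, hq⟩ := minpoly.natDegree_eq_one_iff.mp hdeg
  exact ⟨q, by rw [← hq]; simp⟩

variable {G : Type*} [Group G] [Finite G]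

theorem value_mem {χ : G → ℂ} (hχ : IsCharacter G χ) (g : G) : χ g ∈ QBar :=
  mem_qbar_of_isIntegral (isIntegral_value hχ g)

/-- A character value as an algebraic number. -/
noncomputable def value {χ : G → ℂ} (hχ : IsCharacter G χ) (g : G) : QBar := ⟨χ g, value_mem hχ g⟩

@[simp] theorem coe_value {χ : G → ℂ} (hχ : IsCharacter G χ) (g : G) :
    ((value hχ g : QBar) : ℂ) = χ g := rfl

theorem map_value_of_pow {ζ : QBar} {k : ℕ} (hζ : IsPrimitiveRoot (ζ : ℂ) (Nat.card G))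
    (ψ : QBar →ₐ[ℚ] ℂ) (hψ : ψ ζ = (ζ : ℂ) ^ k) {χ : G → ℂ} (hχ : IsCharacter G χ) (g : G) :
    ψ (value hχ g) = χ (g ^ k) := by
  obtain ⟨n, ρ, rfl⟩ := hχ
  obtain ⟨μ, h1, h2⟩ := character_pow_eq_sum ρ g
  haveI : NeZero (Nat.card G) := ⟨Nat.card_pos.ne'⟩
  choose i hi1 hi2 using fun j => hζ.eq_pow_of_pow_eq_one (ξ := μ j)
    (orderOf_dvd_iff_pow_eq_one.mp ((orderOf_dvd_of_pow_eq_one (h1 j)).trans (orderOf_dvd_natCard g)))
  have hv : value ⟨n, ρ, rfl⟩ g = ∑ j, ζ ^ i j := by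
    apply Subtype.ext
    push_cast
    show ρ.character g = _
    rw [← pow_one g, h2 1]
    exact Finset.sum_congr rfl fun j _ => by rw [pow_one, hi2]
  rw [hv, map_sum, h2 k]
  exact Finset.sum_congr rfl fun j _ => by rw [map_pow, hψ, ← pow_mul, mul_comm, pow_mul, hi2]

theorem exists_primitiveRoot_qbar (N : ℕ) (hN : N ≠ 0) : ∃ ζ : QBar, IsPrimitiveRoot (ζ : ℂ) N :=
  ⟨⟨_, mem_qbar_of_isIntegral ((Complex.isPrimitiveRoot_exp N hN).isIntegral (Nat.pos_of_ne_zero hN))⟩,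
    Complex.isPrimitiveRoot_exp N hN⟩

variable (G) in
/-- Every embedding acts on all character values as a power map on the group. -/
theorem exists_galois_exponent (ψ : QBar →ₐ[ℚ] ℂ) :
    ∃ k : ℕ, k.Coprime (Nat.card G) ∧
      ∀ {χ : G → ℂ} (hχ : IsCharacter G χ) (g : G), ψ (value hχ g) = χ (g ^ k) := by
  obtain ⟨ζ, hζ⟩ := exists_primitiveRoot_qbar (Nat.card G) Nat.card_pos.ne'
  have h2 : IsPrimitiveRoot ζ (Nat.card G) :=
    IsPrimitiveRoot.of_map_of_injective (f := algebraMap QBar ℂ) hζ (algebraMap QBar ℂ).injective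
  have h3 : IsPrimitiveRoot (ψ ζ) (Nat.card G) := h2.map_of_injective ψ.injective
  haveI : NeZero (Nat.card G) := ⟨Nat.card_pos.ne'⟩
  obtain ⟨k, _, hk, hke⟩ := (hζ.isPrimitiveRoot_iff).mp h3
  exact ⟨k, hk, fun hχ g => map_value_of_pow hζ ψ hke.symm hχ g⟩

/-- Every exponent prime to the group order comes from an embedding. -/
theorem exists_galois_of_coprime {k : ℕ} (hk : k.Coprime (Nat.card G)) :
    ∃ ψ : QBar →ₐ[ℚ] ℂ,
      ∀ {χ : G → ℂ} (hχ : IsCharacter G χ) (g : G), ψ (value hχ g) = χ (g ^ k) := by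
  obtain ⟨ζ, hζ⟩ := exists_primitiveRoot_qbar (Nat.card G) Nat.card_pos.ne'
  have hmem : (ζ : ℂ) ^ k ∈ (minpoly ℚ ζ).rootSet ℂ := by
    have hmin : minpoly ℚ ζ = minpoly ℚ (ζ : ℂ) :=
      (minpoly.algebraMap_eq (algebraMap QBar ℂ).injective ζ).symm
    rw [hmin, Polynomial.mem_rootSet]
    refine ⟨minpoly.ne_zero ((hζ.isIntegral Nat.card_pos).tower_top), ?_⟩
    have h1 := Polynomial.cyclotomic_eq_minpoly_rat hζ Nat.card_pos
    haveI : NeZero ((Nat.card G : ℕ) : ℂ) := ⟨Nat.cast_ne_zero.mpr Nat.card_pos.ne'⟩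
    have h2 := (Polynomial.isRoot_cyclotomic_iff).mpr (hζ.pow_of_coprime k hk)
    rw [← h1, Polynomial.aeval_def, ← Polynomial.eval_map, Polynomial.map_cyclotomic]
    exact h2
  rw [← Algebra.IsAlgebraic.range_eval_eq_rootSet_minpoly] at hmem
  obtain ⟨ψ, hψ⟩ := hmem
  exact ⟨ψ, fun hχ g => map_value_of_pow hζ ψ hψ hχ g⟩

/-- A character value is rational iff it is unchanged by prime-to-order powers. -/
theorem rat_value_iff {χ : G → ℂ} (hχ : IsCharacter G χ) (g : G) :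
    (∃ q : ℚ, χ g = q) ↔ ∀ k : ℕ, k.Coprime (Nat.card G) → χ (g ^ k) = χ g := by
  constructor
  · rintro ⟨q, hq⟩ k hk
    obtain ⟨ψ, hψ⟩ := exists_galois_of_coprime (G := G) hk
    rw [← hψ hχ g]
    have e : value hχ g = (q : QBar) := Subtype.ext (by rw [coe_value, hq]; simp)
    rw [e, map_ratCast, ← hq]
  · intro h
    refine exists_rat_of_fixed (value hχ g) fun ψ => ?_
    obtain ⟨k, hk, hψ⟩ := exists_galois_exponent G ψ
    rw [hψ hχ g]
    exact h k hk

end CfsgLib.Char
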