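import Cfsg.Agent.Lib.Char.BrauerInd
import Cfsg.Agent.Lib.Char.Galois

/-!
# Composing characters with power maps of exponent prime to the group order
-/

set_option autoImplicit false

namespace CfsgLib.Char

open Cfsg
open scoped ComplexConjugate CfsgLib.Char

variable {G : Type*} [Group G]

theorem isClassFunction_pow {f : G → ℂ} (hf : IsClassFunction G f) (k : ℕ) :
    IsClassFunction G (fun g => f (g ^ k)) := by
  intro g h
  show f ((h * g * h⁻¹) ^ k) = f (g ^ k)
  rw [conj_pow, hf]

theorem mem_of_pow_mem_of_coprime [Finite G] {k : ℕ} (hk : k.Coprime (Nat.card G)) (H : Subgroup G)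
    {g : G} (hg : g ^ k ∈ H) : g ∈ H := by
  rcases eq_or_ne g 1 with rfl | -
  · exact H.one_mem
  obtain ⟨j, hj⟩ := exists_pow_eq_self_of_coprime
    (Nat.Coprime.coprime_dvd_right (orderOf_dvd_natCard g) hk)
  exact hj ▸ H.pow_mem hg j

theorem isGeneralized_pow [Fintype G] {k : ℕ} (hk : k.Coprime (Nat.card G)) {χ : G → ℂ}
    (hχ : IsGeneralizedCharacter G χ) : IsGeneralizedCharacter G (fun g => χ (g ^ k)) := by
  classical
  have h := mem_monomialSpan hχ
  clear hχ
  induction h using AddSubgroup.closure_induction with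
  | mem f hf =>
    obtain ⟨E, lam, -, rfl⟩ := hf
    have e : (fun g => indFun E (fun e => (lam e : ℂ)) (g ^ k)) =
        indFun E (fun e => ((lam ^ k) e : ℂ)) := by
      funext g
      simp only [indFun]
      congr 1
      refine Finset.sum_congr rfl fun x _ => ?_
      have hc : x⁻¹ * g ^ k * x = (x⁻¹ * g * x) ^ k := by
        have := conj_pow (i := k) (a := x⁻¹) (b := g)
        rw [inv_inv] at this
        exact this.symm
      rw [hc]
      by_cases hx : x⁻¹ * g * x ∈ E
      · rw [extendByZero_mem E _ hx, extendByZero_mem E _ (E.pow_mem hx k), MonoidHom.pow_apply,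
          ← map_pow]
        rfl
      · rw [extendByZero_notMem E _ hx,
          extendByZero_notMem E _ fun h => hx (mem_of_pow_mem_of_coprime hk E h)]
    rw [e]
    exact isGeneralized_indFun E (isGeneralized_of_isCharacter (isCharacter_monoidHom _))
  | zero => exact isGeneralized_zero
  | add _ _ _ _ h1 h2 => exact isGeneralized_add h1 h2
  | neg _ _ h1 => exact isGeneralized_neg h1

theorem classInner_pow [Fintype G] {k : ℕ} (hk : k.Coprime (Nat.card G)) (φ ψ : G → ℂ) :
    classInner (fun g => φ (g ^ k)) (fun g => ψ (g ^ k)) = classInner φ ψ := by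
  simp only [classInner]
  congr 1
  exact Fintype.sum_equiv (powCoprime (G := G) (n := k) hk.symm) _ _ fun g => rfl

/-- Composing an irreducible character with a power map of exponent prime to the order. -/
theorem isIrrCharacter_pow [Finite G] {k : ℕ} (hk : k.Coprime (Nat.card G)) {χ : G → ℂ}
    (hχ : IsIrrCharacter G χ) : IsIrrCharacter G (fun g => χ (g ^ k)) := by
  classical
  haveI := Fintype.ofFinite G
  obtain ⟨ε, hε, ψ, hψ⟩ := exists_of_norm_one
    (isGeneralized_pow hk (isGeneralized_of_isIrr hχ))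
    (by rw [classInner_pow hk, classInner_irr_self hχ])
  rcases hε with rfl | rfl
  · rw [hψ, one_smul]; exact ψ.2
  · exfalso
    have h1 := congrFun hψ 1
    simp only [one_pow, Pi.smul_apply, smul_eq_mul] at h1
    obtain ⟨m, hm0, hm⟩ := exists_nat_degree_irr hχ
    obtain ⟨n, -, hn⟩ := exists_nat_degree_irr ψ.2
    rw [hm, hn] at h1
    have hsum : ((m + n : ℕ) : ℂ) = 0 := by push_cast; rw [h1]; ring
    have := Nat.cast_eq_zero.mp hsum
    omega

theorem isCharacter_pow [Finite G] {k : ℕ} (hk : k.Coprime (Nat.card G)) {χ : G → ℂ}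
    (hχ : IsCharacter G χ) : IsCharacter G (fun g => χ (g ^ k)) := by
  obtain ⟨m, hm⟩ := exists_multiplicities hχ
  have e : (fun g => χ (g ^ k)) =
      ∑ ψ : IrrCharacter G, (m ψ : ℂ) • fun g => (ψ : G → ℂ) (g ^ k) := by
    funext g
    rw [hm]
    simp [Finset.sum_apply]
  rw [e]
  exact isCharacter_sum _ _ fun ψ _ =>
    isCharacter_natCast_smul (isCharacter_of_isIrr (isIrrCharacter_pow hk ψ.2)) _

theorem exists_coprime_exponent {N m n : ℕ} (hN : N ≠ 0) (hmn : m.Coprime n) (hd : m * n ∣ N)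
    {k : ℕ} (hk : k.Coprime m) :
    ∃ k' : ℕ, k'.Coprime N ∧ k' ≡ k [MOD m] ∧ k' ≡ 1 [MOD n] := by
  obtain ⟨c, hc1, hc2⟩ := Nat.chineseRemainder hmn k 1
  have hc : c.Coprime (m * n) := by
    refine Nat.Coprime.mul_right ?_ ?_
    · rw [Nat.Coprime, hc1.gcd_eq]; exact hk
    · rw [Nat.Coprime, hc2.gcd_eq, Nat.gcd_one_left]
  haveI : NeZero N := ⟨hN⟩
  obtain ⟨u, hu⟩ := ZMod.unitsMap_surjective hd (ZMod.unitOfCoprime c hc)
  have hu' : ((u : ZMod N).val : ZMod (m * n)) = (c : ZMod (m * n)) := by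
    have h1 := congrArg Units.val hu
    rw [ZMod.unitsMap_val, ZMod.coe_unitOfCoprime, ← ZMod.natCast_val] at h1
    exact h1
  have hmod := (ZMod.natCast_eq_natCast_iff _ _ _).mp hu'
  exact ⟨_, ZMod.val_coe_unit_coprime u,
    (hmod.of_mul_right n).trans hc1, (hmod.of_mul_left m).trans hc2⟩

theorem pow_eq_self_of_modEq_one {g : G} {n k : ℕ} (hg : orderOf g ∣ n) (hk : k ≡ 1 [MOD n]) :
    g ^ k = g := by
  conv_rhs => rw [← pow_one g]
  exact pow_eq_pow_iff_modEq.mpr (hk.of_dvd hg)

end CfsgLib.Char
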