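import Cfsg.Agent.Lib.FSCount.Basic

/-!
# The Frobenius–Schur indicator of an irreducible character
-/

set_option autoImplicit false
set_option linter.unusedSectionVars false

namespace CfsgLib.Char

open Cfsg CfsgLib.FSCount Module
open scoped ComplexConjugate CfsgLib.Char

variable {G : Type*} [Group G] [Fintype G]

/-- The Frobenius–Schur indicator. -/
noncomputable def indicator (χ : G → ℂ) : ℂ := (Nat.card G : ℂ)⁻¹ * ∑ g : G, χ (g * g)

theorem trace_congr {n : ℕ} (ρ : Representation ℂ G (Fin n → ℂ)) (g : G) :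
    LinearMap.trace ℂ _ (congr ρ g) = ρ.character g * ρ.character g := by
  classical
  set A := LinearMap.toMatrix' (ρ g) with hA
  have h2 : ρ.character g = ∑ i, A i i := by
    show LinearMap.trace ℂ _ (ρ g) = _
    rw [LinearMap.trace_eq_matrix_trace ℂ (Pi.basisFun ℂ (Fin n)), LinearMap.toMatrix_eq_toMatrix']
    simp [Matrix.trace, hA]
  rw [h2, LinearMap.trace_eq_matrix_trace ℂ (Matrix.stdBasis ℂ (Fin n) (Fin n))]
  simp only [Matrix.trace, Matrix.diag_apply, LinearMap.toMatrix_apply]
  rw [Fintype.sum_prod_type, Finset.sum_mul]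
  refine Finset.sum_congr rfl fun i _ => ?_
  rw [Finset.mul_sum]
  refine Finset.sum_congr rfl fun j _ => ?_
  rw [Matrix.stdBasis_eq_single]
  show (A * Matrix.single i j (1 : ℂ) * A.transpose) i j = _
  simp [Matrix.mul_apply, Matrix.single, Matrix.transpose_apply, mul_comm, ite_and]

/-- The data of the indicator: invariant forms, and symmetric invariant forms. -/
theorem indicator_eq {n : ℕ} (ρ : Representation ℂ G (Fin n → ℂ)) :
    ∃ P : Module.End ℂ (Matrix (Fin n) (Fin n) ℂ), ∃ a b : ℕ,
      classInner ρ.character (fun g => conj (ρ.character g)) = a ∧ b ≤ a ∧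
      indicator ρ.character = 2 * (b : ℂ) - a ∧
      (∀ X, P X = (Nat.card G : ℂ)⁻¹ • ∑ g : G, congr ρ g X) ∧ a = finrank ℂ (LinearMap.range P) ∧
      (b < a → ∃ X : Matrix (Fin n) (Fin n) ℂ, X ≠ 0 ∧ X.transpose = -X ∧
        ∀ g, congr ρ g X = X) ∧
      (b = a → ∀ X : Matrix (Fin n) (Fin n) ℂ, (∀ g, congr ρ g X = X) → X.transpose = X) := by
  set σ := congr ρ with hσ
  set τ := flipMap n with hτ
  set P : Module.End ℂ (Matrix (Fin n) (Fin n) ℂ) := (Nat.card G : ℂ)⁻¹ • ∑ g : G, σ g with hP
  have hτσ : ∀ g, τ * σ g = σ g * τ := by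
    intro g
    ext1 X
    show (LinearMap.toMatrix' (ρ g) * X * (LinearMap.toMatrix' (ρ g)).transpose).transpose =
      LinearMap.toMatrix' (ρ g) * X.transpose * (LinearMap.toMatrix' (ρ g)).transpose
    simp [Matrix.transpose_mul, Matrix.mul_assoc]
  have hττ : τ * τ = 1 := by ext1 X; rfl
  have hn : (Nat.card G : ℂ) ≠ 0 := by exact_mod_cast Nat.card_pos.ne'
  have hσP : ∀ g, σ g * P = P := by
    intro g
    rw [hP, mul_smul_comm, Finset.mul_sum]
    congr 1
    rw [← Equiv.sum_comp (Equiv.mulLeft g) (fun h => σ h)]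
    exact Finset.sum_congr rfl fun h _ => (map_mul σ g h).symm
  have hPP : P * P = P := by
    conv_lhs => arg 1; rw [hP]
    rw [smul_mul_assoc, Finset.sum_mul, Finset.sum_congr rfl fun g _ => hσP g, Finset.sum_const,
      Finset.card_univ, ← Nat.card_eq_fintype_card, ← Nat.cast_smul_eq_nsmul ℂ, smul_smul,
      inv_mul_cancel₀ hn, one_smul]
  have hτP : τ * P = P * τ := by
    rw [hP, mul_smul_comm, smul_mul_assoc, Finset.mul_sum, Finset.sum_mul]
    congr 1
    exact Finset.sum_congr rfl fun g _ => hτσ g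
  set Q : Module.End ℂ (Matrix (Fin n) (Fin n) ℂ) := (2 : ℂ)⁻¹ • (P + τ * P) with hQ
  have e1 : P * (τ * P) = τ * P := by rw [← mul_assoc, ← hτP, mul_assoc, hPP]
  have hQQ : Q * Q = Q := by
    have e2 : (τ * P) * P = τ * P := by rw [mul_assoc, hPP]
    have e3 : (τ * P) * (τ * P) = P := by rw [mul_assoc, e1, ← mul_assoc, hττ, one_mul]
    show ((2 : ℂ)⁻¹ • (P + τ * P)) * ((2 : ℂ)⁻¹ • (P + τ * P)) = _
    rw [smul_mul_assoc, mul_smul_comm, smul_smul, add_mul, mul_add, mul_add, hPP, e1, e2, e3]
    module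
  have hPQ : P * Q = Q := by
    rw [hQ, mul_smul_comm, mul_add, hPP, e1]
  have hproj : ∀ R : Module.End ℂ (Matrix (Fin n) (Fin n) ℂ), R * R = R →
      LinearMap.trace ℂ _ R = finrank ℂ (LinearMap.range R) := fun R hR =>
    ((LinearMap.isProj_range_iff_isIdempotentElem R).mpr hR).trace
  have hle : LinearMap.range Q ≤ LinearMap.range P := by
    rintro _ ⟨X, rfl⟩
    exact ⟨Q X, LinearMap.congr_fun hPQ X⟩
  refine ⟨P, finrank ℂ (LinearMap.range P), finrank ℂ (LinearMap.range Q), ?_,
    Submodule.finrank_mono hle, ?_, fun X => ?_, rfl, ?_, ?_⟩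
  · rw [← hproj P hPP, hP, map_smul, map_sum, smul_eq_mul, classInner]
    congr 1
    exact Finset.sum_congr rfl fun g _ => by rw [hσ, trace_congr]; simp
  · have htr : LinearMap.trace ℂ _ (τ * P) = indicator ρ.character := by
      rw [hP, mul_smul_comm, map_smul, Finset.mul_sum, map_sum, smul_eq_mul, indicator]
      congr 1
      exact Finset.sum_congr rfl fun g _ => trace_flip_congr ρ g
    rw [← htr]
    have : τ * P = (2 : ℂ) • Q - P := by
      rw [hQ, smul_smul, mul_inv_cancel₀ two_ne_zero, one_smul, add_sub_cancel_left]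
    rw [this, map_sub, map_smul, hproj Q hQQ, hproj P hPP, smul_eq_mul]
  · rw [hP]; simp
  · intro hlt
    obtain ⟨_, ⟨X, rfl⟩, hXQ⟩ := SetLike.exists_of_lt
      (lt_of_le_of_ne hle fun h => hlt.ne (by rw [h]))
    refine ⟨P X - Q (P X), fun h0 => hXQ ⟨P X, (sub_eq_zero.mp h0).symm⟩, ?_, fun g => ?_⟩
    · have hPX : P (P X) = P X := LinearMap.congr_fun hPP X
      have hQv : Q (P X) = (2 : ℂ)⁻¹ • (P X + τ (P X)) := by
        rw [hQ]; show (2 : ℂ)⁻¹ • (P (P X) + τ (P (P X))) = _; rw [hPX]
      rw [hQv]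
      show τ (P X - (2 : ℂ)⁻¹ • (P X + τ (P X))) = _
      rw [map_sub, map_smul, map_add, show τ (τ (P X)) = P X from LinearMap.congr_fun hττ (P X)]
      module
    · rw [map_sub, show σ g (P X) = P X from LinearMap.congr_fun (hσP g) X]
      congr 1
      rw [show Q (P X) = P (Q (P X)) from (LinearMap.congr_fun hPQ (P X)).symm]
      exact LinearMap.congr_fun (hσP g) _
  · intro heq X hX
    have hPX : P X = X := by
      rw [hP]
      simp only [LinearMap.smul_apply, LinearMap.sum_apply, hX, Finset.sum_const, Finset.card_univ,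
        ← Nat.card_eq_fintype_card, ← Nat.cast_smul_eq_nsmul ℂ, smul_smul, inv_mul_cancel₀ hn,
        one_smul]
    obtain ⟨Y, hY⟩ : X ∈ LinearMap.range Q := by
      rw [Submodule.eq_of_le_of_finrank_eq hle heq]; exact ⟨X, hPX⟩
    have hτQ : τ * Q = Q := by
      rw [hQ, mul_smul_comm, mul_add, ← mul_assoc, hττ, one_mul, add_comm]
    rw [← hY]
    exact LinearMap.congr_fun hτQ Y

theorem classInner_conj_cases {χ : G → ℂ} (hχ : IsIrrCharacter G χ) :
    classInner χ (fun g => conj (χ g)) = (open Classical in if (∀ g, (χ g).im = 0) then 1 else 0) := by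
  classical
  rw [classInner_irr hχ (isIrrCharacter_conj hχ)]
  by_cases h : ∀ g, (χ g).im = 0
  · rw [if_pos h, if_pos]
    funext g
    exact (Complex.conj_eq_iff_im.mpr (h g)).symm
  · rw [if_neg h, if_neg]
    exact fun e => h fun g => Complex.conj_eq_iff_im.mp (congrFun e g).symm

/-- The trichotomy of the indicator. -/
theorem indicator_cases {χ : G → ℂ} (hχ : IsIrrCharacter G χ) :
    ((∀ g, (χ g).im = 0) ∧ (indicator χ = 1 ∨ indicator χ = -1)) ∨
      ((∃ g, (χ g).im ≠ 0) ∧ indicator χ = 0) := by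
  classical
  obtain ⟨n, ρ, hρ, rfl⟩ := hχ
  obtain ⟨P, a, b, ha, hba, hi, -, -, -, -⟩ := indicator_eq ρ
  have hc := classInner_conj_cases (χ := ρ.character) ⟨n, ρ, hρ, rfl⟩
  rw [ha] at hc
  by_cases h : ∀ g, (ρ.character g).im = 0
  · left
    rw [if_pos h, Nat.cast_eq_one] at hc
    subst hc
    refine ⟨h, ?_⟩
    interval_cases b
    · right; rw [hi]; norm_num
    · left; rw [hi]; norm_num
  · right
    rw [if_neg h, Nat.cast_eq_zero] at hc
    subst hc
    exact ⟨not_forall.mp h, by rw [hi, Nat.le_zero.mp hba]; norm_num⟩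

/-- A real irreducible character of odd degree has indicator one. -/
theorem indicator_eq_one_of_odd {χ : G → ℂ} (hχ : IsIrrCharacter G χ)
    (hreal : ∀ g, (χ g).im = 0) {d : ℕ} (hd : χ 1 = d) (hodd : Odd d) : indicator χ = 1 := by
  classical
  obtain ⟨n, ρ, hρ, rfl⟩ := hχ
  obtain ⟨P, a, b, ha, hba, hi, -, -, hskew, -⟩ := indicator_eq ρ
  have hn : n = d := by
    rw [Representation.char_one, Module.finrank_fin_fun] at hd; exact_mod_cast hd
  have hc := classInner_conj_cases (χ := ρ.character) ⟨n, ρ, hρ, rfl⟩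
  rw [ha, if_pos hreal, Nat.cast_eq_one] at hc
  subst hc
  interval_cases b
  · exfalso
    obtain ⟨X, hX0, hXT, hfix⟩ := hskew Nat.zero_lt_one
    let L := Matrix.toLin' X
    let W : Subrepresentation ρ :=
      { toSubmodule := LinearMap.range L
        apply_mem_toSubmodule := fun g v hv => by
          obtain ⟨w, rfl⟩ := hv
          set A := LinearMap.toMatrix' (ρ g)
          set B := LinearMap.toMatrix' (ρ g⁻¹)
          have hAB : A.transpose * B.transpose = 1 := by
            rw [← Matrix.transpose_mul, ← LinearMap.toMatrix'_comp, ← Module.End.mul_eq_comp,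
              ← map_mul, inv_mul_cancel, map_one]
            simp
          have hcomm : A * X = X * B.transpose := by
            have h1 : A * X * A.transpose = X := hfix g
            calc A * X = A * X * (A.transpose * B.transpose) := by rw [hAB, Matrix.mul_one]
              _ = X * B.transpose := by rw [← Matrix.mul_assoc, h1]
          refine ⟨Matrix.toLin' B.transpose w, ?_⟩
          show Matrix.toLin' X (Matrix.toLin' B.transpose w) = ρ g (Matrix.toLin' X w)
          rw [← Matrix.toLin'_mul_apply, ← hcomm, Matrix.toLin'_mul_apply]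
          simp [A] }
    have hW : W ≠ ⊥ := fun h => hX0 (by
      have h1 : LinearMap.range L = ⊥ := congrArg Subrepresentation.toSubmodule h
      exact Matrix.toLin'.injective (by rw [map_zero]; exact LinearMap.range_eq_bot.mp h1))
    haveI := hρ
    have hWtop := (IsSimpleOrder.eq_bot_or_eq_top W).resolve_left hW
    have hsurj : Function.Surjective L :=
      LinearMap.range_eq_top.mp (congrArg Subrepresentation.toSubmodule hWtop)
    have hdet : X.det ≠ 0 := by
      have hu : IsUnit L := (Module.End.isUnit_iff L).mpr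
        ⟨LinearMap.injective_iff_surjective.mpr hsurj, hsurj⟩
      have := LinearMap.isUnit_det L hu
      rw [LinearMap.det_toLin'] at this
      exact this.ne_zero
    apply hdet
    have h1 : X.det = -X.det := by
      nth_rw 1 [← Matrix.det_transpose, hXT, Matrix.det_neg, Fintype.card_fin,
        Odd.neg_one_pow (hn ▸ hodd), neg_one_mul]
    linear_combination h1 / 2
  · rw [hi]; norm_num

end CfsgLib.Char
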