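import Cfsg.Agent.Lib.Char.Clifford
import Cfsg.Agent.Lib.Char.Counting
import Cfsg.Agent.Lib.Char.Indicator
import Cfsg.Agent.Lib.Char.Extraspecial

/-!
Strongly real characters of `N ⋊ P` with `N` elementary abelian of odd order and `P` a 2-group.
-/

set_option autoImplicit false
set_option linter.style.haveILetI false

open Cfsg
open scoped CfsgLib.Char ComplexConjugate

namespace CfsgLib.Char.StrongReal

variable {G : Type*} [Group G] [Fintype G]

/-- Homomorphisms into `ℂˣ` trivial on a subgroup are at most as many as its cosets. -/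
theorem card_trivial_on_le (T : Subgroup G) (s : Finset (G →* ℂˣ))
    (hs : ∀ f ∈ s, ∀ t ∈ T, f t = 1) : s.card ≤ T.index := by
  classical
  letI : Fintype (G ⧸ T) := Fintype.ofFinite _
  let L : (G ⧸ T → ℂ) →ₗ[ℂ] (G → ℂ) :=
    { toFun := fun v g => v (g : G ⧸ T)
      map_add' := fun _ _ => rfl
      map_smul' := fun _ _ => rfl }
  let v : s → (G ⧸ T → ℂ) := fun f c => ((f : G →* ℂˣ) c.out : ℂ)
  have hv : ∀ f : s, L (v f) = fun g => (((f : G →* ℂˣ) g : ℂˣ) : ℂ) := by
    intro f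
    funext g
    show (((f : G →* ℂˣ) (g : G ⧸ T).out : ℂˣ) : ℂ) = _
    obtain ⟨t, ht⟩ := QuotientGroup.mk_out_eq_mul T g
    rw [ht, map_mul, hs _ f.2 _ t.2, mul_one]
  have hind : LinearIndependent ℂ v := by
    refine LinearIndependent.of_comp L ?_
    rw [show L ∘ v = fun f : s => fun g : G => (((f : G →* ℂˣ) g : ℂˣ) : ℂ) from funext hv]
    exact (linearIndependent_monoidHom G ℂ).comp
      (fun f : s => (Units.coeHom ℂ).comp (f : G →* ℂˣ)) fun a b hab =>
        Subtype.ext (MonoidHom.ext fun g => Units.ext (DFunLike.congr_fun hab g))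
  have := hind.fintype_card_le_finrank
  rwa [Fintype.card_coe, Module.finrank_fintype_fun_eq_card, ← Nat.card_eq_fintype_card,
    ← Subgroup.index_eq_card] at this

theorem sum_hom_eq_zero {A : Type*} [Group A] [Fintype A] (f : A →* ℂˣ) (hf : f ≠ 1) :
    ∑ a : A, ((f a : ℂˣ) : ℂ) = 0 := by
  obtain ⟨a, ha⟩ : ∃ a, f a ≠ 1 := by
    by_contra h
    push Not at h
    exact hf (MonoidHom.ext fun a => by rw [h a, MonoidHom.one_apply])
  have h1 : ((f a : ℂˣ) : ℂ) * ∑ x : A, ((f x : ℂˣ) : ℂ) = ∑ x : A, ((f x : ℂˣ) : ℂ) := by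
    rw [Finset.mul_sum]
    refine Fintype.sum_equiv (Equiv.mulLeft a) _ _ fun x => ?_
    simp [map_mul]
  by_contra hne
  exact ha (Units.ext (mul_eq_right₀ hne |>.mp h1))

variable (N P : Subgroup G) [hN : N.Normal] [Fintype N]

/-- A linear character with a complement, inverted by `z`, gives strongly real characters. -/
theorem exists_family (hc : Subgroup.IsComplement' N P) (hab : ∀ a ∈ N, ∀ b ∈ N, a * b = b * a)
    (hodd : Odd (Nat.card N)) (hP : IsPGroup 2 P) {z : G} (hzP : z ∈ P) (hz2 : z * z = 1)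
    (hzc : ∀ y ∈ P, z * y = y * z) (hzinv : ∀ n ∈ N, z * n * z⁻¹ = n⁻¹) (hN1 : N ≠ ⊥) :
    ∃ (o : ℕ) (S : Finset (IrrCharacter G)), 2 ≤ o ∧ 2 ∣ o ∧
      (∀ χ ∈ S, (χ : G → ℂ) 1 = (o : ℂ) ∧ indicator (χ : G → ℂ) = 1) ∧
      ∀ s : Finset (G →* ℂˣ), (∀ f ∈ s, ∀ g, f g * f g = 1) → s.card ≤ o * S.card := by
  classical
  -- the projection to `P`
  let mk : ↥P →* G ⧸ N := (QuotientGroup.mk' N).comp P.subtype
  have hsplit : ∀ g : G, ∃ n ∈ N, ∃ y ∈ P, n * y = g := by
    intro g
    have hg : g ∈ ((N ⊔ P : Subgroup G) : Set G) := by rw [hc.sup_eq_top]; exact Subgroup.mem_top g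
    rw [Subgroup.normal_mul] at hg
    exact Set.mem_mul.mp hg
  have hmk : Function.Bijective mk := by
    constructor
    · intro a b hab'
      have h1 : (a : G)⁻¹ * b ∈ N ⊓ P :=
        Subgroup.mem_inf.mpr ⟨QuotientGroup.eq.mp hab', P.mul_mem (P.inv_mem a.2) b.2⟩
      rw [hc.disjoint.eq_bot, Subgroup.mem_bot, inv_mul_eq_one] at h1
      exact Subtype.ext h1
    · intro u
      obtain ⟨g, rfl⟩ := QuotientGroup.mk'_surjective N u
      obtain ⟨n, hn, y, hy, rfl⟩ := hsplit g
      refine ⟨⟨y, hy⟩, ?_⟩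
      show QuotientGroup.mk' N y = QuotientGroup.mk' N (n * y)
      rw [map_mul, show QuotientGroup.mk' N n = 1 from (QuotientGroup.eq_one_iff n).mpr hn, one_mul]
  let ρ : G →* ↥P := (MulEquiv.ofBijective mk hmk).symm.toMonoidHom.comp (QuotientGroup.mk' N)
  have hρP : ∀ y : P, ρ (y : G) = y := fun y => (MulEquiv.ofBijective mk hmk).symm_apply_apply y
  have hρN : ∀ n ∈ N, ρ n = 1 := fun n hn => by
    show (MulEquiv.ofBijective mk hmk).symm (QuotientGroup.mk' N n) = 1
    rw [show QuotientGroup.mk' N n = 1 from (QuotientGroup.eq_one_iff n).mpr hn, map_one]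
  have hρny : ∀ n ∈ N, ∀ y : P, ρ (n * y) = y := fun n hn y => by
    rw [map_mul, hρN n hn, one_mul, hρP]
  have hνN : ∀ g : G, g * (ρ g : G)⁻¹ ∈ N := by
    intro g
    obtain ⟨n, hn, y, hy, rfl⟩ := hsplit g
    rw [show ρ (n * y) = ⟨y, hy⟩ from hρny n hn ⟨y, hy⟩, mul_inv_cancel_right]
    exact hn
  let ν : G → N := fun g => ⟨g * (ρ g : G)⁻¹, hνN g⟩
  -- a nonprincipal linear character of `N`
  letI : CommGroup N :=
    { (inferInstance : Group N) with mul_comm := fun a b => Subtype.ext (hab a a.2 b b.2) }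
  obtain ⟨n0, hn0, hn01⟩ := (Subgroup.bot_or_exists_ne_one N).resolve_left hN1
  obtain ⟨l, hl⟩ := CommGroup.exists_apply_ne_one_of_hasEnoughRootsOfUnity N ℂ
    (a := (⟨n0, hn0⟩ : N)) (fun h => hn01 (congrArg Subtype.val h))
  have hl2 : ∀ f : N →* ℂˣ, (∀ n, f n * f n = 1) → f = 1 := by
    intro f hf
    refine MonoidHom.ext fun n => ?_
    have h1 : orderOf (f n) ∣ 2 := orderOf_dvd_of_pow_eq_one (by rw [pow_two]; exact hf n)
    have h2 : orderOf (f n) ∣ Nat.card N := (orderOf_map_dvd f n).trans (orderOf_dvd_natCard n)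
    rw [MonoidHom.one_apply, ← orderOf_eq_one_iff]
    exact Nat.eq_one_of_dvd_coprimes
      ((Nat.prime_two.coprime_iff_not_dvd).mpr (fun h => by
        rcases hodd with ⟨k, hk⟩; omega)) h1 h2
  let cn : ↥P → N → N := fun y n => ⟨(y : G) * n * (y : G)⁻¹, hN.conj_mem _ n.2 _⟩
  have hcn : ∀ y : P, ∀ a b : N, cn y (a * b) = cn y a * cn y b := fun y a b =>
    Subtype.ext (by simp [cn])
  let H : Subgroup ↥P :=
    { carrier := {y | ∀ n : N, l (cn y n) = l n}
      one_mem' := fun n => congrArg l (Subtype.ext (by simp [cn]))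
      mul_mem' := fun {a b} ha hb n => by
        rw [show cn (a * b) n = cn a (cn b n) from Subtype.ext (by simp [cn, mul_assoc]), ha, hb]
      inv_mem' := fun {a} ha n => by
        have h1 := ha (cn a⁻¹ n)
        rw [show cn a (cn a⁻¹ n) = n from Subtype.ext (by simp [cn, mul_assoc])] at h1
        exact h1.symm }
  set T : Subgroup G := H.comap ρ with hT
  have hNT : N ≤ T := fun n hn => by
    show ρ n ∈ H
    rw [hρN n hn]; exact H.one_mem
  have hρs : Function.Surjective ρ := fun y => ⟨y, hρP y⟩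
  have hzH : (⟨z, hzP⟩ : P) ∉ H := by
    intro h
    refine hl ?_
    have h1 := hl2 l fun n => by
      have h2 := h n
      rw [show cn ⟨z, hzP⟩ n = n⁻¹ from Subtype.ext (hzinv n n.2), map_inv] at h2
      calc l n * l n = l n * (l n)⁻¹ := by rw [h2]
        _ = 1 := mul_inv_cancel _
    rw [h1, MonoidHom.one_apply]
  set o := H.index with ho
  have ho2 : 2 ≤ o := Subgroup.one_lt_index_of_ne_top fun h => hzH (h ▸ Subgroup.mem_top _)
  have hoeven : 2 ∣ o := by
    haveI : Fact (Nat.Prime 2) := ⟨Nat.prime_two⟩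
    obtain ⟨k, hk⟩ := hP.index H
    rw [ho, hk]
    refine dvd_pow_self 2 fun hk0 => ?_
    rw [hk0, pow_zero] at hk
    omega
  letI : Fintype T := Fintype.ofFinite T
  letI : Fintype H := Fintype.ofFinite H
  -- the extensions
  have hmul : ∀ ψ : H →* ℂˣ, ∀ a b : T,
      l (ν ((a * b : T) : G)) * ψ ⟨ρ ((a * b : T) : G), (a * b).2⟩ =
        (l (ν a) * ψ ⟨ρ a, a.2⟩) * (l (ν b) * ψ ⟨ρ b, b.2⟩) := by
    intro ψ a b
    have h1 : ν ((a * b : T) : G) = ν a * cn (ρ a) (ν b) := by
      refine Subtype.ext ?_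
      simp only [ν, cn, Subgroup.coe_mul, map_mul]
      group
    have h2 : (⟨ρ ((a * b : T) : G), (a * b).2⟩ : H) = ⟨ρ a, a.2⟩ * ⟨ρ b, b.2⟩ :=
      Subtype.ext (by simp [map_mul])
    rw [h1, h2, map_mul, map_mul, (a.2 : ρ a ∈ H) (ν b)]
    ac_rfl
  let ext : (H →* ℂˣ) → (T →* ℂˣ) := fun ψ =>
    MonoidHom.mk' (fun t : T => l (ν t) * ψ ⟨ρ t, t.2⟩) (hmul ψ)
  let Ψ : Finset (H →* ℂˣ) :=
    haveI : Finite (H →* ℂˣ) := Finite.of_equiv _ (linearEquiv (G := H))
    letI : Fintype (H →* ℂˣ) := Fintype.ofFinite _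
    Finset.univ.filter fun ψ => ∀ h, ψ h * ψ h = 1
  have hΨ : ∀ ψ, ψ ∈ Ψ ↔ ∀ h, ψ h * ψ h = 1 := fun ψ => by simp [Ψ]
  let μ : (H →* ℂˣ) → (T → ℂ) := fun ψ t => ((ext ψ t : ℂˣ) : ℂ)
  have hμ : ∀ ψ, IsIrrCharacter T (μ ψ) := fun ψ => isIrrCharacter_monoidHom (ext ψ)
  let θ : N → ℂ := fun n => ((l n : ℂˣ) : ℂ)
  have hθ : IsIrrCharacter N θ := isIrrCharacter_monoidHom l
  have hinT : ∀ g : G, g ∈ T ↔ conjBy N θ g = θ := by
    intro g
    have key : ∀ n : N, conjBy N θ g n = ((l (cn (ρ g) n) : ℂˣ) : ℂ) := by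
      intro n
      rw [conjBy_apply]
      show ((l _ : ℂˣ) : ℂ) = _
      have : (⟨g * n * g⁻¹, hN.conj_mem n n.2 g⟩ : N) = ν g * cn (ρ g) n * (ν g)⁻¹ :=
        Subtype.ext (by simp only [ν, cn, Subgroup.coe_mul, Subgroup.coe_inv]; group)
      rw [this, mul_inv_cancel_comm]
    constructor
    · intro hg
      funext n
      rw [key, (hg : ρ g ∈ H) n]
    · intro hg
      show ρ g ∈ H
      intro n
      exact Units.ext ((key n).symm.trans (congrFun hg n))
  have hres : ∀ ψ, resTo N T hNT (μ ψ) = θ := by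
    intro ψ
    funext n
    show ((l (ν n) * ψ ⟨ρ n, hNT n.2⟩ : ℂˣ) : ℂ) = _
    rw [show (⟨ρ n, hNT n.2⟩ : H) = 1 from Subtype.ext (hρN n n.2), map_one, mul_one,
      show ν n = n from Subtype.ext (by simp [ν, hρN n n.2])]
  have hcon : ∀ ψ, classInner (resTo N T hNT (μ ψ)) θ ≠ 0 := fun ψ => by
    rw [hres, classInner_irr_self hθ]; exact one_ne_zero
  have hcor := fun ψ => clifford_correspondence N T hθ hinT hNT (hμ ψ) (hcon ψ)
  let χ : (H →* ℂˣ) → IrrCharacter G := fun ψ => ⟨indFun T (μ ψ), (hcor ψ).1⟩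
  have hinj : ∀ a b, χ a = χ b → a = b := by
    intro a b hab'
    have h1 := (hcor b).2.2 (μ a) (hμ a) (hcon a) (congrArg Subtype.val hab')
    refine MonoidHom.ext fun h => ?_
    have h2 := congrFun h1 ⟨((h : P) : G), by
      show ρ ((h : P) : G) ∈ H
      rw [hρP]; exact h.2⟩
    have h3 := Units.ext h2
    simp only [ext, MonoidHom.mk'_apply, hρP] at h3
    exact mul_left_cancel h3
  have hTidx : T.index = o := by rw [hT, Subgroup.index_comap_of_surjective _ hρs]
  have hTcard : Nat.card T = Nat.card N * Nat.card H := by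
    have h1 := T.card_mul_index
    rw [hTidx, ← hc.card_mul, ← H.card_mul_index, ← ho, ← mul_assoc] at h1
    exact mul_right_cancel₀ (by omega) h1
  have hdeg : ∀ ψ, (χ ψ : G → ℂ) 1 = (o : ℂ) := by
    intro ψ
    show indFun T (μ ψ) 1 = _
    rw [indFun_one, hTidx, show μ ψ 1 = 1 by simp [μ], mul_one]
  have hind : ∀ ψ ∈ Ψ, indicator (χ ψ : G → ℂ) = 1 := by
    intro ψ hψ
    rw [hΨ] at hψ
    have h1 : ∑ g : G, indFun T (μ ψ) (g * g) =
        (T.index : ℂ) * ∑ g : G, extendByZero T (μ ψ) (g * g) := by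
      simp only [indFun]
      rw [← Finset.mul_sum, Finset.sum_comm,
        Finset.sum_congr rfl fun x _ => show ∑ g : G, extendByZero T (μ ψ) (x⁻¹ * (g * g) * x) =
          ∑ g : G, extendByZero T (μ ψ) (g * g) from
          Fintype.sum_equiv (MulAut.conj x⁻¹).toEquiv _ _ fun g => by simp [mul_assoc],
        Finset.sum_const, Finset.card_univ, ← Nat.card_eq_fintype_card, nsmul_eq_mul, ← mul_assoc]
      congr 1
      rw [← T.card_mul_index, Nat.cast_mul, ← mul_assoc,
        inv_mul_cancel₀ (Nat.cast_ne_zero.mpr Nat.card_pos.ne'), one_mul]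
    letI : Fintype P := Fintype.ofFinite P
    let e : N × P ≃ G := Equiv.ofBijective (fun u => (u.1 : G) * (u.2 : G)) hc
    rw [indicator, h1, ← e.sum_comp, Fintype.sum_prod_type, Finset.sum_comm]
    have hterm : ∀ y : P, ∑ n : N, extendByZero T (μ ψ) (e (n, y) * e (n, y)) =
        if (⟨z, hzP⟩ * y : P) ∈ H then (Nat.card N : ℂ) else 0 := by
      intro y
      have hsq : ∀ n : N, e (n, y) * e (n, y) = ((n * cn y n : N) : G) * ((y * y : P) : G) := by
        intro n
        show (n : G) * (y : G) * ((n : G) * (y : G)) = _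
        simp only [cn, Subgroup.coe_mul]
        group
      by_cases hyy : y * y ∈ H
      · have hval : ∀ n : N, extendByZero T (μ ψ) (e (n, y) * e (n, y)) =
            ((l n : ℂˣ) : ℂ) * ((l (cn y n) : ℂˣ) : ℂ) * ((ψ ⟨y * y, hyy⟩ : ℂˣ) : ℂ) := by
          intro n
          have hr : ρ (e (n, y) * e (n, y)) = y * y := by
            rw [hsq]; exact hρny _ (n * cn y n).2 (y * y)
          rw [extendByZero_mem T _ (show e (n, y) * e (n, y) ∈ T from
            (show ρ (e (n, y) * e (n, y)) ∈ H by rw [hr]; exact hyy))]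
          show ((l (ν _) * ψ ⟨ρ _, _⟩ : ℂˣ) : ℂ) = _
          rw [show ν (e (n, y) * e (n, y)) = n * cn y n from Subtype.ext (by
            show e (n, y) * e (n, y) * (ρ _ : G)⁻¹ = _
            rw [hr, hsq, mul_inv_cancel_right])]
          simp only [hr, map_mul, Units.val_mul]
        rw [Finset.sum_congr rfl fun n _ => hval n, ← Finset.sum_mul]
        by_cases hzy : (⟨z, hzP⟩ * y : P) ∈ H
        · rw [if_pos hzy]
          have h2 : ∀ n : N, l (cn y n) = (l n)⁻¹ := by
            intro n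
            have h3 := hzy n
            rw [show cn (⟨z, hzP⟩ * y) n = (cn y n)⁻¹ from Subtype.ext (by
              simp only [cn, Subgroup.coe_mul, Subgroup.coe_inv]
              rw [← hzinv _ (hN.conj_mem _ n.2 (y : G))]
              group), map_inv] at h3
            rw [← h3, inv_inv]
          have hψ1 : ψ ⟨y * y, hyy⟩ = 1 := by
            have h4 : (⟨y * y, hyy⟩ : H) = ⟨_, hzy⟩ * ⟨_, hzy⟩ := by
              refine Subtype.ext (Subtype.ext ?_)
              show (y : G) * y = z * y * (z * y)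
              calc (y : G) * y = z * z * (y * y) := by rw [hz2, one_mul]
                _ = z * (z * y) * y := by group
                _ = z * (y * z) * y := by rw [hzc y y.2]
                _ = z * y * (z * y) := by group
            rw [h4, map_mul, hψ]
          simp [h2, hψ1]
        · rw [if_neg hzy]
          refine mul_eq_zero.mpr (Or.inl ?_)
          let f : N →* ℂˣ := MonoidHom.mk' (fun n => l n * l (cn y n)) fun a b => by
            rw [hcn, map_mul, map_mul]; ac_rfl
          refine (Finset.sum_congr rfl fun n _ => (Units.val_mul _ _).symm).trans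
            (sum_hom_eq_zero f fun hf => hzy fun n => ?_)
          have h3 : l n * l (cn y n) = 1 := DFunLike.congr_fun hf n
          rw [show cn (⟨z, hzP⟩ * y) n = (cn y n)⁻¹ from Subtype.ext (by
              simp only [cn, Subgroup.coe_mul, Subgroup.coe_inv]
              rw [← hzinv _ (hN.conj_mem _ n.2 (y : G))]
              group), map_inv]
          exact inv_eq_of_mul_eq_one_left h3
      · rw [if_neg fun hzy => hyy ?_]
        · refine Finset.sum_eq_zero fun n _ => extendByZero_notMem T _ fun h => hyy ?_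
          have h' : ρ (e (n, y) * e (n, y)) ∈ H := h
          rwa [hsq, show ρ (((n * cn y n : N) : G) * ((y * y : P) : G)) = y * y from
            hρny _ (n * cn y n).2 (y * y)] at h'
        · have h4 : y * y = (⟨z, hzP⟩ * y) * (⟨z, hzP⟩ * y) := by
            refine Subtype.ext ?_
            show (y : G) * y = z * y * (z * y)
            calc (y : G) * y = z * z * (y * y) := by rw [hz2, one_mul]
              _ = z * (z * y) * y := by group
              _ = z * (y * z) * y := by rw [hzc y y.2]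
              _ = z * y * (z * y) := by group
          rw [h4]; exact H.mul_mem hzy hzy
    rw [Finset.sum_congr rfl fun y _ => hterm y, ← Finset.sum_filter, Finset.sum_const, nsmul_eq_mul]
    have hcnt : (Finset.univ.filter fun y : P => (⟨z, hzP⟩ * y : P) ∈ H).card = Nat.card H := by
      rw [← Fintype.card_subtype, ← Nat.card_eq_fintype_card]
      exact Nat.card_congr (Equiv.subtypeEquiv (Equiv.mulLeft ⟨z, hzP⟩) fun y => Iff.rfl)
    rw [hcnt, ← T.card_mul_index, hTcard]
    push_cast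
    have hne1 : (Nat.card N : ℂ) ≠ 0 := Nat.cast_ne_zero.mpr Nat.card_pos.ne'
    have hne2 : (Nat.card H : ℂ) ≠ 0 := Nat.cast_ne_zero.mpr Nat.card_pos.ne'
    have hne3 : (T.index : ℂ) ≠ 0 := Nat.cast_ne_zero.mpr Subgroup.index_ne_zero_of_finite
    field_simp
  refine ⟨o, Ψ.image χ, ho2, hoeven, fun c hc' => ?_, fun s hs => ?_⟩
  · obtain ⟨ψ, hψ, rfl⟩ := Finset.mem_image.mp hc'
    exact ⟨hdeg ψ, hind ψ hψ⟩
  · rw [Finset.card_image_of_injective _ hinj]
    let r : (G →* ℂˣ) → (H →* ℂˣ) := fun f => (f.comp P.subtype).comp H.subtype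
    refine Finset.card_le_mul_card_image_of_maps_to (f := r) (fun f hf => (hΨ _).mpr fun h => hs f hf _)
      o fun ψ _ => ?_
    rcases (s.filter fun f => r f = ψ).eq_empty_or_nonempty with he | ⟨f0, hf0⟩
    · simp [he]
    rw [← hTidx, ← Finset.card_image_of_injective _ (mul_right_injective f0⁻¹)]
    refine card_trivial_on_le T _ fun g hg t ht => ?_
    obtain ⟨f, hf, rfl⟩ := Finset.mem_image.mp hg
    rw [Finset.mem_filter] at hf hf0
    have hkey : ∀ f' : G →* ℂˣ, (∀ g, f' g * f' g = 1) → f' t = r f' ⟨ρ t, ht⟩ := by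
      intro f' hf'
      have h1 : (f'.comp N.subtype) = 1 := hl2 _ fun n => hf' _
      have h2 : f' ((ν t : N) : G) = 1 := DFunLike.congr_fun h1 (ν t)
      calc f' t = f' (((ν t : N) : G) * (ρ t : G)) := by simp [ν]
        _ = r f' ⟨ρ t, ht⟩ := by rw [map_mul, h2, one_mul]; rfl
    rw [MonoidHom.mul_apply, MonoidHom.inv_apply, hkey f (hs f hf.1), hkey f0 (hs f0 hf0.1), hf.2,
      hf0.2, inv_mul_cancel]

end CfsgLib.Char.StrongReal
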