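import Cfsg.Agent.Lib.Char.Orth

/-!
# Induced functions
-/

set_option autoImplicit false

namespace CfsgLib.Char

open Module Representation Cfsg
open scoped ComplexConjugate

variable {G : Type*} [Group G]

theorem extendByZero_coe (H : Subgroup G) (θ : H → ℂ) (h : H) :
    extendByZero H θ (h : G) = θ h :=
  Subtype.val_injective.extend_apply θ 0 h

theorem extendByZero_mem (H : Subgroup G) (θ : H → ℂ) {x : G} (hx : x ∈ H) :
    extendByZero H θ x = θ ⟨x, hx⟩ :=
  extendByZero_coe H θ ⟨x, hx⟩

theorem extendByZero_notMem (H : Subgroup G) (θ : H → ℂ) {x : G} (hx : x ∉ H) :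
    extendByZero H θ x = 0 :=
  Function.extend_apply' θ (0 : G → ℂ) x fun ⟨h, hh⟩ => hx (hh ▸ h.2)

theorem extendByZero_add (H : Subgroup G) (θ η : H → ℂ) :
    extendByZero H (θ + η) = extendByZero H θ + extendByZero H η := by
  funext x
  by_cases hx : x ∈ H
  · simp [extendByZero_mem, hx]
  · simp [extendByZero_notMem, hx]

theorem extendByZero_smul (H : Subgroup G) (a : ℂ) (θ : H → ℂ) :
    extendByZero H (a • θ) = a • extendByZero H θ := by
  funext x
  by_cases hx : x ∈ H
  · simp [extendByZero_mem, hx]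
  · simp [extendByZero_notMem, hx]

variable [Fintype G]

theorem indFun_add (H : Subgroup G) (θ η : H → ℂ) :
    indFun H (θ + η) = indFun H θ + indFun H η := by
  funext g
  simp [indFun, extendByZero_add, Finset.sum_add_distrib, mul_add]

theorem indFun_smul (H : Subgroup G) (a : ℂ) (θ : H → ℂ) :
    indFun H (a • θ) = a • indFun H θ := by
  funext g
  simp only [indFun, extendByZero_smul, Pi.smul_apply, smul_eq_mul, ← Finset.mul_sum]
  ring

theorem indFun_zero (H : Subgroup G) : indFun H (0 : H → ℂ) = 0 := by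
  simpa using indFun_smul H 0 (0 : H → ℂ)

theorem indFun_neg (H : Subgroup G) (θ : H → ℂ) : indFun H (-θ) = -indFun H θ := by
  simpa using indFun_smul H (-1) θ

theorem indFun_sub (H : Subgroup G) (θ η : H → ℂ) :
    indFun H (θ - η) = indFun H θ - indFun H η := by
  rw [sub_eq_add_neg, indFun_add, indFun_neg, sub_eq_add_neg]

theorem indFun_sum (H : Subgroup G) {ι : Type*} (s : Finset ι) (f : ι → H → ℂ) :
    indFun H (∑ i ∈ s, f i) = ∑ i ∈ s, indFun H (f i) := by
  classical
  induction s using Finset.induction with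
  | empty => simp [indFun_zero]
  | insert a t hat ih => rw [Finset.sum_insert hat, Finset.sum_insert hat, indFun_add, ih]

theorem isClassFunction_indFun (H : Subgroup G) (θ : H → ℂ) : IsClassFunction G (indFun H θ) := by
  intro g h
  simp only [indFun]
  congr 1
  refine Fintype.sum_equiv (Equiv.mulLeft h⁻¹) _ _ fun x => ?_
  simp [mul_assoc]

theorem indFun_one (H : Subgroup G) (θ : H → ℂ) :
    indFun H θ 1 = (H.index : ℂ) * θ 1 := by
  have h1 : ∀ x : G, extendByZero H θ (x⁻¹ * 1 * x) = θ 1 := fun x => by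
    rw [mul_one, inv_mul_cancel]; exact extendByZero_coe H θ 1
  have hH : (Nat.card H : ℂ) ≠ 0 := Nat.cast_ne_zero.mpr Nat.card_pos.ne'
  simp only [indFun, h1, Finset.sum_const, Finset.card_univ, nsmul_eq_mul]
  rw [← Nat.card_eq_fintype_card, ← H.card_mul_index, Nat.cast_mul]
  field_simp

theorem indFun_notMem_of_normal (H : Subgroup G) [hH : H.Normal] (θ : H → ℂ) {g : G} (hg : g ∉ H) :
    indFun H θ g = 0 := by
  simp only [indFun]
  rw [Finset.sum_eq_zero fun x _ => extendByZero_notMem H θ fun hx => hg ?_, mul_zero]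
  simpa [mul_assoc] using hH.conj_mem _ hx x

theorem indFun_apply_of_normal (H : Subgroup G) [hH : H.Normal] (θ : H → ℂ) (h : H) :
    indFun H θ (h : G) = (Nat.card H : ℂ)⁻¹ *
      ∑ x : G, θ ⟨x * h * x⁻¹, hH.conj_mem (h : G) h.2 x⟩ := by
  simp only [indFun]
  congr 1
  refine Fintype.sum_equiv (Equiv.inv G) _ _ fun x => ?_
  simp only [Equiv.inv_apply, inv_inv]
  exact extendByZero_mem H θ _

/-- Frobenius reciprocity for a class function on the big group. -/
theorem frobenius_reciprocity (H : Subgroup G) [Fintype H] (θ : H → ℂ) {χ : G → ℂ}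
    (hχ : IsClassFunction G χ) :
    classInner (indFun H θ) χ = classInner θ (fun h : H => χ h) := by
  classical
  have key : ∑ g : G, (∑ x : G, extendByZero H θ (x⁻¹ * g * x)) * conj (χ g) =
      (Nat.card G : ℂ) * ∑ h : H, θ h * conj (χ h) := by
    simp only [Finset.sum_mul]
    rw [Finset.sum_comm]
    have inner : ∀ x : G, ∑ g : G, extendByZero H θ (x⁻¹ * g * x) * conj (χ g) =
        ∑ h : H, θ h * conj (χ h) := by
      intro x
      rw [← Fintype.sum_equiv (MulAut.conj x).toEquiv (fun y => extendByZero H θ y * conj (χ y))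
        (fun g => extendByZero H θ (x⁻¹ * g * x) * conj (χ g)) fun y => by
          rw [show (MulAut.conj x).toEquiv y = x * y * x⁻¹ from rfl, hχ y x]
          simp [mul_assoc]]
      rw [← Finset.sum_subset (Finset.subset_univ (Finset.univ.map (Function.Embedding.subtype (· ∈ H))))]
      · rw [Finset.sum_map]
        exact Finset.sum_congr rfl fun h _ => by
          simp [extendByZero_coe]
      · intro y _ hy
        rw [extendByZero_notMem H θ fun hyH => hy (Finset.mem_map.mpr ⟨⟨y, hyH⟩, Finset.mem_univ _, rfl⟩),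
          zero_mul]
    rw [Finset.sum_congr rfl fun x _ => inner x]
    simp [Nat.card_eq_fintype_card]
  have hG : (Nat.card G : ℂ) ≠ 0 := Nat.cast_ne_zero.mpr Nat.card_pos.ne'
  simp only [classInner, indFun]
  rw [Finset.sum_congr rfl fun g _ => mul_assoc _ _ _, ← Finset.mul_sum, key]
  field_simp

theorem frobenius_reciprocity' (H : Subgroup G) [Fintype H] (θ : H → ℂ) {χ : G → ℂ}
    (hχ : IsClassFunction G χ) :
    classInner χ (indFun H θ) = classInner (fun h : H => χ h) θ := by
  rw [← classInner_conj_symm, frobenius_reciprocity H θ hχ, classInner_conj_symm]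

theorem isCharacter_indFun (H : Subgroup G) {θ : H → ℂ} (hθ : IsCharacter H θ) :
    IsCharacter G (indFun H θ) := by
  classical
  rw [isCharacter_iff_classInner (isClassFunction_indFun H θ)]
  intro ψ
  rw [frobenius_reciprocity H θ (isClassFunction_of_isCharacter (isCharacter_of_isIrr ψ.2))]
  exact exists_nat_classInner hθ (isCharacter_restrict H (isCharacter_of_isIrr ψ.2))

/-- Transitivity of induction. -/
theorem indFun_trans (H K : Subgroup G) [Fintype K] (hHK : H ≤ K) (θ : H → ℂ) :
    indFun K (indFun (H.subgroupOf K) (fun x => θ ⟨(x : K), Subgroup.mem_subgroupOf.mp x.2⟩)) =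
      indFun H θ := by
  classical
  funext g
  have hcard : Nat.card (H.subgroupOf K) = Nat.card H :=
    Nat.card_congr (Subgroup.subgroupOfEquivOfLe hHK).toEquiv
  have hext : ∀ (y : G), extendByZero K
      (indFun (H.subgroupOf K) (fun x => θ ⟨(x : K), Subgroup.mem_subgroupOf.mp x.2⟩)) y =
      (Nat.card H : ℂ)⁻¹ * ∑ k : K, extendByZero H θ ((k : G)⁻¹ * y * k) := by
    intro y
    by_cases hy : y ∈ K
    · rw [extendByZero_mem K _ hy, indFun, hcard]
      congr 1
      refine Finset.sum_congr rfl fun k _ => ?_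
      by_cases hk : (k : G)⁻¹ * y * k ∈ H
      · rw [extendByZero_mem H θ hk, extendByZero_mem (H.subgroupOf K) _
          (show k⁻¹ * ⟨y, hy⟩ * k ∈ H.subgroupOf K from Subgroup.mem_subgroupOf.mpr hk)]
        rfl
      · rw [extendByZero_notMem H θ hk, extendByZero_notMem (H.subgroupOf K) _
          (fun h => hk (Subgroup.mem_subgroupOf.mp h))]
    · rw [extendByZero_notMem K _ hy, Finset.sum_eq_zero, mul_zero]
      intro k _
      refine extendByZero_notMem H θ fun h => hy ?_
      simpa [mul_assoc] using K.mul_mem (K.mul_mem k.2 (hHK h)) (K.inv_mem k.2)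
  simp only [indFun] at hext ⊢
  simp only [hext, ← Finset.mul_sum]
  have hK : (Nat.card K : ℂ) ≠ 0 := Nat.cast_ne_zero.mpr Nat.card_pos.ne'
  have hsum : ∑ x : G, ∑ k : K, extendByZero H θ ((k : G)⁻¹ * (x⁻¹ * g * x) * k) =
      (Nat.card K : ℂ) * ∑ x : G, extendByZero H θ (x⁻¹ * g * x) := by
    rw [Finset.sum_comm]
    have inner : ∀ k : K, ∑ x : G, extendByZero H θ ((k : G)⁻¹ * (x⁻¹ * g * x) * k) =
        ∑ x : G, extendByZero H θ (x⁻¹ * g * x) := fun k =>
      Fintype.sum_equiv (Equiv.mulRight (k : G)) _ _ fun x => by simp [mul_assoc]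
    rw [Finset.sum_congr rfl fun k _ => inner k]
    simp [Nat.card_eq_fintype_card]
  rw [hsum]
  field_simp

end CfsgLib.Char
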