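import Cfsg.Agent.Lib.Char.Counting

/-!
# Convolution of an irreducible character with itself
-/

set_option autoImplicit false
set_option linter.unusedSectionVars false

namespace CfsgLib.Char

open Cfsg Representation
open scoped ComplexConjugate CfsgLib.Char

variable {G : Type*} [Group G]

/-- `∑ x, χ (x z) conj (χ x) = |G| χ z / χ 1`. -/
theorem conv_self [Fintype G] {χ : G → ℂ} (hχ : IsIrrCharacter G χ) (z : G) :
    ∑ x : G, χ (x * z) * conj (χ x) = (Nat.card G : ℂ) * χ z / χ 1 := by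
  obtain ⟨n, ρ, hρ, rfl⟩ := hχ
  set T : (Fin n → ℂ) →ₗ[ℂ] (Fin n → ℂ) := ∑ x : G, conj (ρ.character x) • ρ x with hT
  have hcomm : ∀ h, T ∘ₗ ρ h = ρ h ∘ₗ T := by
    intro h
    show T * ρ h = ρ h * T
    rw [hT, Finset.sum_mul, Finset.mul_sum]
    refine Finset.sum_equiv (MulAut.conj h⁻¹).toEquiv (fun _ => by simp) fun x _ => ?_
    rw [smul_mul_assoc, mul_smul_comm, ← map_mul, ← map_mul,
      show (MulAut.conj h⁻¹).toEquiv x = h⁻¹ * x * h⁻¹⁻¹ from rfl, inv_inv,
      show h * (h⁻¹ * x * h) = x * h by group]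
    congr 1
    congr 1
    have := isClassFunction_character ρ x h⁻¹
    rw [inv_inv] at this
    exact this.symm
  let I : IntertwiningMap ρ ρ := ⟨T, hcomm⟩
  obtain ⟨c, hc⟩ := (IsIrreducible.algebraMap_intertwiningMap_bijective_of_isAlgClosed (ρ := ρ)).2 I
  have hTc : T = c • LinearMap.id := by
    rw [show T = I.toLinearMap from rfl, ← hc, Algebra.algebraMap_eq_smul_one]
    rfl
  have htr : ∀ y : G, LinearMap.trace ℂ _ (T * ρ y) = ∑ x : G, ρ.character (x * y) * conj (ρ.character x) := by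
    intro y
    rw [hT, Finset.sum_mul, map_sum]
    refine Finset.sum_congr rfl fun x _ => ?_
    rw [smul_mul_assoc, map_smul, ← map_mul, smul_eq_mul, mul_comm]
    rfl
  have h1 := htr 1
  have horth := classInner_irr_self (G := G) (φ := ρ.character) ⟨n, ρ, hρ, rfl⟩
  rw [classInner, inv_mul_eq_one₀ (Nat.cast_ne_zero.mpr Nat.card_pos.ne')] at horth
  simp only [mul_one] at h1
  rw [← horth, map_one, mul_one, hTc, map_smul, LinearMap.trace_id, smul_eq_mul] at h1
  rw [← htr z, hTc, smul_mul_assoc, show (LinearMap.id : (Fin n → ℂ) →ₗ[ℂ] (Fin n → ℂ)) * ρ z = ρ z from one_mul _,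
    map_smul, smul_eq_mul, Representation.char_one, ← h1]
  have hn : (Module.finrank ℂ (Fin n → ℂ) : ℂ) ≠ 0 :=
    Nat.cast_ne_zero.mpr (finrank_pos_of_irreducible ρ).ne'
  field_simp
  rfl

/-- Number of solutions of the commutator equation. -/
theorem card_commutator_solutions [Fintype G] (z : G) :
    (Nat.card {xy : G × G // xy.1 * xy.2 * xy.1⁻¹ * xy.2⁻¹ = z} : ℂ) =
      (Nat.card G : ℂ) * ∑ χ : IrrCharacter G, (χ : G → ℂ) z / (χ : G → ℂ) 1 := by
  classical
  rw [Nat.card_congr (Equiv.subtypeProdEquivSigmaSubtype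
    (fun x y : G => x * y * x⁻¹ * y⁻¹ = z)), Nat.card_sigma]
  push_cast
  have hx : ∀ x : G, (Nat.card {y : G // x * y * x⁻¹ * y⁻¹ = z} : ℂ) =
      ∑ χ : IrrCharacter G, (χ : G → ℂ) (x⁻¹ * z) * conj ((χ : G → ℂ) x⁻¹) := by
    intro x
    rw [column_orthogonality]
    split_ifs with h
    · obtain ⟨c, hc⟩ := isConj_iff.mp h.symm
      have hy0 : x * c * x⁻¹ * c⁻¹ = z := by
        calc x * c * x⁻¹ * c⁻¹ = x * (c * x⁻¹ * c⁻¹) := by group
          _ = z := by rw [hc]; group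
      norm_cast
      refine Nat.card_congr
        { toFun := fun y => ⟨c⁻¹ * y.1, Subgroup.mem_centralizer_singleton_iff.mpr ?_⟩
          invFun := fun u => ⟨c * u.1, ?_⟩
          left_inv := fun y => Subtype.ext (mul_inv_cancel_left c y.1)
          right_inv := fun u => Subtype.ext (inv_mul_cancel_left c u.1) }
      · have e : y.1 * x⁻¹ * y.1⁻¹ = c * x⁻¹ * c⁻¹ := by
          rw [hc]
          calc y.1 * x⁻¹ * y.1⁻¹ = x⁻¹ * (x * y.1 * x⁻¹ * y.1⁻¹) := by group
            _ = x⁻¹ * z := by rw [y.2]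
        calc c⁻¹ * y.1 * x⁻¹ = c⁻¹ * (y.1 * x⁻¹ * y.1⁻¹) * y.1 := by group
          _ = x⁻¹ * (c⁻¹ * y.1) := by rw [e]; group
      · have hu := Subgroup.mem_centralizer_singleton_iff.mp u.2
        calc x * (c * u.1) * x⁻¹ * (c * u.1)⁻¹ = x * c * (u.1 * x⁻¹) * u.1⁻¹ * c⁻¹ := by group
          _ = x * c * (x⁻¹ * u.1) * u.1⁻¹ * c⁻¹ := by rw [hu]
          _ = z := by rw [← hy0]; group
    · rw [Nat.cast_eq_zero, Nat.card_eq_zero]
      left
      refine ⟨fun y => h ?_⟩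
      refine (isConj_iff.mpr ⟨y.1, ?_⟩).symm
      calc y.1 * x⁻¹ * y.1⁻¹ = x⁻¹ * (x * y.1 * x⁻¹ * y.1⁻¹) := by group
        _ = x⁻¹ * z := by rw [y.2]
  rw [Finset.sum_congr rfl fun x _ => hx x, Finset.sum_comm, Finset.mul_sum]
  refine Finset.sum_congr rfl fun χ _ => ?_
  rw [← mul_div_assoc, ← conv_self χ.2 z]
  exact Equiv.sum_comp (Equiv.inv G) (fun x => (χ : G → ℂ) (x * z) * conj ((χ : G → ℂ) x))

end CfsgLib.Char
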