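import Cfsg.Prelude.Def_ParabolicCharacters
import Cfsg.Agent.Lib.Char.Convolution
import Cfsg.Agent.Lib.Char.Induced

/-!
The centre of the algebra of functions invariant under a subgroup on both sides, and the
constituents of a permutation character.
-/

set_option autoImplicit false
set_option linter.unusedSectionVars false

namespace CfsgLib.BiInv

open Cfsg CfsgLib.Char
open scoped CfsgLib.Char
open scoped ComplexConjugate

variable {G : Type*} [Group G] [Fintype G]

/-- Convolution. -/
noncomputable def conv (f g : G → ℂ) (x : G) : ℂ := ∑ y, f y * g (y⁻¹ * x)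

lemma conv_eq_sum_right (f g : G → ℂ) (x : G) : conv f g x = ∑ y, f (x * y) * g y⁻¹ := by
  refine (Fintype.sum_equiv (Equiv.mulLeft x) _ _ fun y => ?_).symm
  simp

lemma conv_assoc (f g k : G → ℂ) : conv (conv f g) k = conv f (conv g k) := by
  funext x
  simp only [conv, Finset.sum_mul, Finset.mul_sum]
  rw [Finset.sum_comm]
  refine Finset.sum_congr rfl fun y _ => Fintype.sum_equiv (Equiv.mulLeft y⁻¹) _ _ fun w => ?_
  simp [mul_assoc]

lemma conv_smul_left (c : ℂ) (f g : G → ℂ) : conv (c • f) g = c • conv f g := by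
  funext x; simp [conv, Finset.mul_sum, mul_assoc]

lemma conv_smul_right (c : ℂ) (f g : G → ℂ) : conv f (c • g) = c • conv f g := by
  funext x; simp [conv, Finset.mul_sum, mul_left_comm]

lemma conv_add_left (f f' g : G → ℂ) : conv (f + f') g = conv f g + conv f' g := by
  funext x; simp [conv, add_mul, Finset.sum_add_distrib]

lemma conv_add_right (f g g' : G → ℂ) : conv f (g + g') = conv f g + conv f g' := by
  funext x; simp [conv, mul_add, Finset.sum_add_distrib]

lemma conv_sum_left {ι : Type*} (s : Finset ι) (f : ι → G → ℂ) (g : G → ℂ) :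
    conv (∑ i ∈ s, f i) g = ∑ i ∈ s, conv (f i) g := by
  funext x
  simp only [conv, Finset.sum_apply, Finset.sum_mul]
  exact Finset.sum_comm

lemma conv_sum_right {ι : Type*} (s : Finset ι) (f : G → ℂ) (g : ι → G → ℂ) :
    conv f (∑ i ∈ s, g i) = ∑ i ∈ s, conv f (g i) := by
  funext x
  simp only [conv, Finset.sum_apply, Finset.mul_sum]
  exact Finset.sum_comm

/-- A class function commutes with every function. -/
lemma conv_class {f : G → ℂ} (hf : IsClassFunction G f) (g : G → ℂ) : conv f g = conv g f := by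
  funext x
  rw [conv_eq_sum_right f g x]
  refine Fintype.sum_equiv (Equiv.inv G) _ _ fun y => ?_
  simp only [Equiv.inv_apply, inv_inv]
  have := hf (y * x) y⁻¹
  rw [inv_inv] at this
  rw [← this, mul_comm]
  congr 1
  group

/-- The adjoint of a function. -/
noncomputable def adj (f : G → ℂ) (x : G) : ℂ := conj (f x⁻¹)

/-- The inner product. -/
noncomputable def inner' (f g : G → ℂ) : ℂ := ∑ x, f x * conj (g x)

lemma inner'_self {f : G → ℂ} (h : inner' f f = 0) : f = 0 := by
  funext a
  simp only [inner', Complex.mul_conj, ← Complex.ofReal_sum, Complex.ofReal_eq_zero] at h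
  exact Complex.normSq_eq_zero.1
    ((Finset.sum_eq_zero_iff_of_nonneg fun x _ => Complex.normSq_nonneg _).1 h a (Finset.mem_univ a))

lemma inner'_self_re (f : G → ℂ) : inner' f f = ((∑ x, Complex.normSq (f x) : ℝ) : ℂ) := by
  simp [inner', Complex.mul_conj]

lemma inner'_conv (f h k : G → ℂ) : inner' (conv f h) k = inner' f (conv k (adj h)) := by
  simp only [inner', conv, adj, Finset.sum_mul, map_sum, map_mul, Finset.mul_sum, Complex.conj_conj,
    mul_inv_rev, inv_inv]
  rw [Finset.sum_comm]
  refine Finset.sum_congr rfl fun y _ => Finset.sum_congr rfl fun x _ => ?_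
  ring

variable (B : Subgroup G)

/-- The functions invariant under `B` on both sides. -/
def biInv : Submodule ℂ (G → ℂ) where
  carrier := {f | ∀ b ∈ B, ∀ x, f (b * x) = f x ∧ f (x * b) = f x}
  add_mem' hf hg b hb x := by simp [(hf b hb x).1, (hf b hb x).2, (hg b hb x).1, (hg b hb x).2]
  zero_mem' := fun _ _ _ => ⟨rfl, rfl⟩
  smul_mem' c f hf b hb x := by simp [(hf b hb x).1, (hf b hb x).2]

/-- Its centre. -/
def biCenter : Submodule ℂ (G → ℂ) where
  carrier := {z | z ∈ biInv B ∧ ∀ f ∈ biInv B, conv z f = conv f z}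
  add_mem' hf hg := ⟨add_mem hf.1 hg.1, fun f h => by
    rw [conv_add_left, conv_add_right, hf.2 f h, hg.2 f h]⟩
  zero_mem' := ⟨zero_mem _, fun f _ => by funext x; simp [conv]⟩
  smul_mem' c z hz := ⟨Submodule.smul_mem _ c hz.1, fun f h => by
    rw [conv_smul_left, conv_smul_right, hz.2 f h]⟩

open Classical in
/-- The unit of `biInv B`. -/
noncomputable def unit (x : G) : ℂ := if x ∈ B then (Nat.card B : ℂ)⁻¹ else 0

variable {B}

lemma unit_conv {f : G → ℂ} (hf : ∀ b ∈ B, ∀ x, f (b * x) = f x) : conv (unit B) f = f := by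
  classical
  funext x
  simp only [conv, unit, ite_mul, zero_mul]
  rw [← Finset.sum_filter, Finset.sum_congr rfl fun y hy => by
    rw [hf y⁻¹ (inv_mem (Finset.mem_filter.1 hy).2) x], Finset.sum_const, nsmul_eq_mul,
    ← Fintype.card_subtype, ← Nat.card_eq_fintype_card, ← mul_assoc,
    mul_inv_cancel₀ (Nat.cast_ne_zero.2 Nat.card_pos.ne'), one_mul]

lemma conv_unit {f : G → ℂ} (hf : ∀ b ∈ B, ∀ x, f (x * b) = f x) : conv f (unit B) = f := by
  classical
  funext x
  rw [conv_eq_sum_right]
  simp only [unit, mul_ite, mul_zero, inv_mem_iff]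
  rw [← Finset.sum_filter, Finset.sum_congr rfl fun y hy => by
    rw [hf y (Finset.mem_filter.1 hy).2 x], Finset.sum_const, nsmul_eq_mul,
    ← Fintype.card_subtype, ← Nat.card_eq_fintype_card, mul_left_comm,
    mul_inv_cancel₀ (Nat.cast_ne_zero.2 Nat.card_pos.ne'), mul_one]

lemma unit_mem : unit B ∈ biInv B := by
  intro b hb x
  have h1 : b * x ∈ B ↔ x ∈ B := Subgroup.mul_mem_cancel_left B hb
  have h2 : x * b ∈ B ↔ x ∈ B := Subgroup.mul_mem_cancel_right B hb
  constructor <;> unfold unit <;> split_ifs <;> simp_all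

lemma conv_left_inv {f g : G → ℂ} (hf : ∀ b ∈ B, ∀ x, f (b * x) = f x) :
    ∀ b ∈ B, ∀ x, conv f g (b * x) = conv f g x := by
  intro b hb x
  refine (Fintype.sum_equiv (Equiv.mulLeft b) _ _ fun y => ?_).symm
  simp [hf b hb y, mul_assoc]

lemma conv_right_inv {f g : G → ℂ} (hg : ∀ b ∈ B, ∀ x, g (x * b) = g x) :
    ∀ b ∈ B, ∀ x, conv f g (x * b) = conv f g x := by
  intro b hb x
  simp only [conv, ← mul_assoc, hg b hb]

lemma conv_mem {f g : G → ℂ} (hf : f ∈ biInv B) (hg : g ∈ biInv B) : conv f g ∈ biInv B :=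
  fun b hb x => ⟨conv_left_inv (fun b hb x => (hf b hb x).1) b hb x,
    conv_right_inv (fun b hb x => (hg b hb x).2) b hb x⟩

lemma unit_conv_class_mem {f : G → ℂ} (hf : IsClassFunction G f) :
    conv (unit B) f ∈ biCenter B := by
  have hl : ∀ g ∈ biInv B, conv (unit B) g = g := fun g hg => unit_conv fun b hb x => (hg b hb x).1
  have hr : ∀ g ∈ biInv B, conv g (unit B) = g := fun g hg => conv_unit fun b hb x => (hg b hb x).2
  refine ⟨fun b hb x => ⟨conv_left_inv (fun b hb x => (unit_mem b hb x).1) b hb x, ?_⟩,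
    fun g hg => ?_⟩
  · rw [← conv_class hf]
    exact conv_right_inv (fun b hb x => (unit_mem b hb x).2) b hb x
  · rw [conv_assoc, conv_class hf g, ← conv_assoc, hl g hg, ← conv_assoc, hr g hg]

variable (B)

/-- The point mass. -/
noncomputable def delta (g x : G) : ℂ := by classical exact if x = g then 1 else 0

lemma delta_conv (g : G) (f : G → ℂ) (x : G) : conv (delta g) f x = f (g⁻¹ * x) := by
  classical
  simp [conv, delta, ite_mul]

lemma conv_delta (g : G) (f : G → ℂ) (x : G) : conv f (delta g) x = f (x * g⁻¹) := by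
  classical
  rw [conv, Finset.sum_eq_single (x * g⁻¹)]
  · simp [delta]
  · intro y _ hy
    rw [delta, if_neg, mul_zero]
    exact fun e => hy (by rw [← e]; group)
  · simp

/-- `e δ_g e`. -/
noncomputable def dbl (g : G) : G → ℂ := conv (conv (unit B) (delta g)) (unit B)

lemma adj_dbl (g : G) : adj (dbl B g) = dbl B g⁻¹ := by
  classical
  have hm : ∀ f k : G → ℂ, adj (conv f k) = conv (adj k) (adj f) := fun f k => by
    funext x
    rw [conv_eq_sum_right (adj k)]
    simp only [adj, conv, map_sum, map_mul]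
    refine Finset.sum_congr rfl fun y _ => ?_
    rw [inv_inv, mul_inv_rev, mul_comm]
  have hu : adj (unit B) = unit B := by
    funext x; simp only [adj, unit, inv_mem_iff]; split_ifs <;> simp
  have hd : adj (delta g) = delta g⁻¹ := by
    funext x
    simp only [adj, delta, inv_eq_iff_eq_inv]
    split_ifs <;> simp
  rw [dbl, hm, hm, hu, hd, ← conv_assoc]
  rfl

variable {B}

lemma dbl_one_conv {z : G → ℂ} (hz : z ∈ biInv B) : conv z (dbl B 1) = z := by
  have hd : conv (unit B) (delta 1) = unit B := by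
    funext x; simp [conv_delta]
  rw [dbl, hd, unit_conv fun b hb x => (unit_mem b hb x).1, conv_unit fun b hb x => (hz b hb x).2]

/-- The conjugation average of a function. -/
noncomputable def avg (f : G → ℂ) (x : G) : ℂ := (Nat.card G : ℂ)⁻¹ * ∑ g, f (g⁻¹ * x * g)

lemma isClass_avg (f : G → ℂ) : IsClassFunction G (avg f) := by
  intro x g
  simp only [avg]
  congr 1
  refine Fintype.sum_equiv (Equiv.mulLeft g⁻¹) _ _ fun y => ?_
  congr 1
  simp [mul_assoc]

lemma avg_add (f g : G → ℂ) : avg (f + g) = avg f + avg g := by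
  funext x; simp [avg, Finset.sum_add_distrib, mul_add]

lemma avg_smul (c : ℂ) (f : G → ℂ) : avg (c • f) = c • avg f := by
  funext x; simp [avg, ← Finset.mul_sum, mul_left_comm]

lemma avg_eq_sum (f : G → ℂ) :
    avg f = (Nat.card G : ℂ)⁻¹ • ∑ g, conv (conv (delta g) f) (delta g⁻¹) := by
  funext x
  simp [avg, conv_delta, delta_conv, Finset.sum_apply, mul_assoc]

/-- `z ↦ e z'` on the centre. -/
lemma unit_conv_avg {z : G → ℂ} (hz : z ∈ biCenter B) :
    conv (unit B) (avg z) =
      (Nat.card G : ℂ)⁻¹ • ∑ g, conv (conv z (dbl B g)) (dbl B g⁻¹) := by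
  have hl : conv (unit B) z = z := unit_conv fun b hb x => (hz.1 b hb x).1
  have hr : conv z (unit B) = z := conv_unit fun b hb x => (hz.1 b hb x).2
  have he : conv (unit B) (unit B) = unit B := unit_conv fun b hb x => (unit_mem b hb x).1
  have hc : conv (unit B) (avg z) = conv (conv (unit B) (avg z)) (unit B) := by
    rw [conv_assoc, conv_class (isClass_avg z) (unit B), ← conv_assoc, he]
  rw [hc, avg_eq_sum, conv_smul_right, conv_smul_left, conv_sum_right, conv_sum_left]
  congr 1
  refine Finset.sum_congr rfl fun g _ => ?_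
  have hd : dbl B g ∈ biInv B := fun b hb x =>
    ⟨conv_left_inv (conv_left_inv fun b hb x => (unit_mem b hb x).1) b hb x,
      conv_right_inv (fun b hb x => (unit_mem b hb x).2) b hb x⟩
  rw [hz.2 _ hd]
  simp only [dbl, conv_assoc]
  congr 1; congr 1
  rw [← conv_assoc (unit B) z, hl, ← conv_assoc z (unit B), hr]

/-- The map onto the centre is injective on the centre. -/
lemma unit_conv_avg_inj {z : G → ℂ} (hz : z ∈ biCenter B) (h : conv (unit B) (avg z) = 0) :
    z = 0 := by
  rw [unit_conv_avg hz, smul_eq_zero] at h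
  have h0 := h.resolve_left (inv_ne_zero (Nat.cast_ne_zero.2 Nat.card_pos.ne'))
  have h1 : ∑ g : G, inner' (conv z (dbl B g)) (conv z (dbl B g)) = 0 := by
    have h2 : inner' (∑ g, conv (conv z (dbl B g)) (dbl B g⁻¹)) z = 0 := by
      rw [h0]; simp [inner']
    have hs : ∀ F : G → G → ℂ, inner' (∑ g, F g) z = ∑ g, inner' (F g) z := fun F => by
      simp only [inner', Finset.sum_apply, Finset.sum_mul]
      exact Finset.sum_comm
    rw [← h2, hs]
    refine Finset.sum_congr rfl fun g _ => ?_
    rw [inner'_conv (conv z (dbl B g)), adj_dbl, inv_inv]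
  simp only [inner'_self_re, ← Complex.ofReal_sum, Complex.ofReal_eq_zero] at h1
  have h3 := (Finset.sum_eq_zero_iff_of_nonneg fun g _ =>
    Finset.sum_nonneg fun x _ => Complex.normSq_nonneg _).1 h1 1 (Finset.mem_univ _)
  have h4 := inner'_self (f := conv z (dbl B 1)) (by rw [inner'_self_re, h3]; simp)
  rwa [dbl_one_conv hz.1] at h4

variable (B)

/-- Class functions. -/
def classSub (G : Type*) [Group G] : Submodule ℂ (G → ℂ) where
  carrier := {f | IsClassFunction G f}
  add_mem' hf hg x g := by simp [hf x g, hg x g]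
  zero_mem' := fun _ _ => rfl
  smul_mem' c f hf x g := by simp [hf x g]

/-- The projection of a function into the functions invariant on the left. -/
noncomputable def eMap : (G → ℂ) →ₗ[ℂ] (G → ℂ) where
  toFun f := conv (unit B) f
  map_add' := conv_add_right _
  map_smul' c f := conv_smul_right c _ f

/-- The centre is the image of the class functions. -/
theorem biCenter_eq : biCenter B = (classSub G).map (eMap B) := by
  refine le_antisymm ?_ ?_
  · let Φ : ↥(biCenter B) →ₗ[ℂ] ↥(biCenter B) :=
      { toFun := fun z => ⟨conv (unit B) (avg z.1), unit_conv_class_mem (isClass_avg _)⟩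
        map_add' := fun z w => Subtype.ext (by
          simp only [Submodule.coe_add, avg_add, conv_add_right])
        map_smul' := fun c z => Subtype.ext (by
          simp only [Submodule.coe_smul, RingHom.id_apply, avg_smul, conv_smul_right]) }
    have hinj : Function.Injective Φ := (injective_iff_map_eq_zero Φ).2 fun z hz =>
      Subtype.ext (unit_conv_avg_inj z.2 (congrArg Subtype.val hz))
    intro z hz
    obtain ⟨w, hw⟩ := (LinearMap.injective_iff_surjective.1 hinj) ⟨z, hz⟩
    exact ⟨avg w.1, isClass_avg _, congrArg Subtype.val hw⟩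
  · rintro _ ⟨f, hf, rfl⟩
    exact unit_conv_class_mem hf

open scoped Classical in
/-- The orthogonality of the translates of irreducible characters. -/
lemma sum_shift_irr (χ ψ : IrrCharacter G) (b : G) :
    ∑ x : G, (χ : G → ℂ) (x * b) * conj ((ψ : G → ℂ) x) =
      if χ = ψ then (Nat.card G : ℂ) * (χ : G → ℂ) b / (χ : G → ℂ) 1 else 0 := by
  split_ifs with h
  · subst h; exact conv_self χ.2 b
  · obtain ⟨n, ρ, hρ, e⟩ := χ.2
    have hψ := ψ.2
    let T : Representation.IntertwiningMap ρ ρ := ⟨twistedSum ρ (ψ : G → ℂ), fun g =>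
      twistedSum_comm ρ (isClassFunction_of_isCharacter (isCharacter_of_isIrr hψ)) g⟩
    obtain ⟨c, hc⟩ :=
      (Representation.IsIrreducible.algebraMap_intertwiningMap_bijective_of_isAlgClosed
        (ρ := ρ)).2 T
    have hT : twistedSum ρ (ψ : G → ℂ) = c • LinearMap.id := by
      rw [show twistedSum ρ (ψ : G → ℂ) = T.toLinearMap from rfl, ← hc,
        Algebra.algebraMap_eq_smul_one]
      rfl
    have htr := trace_twistedSum ρ (ψ : G → ℂ)
    rw [hT, map_smul, LinearMap.trace_id, smul_eq_mul, e, classInner_irr_ne hψ χ.2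
      (fun e' => h (Subtype.ext e'.symm)), mul_zero, mul_eq_zero] at htr
    have hc0 : c = 0 := htr.resolve_right (Nat.cast_ne_zero.2
      (finrank_pos_of_irreducible ρ).ne')
    have h2 := congrArg (fun A => LinearMap.trace ℂ (Fin n → ℂ) (A * ρ b)) hT
    simp only [hc0, zero_smul, zero_mul, map_zero, twistedSum, Finset.sum_mul, map_sum,
      smul_mul_assoc, map_smul, ← map_mul, smul_eq_mul] at h2
    rw [← h2]
    refine Fintype.sum_equiv (Equiv.inv G) _ _ fun x => ?_
    obtain ⟨m, σ, -, eσ⟩ := hψ
    simp only [Equiv.inv_apply, inv_inv, ← e, ← eσ, char_value_inv]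
    rw [mul_comm]
    rfl

open scoped Classical in
lemma inner'_eMap [Fintype B] (χ ψ : IrrCharacter G) :
    inner' (eMap B (χ : G → ℂ)) (eMap B (ψ : G → ℂ)) =
      if χ = ψ then (Nat.card G : ℂ) * ((Nat.card B : ℂ)⁻¹ * ∑ b : B, (χ : G → ℂ) (b : G)) /
        (χ : G → ℂ) 1 else 0 := by
  have hcl : ∀ φ : IrrCharacter G, IsClassFunction G (φ : G → ℂ) := fun φ =>
    isClassFunction_of_isCharacter (isCharacter_of_isIrr φ.2)
  have he : conv (unit B) (unit B) = unit B := unit_conv fun b hb x => (unit_mem b hb x).1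
  have hu : adj (unit B) = unit B := by
    funext x; simp only [adj, unit, inv_mem_iff]; split_ifs <;> simp
  show inner' (conv (unit B) (χ : G → ℂ)) (conv (unit B) (ψ : G → ℂ)) = _
  rw [← conv_class (hcl χ), inner'_conv, hu, conv_assoc, conv_class (hcl ψ) (unit B),
    ← conv_assoc, he]
  simp only [inner', conv, map_sum, map_mul, Finset.mul_sum]
  rw [Finset.sum_comm]
  have h1 : ∀ y : G, ∑ x, (χ : G → ℂ) x * (conj (unit B y) * conj ((ψ : G → ℂ) (y⁻¹ * x))) =
      conj (unit B y) *
        (if χ = ψ then (Nat.card G : ℂ) * (χ : G → ℂ) y / (χ : G → ℂ) 1 else 0) := by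
    intro y
    rw [← sum_shift_irr χ ψ y, Finset.mul_sum]
    refine Fintype.sum_equiv (Equiv.mulLeft y⁻¹) _ _ fun x => ?_
    have := hcl χ x y⁻¹
    rw [inv_inv] at this
    simp only [Equiv.coe_mulLeft, this]
    ring
  rw [Finset.sum_congr rfl fun y _ => h1 y]
  by_cases h : χ = ψ
  · simp only [h, if_true, unit, apply_ite conj, map_zero, map_inv₀, map_natCast, ite_mul, zero_mul]
    rw [← Finset.sum_filter, Finset.sum_subtype (p := fun x => x ∈ B) _ (fun x => by simp),
      Finset.sum_div]
    exact Finset.sum_congr rfl fun b _ => by ring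
  · simp [h]

/-- The dimension of the centre is the number of constituents. -/
theorem finrank_biCenter [Fintype B] :
    Module.finrank ℂ (biCenter B) =
      Nat.card {χ : IrrCharacter G // ∑ b : B, (χ : G → ℂ) (b : G) ≠ 0} := by
  classical
  set S := {χ : IrrCharacter G // ∑ b : B, (χ : G → ℂ) (b : G) ≠ 0}
  set v : S → G → ℂ := fun χ => eMap B (χ.1 : G → ℂ) with hv
  have hcl : ∀ φ : IrrCharacter G, IsClassFunction G (φ : G → ℂ) := fun φ =>
    isClassFunction_of_isCharacter (isCharacter_of_isIrr φ.2)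
  have hne : ∀ χ : S, inner' (v χ) (v χ) ≠ 0 := fun χ => by
    rw [hv]
    simp only [inner'_eMap, if_true]
    exact div_ne_zero (mul_ne_zero (Nat.cast_ne_zero.2 Nat.card_pos.ne')
      (mul_ne_zero (inv_ne_zero (Nat.cast_ne_zero.2 Nat.card_pos.ne')) χ.2))
      (irr_degree_ne_zero χ.1.2)
  have hli : LinearIndependent ℂ v := by
    rw [Fintype.linearIndependent_iff]
    intro a hsum χ
    have h1 : ∑ ψ, a ψ * inner' (v ψ) (v χ) = inner' (∑ ψ, a ψ • v ψ) (v χ) := by
      simp only [inner', Finset.sum_apply, Pi.smul_apply, smul_eq_mul, Finset.mul_sum,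
        Finset.sum_mul]
      rw [Finset.sum_comm]
      exact Finset.sum_congr rfl fun x _ => Finset.sum_congr rfl fun ψ _ => by ring
    rw [hsum, Finset.sum_eq_single χ] at h1
    · have h2 : a χ * inner' (v χ) (v χ) = 0 := by rw [h1]; simp [inner']
      exact (mul_eq_zero.1 h2).resolve_right (hne χ)
    · intro ψ _ hψ
      rw [hv]
      simp only [inner'_eMap, if_neg (fun e => hψ (Subtype.ext e)), mul_zero]
    · simp
  have hspan : biCenter B = Submodule.span ℂ (Set.range v) := by
    rw [biCenter_eq]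
    refine le_antisymm ?_ (Submodule.span_le.2 ?_)
    · rintro _ ⟨f, hf, rfl⟩
      rw [classFunction_expansion (show IsClassFunction G f from hf), map_sum]
      refine Submodule.sum_mem _ fun χ _ => ?_
      rw [map_smul]
      refine Submodule.smul_mem _ _ ?_
      by_cases h : ∑ b : B, (χ : G → ℂ) (b : G) = 0
      · have : eMap B (χ : G → ℂ) = 0 := inner'_self (by rw [inner'_eMap, if_pos rfl, h]; simp)
        rw [this]; exact zero_mem _
      · exact Submodule.subset_span ⟨⟨χ, h⟩, rfl⟩
    · rintro _ ⟨χ, rfl⟩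
      exact ⟨_, hcl χ.1, rfl⟩
  rw [hspan, finrank_span_eq_card hli, Nat.card_eq_fintype_card]

/-- The constituents of the permutation character. -/
theorem constituent_iff [Fintype B] (χ : IrrCharacter G) :
    (∃ φ : G → ℂ, IsCharacter G φ ∧ Cfsg.fixedPointCharacter B = (χ : G → ℂ) + φ) ↔
      ∑ b : B, (χ : G → ℂ) (b : G) ≠ 0 := by
  classical
  have hperm : IsCharacter G (Cfsg.fixedPointCharacter B) := isCharacter_perm (G := G) (G ⧸ B)
  have h1 : Cfsg.fixedPointCharacter B = Cfsg.indFun B (fun _ => (1 : ℂ)) := by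
    have := perm_eq_indFun (G := G) (G ⧸ B) ((1 : G) : G ⧸ B)
    rw [show MulAction.stabilizer G ((1 : G) : G ⧸ B) = B from MulAction.stabilizer_quotient B]
      at this
    exact this
  have hinner : classInner (Cfsg.fixedPointCharacter B) (χ : G → ℂ) =
      (Nat.card B : ℂ)⁻¹ * conj (∑ b : B, (χ : G → ℂ) (b : G)) := by
    rw [h1, frobenius_reciprocity B _ (isClassFunction_of_isCharacter (isCharacter_of_isIrr χ.2))]
    simp [classInner]
  obtain ⟨m, hm⟩ := exists_multiplicities hperm
  have hmc : classInner (Cfsg.fixedPointCharacter B) (χ : G → ℂ) = m χ := by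
    rw [hm]; exact classInner_sum_smul_irr (fun ψ => (m ψ : ℂ)) χ
  constructor
  · rintro ⟨φ, hφ, e⟩ h0
    obtain ⟨k, hk⟩ := exists_nat_classInner hφ (isCharacter_of_isIrr χ.2)
    rw [h0, map_zero, mul_zero] at hinner
    rw [e, classInner_add_left, classInner_irr_self χ.2, hk] at hinner
    have : ((1 + k : ℕ) : ℂ) = 0 := by push_cast; exact hinner
    exact absurd (Nat.cast_eq_zero.1 this) (by omega)
  · intro hne
    have hmne : m χ ≠ 0 := fun h0 => hne (by
      rw [hmc, h0, Nat.cast_zero] at hinner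
      rcases mul_eq_zero.1 hinner.symm with h2 | h2
      · simp at h2
      · simpa using congrArg conj h2)
    refine ⟨∑ ψ : IrrCharacter G, ((if ψ = χ then m ψ - 1 else m ψ : ℕ) : ℂ) • (ψ : G → ℂ),
      isCharacter_iff_exists_multiplicities.2 ⟨_, rfl⟩, ?_⟩
    rw [hm, ← Finset.add_sum_erase _ _ (Finset.mem_univ χ),
      ← Finset.add_sum_erase _ _ (Finset.mem_univ χ), if_pos rfl, ← add_assoc]
    congr 1
    · rw [Nat.cast_sub (Nat.one_le_iff_ne_zero.2 hmne), sub_smul, Nat.cast_one, one_smul]
      abel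
    · exact Finset.sum_congr rfl fun ψ hψ => by rw [if_neg (Finset.ne_of_mem_erase hψ)]

end CfsgLib.BiInv
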