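import Cfsg.Agent.Lib.Char.Solomon

/-!
# Artin induction
-/

set_option autoImplicit false
set_option linter.unusedSectionVars false

namespace CfsgLib.Char

open Cfsg
open scoped ComplexConjugate CfsgLib.Char

universe u

variable {G : Type u} [Group G]

/-- Irreducible characters of a commutative finite group have degree one. -/
theorem degree_one_of_comm [Finite G] (hcomm : ∀ a b : G, a * b = b * a) (ψ : IrrCharacter G) :
    (ψ : G → ℂ) 1 = 1 := by
  classical
  have : Fintype G := Fintype.ofFinite G
  choose d hd0 hd using fun χ : IrrCharacter G => exists_nat_degree_irr χ.2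
  have h1 := sum_sq_degree (G := G)
  have hcc : Nat.card (ConjClasses G) = Nat.card G := by
    have hinj : Function.Injective (ConjClasses.mk : G → ConjClasses G) := by
      intro a b h
      have h' : IsConj a b := ConjClasses.mk_eq_mk_iff_isConj.mp h
      obtain ⟨c, hc⟩ := h'
      exact mul_right_cancel ((hcomm a c).trans hc)
    exact (Nat.card_congr (Equiv.ofBijective ConjClasses.mk ⟨hinj, Quot.mk_surjective⟩)).symm
  simp only [hd] at h1
  have h2 : ∑ χ : IrrCharacter G, d χ ^ 2 = ∑ χ : IrrCharacter G, 1 := by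
    rw [Finset.sum_const, Finset.card_univ, smul_eq_mul, mul_one, ← Nat.card_eq_fintype_card,
      card_irr_eq_card_conjClasses, hcc]
    exact_mod_cast h1
  have h3 := (Finset.sum_eq_sum_iff_of_le fun χ _ => Nat.one_le_pow _ _ (hd0 χ)).mp h2.symm ψ
    (Finset.mem_univ _)
  rw [hd ψ, (Nat.pow_eq_one.mp h3.symm).resolve_right two_ne_zero, Nat.cast_one]

/-- The sum of a linear character over the generators of a subgroup is an integer. -/
theorem sum_generators_int [Fintype G] (f : G → ℂ) : ∀ (n : ℕ) (B : Subgroup G), Nat.card B = n →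
    (f 1 = 1 ∧ ∀ a ∈ B, ∀ b ∈ B, f (a * b) = f a * f b) →
    ∃ z : ℤ, (open Classical in ∑ a ∈ Finset.univ.filter (fun a : G => Subgroup.zpowers a = B), f a) = z := by
  intro n
  induction n using Nat.strong_induction_on with
  | _ n ih =>
    intro B hB hf
    classical
    obtain ⟨w, hw⟩ : ∃ w : ℤ, ∑ a ∈ Finset.univ.filter (fun a : G => a ∈ B), f a = w := by
      let lam : B →* ℂ := ⟨⟨fun b => f b, hf.1⟩, fun a b => hf.2 a a.2 b b.2⟩
      rw [Finset.sum_subtype (Finset.univ.filter fun a : G => a ∈ B) (p := fun a => a ∈ B) (by simp)]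
      by_cases h : lam = 1
      · refine ⟨Fintype.card B, ?_⟩
        rw [show (∑ a : B, f a) = ∑ a : B, lam a from rfl, h]
        simp
      · exact ⟨0, by rw [show (∑ a : B, f a) = ∑ a : B, lam a from rfl, Int.cast_zero];
                     exact sum_hom_units_eq_zero lam h⟩
    obtain ⟨v, hv⟩ : ∃ v : ℤ, ∑ C ∈ (Finset.univ.filter fun C : Subgroup G => C < B),
        ∑ a ∈ Finset.univ.filter (fun a : G => Subgroup.zpowers a = C), f a = v := by
      have h : ∀ C : Subgroup G, ∃ z : ℤ, C < B →
          ∑ a ∈ Finset.univ.filter (fun a : G => Subgroup.zpowers a = C), f a = z := by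
        intro C
        by_cases hC : C < B
        · obtain ⟨z, hz⟩ := ih (Nat.card C) (by rw [← hB]; exact Set.Finite.card_lt_card (Set.toFinite _) (SetLike.coe_ssubset_coe.mpr hC)) C rfl
            ⟨hf.1, fun a ha b hb => hf.2 a (hC.le ha) b (hC.le hb)⟩
          exact ⟨z, fun _ => by convert hz⟩
        · exact ⟨0, fun h => absurd h hC⟩
      choose z hz using h
      refine ⟨∑ C ∈ (Finset.univ.filter fun C : Subgroup G => C < B), z C, ?_⟩
      rw [Int.cast_sum]
      exact Finset.sum_congr rfl fun C hC => hz C (Finset.mem_filter.mp hC).2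
    refine ⟨w - v, ?_⟩
    have hsplit : ∑ a ∈ Finset.univ.filter (fun a : G => a ∈ B), f a =
        ∑ C ∈ (Finset.univ.filter fun C : Subgroup G => C ≤ B),
          ∑ a ∈ Finset.univ.filter (fun a : G => Subgroup.zpowers a = C), f a := by
      rw [← Finset.sum_fiberwise_of_maps_to (g := fun a : G => Subgroup.zpowers a)
        (t := Finset.univ.filter fun C : Subgroup G => C ≤ B) fun a ha => by
          simpa using Subgroup.zpowers_le.mpr (Finset.mem_filter.mp ha).2]
      refine Finset.sum_congr rfl fun C hC => Finset.sum_congr ?_ fun _ _ => rfl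
      ext a
      simp only [Finset.mem_filter, Finset.mem_univ, true_and]
      exact ⟨fun h => h.2, fun h => ⟨(Finset.mem_filter.mp hC).2 (h ▸ Subgroup.mem_zpowers a), h⟩⟩
    have hins : (Finset.univ.filter fun C : Subgroup G => C ≤ B) =
        insert B (Finset.univ.filter fun C : Subgroup G => C < B) := by
      ext C; simp [le_iff_lt_or_eq, or_comm]
    rw [hins, Finset.sum_insert (by simp), hv, hw] at hsplit
    push_cast
    rw [hsplit, add_sub_cancel_right]

/-- **Artin induction**, in integral form. -/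
theorem artin [Fintype G] {χ : G → ℂ} (hχ : IsCharacter G χ) :
    ∃ l : List ((A : Subgroup G) × ((A →* ℂˣ) × ℤ)), (∀ t ∈ l, IsCyclic t.1) ∧
      (Nat.card G : ℂ) • χ =
        (l.map fun t => (t.2.2 : ℂ) • indFun t.1 (fun a => (t.2.1 a : ℂ))).sum := by
  classical
  have hcl := isClassFunction_of_isCharacter hχ
  let T : (A : Subgroup G) → A → ℂ := fun A a =>
    if Subgroup.zpowers (a : G) = A then (Nat.card A : ℂ) else 0
  let C := {A : Subgroup G // IsCyclic A}
  have hTcl : ∀ A : C, IsClassFunction A.1 (T A.1) := by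
    intro A g h
    haveI := A.2
    rw [IsMulCommutative.is_comm.comm h g, mul_inv_cancel_right]
  have hsum : ∑ A : C, indFun A.1 (T A.1) = fun _ => (Nat.card G : ℂ) := by
    funext g
    rw [Finset.sum_apply]
    have hterm : ∀ A : C, indFun A.1 (T A.1) g =
        ∑ x : G, (if Subgroup.zpowers (x⁻¹ * g * x) = A.1 then (1 : ℂ) else 0) := by
      intro A
      rw [indFun, Finset.mul_sum]
      refine Finset.sum_congr rfl fun x _ => ?_
      by_cases hx : x⁻¹ * g * x ∈ A.1
      · rw [extendByZero_mem A.1 _ hx]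
        simp only [T]
        split_ifs
        · rw [inv_mul_cancel₀ (Nat.cast_ne_zero.mpr Nat.card_pos.ne')]
        · rw [mul_zero]
      · rw [extendByZero_notMem A.1 _ hx, mul_zero,
          if_neg fun h : Subgroup.zpowers (x⁻¹ * g * x) = A.1 =>
            hx (h ▸ Subgroup.mem_zpowers _)]
    rw [Finset.sum_congr rfl fun A _ => hterm A, Finset.sum_comm]
    have h1 : ∀ x : G, ∑ A : C, (if Subgroup.zpowers (x⁻¹ * g * x) = A.1 then (1 : ℂ) else 0) = 1 := by
      intro x
      rw [Finset.sum_eq_single (⟨Subgroup.zpowers (x⁻¹ * g * x), inferInstance⟩ : C)]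
      · simp
      · intro A _ hA
        rw [if_neg fun h : Subgroup.zpowers (x⁻¹ * g * x) = A.1 => hA (Subtype.ext h.symm)]
      · intro h; exact absurd (Finset.mem_univ _) h
    rw [Finset.sum_congr rfl fun x _ => h1 x]
    simp [Nat.card_eq_fintype_card]
  have hint : ∀ (A : C) (ψ : IrrCharacter A.1), ∃ z : ℤ,
      classInner (T A.1 * fun a : A.1 => χ a) (ψ : A.1 → ℂ) = z := by
    intro A ψ
    haveI := A.2
    refine exists_int_classInner (isGeneralized_mul ?_
      (isGeneralized_restrict A.1 (isGeneralized_of_isCharacter hχ))) (isGeneralized_of_isIrr ψ.2)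
    rw [isGeneralized_iff_classInner (hTcl A)]
    intro φ
    have h1 := degree_one_of_comm (fun a b => IsMulCommutative.is_comm.comm a b) φ
    have hφc := isCharacter_of_isIrr φ.2
    let f : G → ℂ := fun a => if h : a ∈ A.1 then conj ((φ : A.1 → ℂ) ⟨a, h⟩) else 0
    obtain ⟨z, hz⟩ := sum_generators_int f (Nat.card A.1) A.1 rfl
      ⟨by simp only [f, dif_pos A.1.one_mem]
          rw [show (⟨1, A.1.one_mem⟩ : A.1) = 1 from rfl, h1, map_one],
        fun a ha b hb => by
          simp only [f, dif_pos ha, dif_pos hb, dif_pos (A.1.mul_mem ha hb)]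
          rw [← map_mul, ← linear_mul hφc h1]
          rfl⟩
    refine ⟨z, ?_⟩
    rw [← hz, classInner, Finset.mul_sum]
    have hsub : Finset.univ.filter (fun a : G => Subgroup.zpowers a = A.1) ⊆
        Finset.univ.filter (fun a : G => a ∈ A.1) := fun a ha =>
      Finset.mem_filter.mpr ⟨Finset.mem_univ _, (Finset.mem_filter.mp ha).2 ▸ Subgroup.mem_zpowers a⟩
    calc ∑ a : A.1, (Nat.card A.1 : ℂ)⁻¹ * (T A.1 a * conj ((φ : A.1 → ℂ) a))
        = ∑ a : A.1, (if Subgroup.zpowers (a : G) = A.1 then f a else 0) := by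
          refine Finset.sum_congr rfl fun a _ => ?_
          simp only [T]
          split_ifs
          · rw [← mul_assoc, inv_mul_cancel₀ (Nat.cast_ne_zero.mpr Nat.card_pos.ne'), one_mul]
            simp only [f, dif_pos a.2]
          · rw [zero_mul, mul_zero]
      _ = ∑ a ∈ Finset.univ.filter (fun a : G => a ∈ A.1),
            (if Subgroup.zpowers a = A.1 then f a else 0) :=
          (Finset.sum_subtype (Finset.univ.filter fun a : G => a ∈ A.1) (p := fun a => a ∈ A.1)
            (by simp) (fun a => if Subgroup.zpowers a = A.1 then f a else 0)).symm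
      _ = _ := by
          rw [← Finset.sum_subset hsub fun a _ ha => if_neg fun h =>
            ha (Finset.mem_filter.mpr ⟨Finset.mem_univ _, h⟩)]
          exact Finset.sum_congr rfl fun a ha => if_pos (Finset.mem_filter.mp ha).2
  choose z hz using hint
  let I := (A : C) × IrrCharacter A.1
  let mk : I → (A : Subgroup G) × ((A →* ℂˣ) × ℤ) := fun i =>
    ⟨i.1.1, (linearHom (isCharacter_of_isIrr i.2.2) (degree_one_of_comm
      (fun a b => by haveI := i.1.2; exact IsMulCommutative.is_comm.comm a b) i.2), z i.1 i.2)⟩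
  refine ⟨(Finset.univ : Finset I).toList.map mk, ?_, ?_⟩
  · intro t ht
    obtain ⟨i, -, rfl⟩ := List.mem_map.mp ht
    exact i.1.2
  · rw [List.map_map, Finset.sum_map_toList, Fintype.sum_sigma]
    have hA : ∀ A : C, ∑ ψ : IrrCharacter A.1,
        ((fun t : (A : Subgroup G) × ((A →* ℂˣ) × ℤ) =>
          (t.2.2 : ℂ) • indFun t.1 (fun a => (t.2.1 a : ℂ))) ∘ mk) ⟨A, ψ⟩ =
        indFun A.1 (T A.1) * χ := by
      intro A
      rw [← indFun_mul_restrict A.1 _ hcl]
      have hexp := classFunction_expansion (f := T A.1 * fun a : A.1 => χ a) (fun g h => by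
        simp only [Pi.mul_apply]; rw [hTcl A g h]; congr 1
        exact isClassFunction_restrict A.1 hcl g h)
      conv_rhs => rw [hexp, indFun_sum]
      refine Finset.sum_congr rfl fun ψ _ => ?_
      rw [indFun_smul, hz A ψ]
      simp only [Function.comp_apply, mk]
      congr 2
    rw [Finset.sum_congr rfl fun A _ => hA A, ← Finset.sum_mul, hsum]
    funext g
    simp [Pi.mul_apply]

end CfsgLib.Char
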