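import Mathlib

/-!
# Operators of finite order on complex vector spaces: eigenbases, character values
-/

set_option autoImplicit false

namespace CfsgLib.Char

open Module Polynomial
open scoped ComplexConjugate

variable {G : Type*} [Group G] {V : Type*} [AddCommGroup V] [Module ℂ V] [FiniteDimensional ℂ V]

/-- An endomorphism `f` with `f ^ m = 1` has a basis of eigenvectors with eigenvalues `m`-th roots of
unity. -/
theorem exists_eigenBasis_of_pow_eq_one (f : Module.End ℂ V) {m : ℕ} (hm : m ≠ 0) (hf : f ^ m = 1) :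
    ∃ (b : Basis (Fin (finrank ℂ V)) ℂ V) (μ : Fin (finrank ℂ V) → ℂ),
      (∀ i, μ i ^ m = 1) ∧ ∀ i, f (b i) = μ i • b i := by
  classical
  have hss : f.IsSemisimple := by
    refine Module.End.isSemisimple_of_squarefree_aeval_eq_zero
      (p := X ^ m - C (1 : ℂ)) ?_ ?_
    · exact (separable_X_pow_sub_C 1 (Nat.cast_ne_zero.mpr hm) one_ne_zero).squarefree
    · simp [hf]
  have htop : ⨆ μ : ℂ, f.eigenspace μ = ⊤ := by
    rw [← Module.End.iSup_maxGenEigenspace_eq_top f]
    simp_rw [hss.isFinitelySemisimple.maxGenEigenspace_eq_eigenspace]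
  set s : Set V := {v | v ≠ 0 ∧ ∃ μ : ℂ, f v = μ • v} with hs
  have hspan : Submodule.span ℂ s = ⊤ := by
    rw [eq_top_iff, ← htop]
    refine iSup_le fun μ v hv => ?_
    by_cases h0 : v = 0
    · simp [h0]
    · exact Submodule.subset_span ⟨h0, μ, Module.End.mem_eigenspace_iff.mp hv⟩
  obtain ⟨t, hts, htspan, hli⟩ := exists_linearIndependent ℂ s
  let b0 : Basis t ℂ V := Basis.mk hli (by
    rw [Subtype.range_coe, htspan, hspan])
  have : Fintype t := FiniteDimensional.fintypeBasisIndex b0
  have hcard : Fintype.card t = finrank ℂ V := (Module.finrank_eq_card_basis b0).symm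
  let b : Basis (Fin (finrank ℂ V)) ℂ V := b0.reindex (Fintype.equivFinOfCardEq hcard)
  have hb : ∀ i, b i ∈ s := fun i => by
    simp only [b, Basis.reindex_apply, b0, Basis.mk_apply]
    exact hts (Subtype.prop _)
  choose hne μ hμ using hb
  refine ⟨b, μ, fun i => ?_, hμ⟩
  have hpow : ∀ k : ℕ, (f ^ k) (b i) = μ i ^ k • b i := by
    intro k
    induction k with
    | zero => simp
    | succ k ih => rw [pow_succ', Module.End.mul_apply, ih, map_smul, hμ, smul_smul, pow_succ]
  have h := hpow m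
  rw [hf, Module.End.one_apply] at h
  have h2 : (μ i ^ m - 1) • b i = 0 := by rw [sub_smul, one_smul, ← h, sub_self]
  exact sub_eq_zero.mp ((smul_eq_zero.mp h2).resolve_right (hne i))

/-- Eigenbasis for the action of a group element of finite order. -/
theorem exists_eigenBasis [Finite G] (ρ : Representation ℂ G V) (g : G) :
    ∃ (b : Basis (Fin (finrank ℂ V)) ℂ V) (μ : Fin (finrank ℂ V) → ℂ),
      (∀ i, μ i ^ orderOf g = 1) ∧ ∀ (i) (k : ℕ), ρ (g ^ k) (b i) = μ i ^ k • b i := by
  obtain ⟨b, μ, h1, h2⟩ := exists_eigenBasis_of_pow_eq_one (ρ g) (orderOf_pos g).ne'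
    (by rw [← map_pow, pow_orderOf_eq_one, map_one])
  refine ⟨b, μ, h1, fun i k => ?_⟩
  induction k with
  | zero => simp
  | succ k ih =>
    rw [pow_succ', map_mul, Module.End.mul_apply, ih, map_smul, h2, smul_smul, pow_succ]

omit [FiniteDimensional ℂ V] in
theorem trace_eq_sum_of_diag {ι : Type*} [Fintype ι] (b : Basis ι ℂ V) (f : V →ₗ[ℂ] V)
    (μ : ι → ℂ) (h : ∀ i, f (b i) = μ i • b i) : LinearMap.trace ℂ V f = ∑ i, μ i := by
  classical
  rw [LinearMap.trace_eq_matrix_trace ℂ b, Matrix.trace]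
  refine Finset.sum_congr rfl fun i _ => ?_
  rw [Matrix.diag_apply, LinearMap.toMatrix_apply, h i]
  simp

theorem character_pow_eq_sum [Finite G] (ρ : Representation ℂ G V) (g : G) :
    ∃ μ : Fin (finrank ℂ V) → ℂ, (∀ i, μ i ^ orderOf g = 1) ∧
      ∀ k : ℕ, ρ.character (g ^ k) = ∑ i, μ i ^ k := by
  obtain ⟨b, μ, h1, h2⟩ := exists_eigenBasis ρ g
  exact ⟨μ, h1, fun k => trace_eq_sum_of_diag b _ _ fun i => h2 i k⟩

theorem char_value_inv [Finite G] (ρ : Representation ℂ G V) (g : G) :
    ρ.character g⁻¹ = conj (ρ.character g) := by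
  obtain ⟨μ, h1, h2⟩ := character_pow_eq_sum ρ g
  have hinv : g⁻¹ = g ^ (orderOf g - 1) := by
    rw [inv_eq_iff_mul_eq_one, ← pow_succ', Nat.sub_add_cancel (orderOf_pos g), pow_orderOf_eq_one]
  have hg := h2 1
  rw [pow_one] at hg
  rw [hinv, h2, hg, map_sum]
  refine Finset.sum_congr rfl fun i _ => ?_
  rw [pow_one]
  have hn : ‖μ i‖ = 1 := Complex.norm_eq_one_of_pow_eq_one (h1 i) (orderOf_pos g).ne'
  have hmul : μ i * μ i ^ (orderOf g - 1) = 1 := by
    rw [← pow_succ', Nat.sub_add_cancel (orderOf_pos g), h1]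
  rw [← Complex.inv_eq_conj hn]
  exact eq_inv_of_mul_eq_one_right hmul

theorem isIntegral_character [Finite G] (ρ : Representation ℂ G V) (g : G) :
    IsIntegral ℤ (ρ.character g) := by
  obtain ⟨μ, h1, h2⟩ := character_pow_eq_sum ρ g
  have hg := h2 1
  rw [pow_one] at hg
  rw [hg]
  refine IsIntegral.sum _ fun i _ => ?_
  rw [pow_one]
  refine IsIntegral.of_pow (orderOf_pos g) ?_
  rw [h1 i]
  exact isIntegral_one

theorem norm_character_le [Finite G] (ρ : Representation ℂ G V) (g : G) :
    ‖ρ.character g‖ ≤ (finrank ℂ V : ℝ) := by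
  obtain ⟨μ, h1, h2⟩ := character_pow_eq_sum ρ g
  have hg := h2 1
  rw [pow_one] at hg
  rw [hg]
  refine (norm_sum_le _ _).trans (le_of_eq ?_)
  rw [Finset.sum_congr rfl fun i _ => by
    rw [pow_one, Complex.norm_eq_one_of_pow_eq_one (h1 i) (orderOf_pos g).ne']]
  simp

theorem norm_character_eq_iff [Finite G] (ρ : Representation ℂ G V) (g : G) :
    ‖ρ.character g‖ = (finrank ℂ V : ℝ) ↔ ∃ ω : ℂ, ρ g = ω • (LinearMap.id : V →ₗ[ℂ] V) := by
  obtain ⟨b, μ, h1, h2⟩ := exists_eigenBasis ρ g
  have hn : ∀ i, ‖μ i‖ = 1 := fun i =>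
    Complex.norm_eq_one_of_pow_eq_one (h1 i) (orderOf_pos g).ne'
  have hb : ∀ i, ρ g (b i) = μ i • b i := fun i => by simpa using h2 i 1
  have hg : ρ.character g = ∑ i, μ i := trace_eq_sum_of_diag b _ _ hb
  constructor
  · intro h
    rw [hg] at h
    rcases Nat.eq_zero_or_pos (finrank ℂ V) with h0 | hpos
    · refine ⟨1, LinearMap.ext fun v => ?_⟩
      have := Module.finrank_zero_iff.mp h0
      exact Subsingleton.elim _ _
    · have hpos' : (0 : ℝ) < (finrank ℂ V : ℝ) := Nat.cast_pos.mpr hpos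
      set S := ∑ i, μ i with hS
      set ω : ℂ := S / (‖S‖ : ℂ) with hω
      have hSne : (‖S‖ : ℂ) ≠ 0 := Complex.ofReal_ne_zero.mpr (h ▸ hpos'.ne')
      have hωn : ‖ω‖ = 1 := by rw [hω]; simp [h, hpos.ne']
      have hωc : conj ω * ω = 1 := by
        rw [Complex.conj_mul', hωn]; simp
      have hωS : conj ω * S = (‖S‖ : ℂ) := by
        rw [hω, map_div₀, Complex.conj_ofReal, div_mul_eq_mul_div, Complex.conj_mul']
        field_simp
      have hre : ∀ i, (conj ω * μ i).re ≤ 1 := fun i =>
        (Complex.re_le_norm _).trans (by rw [norm_mul, Complex.norm_conj, hωn, hn i, one_mul])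
      have hsum : ∑ i, (conj ω * μ i).re = ∑ _i : Fin (finrank ℂ V), (1 : ℝ) := by
        rw [← Complex.re_sum, ← Finset.mul_sum, ← hS, hωS, Complex.ofReal_re, h]
        simp
      have heq := (Finset.sum_eq_sum_iff_of_le fun i _ => hre i).mp hsum
      have hval : ∀ i, μ i = ω := by
        intro i
        have h1' : (conj ω * μ i).re = 1 := heq i (Finset.mem_univ i)
        have hnorm : ‖conj ω * μ i‖ = 1 := by rw [norm_mul, Complex.norm_conj, hωn, hn i, one_mul]
        have hsq : (conj ω * μ i).re ^ 2 + (conj ω * μ i).im ^ 2 = 1 := by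
          have := Complex.sq_norm (conj ω * μ i)
          rw [hnorm, Complex.normSq_apply] at this
          nlinarith
        have him : (conj ω * μ i).im = 0 := by
          rw [h1'] at hsq
          nlinarith
        have hone : conj ω * μ i = 1 := Complex.ext (by simpa using h1') (by simpa using him)
        calc μ i = (conj ω * ω) * μ i := by rw [hωc, one_mul]
          _ = ω * (conj ω * μ i) := by ring
          _ = ω := by rw [hone, mul_one]
      exact ⟨ω, b.ext fun i => by rw [hb i, hval i]; rfl⟩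
  · rintro ⟨ω, hω⟩
    rw [hg]
    have hμ : ∀ i, μ i = ω := by
      intro i
      have := hb i
      rw [hω, LinearMap.smul_apply, LinearMap.id_apply] at this
      have h0 : (ω - μ i) • b i = 0 := by rw [sub_smul, this, sub_self]
      exact (sub_eq_zero.mp ((smul_eq_zero.mp h0).resolve_right (b.ne_zero i))).symm
    rw [Finset.sum_congr rfl fun i _ => hμ i]
    simp only [Finset.sum_const, Finset.card_univ, Fintype.card_fin, nsmul_eq_mul, norm_mul,
      Complex.norm_natCast]
    rcases Nat.eq_zero_or_pos (finrank ℂ V) with h0 | hpos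
    · simp [h0]
    · rw [← hμ ⟨0, hpos⟩, hn, mul_one]

theorem character_eq_finrank_iff [Finite G] (ρ : Representation ℂ G V) (g : G) :
    ρ.character g = (finrank ℂ V : ℂ) ↔ ρ g = LinearMap.id := by
  constructor
  · intro h
    obtain ⟨ω, hω⟩ := (norm_character_eq_iff ρ g).mp (by rw [h]; simp)
    rcases Nat.eq_zero_or_pos (finrank ℂ V) with h0 | hpos
    · have := Module.finrank_zero_iff.mp h0
      exact LinearMap.ext fun v => Subsingleton.elim _ _
    · have : ρ.character g = ω * (finrank ℂ V : ℂ) := by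
        show LinearMap.trace ℂ V (ρ g) = _
        rw [hω, map_smul, LinearMap.trace_id, smul_eq_mul]
      rw [h] at this
      have hω1 : ω = 1 := mul_right_cancel₀ (Nat.cast_ne_zero.mpr hpos.ne')
        (this.symm.trans (one_mul _).symm)
      rw [hω, hω1, one_smul]
  · intro h
    show LinearMap.trace ℂ V (ρ g) = _
    rw [h, LinearMap.trace_id]

end CfsgLib.Char
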