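import Cfsg.Agent.Lib.Char.Galois
import Cfsg.Agent.Lib.Char.Virtual
import Mathlib.FieldTheory.Minpoly.IsIntegrallyClosed

/-!
# Values on which complex conjugation commutes with all embeddings
-/

set_option autoImplicit false
set_option linter.unusedSectionVars false

namespace CfsgLib.Char

open Cfsg Polynomial
open scoped ComplexConjugate CfsgLib.Char

/-- An algebraic number on which complex conjugation commutes with every embedding. -/
def IsCMValue (z : ℂ) : Prop :=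
  ∃ a b : QBar, (a : ℂ) = z ∧ (b : ℂ) = conj z ∧ ∀ ψ : QBar →ₐ[ℚ] ℂ, ψ b = conj (ψ a)

theorem isCMValue_ratCast (q : ℚ) : IsCMValue (q : ℂ) :=
  ⟨q, q, by simp, by simp, fun ψ => by simp⟩

theorem isCMValue_natCast (n : ℕ) : IsCMValue (n : ℂ) := by
  simpa using isCMValue_ratCast (n : ℚ)

theorem IsCMValue.add {z w : ℂ} (hz : IsCMValue z) (hw : IsCMValue w) : IsCMValue (z + w) := by
  obtain ⟨a, b, rfl, hb, h⟩ := hz
  obtain ⟨c, d, rfl, hd, h'⟩ := hw
  exact ⟨a + c, b + d, by simp, by simp [hb, hd], fun ψ => by simp [h ψ, h' ψ]⟩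

theorem IsCMValue.mul {z w : ℂ} (hz : IsCMValue z) (hw : IsCMValue w) : IsCMValue (z * w) := by
  obtain ⟨a, b, rfl, hb, h⟩ := hz
  obtain ⟨c, d, rfl, hd, h'⟩ := hw
  exact ⟨a * c, b * d, by simp, by simp [hb, hd], fun ψ => by simp [h ψ, h' ψ]⟩

theorem IsCMValue.inv {z : ℂ} (hz : IsCMValue z) : IsCMValue z⁻¹ := by
  obtain ⟨a, b, rfl, hb, h⟩ := hz
  exact ⟨a⁻¹, b⁻¹, by simp, by simp [hb], fun ψ => by simp [h ψ]⟩

theorem IsCMValue.star {z : ℂ} (hz : IsCMValue z) : IsCMValue (conj z) := by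
  obtain ⟨a, b, rfl, hb, h⟩ := hz
  exact ⟨b, a, hb, by simp, fun ψ => by rw [h ψ]; simp⟩

theorem isCMValue_sum {ι : Type*} (s : Finset ι) (f : ι → ℂ) (h : ∀ i ∈ s, IsCMValue (f i)) :
    IsCMValue (∑ i ∈ s, f i) := by
  classical
  induction s using Finset.induction_on with
  | empty => simpa using isCMValue_natCast 0
  | insert a s ha ih =>
    rw [Finset.sum_insert ha]
    exact (h a (Finset.mem_insert_self a s)).add (ih fun i hi => h i (Finset.mem_insert_of_mem hi))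

theorem IsCMValue.mem {z : ℂ} (hz : IsCMValue z) : z ∈ QBar := by
  obtain ⟨a, b, rfl, -, -⟩ := hz
  exact a.2

/-- Under every embedding `z * conj z` goes to a non-negative real. -/
theorem IsCMValue.normSq_embedding {z : ℂ} (hz : IsCMValue z) (h : z * conj z ∈ QBar)
    (ψ : QBar →ₐ[ℚ] ℂ) : ∃ r : ℝ, 0 ≤ r ∧ ψ ⟨z * conj z, h⟩ = r := by
  obtain ⟨a, b, rfl, hb, hψ⟩ := hz
  refine ⟨Complex.normSq (ψ a), Complex.normSq_nonneg _, ?_⟩
  rw [show (⟨(a : ℂ) * conj (a : ℂ), h⟩ : QBar) = a * b from Subtype.ext (by simp [hb]), map_mul, hψ,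
    Complex.mul_conj]

variable {G : Type*} [Group G] [Finite G]

theorem value_inv_eq_conj {χ : G → ℂ} (hχ : IsCharacter G χ) (g : G) : χ g⁻¹ = conj (χ g) := by
  obtain ⟨n, ρ, rfl⟩ := hχ
  exact char_value_inv ρ g

theorem isCMValue_character {χ : G → ℂ} (hχ : IsCharacter G χ) (g : G) : IsCMValue (χ g) := by
  have : Fintype G := Fintype.ofFinite G
  refine ⟨value hχ g, value hχ g⁻¹, rfl, ?_, fun ψ => ?_⟩
  · rw [coe_value, value_inv_eq_conj hχ]
  · obtain ⟨k, -, hk⟩ := exists_galois_exponent G ψ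
    rw [hk hχ, hk hχ, inv_pow, value_inv_eq_conj hχ]

/-- A non-zero algebraic integer has a conjugate of absolute value at least one. -/
theorem exists_one_le_norm {y : QBar} (hint : IsIntegral ℤ (y : ℂ)) (h0 : y ≠ 0) :
    ∃ ψ : QBar →ₐ[ℚ] ℂ, 1 ≤ ‖ψ y‖ := by
  classical
  by_contra hcon
  push Not at hcon
  have hy : IsIntegral ℤ y := (isIntegral_algebraMap_iff (algebraMap QBar ℂ).injective).mp hint
  have hq : IsIntegral ℚ y := hy.tower_top
  have hmin := minpoly.isIntegrallyClosed_eq_field_fractions' ℚ hy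
  set P := minpoly ℚ y with hP
  set Q := P.map (algebraMap ℚ ℂ) with hQ
  have hmon : Q.Monic := (minpoly.monic hq).map _
  have hspl : Q.Splits := IsAlgClosed.splits Q
  have hdeg : Q.natDegree = P.natDegree := P.natDegree_map _
  have hprod := hspl.coeff_zero_eq_prod_roots_of_monic hmon
  have hroots : ∀ r ∈ Q.roots, ‖r‖₊ < 1 := by
    intro r hr
    have hr' : r ∈ P.rootSet ℂ := by
      rw [Polynomial.mem_rootSet]
      refine ⟨minpoly.ne_zero hq, ?_⟩
      rw [Polynomial.aeval_def, ← Polynomial.eval_map]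
      exact (Polynomial.mem_roots hmon.ne_zero).mp hr
    rw [hP, ← Algebra.IsAlgebraic.range_eval_eq_rootSet_minpoly] at hr'
    obtain ⟨ψ, rfl⟩ := hr'
    exact hcon ψ
  obtain ⟨r, hr⟩ : ∃ r, r ∈ Q.roots := Multiset.exists_mem_of_ne_zero fun h => by
    have := hspl.natDegree_eq_card_roots
    rw [h, hdeg, Multiset.card_zero] at this
    exact (minpoly.natDegree_pos hq).ne' this
  have hlt : ‖Q.roots.prod‖₊ < 1 := by
    obtain ⟨t, ht⟩ := Multiset.exists_cons_of_mem hr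
    rw [ht, Multiset.prod_cons, nnnorm_mul]
    have htle : ‖t.prod‖₊ ≤ 1 := by
      have : ∀ m : Multiset ℂ, (∀ z ∈ m, ‖z‖₊ ≤ 1) → ‖m.prod‖₊ ≤ 1 := by
        intro m
        induction m using Multiset.induction_on with
        | empty => simp
        | cons z m ih =>
          intro h
          rw [Multiset.prod_cons, nnnorm_mul]
          exact mul_le_one₀ (h z (Multiset.mem_cons_self z m)) zero_le
            (ih fun w hw => h w (Multiset.mem_cons_of_mem hw))
      exact this t fun z hz => (hroots z (ht ▸ Multiset.mem_cons_of_mem hz)).le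
    calc ‖r‖₊ * ‖t.prod‖₊ ≤ ‖r‖₊ * 1 := mul_le_mul_of_nonneg_left htle zero_le
      _ < 1 := by rw [mul_one]; exact hroots r hr
  have hc : ‖Q.coeff 0‖ < 1 := by
    rw [hprod, norm_mul, norm_pow, norm_neg, norm_one, one_pow, one_mul]
    exact_mod_cast hlt
  have hc0 : P.coeff 0 ≠ 0 := minpoly.coeff_zero_ne_zero hq h0
  rw [hQ, Polynomial.coeff_map, hmin, Polynomial.coeff_map] at hc
  rw [hmin, Polynomial.coeff_map] at hc0
  have hz : (minpoly ℤ y).coeff 0 ≠ 0 := fun h => hc0 (by rw [h]; simp)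
  simp only [eq_intCast, map_intCast, Complex.norm_intCast] at hc
  have : (1 : ℝ) ≤ |((minpoly ℤ y).coeff 0 : ℝ)| := by
    rw [← Int.cast_abs]; exact_mod_cast Int.one_le_abs hz
  linarith

/-- Arithmetic-geometric mean bound for totally non-negative algebraic integers. -/
theorem exists_card_le_sum_embedding {ι : Type*} (s : Finset ι) (a : ι → QBar)
    (hint : ∀ i ∈ s, IsIntegral ℤ (a i : ℂ)) (h0 : ∀ i ∈ s, a i ≠ 0)
    (hpos : ∀ i ∈ s, ∀ ψ : QBar →ₐ[ℚ] ℂ, ∃ r : ℝ, 0 ≤ r ∧ ψ (a i) = r) :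
    ∃ ψ : QBar →ₐ[ℚ] ℂ, (s.card : ℝ) ≤ ∑ i ∈ s, (ψ (a i)).re := by
  classical
  obtain ⟨ψ, hψ⟩ := exists_one_le_norm (y := ∏ i ∈ s, a i)
    (by push_cast; exact IsIntegral.prod _ hint) (Finset.prod_ne_zero_iff.mpr h0)
  refine ⟨ψ, ?_⟩
  choose r hr0 hr using fun (i : s) => hpos i i.2 ψ
  have hrp : ∀ i : s, 0 < r i := fun i => lt_of_le_of_ne (hr0 i) fun e => h0 i i.2 ((map_eq_zero ψ).mp (by
    rw [hr, ← e, Complex.ofReal_zero]))
  have hprod : (1 : ℝ) ≤ ∏ i : s, r i := by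
    rw [map_prod, ← Finset.prod_coe_sort, norm_prod] at hψ
    refine hψ.trans_eq (Finset.prod_congr rfl fun i _ => ?_)
    rw [hr, Complex.norm_real, Real.norm_of_nonneg (hr0 i)]
  have h2 : ∑ i : s, Real.log (r i) ≤ ∑ i : s, (r i - 1) :=
    Finset.sum_le_sum fun i _ => Real.log_le_sub_one_of_pos (hrp i)
  rw [← Real.log_prod (fun i _ => (hrp i).ne'), Finset.sum_sub_distrib] at h2
  have h3 := Real.log_nonneg hprod
  simp only [Finset.sum_const, Finset.card_univ, Fintype.card_coe, nsmul_eq_mul, mul_one] at h2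
  rw [← Finset.sum_coe_sort, Finset.sum_congr rfl fun i _ => by rw [hr, Complex.ofReal_re]]
  linarith

end CfsgLib.Char
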