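import Mathlib

/-!
# Coherence for integral vectors with the inner products `m + 1` and `m`
-/

set_option autoImplicit false
set_option linter.unusedSectionVars false

namespace CfsgLib.IntCoherence

variable {ι : Type*} [Fintype ι] [DecidableEq ι]

/-- An integral vector of square norm two orthogonal to a positive vector is the difference of two
coordinate vectors. -/
theorem exists_pair {w : ι → ℤ} {d : ι → ℕ} (hd : ∀ i, 0 < d i) (hnorm : ∑ i, w i * w i = 2)
    (hdeg : ∑ i, w i * (d i : ℤ) = 0) :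
    ∃ i j, i ≠ j ∧ d i = d j ∧ ∀ k, w k = (if k = i then 1 else 0) - (if k = j then 1 else 0) := by
  classical
  have hle : ∀ k, w k * w k ≤ 2 := fun k => hnorm ▸
    Finset.single_le_sum (f := fun k => w k * w k) (fun i _ => mul_self_nonneg (w i)) (Finset.mem_univ k)
  have hsm : ∀ k, w k = 0 ∨ w k = 1 ∨ w k = -1 := fun k => by
    have h1 := hle k
    have h2 : w k ≤ 1 := by nlinarith
    have h3 : -1 ≤ w k := by nlinarith
    omega
  have hcard : (Finset.univ.filter fun k => w k ≠ 0).card = 2 := by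
    have : ∑ k, w k * w k = ((Finset.univ.filter fun k => w k ≠ 0).card : ℤ) := by
      rw [Finset.card_filter, Nat.cast_sum]
      refine Finset.sum_congr rfl fun k _ => ?_
      rcases hsm k with h | h | h <;> simp [h]
    omega
  obtain ⟨a, b, hab, hS⟩ := Finset.card_eq_two.mp hcard
  have hmem : ∀ k, w k ≠ 0 ↔ (k = a ∨ k = b) := fun k => by
    have := congrArg (k ∈ ·) hS
    simpa using this
  have hsum : w a * (d a : ℤ) + w b * (d b : ℤ) = 0 := by
    rw [← hdeg, ← Finset.sum_subset (Finset.subset_univ {a, b}) fun k _ hk => ?_]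
    · rw [Finset.sum_pair hab]
    · have : w k = 0 := by
        by_contra hne
        exact hk (by simpa using (hmem k).mp hne)
      simp [this]
  have ha : w a ≠ 0 := (hmem a).mpr (Or.inl rfl)
  have hb : w b ≠ 0 := (hmem b).mpr (Or.inr rfl)
  have hda := hd a
  have hdb := hd b
  have key : ∀ i j, i ≠ j → w i = 1 → w j = -1 → (∀ k, k ≠ i → k ≠ j → w k = 0) →
      ∀ k, w k = (if k = i then (1 : ℤ) else 0) - (if k = j then 1 else 0) := by
    intro i j hij hi hj h0 k
    by_cases h1 : k = i
    · subst h1; simp [hij, hi]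
    · by_cases h2 : k = j
      · subst h2; simp [h1, hj]
      · simp [h1, h2, h0 k h1 h2]
  have h0 : ∀ k, k ≠ a → k ≠ b → w k = 0 := fun k h1 h2 => by
    by_contra hne
    rcases (hmem k).mp hne with h | h
    exacts [h1 h, h2 h]
  rcases (hsm a).resolve_left ha with e1 | e1 <;> rcases (hsm b).resolve_left hb with e2 | e2 <;>
    rw [e1, e2] at hsum
  · omega
  · exact ⟨a, b, hab, by omega, key a b hab e1 e2 h0⟩
  · exact ⟨b, a, hab.symm, by omega, key b a hab.symm e2 e1 fun k h1 h2 => h0 k h2 h1⟩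
  · omega

theorem sum_indicator_mul (w : ι → ℤ) (i j : ι) :
    ∑ k, w k * ((if k = i then (1 : ℤ) else 0) - (if k = j then 1 else 0)) = w i - w j := by
  simp [mul_sub, Finset.sum_sub_distrib]

/-- Integral vectors, indexed by at least two indices, with inner products `m + 1` and `m` and
orthogonal to a positive vector: away from a distinguished set of coordinates they agree, and on
that set they are given by a constant and a sign. -/
theorem coherence {O : Type*} [Fintype O] [DecidableEq O] (hO : 2 ≤ Fintype.card O) (a : O → ι → ℤ)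
    (m : ℤ) (d : ι → ℕ) (hd : ∀ i, 0 < d i)
    (hinner : ∀ o o', ∑ i, a o i * a o' i = m + if o = o' then 1 else 0)
    (hdeg : ∀ o, ∑ i, a o i * (d i : ℤ) = 0) :
    ∃ (e : O → ι) (δ k : ℤ), Function.Injective e ∧ (δ = 1 ∨ δ = -1) ∧
      (∀ o o' i, (∀ u, e u ≠ i) → a o i = a o' i) ∧
      ∀ o o', a o (e o') = k - if o' = o then δ else 0 := by
  classical
  obtain ⟨o₁⟩ : Nonempty O := Fintype.card_pos_iff.mp (by omega)
  have hW' : ∀ o o', o ≠ o' → ∃ i j, i ≠ j ∧ d i = d j ∧
      ∀ x, a o x - a o' x = (if x = i then 1 else 0) - (if x = j then 1 else 0) := by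
    intro o o' hne
    refine exists_pair (w := fun x => a o x - a o' x) hd ?_ ?_
    · have e : ∀ x, (a o x - a o' x) * (a o x - a o' x) =
          a o x * a o x - 2 * (a o x * a o' x) + a o' x * a o' x := fun x => by ring
      simp only [e, Finset.sum_add_distrib, Finset.sum_sub_distrib, ← Finset.mul_sum, hinner,
        if_pos, if_neg hne]
      ring
    · simp only [sub_mul, Finset.sum_sub_distrib, hdeg, sub_self]
  obtain ⟨o₃, ho₃⟩ : ∃ o, o ≠ o₁ := Fintype.exists_ne_of_one_lt_card (by omega) o₁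
  obtain ⟨i₀, -⟩ := hW' o₁ o₃ ho₃.symm
  have hW : ∀ o o', ∃ i j, o ≠ o' → i ≠ j ∧ d i = d j ∧
      ∀ x, a o x - a o' x = (if x = i then 1 else 0) - (if x = j then 1 else 0) := by
    intro o o'
    by_cases h : o = o'
    · exact ⟨i₀, i₀, fun hne => absurd h hne⟩
    · obtain ⟨i, j, hij⟩ := hW' o o' h
      exact ⟨i, j, fun _ => hij⟩
  choose P N hPNall using hW
  have hPN : ∀ o o', o ≠ o' → P o o' ≠ N o o' := fun o o' h => (hPNall o o' h).1
  have hdPN : ∀ o o', o ≠ o' → d (P o o') = d (N o o') := fun o o' h => (hPNall o o' h).2.1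
  have hPNw : ∀ o o', o ≠ o' → ∀ x, a o x - a o' x =
      (if x = P o o' then 1 else 0) - (if x = N o o' then 1 else 0) := fun o o' h => (hPNall o o' h).2.2
  have hdot : ∀ o o', o ≠ o₁ → o' ≠ o₁ → o ≠ o' →
      ((if P o₁ o = P o₁ o' then (1 : ℤ) else 0) - (if N o₁ o = P o₁ o' then 1 else 0)) -
        ((if P o₁ o = N o₁ o' then 1 else 0) - (if N o₁ o = N o₁ o' then 1 else 0)) = 1 := by
    intro o o' ho ho' hne
    have h1 : ∑ x, (a o₁ x - a o x) * (a o₁ x - a o' x) = 1 := by
      have e : ∀ x, (a o₁ x - a o x) * (a o₁ x - a o' x) =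
          a o₁ x * a o₁ x - a o₁ x * a o' x - a o x * a o₁ x + a o x * a o' x := fun x => by ring
      simp only [e, Finset.sum_add_distrib, Finset.sum_sub_distrib, hinner, if_neg ho,
        if_neg ho'.symm, if_neg hne, if_pos]
      ring
    rw [Finset.sum_congr rfl fun x _ => by rw [hPNw o₁ o' ho'.symm x], sum_indicator_mul] at h1
    rw [hPNw o₁ o ho.symm, hPNw o₁ o ho.symm] at h1
    simp only [eq_comm (a := P o₁ o') (b := P o₁ o), eq_comm (a := P o₁ o') (b := N o₁ o),
      eq_comm (a := N o₁ o') (b := P o₁ o), eq_comm (a := N o₁ o') (b := N o₁ o)] at h1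
    linarith
  have hor : ∀ o o', o ≠ o₁ → o' ≠ o₁ → o ≠ o' →
      (P o₁ o = P o₁ o' ∧ N o₁ o ≠ N o₁ o') ∨ (N o₁ o = N o₁ o' ∧ P o₁ o ≠ P o₁ o') := by
    intro o o' ho ho' hne
    have h := hdot o o' ho ho' hne
    have hp := hPN o₁ o ho.symm
    by_cases h1 : P o₁ o = P o₁ o' <;> by_cases h2 : N o₁ o = N o₁ o'
    · exfalso
      have h3 : N o₁ o ≠ P o₁ o' := fun e => hp (h1.trans e.symm)
      have h4 : P o₁ o ≠ N o₁ o' := fun e => hp (e.trans h2.symm)
      rw [if_pos h1, if_pos h2, if_neg h3, if_neg h4] at h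
      omega
    · exact Or.inl ⟨h1, h2⟩
    · exact Or.inr ⟨h2, h1⟩
    · exfalso
      simp only [if_neg h1, if_neg h2] at h
      split_ifs at h <;> omega
  obtain ⟨o₂, ho₂⟩ : ∃ o, o ≠ o₁ := Fintype.exists_ne_of_one_lt_card (by omega) o₁
  have hall : (∀ o, o ≠ o₁ → P o₁ o = P o₁ o₂) ∨ (∀ o, o ≠ o₁ → N o₁ o = N o₁ o₂) := by
    by_contra hc
    push Not at hc
    obtain ⟨⟨u, hu, hu'⟩, ⟨v, hv, hv'⟩⟩ := hc
    have hu2 : u ≠ o₂ := fun e => hu' (e ▸ rfl)
    have hv2 : v ≠ o₂ := fun e => hv' (e ▸ rfl)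
    have hNu : N o₁ u = N o₁ o₂ := ((hor u o₂ hu ho₂ hu2).resolve_left fun h => hu' h.1).1
    have hPv : P o₁ v = P o₁ o₂ := ((hor v o₂ hv ho₂ hv2).resolve_right fun h => hv' h.1).1
    have huv : u ≠ v := fun e => hu' (e ▸ hPv)
    rcases hor u v hu hv huv with ⟨h1, -⟩ | ⟨h1, -⟩
    · exact hu' (h1.trans hPv)
    · exact hv' (h1.symm.trans hNu)
  rcases hall with hP | hN
  · set c := P o₁ o₂ with hc
    let e : O → ι := fun o => if o = o₁ then c else N o₁ o
    have hne_c : ∀ o, o ≠ o₁ → N o₁ o ≠ c := fun o ho h =>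
      hPN o₁ o ho.symm ((hP o ho).trans h.symm)
    have hinj : Function.Injective e := by
      intro o o' he
      by_cases h1 : o = o₁ <;> by_cases h2 : o' = o₁ <;> simp only [e, h1, h2, if_true, if_false] at he
      · rw [h1, h2]
      · exact absurd he.symm (hne_c o' h2)
      · exact absurd he (hne_c o h1)
      · by_contra hne
        rcases hor o o' h1 h2 hne with ⟨-, h⟩ | ⟨-, h⟩
        · exact h he
        · exact h ((hP o h1).trans (hP o' h2).symm)
    have hval : ∀ o x, a o x =
        a o₁ x - (if x = c then 1 else 0) + (if x = e o then 1 else 0) := by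
      intro o x
      rcases eq_or_ne o o₁ with rfl | ho
      · simp [e]
      · have := hPNw o₁ o ho.symm x
        rw [hP o ho] at this
        simp only [e, if_neg ho]
        linarith
    have hk : ∀ o, o ≠ o₁ → a o₁ (N o₁ o) = a o₁ c - 1 := by
      intro o ho
      have h1 : ∑ x, a o₁ x * (a o₁ x - a o x) = 1 := by
        simp only [mul_sub, Finset.sum_sub_distrib, hinner, if_neg ho.symm, if_pos]
        ring
      rw [Finset.sum_congr rfl fun x _ => by rw [hPNw o₁ o ho.symm x], sum_indicator_mul,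
        hP o ho] at h1
      linarith
    refine ⟨e, -1, a o₁ c - 1, hinj, Or.inr rfl, fun o o' i hi => ?_, fun o o' => ?_⟩
    · have h1 : i ≠ c := fun h => hi o₁ (by simp [e, h])
      rw [hval o i, hval o' i, if_neg h1, if_neg (Ne.symm (hi o)), if_neg (Ne.symm (hi o'))]
    · rw [hval o (e o')]
      have he1 : (e o' = c) ↔ o' = o₁ :=
        ⟨fun h => hinj (h.trans (by simp [e])), fun h => by simp [e, h]⟩
      simp only [hinj.eq_iff, he1]
      by_cases h1 : o' = o₁
      · have h3 : e o' = c := he1.mpr h1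
        rw [h3]; simp only [h1, if_true]; split_ifs <;> ring
      · have h3 : e o' = N o₁ o' := by simp [e, h1]
        rw [h3, hk o' h1]; simp only [h1, if_false]; split_ifs <;> ring
  · set c := N o₁ o₂ with hc
    let e : O → ι := fun o => if o = o₁ then c else P o₁ o
    have hne_c : ∀ o, o ≠ o₁ → P o₁ o ≠ c := fun o ho h =>
      hPN o₁ o ho.symm (h.trans (hN o ho).symm)
    have hinj : Function.Injective e := by
      intro o o' he
      by_cases h1 : o = o₁ <;> by_cases h2 : o' = o₁ <;> simp only [e, h1, h2, if_true, if_false] at he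
      · rw [h1, h2]
      · exact absurd he.symm (hne_c o' h2)
      · exact absurd he (hne_c o h1)
      · by_contra hne
        rcases hor o o' h1 h2 hne with ⟨-, h⟩ | ⟨-, h⟩
        · exact h ((hN o h1).trans (hN o' h2).symm)
        · exact h he
    have hval : ∀ o x, a o x =
        a o₁ x + (if x = c then 1 else 0) - (if x = e o then 1 else 0) := by
      intro o x
      rcases eq_or_ne o o₁ with rfl | ho
      · simp [e]
      · have := hPNw o₁ o ho.symm x
        rw [hN o ho] at this
        simp only [e, if_neg ho]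
        linarith
    have hk : ∀ o, o ≠ o₁ → a o₁ (P o₁ o) = a o₁ c + 1 := by
      intro o ho
      have h1 : ∑ x, a o₁ x * (a o₁ x - a o x) = 1 := by
        simp only [mul_sub, Finset.sum_sub_distrib, hinner, if_neg ho.symm, if_pos]
        ring
      rw [Finset.sum_congr rfl fun x _ => by rw [hPNw o₁ o ho.symm x], sum_indicator_mul,
        hN o ho] at h1
      linarith
    refine ⟨e, 1, a o₁ c + 1, hinj, Or.inl rfl, fun o o' i hi => ?_, fun o o' => ?_⟩
    · have h1 : i ≠ c := fun h => hi o₁ (by simp [e, h])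
      rw [hval o i, hval o' i, if_neg h1, if_neg (Ne.symm (hi o)), if_neg (Ne.symm (hi o'))]
    · rw [hval o (e o')]
      have he1 : (e o' = c) ↔ o' = o₁ :=
        ⟨fun h => hinj (h.trans (by simp [e])), fun h => by simp [e, h]⟩
      simp only [hinj.eq_iff, he1]
      by_cases h1 : o' = o₁
      · have h3 : e o' = c := he1.mpr h1
        rw [h3]; simp [h1]
      · have h3 : e o' = P o₁ o' := by simp [e, h1]
        rw [h3, hk o' h1]; simp only [h1, if_false]; split_ifs <;> ring

end CfsgLib.IntCoherence
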