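import Cfsg.Agent.Lib.Char.ExtendChar

/-!
# Degrees and scalar subgroups; the degree ratio `χ(1)/θ(1)` divides the index
-/

set_option autoImplicit false

namespace CfsgLib.Char

open Module Representation Cfsg
open scoped ComplexConjugate

variable {Y : Type*} [Group Y] [Finite Y]
variable {V : Type*} [AddCommGroup V] [Module ℂ V] [FiniteDimensional ℂ V]

theorem degree_dvd_index_of_scalar_faithful (ρ : Representation ℂ Y V) [ρ.IsIrreducible]
    (hf : Function.Injective ρ) (Z : Subgroup Y) (hZ : ∀ z ∈ Z, ∃ c : ℂ, ρ z = c • LinearMap.id) :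
    finrank ℂ V ∣ Z.index := by
  classical
  have : Fintype Y := Fintype.ofFinite Y
  have hcent : ∀ z ∈ Z, ∀ y, z * y = y * z := fun z hz y => hf (by
    obtain ⟨c, hc⟩ := hZ z hz
    rw [map_mul, map_mul, hc]
    ext v; simp)
  have : Z.Normal := ⟨fun z hz y => by
    rw [← hcent z hz y, mul_assoc, mul_inv_cancel, mul_one]; exact hz⟩
  have : Fintype Z := Fintype.ofFinite Z
  have : Fintype (Y ⧸ Z) := Fintype.ofFinite _
  set χ := ρ.character with hχ
  have hn : (finrank ℂ V : ℂ) ≠ 0 := Nat.cast_ne_zero.mpr (finrank_pos_of_irreducible ρ).ne'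
  have hmulz : ∀ (g : Y) (c : ℂ) z, ρ z = c • LinearMap.id → χ (g * z) = c * χ g := fun g c z hc => by
    show LinearMap.trace ℂ _ (ρ (g * z)) = c * LinearMap.trace ℂ _ (ρ g)
    rw [map_mul, hc, mul_smul_comm, map_smul, smul_eq_mul]
    congr 2
  have hsq : ∀ (g : Y), ∀ z ∈ Z, χ (g * z) * conj (χ (g * z)) = χ g * conj (χ g) := by
    intro g z hz
    obtain ⟨c, hc⟩ := hZ z hz
    have hcn : ‖χ z‖ = (finrank ℂ V : ℝ) := (norm_character_eq_iff ρ z).mpr ⟨c, hc⟩
    have h1 : χ z = c * (finrank ℂ V : ℂ) := by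
      have := hmulz 1 c z hc
      rwa [one_mul, hχ, Representation.char_one] at this
    rw [h1, norm_mul, Complex.norm_natCast] at hcn
    have hc1 : ‖c‖ = 1 := by
      have hn' : (finrank ℂ V : ℝ) ≠ 0 := Nat.cast_ne_zero.mpr (finrank_pos_of_irreducible ρ).ne'
      exact mul_right_cancel₀ hn' (hcn.trans (one_mul _).symm)
    rw [hmulz g c z hc, map_mul, mul_mul_mul_comm, Complex.mul_conj' c, hc1]
    simp
  let f : Y ⧸ Z → ℂ := Quotient.lift (fun g => χ g * conj (χ g)) (fun a b h => by
    have h' : a⁻¹ * b ∈ Z := QuotientGroup.leftRel_apply.mp h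
    have := hsq a _ h'
    rw [mul_inv_cancel_left] at this
    exact this.symm)
  have hf' : ∀ g : Y, f (QuotientGroup.mk g) = χ g * conj (χ g) := fun g => rfl
  have hsum : (Nat.card Z : ℂ) * ∑ q, f q = (Nat.card Y : ℂ) := by
    have h1 : classInner χ χ = 1 := classInner_irr_self (isIrrCharacter_character ρ)
    rw [classInner, inv_mul_eq_one₀ (Nat.cast_ne_zero.mpr Nat.card_pos.ne')] at h1
    rw [h1, ← Finset.sum_fiberwise Finset.univ (QuotientGroup.mk : Y → Y ⧸ Z), Finset.mul_sum]
    refine Finset.sum_congr rfl fun q _ => ?_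
    obtain ⟨g, rfl⟩ := QuotientGroup.mk_surjective q
    rw [Finset.sum_congr rfl (g := fun _ => f (QuotientGroup.mk g))
      fun x hx => by rw [← (Finset.mem_filter.mp hx).2, hf'], Finset.sum_const, nsmul_eq_mul]
    congr 2
    rw [← Fintype.card_subtype, ← Nat.card_eq_fintype_card]
    refine Nat.card_congr ?_
    exact { toFun := fun z => ⟨g * z, (QuotientGroup.mk_mul_of_mem g z.2)⟩
            invFun := fun x => ⟨g⁻¹ * x.1, QuotientGroup.eq.mp x.2.symm⟩
            left_inv := fun z => Subtype.ext (inv_mul_cancel_left g z)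
            right_inv := fun x => Subtype.ext (mul_inv_cancel_left g x.1) }
  have hidx : ∑ q, f q = (Z.index : ℂ) := by
    have hc : (Nat.card Z : ℂ) ≠ 0 := Nat.cast_ne_zero.mpr Nat.card_pos.ne'
    refine mul_left_cancel₀ hc ?_
    rw [hsum, ← Nat.cast_mul, Z.card_mul_index]
  refine dvd_of_isIntegral_div (finrank_pos_of_irreducible ρ).ne' ?_
  rw [← hidx, Finset.sum_div]
  refine isIntegral_sum_classFunction (f := fun q => f q / (finrank ℂ V : ℂ)) ?_ ?_
  · intro q
    obtain ⟨g, rfl⟩ := QuotientGroup.mk_surjective q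
    rw [hf']
    by_cases h0 : χ g = 0
    · simp [h0, isIntegral_zero]
    have hC : (Subgroup.centralizer ({(QuotientGroup.mk g : Y ⧸ Z)} : Set (Y ⧸ Z))).comap
        (QuotientGroup.mk' Z) = Subgroup.centralizer ({g} : Set Y) := by
      ext x
      simp only [Subgroup.mem_comap, Subgroup.mem_centralizer_singleton_iff,
        QuotientGroup.mk'_apply]
      refine ⟨fun h => ?_, fun h => ?_⟩
      · have h1 : (QuotientGroup.mk g : Y ⧸ Z) = QuotientGroup.mk (x * g * x⁻¹) := by
          rw [QuotientGroup.mk_mul, QuotientGroup.mk_mul, QuotientGroup.mk_inv, h, mul_inv_cancel_right]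
        have hz := QuotientGroup.eq.mp h1
        obtain ⟨c, hc⟩ := hZ _ hz
        have e := hmulz g c _ hc
        rw [mul_inv_cancel_left, show χ (x * g * x⁻¹) = χ g from Representation.char_conj ρ g x] at e
        have hc1 : c = 1 := mul_right_cancel₀ h0 (e.symm.trans (one_mul _).symm)
        have hz1 : g⁻¹ * (x * g * x⁻¹) = 1 := hf (by rw [hc, hc1, one_smul, map_one]; rfl)
        rw [inv_mul_eq_one] at hz1
        conv_rhs => rw [hz1]
        group
      · rw [← QuotientGroup.mk_mul, ← QuotientGroup.mk_mul, h]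
    have hI : (Subgroup.centralizer ({(QuotientGroup.mk g : Y ⧸ Z)} : Set (Y ⧸ Z))).index =
        (Subgroup.centralizer ({g} : Set Y)).index := by
      rw [← hC, Subgroup.index_comap_of_surjective _ (QuotientGroup.mk'_surjective Z)]
    rw [hI, show ((Subgroup.centralizer ({g} : Set Y)).index : ℂ) * (χ g * conj (χ g) / (finrank ℂ V : ℂ)) =
        omega χ g * conj (χ g) by rw [omega, hχ, Representation.char_one]; field_simp]
    exact (isIntegral_omega ρ g).mul (isIntegral_conj (isIntegral_character ρ g))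
  · intro q r
    obtain ⟨g, rfl⟩ := QuotientGroup.mk_surjective q
    obtain ⟨x, rfl⟩ := QuotientGroup.mk_surjective r
    simp only [← QuotientGroup.mk_mul, ← QuotientGroup.mk_inv, hf']
    rw [show χ (x * g * x⁻¹) = χ g from Representation.char_conj ρ g x]

/-- The degree of an irreducible representation divides the index of every subgroup acting by
scalars. -/
theorem degree_dvd_index_of_scalar (ρ : Representation ℂ Y V) [hρ : ρ.IsIrreducible]
    (Z : Subgroup Y) (hZ : ∀ z ∈ Z, ∃ c : ℂ, ρ z = c • LinearMap.id) :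
    finrank ℂ V ∣ Z.index := by
  let K := MonoidHom.ker (G := Y) (M := Module.End ℂ V) ρ
  let σ : Representation ℂ (Y ⧸ K) V := QuotientGroup.lift K ρ le_rfl
  have hinj : Function.Injective σ := by
    intro a b h
    obtain ⟨a, rfl⟩ := QuotientGroup.mk_surjective a
    obtain ⟨b, rfl⟩ := QuotientGroup.mk_surjective b
    change ρ a = ρ b at h
    refine QuotientGroup.eq.mpr ?_
    show ρ (a⁻¹ * b) = 1
    rw [map_mul, ← h, ← map_mul, inv_mul_cancel, map_one]
  have hcomp : (σ.comp (QuotientGroup.mk' K) : Representation ℂ Y V) = ρ :=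
    MonoidHom.ext fun y => rfl
  have hσ : Representation.IsIrreducible (σ.comp (QuotientGroup.mk' K) : Representation ℂ Y V) := by
    rw [hcomp]; exact hρ
  have : σ.IsIrreducible := irreducible_of_comp (QuotientGroup.mk' K) σ hσ
  refine (degree_dvd_index_of_scalar_faithful σ hinj (Z.map (QuotientGroup.mk' K)) ?_).trans
    (Subgroup.index_map_dvd _ (QuotientGroup.mk'_surjective K))
  rintro _ ⟨z, hz, rfl⟩
  exact hZ z hz

omit [Finite Y]

theorem finrank_le_of_iSup_range {V W : Type*} [AddCommGroup V] [Module ℂ V]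
    [FiniteDimensional ℂ V] [AddCommGroup W] [Module ℂ W] [FiniteDimensional ℂ W]
    (A : Submodule ℂ (V →ₗ[ℂ] W)) (h : (⊤ : Submodule ℂ W) ≤ ⨆ φ : A, LinearMap.range (φ : V →ₗ[ℂ] W)) :
    finrank ℂ W ≤ finrank ℂ A * finrank ℂ V := by
  let b := Module.finBasis ℂ A
  let E : (Fin (finrank ℂ A) → V) →ₗ[ℂ] W :=
    ∑ i, ((b i : A) : V →ₗ[ℂ] W) ∘ₗ LinearMap.proj i
  have hE : LinearMap.range E = ⊤ := by
    refine top_le_iff.mp (h.trans (iSup_le fun φ => ?_))
    rintro _ ⟨v, rfl⟩
    refine ⟨fun i => b.repr φ i • v, ?_⟩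
    have h2 := congrArg (fun t : A => (t : V →ₗ[ℂ] W) v) (b.sum_repr φ)
    simp only [Submodule.coe_sum, Submodule.coe_smul, LinearMap.sum_apply, LinearMap.smul_apply] at h2
    simp only [E, LinearMap.sum_apply, LinearMap.comp_apply, LinearMap.proj_apply, map_smul]
    exact h2
  have h1 := LinearMap.finrank_range_le E
  rw [hE, finrank_top] at h1
  simpa [Module.finrank_pi_fintype] using h1

section Ratio

variable {G : Type*} [Group G] [Finite G] (N : Subgroup G) [hN : N.Normal]

theorem multiplicity_dvd_index_of_invariant [Fintype N] {θ : N → ℂ} (hθ : IsIrrCharacter N θ)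
    (hinv : ∀ g, conjBy N θ g = θ) {χ : G → ℂ} (hχ : IsIrrCharacter G χ)
    (hcon : classInner (fun n : N => χ n) θ ≠ 0) :
    ∃ e : ℕ, classInner (fun n : N => χ n) θ = e ∧ e ∣ N.index := by
  classical
  have : Fintype G := Fintype.ofFinite G
  obtain ⟨d, ρ, hρ, rfl⟩ := hθ
  obtain ⟨w, σ, hσ, rfl⟩ := hχ
  let ψ : Representation ℂ N (Fin w → ℂ) := σ.comp N.subtype
  refine ⟨finrank ℂ (IntertwiningMap ρ ψ), classInner_character_eq_finrank ρ ψ, ?_⟩
  have hcl := clifford_invariant N ⟨w, σ, hσ, rfl⟩ ⟨d, ρ, hρ, rfl⟩ hinv hcon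
  have hwd : w = finrank ℂ (IntertwiningMap ρ ψ) * d := by
    have h1 := congrFun hcl 1
    rw [Pi.smul_apply, smul_eq_mul, Representation.char_one,
      show classInner (fun n : N => σ.character n) ρ.character = _ from
        classInner_character_eq_finrank ρ ψ] at h1
    simp only [Subgroup.coe_one, Representation.char_one, Module.finrank_fin_fun] at h1
    exact_mod_cast h1
  have hsurj : Function.Surjective (proj N ρ) := proj_surjective N ρ fun g n => by
    have := congrFun (hinv g) n
    rw [conjBy_eq_comp] at this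
    exact this
  -- the finite covering
  let m := d * Nat.card N
  let D : covering N ρ →* ℂˣ := ((Units.map LinearMap.det).comp (oper N ρ)) ^ Nat.card N
  have hD : ∀ x, (D x : ℂ) = LinearMap.det ((oper N ρ x : (Module.End ℂ (Fin d → ℂ))ˣ) :
      Module.End ℂ (Fin d → ℂ)) ^ Nat.card N := fun x => rfl
  have hDn : ∀ n, D (embN N ρ n) = 1 := fun n => Units.ext (by
    rw [hD, oper_embN, ← map_pow, ← map_pow, pow_card_eq_one', map_one, map_one]; rfl)
  have hDc : ∀ c : ℂˣ, D (scal N ρ c) = c ^ m := fun c => Units.ext (by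
    rw [hD, oper_scal, Algebra.algebraMap_eq_smul_one, LinearMap.det_smul, map_one, mul_one,
      ← pow_mul, Units.val_pow_eq_pow_val, Module.finrank_fin_fun])
  let X₀ := D.ker
  have hm : 0 < m := by
    have := finrank_pos_of_irreducible ρ
    rw [Module.finrank_fin_fun] at this
    exact Nat.mul_pos this Nat.card_pos
  have hlift : ∀ g : G, ∃ x : X₀, proj N ρ (x : covering N ρ) = g := by
    intro g
    obtain ⟨x, hx⟩ := hsurj g
    obtain ⟨μ, hμ⟩ := IsAlgClosed.exists_pow_nat_eq ((D x : ℂ)⁻¹) hm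
    have hμ0 : μ ≠ 0 := fun e => by
      rw [e, zero_pow hm.ne'] at hμ
      exact inv_ne_zero (D x).ne_zero hμ.symm
    refine ⟨⟨x * scal N ρ (Units.mk0 μ hμ0), ?_⟩, by simp [hx]⟩
    rw [MonoidHom.mem_ker, map_mul, hDc, mul_eq_one_iff_eq_inv]
    exact Units.ext (by simp [hμ])
  choose s hs using hlift
  have hrest : ∀ x : X₀, ∃ c : {c : ℂˣ // c ∈ rootsOfUnity m ℂ},
      (x : covering N ρ) = (s (proj N ρ x) : covering N ρ) * scal N ρ c := by
    intro x
    obtain ⟨c, hc⟩ := exists_mul_scal N ρ (x := (x : covering N ρ))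
      (y := (s (proj N ρ x) : covering N ρ)) (hs _).symm
    refine ⟨⟨c, (mem_rootsOfUnity m c).mpr ?_⟩, hc⟩
    have h1 := congrArg D hc
    rw [map_mul, hDc, (MonoidHom.mem_ker).mp x.2, (MonoidHom.mem_ker).mp (s _).2, one_mul] at h1
    exact h1.symm
  choose r hr using hrest
  have : NeZero m := ⟨hm.ne'⟩
  have : Finite X₀ := Finite.of_injective (β := G × {c : ℂˣ // c ∈ rootsOfUnity m ℂ})
    (fun x => (proj N ρ x, r x)) fun x y h => by
      obtain ⟨h1, h2⟩ := Prod.mk.inj h
      exact Subtype.ext (by rw [hr x, hr y, h1, h2])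
  let τ : Representation ℂ X₀ (Fin d → ℂ) := (Units.coeHom _).comp ((oper N ρ).comp X₀.subtype)
  let σ' : Representation ℂ X₀ (Fin w → ℂ) := σ.comp ((proj N ρ).comp X₀.subtype)
  let W₀ : Subrepresentation (Representation.linHom τ σ') :=
    { toSubmodule :=
        { carrier := {φ | ∀ n : N, φ ∘ₗ ρ n = ψ n ∘ₗ φ}
          add_mem' := fun {a b} ha hb n => by
            rw [LinearMap.add_comp, LinearMap.comp_add, ha n, hb n]
          zero_mem' := fun n => by simp
          smul_mem' := fun c {a} ha n => by rw [LinearMap.smul_comp, LinearMap.comp_smul, ha n] }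
      apply_mem_toSubmodule := fun x φ hφ n => by
        refine LinearMap.ext fun v => ?_
        have hxi := (x⁻¹ : X₀).1.2 n
        have hxv : τ x⁻¹ (ρ n v) =
            ρ ((MulAut.conjNormal (proj N ρ (x⁻¹ : X₀)) : MulAut N) n) (τ x⁻¹ v) :=
          LinearMap.congr_fun hxi v
        show σ' x (φ (τ x⁻¹ (ρ n v))) = ψ n (σ' x (φ (τ x⁻¹ v)))
        rw [hxv, show ∀ k u, φ (ρ k u) = ψ k (φ u) from fun k u => LinearMap.congr_fun (hφ k) u]
        simp only [ψ, σ', MonoidHom.comp_apply, Subgroup.coe_subtype, ← Module.End.mul_apply,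
          ← map_mul]
        congr 2
        simp only [Subgroup.coe_inv, map_inv (proj N ρ), MulAut.conjNormal_apply]
        group }
  let U := W₀.toRepresentation
  have hrank : finrank ℂ W₀.toSubmodule = finrank ℂ (IntertwiningMap ρ ψ) := by
    refine LinearEquiv.finrank_eq
      { toFun := fun φ => (⟨φ.1, fun n => φ.2 n⟩ : IntertwiningMap ρ ψ)
        map_add' := fun a b => rfl
        map_smul' := fun c a => rfl
        invFun := fun T => ⟨T.toLinearMap, fun n => T.isIntertwining' n⟩
        left_inv := fun φ => rfl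
        right_inv := fun T => rfl }
  have hepos : 0 < finrank ℂ W₀.toSubmodule := by
    rw [hrank]
    refine Nat.pos_of_ne_zero fun e => hcon ?_
    rw [show classInner (fun n : N => σ.character n) ρ.character = _ from
      classInner_character_eq_finrank ρ ψ, e, Nat.cast_zero]
  have : Representation.IsIrreducible (V := ↥W₀.toSubmodule) U := by
    have : Nontrivial W₀.toSubmodule := Module.nontrivial_of_finrank_pos (R := ℂ) hepos
    obtain ⟨φ₀, hφ₀⟩ := exists_ne (0 : W₀.toSubmodule)
    have hne : (⊥ : Subrepresentation U) ≠ ⊤ := fun e => by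
      have e' : (⊥ : Submodule ℂ W₀.toSubmodule) = ⊤ := congrArg Subrepresentation.toSubmodule e
      exact hφ₀ ((Submodule.mem_bot ℂ).mp (e' ▸ Submodule.mem_top))
    refine { exists_pair_ne := ⟨⊥, ⊤, hne⟩, eq_bot_or_eq_top := fun A => ?_ }
    by_cases hA : A.toSubmodule = ⊥
    · exact Or.inl (Subrepresentation.toSubmodule_injective hA)
    right
    obtain ⟨φ₁, hφ₁, hφ₁0⟩ := Submodule.exists_mem_ne_zero_of_ne_bot hA
    let S : Subrepresentation σ :=
      { toSubmodule := ⨆ φ : A.toSubmodule, LinearMap.range (φ.1.1 : (Fin d → ℂ) →ₗ[ℂ] (Fin w → ℂ))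
        apply_mem_toSubmodule := fun g u hu => by
          induction hu using Submodule.iSup_induction' with
          | mem φ u hu =>
            obtain ⟨v, rfl⟩ := hu
            refine Submodule.mem_iSup_of_mem ⟨_, A.apply_mem_toSubmodule (s g) φ.2⟩
              ⟨τ (s g) v, ?_⟩
            show σ' (s g) (φ.1.1 (τ (s g)⁻¹ (τ (s g) v))) = σ g (φ.1.1 v)
            rw [← Module.End.mul_apply, ← map_mul, inv_mul_cancel, map_one, Module.End.one_apply]
            show σ (proj N ρ (s g : covering N ρ)) _ = _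
            rw [hs g]
          | zero => rw [map_zero]; exact Submodule.zero_mem _
          | add a b _ _ ha hb => rw [map_add]; exact Submodule.add_mem _ ha hb }
    have hS : S.toSubmodule = ⊤ := by
      rcases (hσ : IsSimpleOrder _).eq_bot_or_eq_top S with h | h
      · exfalso
        apply hφ₁0
        have h' : S.toSubmodule = ⊥ := congrArg Subrepresentation.toSubmodule h
        refine Subtype.ext (LinearMap.ext fun v => ?_)
        have hmem : φ₁.1 v ∈ S.toSubmodule :=
          Submodule.mem_iSup_of_mem ⟨φ₁, hφ₁⟩ ⟨v, rfl⟩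
        rw [h', Submodule.mem_bot] at hmem
        simpa using hmem
      · exact congrArg Subrepresentation.toSubmodule h
    let A' : Submodule ℂ ((Fin d → ℂ) →ₗ[ℂ] (Fin w → ℂ)) :=
      A.toSubmodule.map W₀.toSubmodule.subtype
    have hA' : finrank ℂ A' = finrank ℂ A.toSubmodule :=
      (Submodule.equivMapOfInjective _ W₀.toSubmodule.injective_subtype A.toSubmodule).finrank_eq.symm
    have hle : finrank ℂ (Fin w → ℂ) ≤ finrank ℂ A' * finrank ℂ (Fin d → ℂ) := by
      refine finrank_le_of_iSup_range A' ?_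
      rw [← hS]
      exact iSup_le fun φ => le_iSup_of_le ⟨φ.1.1, Submodule.mem_map_of_mem φ.2⟩ le_rfl
    rw [Module.finrank_fin_fun, Module.finrank_fin_fun, hA'] at hle
    refine Subrepresentation.toSubmodule_injective
      (Submodule.eq_top_of_finrank_eq (V := ↥W₀.toSubmodule) ?_)
    refine le_antisymm (Submodule.finrank_le (M := ↥W₀.toSubmodule) _) ?_
    refine Nat.le_of_mul_le_mul_right (c := d) ?_ ?_
    · rw [hrank]; exact hwd.symm.trans_le hle
    · have := finrank_pos_of_irreducible ρ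
      rwa [Module.finrank_fin_fun] at this
  let Z : Subgroup X₀ := N.comap ((proj N ρ).comp X₀.subtype)
  have hZi : Z.index = N.index :=
    N.index_comap_of_surjective fun g => ⟨s g, hs g⟩
  rw [← hrank, ← hZi]
  refine degree_dvd_index_of_scalar (V := ↥W₀.toSubmodule) U Z fun z hz => ?_
  have hzi : proj N ρ ((z⁻¹ : X₀) : covering N ρ) ∈ N := by
    simpa using N.inv_mem hz
  obtain ⟨c, hc⟩ := exists_mul_scal N ρ (x := ((z⁻¹ : X₀) : covering N ρ))
    (y := embN N ρ ⟨_, hzi⟩) (by rw [proj_embN])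
  refine ⟨(c : ℂ), LinearMap.ext fun φ => Subtype.ext (LinearMap.ext fun v => ?_)⟩
  show σ' z (φ.1 (τ z⁻¹ v)) = (c : ℂ) • φ.1 v
  have hτ : τ z⁻¹ v = (c : ℂ) • ρ ⟨_, hzi⟩ v := by
    show (oper N ρ ((z⁻¹ : X₀) : covering N ρ) : Module.End ℂ (Fin d → ℂ)) v = _
    conv_lhs => rw [hc]
    rw [map_mul, Units.val_mul, oper_embN, oper_scal, Algebra.algebraMap_eq_smul_one]
    simp
  rw [hτ, map_smul, map_smul]
  congr 1
  rw [show φ.1 (ρ ⟨_, hzi⟩ v) = ψ ⟨_, hzi⟩ (φ.1 v) from LinearMap.congr_fun (φ.2 _) v]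
  show σ (proj N ρ (z : covering N ρ)) (σ (proj N ρ ((z⁻¹ : X₀) : covering N ρ)) _) = _
  rw [← Module.End.mul_apply, ← map_mul, ← map_mul, ← Subgroup.coe_mul, mul_inv_cancel,
    Subgroup.coe_one, map_one, map_one, Module.End.one_apply]

/-- `χ(1)/θ(1)` divides `|G : N|`. -/
theorem degree_ratio [Fintype N] {θ : N → ℂ} (hθ : IsIrrCharacter N θ) {χ : G → ℂ}
    (hχ : IsIrrCharacter G χ) (hcon : classInner (fun n : N => χ n) θ ≠ 0) :
    ∃ k : ℕ, χ 1 = k * θ 1 ∧ k ∣ N.index := by
  classical
  have : Fintype G := Fintype.ofFinite G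
  have : Fintype (inertia N θ) := Fintype.ofFinite _
  have hNT := le_inertia N (isClassFunction_of_isCharacter (isCharacter_of_isIrr hθ))
  obtain ⟨ψ, hψ, -, he⟩ := clifford_correspondence_surjective N (inertia N θ) hθ
    (fun g => mem_inertia N) hNT hχ hcon
  let i := Subgroup.subgroupOfEquivOfLe hNT
  have hθ' : IsIrrCharacter (N.subgroupOf (inertia N θ)) (fun x => θ (i x)) :=
    (isIrrCharacter_comp_equiv i).mpr hθ
  have hinv : ∀ g : (inertia N θ), conjBy (N.subgroupOf (inertia N θ)) (fun x => θ (i x)) g = fun x => θ (i x) := by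
    intro g; funext x
    exact congrFun ((mem_inertia N).mp g.2) (i x)
  have hi : classInner (fun x : N.subgroupOf (inertia N θ) => ψ x) (fun x => θ (i x)) =
      classInner (resTo N (inertia N θ) hNT ψ) θ := classInner_comp_equiv i (resTo N (inertia N θ) hNT ψ) θ
  obtain ⟨e, he1, he2⟩ := multiplicity_dvd_index_of_invariant (N.subgroupOf (inertia N θ)) hθ' hinv hψ
    (by rw [hi, he]; exact hcon)
  rw [hi, he] at he1
  refine ⟨e * (inertia N θ).index, ?_, ?_⟩
  · rw [clifford_degree N hχ hθ hcon, he1, card_orbit_eq_index, Nat.cast_mul, mul_assoc]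
  · have h := Subgroup.relIndex_mul_index hNT
    rw [← h]
    exact Nat.mul_dvd_mul_right he2 _

end Ratio

end CfsgLib.Char
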