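import Cfsg.Agent.Lib.Char.Solomon
import Cfsg.Agent.Lib.Char.Projective

/-!
# Nilpotent groups are monomial
-/

set_option autoImplicit false

namespace CfsgLib.Char

open Module Representation Cfsg
open scoped ComplexConjugate

universe u

theorem eq_degree_of_constituent {G : Type*} [Group G] [Fintype G] {χ : G → ℂ}
    (hχ : IsCharacter G χ) {c : G} (hc : χ c = χ 1) {ψ : G → ℂ} (hψ : IsIrrCharacter G ψ)
    (hne : classInner χ ψ ≠ 0) : ψ c = ψ 1 := by
  classical
  obtain ⟨m, rfl⟩ := exists_multiplicities hχ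
  rw [classInner_sum_smul_irr _ ⟨ψ, hψ⟩, Nat.cast_ne_zero] at hne
  simp only [Finset.sum_apply, Pi.smul_apply, smul_eq_mul] at hc
  have hb : ∀ ξ : IrrCharacter G, ((ξ : G → ℂ) c).re ≤ ((ξ : G → ℂ) 1).re ∧
      (((ξ : G → ℂ) c).re = ((ξ : G → ℂ) 1).re → (ξ : G → ℂ) c = (ξ : G → ℂ) 1) := by
    intro ξ
    obtain ⟨n, ρ, -, e⟩ := ξ.2
    rw [← e, Representation.char_one, Complex.natCast_re]
    have h1 := norm_character_le ρ c
    refine ⟨(Complex.re_le_norm _).trans h1, fun h => ?_⟩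
    set z := ρ.character c
    have h2 : z.re ^ 2 + z.im ^ 2 ≤ z.re ^ 2 := by
      have hn : ‖z‖ ^ 2 = z.re ^ 2 + z.im ^ 2 := by
        rw [← Complex.normSq_eq_norm_sq, Complex.normSq_apply]; ring
      rw [← hn]
      exact pow_le_pow_left₀ (norm_nonneg _) (h.symm ▸ h1) 2
    refine Complex.ext (by rw [Complex.natCast_re]; exact h) ?_
    rw [Complex.natCast_im]
    exact pow_eq_zero_iff two_ne_zero |>.mp (le_antisymm (by linarith) (sq_nonneg _))
  have hsum : ∑ ξ : IrrCharacter G, (m ξ : ℝ) * (((ξ : G → ℂ) 1).re - ((ξ : G → ℂ) c).re) = 0 := by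
    have := congrArg Complex.re hc
    simp only [Complex.re_sum, Complex.mul_re, Complex.natCast_re, Complex.natCast_im, zero_mul,
      sub_zero] at this
    simp only [mul_sub, Finset.sum_sub_distrib, this, sub_self]
  have h0 := (Finset.sum_eq_zero_iff_of_nonneg fun ξ _ =>
    mul_nonneg (Nat.cast_nonneg _) (sub_nonneg.mpr (hb ξ).1)).mp hsum ⟨ψ, hψ⟩ (Finset.mem_univ _)
  rcases mul_eq_zero.mp h0 with h | h
  · exact absurd (Nat.cast_eq_zero.mp h) hne
  · exact (hb ⟨ψ, hψ⟩).2 (sub_eq_zero.mp h).symm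

theorem indFun_top {G : Type*} [Group G] [Fintype G] {χ : G → ℂ} (hχ : IsClassFunction G χ) :
    indFun (⊤ : Subgroup G) (fun x : (⊤ : Subgroup G) => χ x) = χ := by
  funext g
  simp only [indFun]
  have h1 : ∀ x : G, extendByZero (⊤ : Subgroup G) (fun x : (⊤ : Subgroup G) => χ x) (x⁻¹ * g * x) =
      χ g := fun x => by
    rw [extendByZero_mem _ _ (Subgroup.mem_top _)]
    simpa using hχ g x⁻¹
  simp only [h1, Finset.sum_const, Finset.card_univ, ← Nat.card_eq_fintype_card, nsmul_eq_mul]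
  rw [Subgroup.card_top, inv_mul_cancel_left₀ (Nat.cast_ne_zero.mpr Nat.card_pos.ne')]

theorem center_ne_bot_of_isNilpotent (Q : Type*) [Group Q] [Group.IsNilpotent Q] [Nontrivial Q] :
    Subgroup.center Q ≠ ⊥ := by
  intro h
  have key : ∀ n, Subgroup.upperCentralSeries Q n = ⊥ := by
    intro n
    induction n with
    | zero => rfl
    | succ n ih =>
      refine (Subgroup.eq_bot_iff_forall _).mpr fun x hx => ?_
      have hc : x ∈ Subgroup.center Q := Subgroup.mem_center_iff.mpr fun y => by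
        have h1 := Subgroup.mem_upperCentralSeries_succ_iff.mp hx y
        rw [ih, Subgroup.mem_bot, commutatorElement_eq_one_iff_mul_comm] at h1
        exact h1.symm
      rwa [h, Subgroup.mem_bot] at hc
  obtain ⟨n, hn⟩ := Group.IsNilpotent.nilpotent Q
  exact bot_ne_top ((key n).symm.trans hn)

theorem monomial_aux : ∀ (n : ℕ) (G : Type u) [Group G] [Fintype G] [Group.IsNilpotent G],
    Nat.card G = n → ∀ χ : G → ℂ, IsIrrCharacter G χ →
      ∃ (H : Subgroup G) (lam : H →* ℂˣ), χ = indFun H (fun h => (lam h : ℂ)) := by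
  classical
  intro n
  induction n using Nat.strong_induction_on with
  | _ n ih => ?_
  intro G _ _ _ hn χ hχ
  have hcl := isClassFunction_of_isCharacter (isCharacter_of_isIrr hχ)
  obtain ⟨d, ρ, hρ, rfl⟩ := hχ
  have hd : 0 < finrank ℂ (Fin d → ℂ) := finrank_pos_of_irreducible ρ
  have hV : Nontrivial (Fin d → ℂ) := Module.nontrivial_of_finrank_pos (R := ℂ) hd
  let Z : Subgroup G :=
    { carrier := {g | ∃ c : ℂ, ρ g = c • LinearMap.id}
      one_mem' := ⟨1, by rw [map_one, one_smul]; rfl⟩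
      mul_mem' := fun {a b} ⟨c, hc⟩ ⟨e, he⟩ => ⟨c * e, by
        rw [map_mul, hc, he]; ext v; simp [mul_assoc, mul_left_comm]⟩
      inv_mem' := fun {a} ⟨c, hc⟩ => by
        have h1 : ρ a⁻¹ * ρ a = 1 := by rw [← map_mul, inv_mul_cancel, map_one]
        have hc0 : c ≠ 0 := fun e => by
          rw [hc, e, zero_smul, mul_zero] at h1
          exact zero_ne_one h1
        refine ⟨c⁻¹, ?_⟩
        rw [hc, mul_smul_comm] at h1
        rw [← one_smul ℂ (ρ a⁻¹), ← inv_mul_cancel₀ hc0, mul_smul]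
        exact congrArg (c⁻¹ • ·) h1 }
  by_cases hZ : Z = ⊤
  · have h1 : finrank ℂ (Fin d → ℂ) ∣ (⊤ : Subgroup G).index :=
      degree_dvd_index_of_scalar ρ ⊤ fun z _ => show z ∈ Z from hZ ▸ Subgroup.mem_top z
    rw [Subgroup.index_top, Nat.dvd_one] at h1
    have hone : ρ.character 1 = 1 := by rw [Representation.char_one, h1, Nat.cast_one]
    refine ⟨⊤, (linearHom (isCharacter_character ρ) hone).comp (⊤ : Subgroup G).subtype, ?_⟩
    exact (indFun_top hcl).symm
  have hZn : Z.Normal := ⟨fun z ⟨c, hc⟩ g => ⟨c, by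
    rw [map_mul, map_mul, hc]
    rw [mul_smul_comm, smul_mul_assoc]
    congr 1
    rw [show (LinearMap.id : (Fin d → ℂ) →ₗ[ℂ] _) = 1 from rfl, mul_one, ← map_mul, mul_inv_cancel,
      map_one]⟩⟩
  have : Nontrivial (G ⧸ Z) := QuotientGroup.nontrivial_iff.mpr hZ
  have hcne : Nontrivial (Subgroup.center (G ⧸ Z)) := by
    rw [Subgroup.nontrivial_iff_ne_bot]
    exact center_ne_bot_of_isNilpotent (G ⧸ Z)
  obtain ⟨⟨xb, hxb⟩, hxne⟩ := exists_ne (1 : Subgroup.center (G ⧸ Z))
  obtain ⟨x, rfl⟩ := QuotientGroup.mk'_surjective Z xb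
  have hxZ : x ∉ Z := fun h => hxne (Subtype.ext ((QuotientGroup.eq_one_iff x).mpr h))
  set A := (Subgroup.zpowers (QuotientGroup.mk' Z x)).comap (QuotientGroup.mk' Z) with hA
  have hAn : A.Normal := by
    have : (Subgroup.zpowers (QuotientGroup.mk' Z x)).Normal := ⟨fun a ha g => by
      have hac : a ∈ Subgroup.center (G ⧸ Z) := (Subgroup.zpowers_le.mpr hxb) ha
      rw [Subgroup.mem_center_iff.mp hac g, mul_inv_cancel_right]; exact ha⟩
    exact Subgroup.Normal.comap this _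
  have hxA : x ∈ A := Subgroup.mem_zpowers _
  have hform : ∀ a ∈ A, ∃ (i : ℤ) (c : ℂ), ρ a = c • ρ (x ^ i) := by
    rintro a ⟨i, hi⟩
    change (QuotientGroup.mk' Z x) ^ i = QuotientGroup.mk' Z a at hi
    rw [← map_zpow, QuotientGroup.mk'_eq_mk'] at hi
    obtain ⟨z, ⟨c, hc⟩, rfl⟩ := hi
    exact ⟨i, c, by rw [map_mul, hc, mul_smul_comm]; rfl⟩
  have hab : ∀ a ∈ A, ∀ b ∈ A, ρ (a * b) = ρ (b * a) := by
    intro a ha b hb
    obtain ⟨i, c, hc⟩ := hform a ha
    obtain ⟨j, e, he⟩ := hform b hb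
    rw [map_mul, map_mul, hc, he, smul_mul_smul_comm, smul_mul_smul_comm, mul_comm c e, ← map_mul,
      ← map_mul, ← zpow_add, ← zpow_add, add_comm]
  have : Fintype A := Fintype.ofFinite A
  obtain ⟨θ, hθ⟩ := exists_constituent A (isCharacter_character ρ)
    (irr_degree_ne_zero ⟨d, ρ, hρ, rfl⟩)
  obtain ⟨e, σ, hσ, heθ⟩ := θ.2
  have hθ1 : (θ : A → ℂ) 1 = 1 := by
    have hcomm : ∀ a b : A, σ (a * b) = σ (b * a) := by
      intro a b
      have h1 : ρ (((b * a)⁻¹ * (a * b) : A) : G) = 1 := by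
        push_cast
        rw [map_mul, hab _ a.2 _ b.2, ← map_mul, inv_mul_cancel, map_one]
      have h2 : σ ((b * a)⁻¹ * (a * b)) = LinearMap.id := by
        rw [← character_eq_finrank_iff, ← Representation.char_one σ, heθ]
        refine eq_degree_of_constituent (isCharacter_restrict A (isCharacter_character ρ)) ?_ θ.2 hθ
        show LinearMap.trace ℂ _ (ρ _) = LinearMap.trace ℂ _ (ρ ((1 : A) : G))
        rw [h1, Subgroup.coe_one, ρ.map_one]
      have h3 : σ (b * a) * σ ((b * a)⁻¹ * (a * b)) = σ (a * b) := by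
        rw [← map_mul, mul_inv_cancel_left]
      rw [h2] at h3
      exact h3.symm
    have hdeg : finrank ℂ (Fin e → ℂ) ∣ (⊤ : Subgroup A).index := by
      refine degree_dvd_index_of_scalar σ ⊤ fun a _ => ?_
      let T : IntertwiningMap σ σ := ⟨σ a, fun b => by
        rw [← Module.End.mul_eq_comp, ← Module.End.mul_eq_comp, ← map_mul, ← map_mul, hcomm]⟩
      obtain ⟨c, hc⟩ :=
        (IsIrreducible.algebraMap_intertwiningMap_bijective_of_isAlgClosed (ρ := σ)).2 T
      refine ⟨c, ?_⟩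
      refine Eq.trans (congrArg IntertwiningMap.toLinearMap hc).symm ?_
      ext v; simp [Algebra.algebraMap_eq_smul_one]
    rw [Subgroup.index_top, Nat.dvd_one] at hdeg
    rw [← heθ, Representation.char_one, hdeg, Nat.cast_one]
  have hT : inertia A (θ : A → ℂ) ≠ ⊤ := by
    intro htop
    have hinv : ∀ g, conjBy A (θ : A → ℂ) g = (θ : A → ℂ) := fun g =>
      (mem_inertia A).mp (htop ▸ Subgroup.mem_top g)
    have hres := clifford_invariant A ⟨d, ρ, hρ, rfl⟩ θ.2 hinv hθ
    have h1 := congrFun hres 1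
    have hx := congrFun hres ⟨x, hxA⟩
    simp only [Pi.smul_apply, smul_eq_mul, hθ1, mul_one, Subgroup.coe_one] at h1 hx
    rw [← h1, Representation.char_one] at hx
    have hn1 : ‖(θ : A → ℂ) ⟨x, hxA⟩‖ = 1 := by
      rw [← linearHom_apply (isCharacter_of_isIrr θ.2) hθ1]
      refine Complex.norm_eq_one_of_pow_eq_one (n := orderOf (⟨x, hxA⟩ : A)) ?_ (orderOf_pos _).ne'
      rw [← Units.val_pow_eq_pow_val, ← map_pow, pow_orderOf_eq_one, map_one, Units.val_one]
    exact hxZ ((norm_character_eq_iff ρ x).mp (by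
      rw [hx, norm_mul, hn1, mul_one, Complex.norm_natCast]))
  have : Fintype (inertia A (θ : A → ℂ)) := Fintype.ofFinite _
  have hAT := le_inertia A (isClassFunction_irr θ)
  obtain ⟨ψ, hψ, hind, -⟩ := clifford_correspondence_surjective A (inertia A (θ : A → ℂ)) θ.2
    (fun g => mem_inertia A) hAT ⟨d, ρ, hρ, rfl⟩ hθ
  have hlt : Nat.card (inertia A (θ : A → ℂ)) < n := by
    rw [← hn]
    exact lt_of_le_of_ne (Subgroup.card_le_card_group _) fun e => hT (Subgroup.eq_top_of_card_eq _ e)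
  obtain ⟨H, lam, hlam⟩ := ih _ hlt _ rfl ψ hψ
  refine ⟨H.map (inertia A (θ : A → ℂ)).subtype, lam.comp
    (H.equivMapOfInjective _ (inertia A (θ : A → ℂ)).subtype_injective).symm.toMonoidHom, ?_⟩
  rw [← hind, hlam, indFun_map]
  rfl

theorem monomial {G : Type*} [Group G] [Fintype G] [Group.IsNilpotent G] {χ : G → ℂ}
    (hχ : IsIrrCharacter G χ) :
    ∃ (H : Subgroup G) (lam : H →* ℂˣ), χ = indFun H (fun h => (lam h : ℂ)) :=
  monomial_aux _ G rfl χ hχ

end CfsgLib.Char
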