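import Cfsg.Agent.Lib.Char.Solomon
import Cfsg.Agent.Lib.Char.Monomial

/-!
# Brauer's induction theorem and characterisation of characters
-/

set_option autoImplicit false

namespace CfsgLib.Char

open Cfsg
open scoped ComplexConjugate

universe u

/-- An invariant linear character of a `p'`-group which kills the fixed points of a `p`-group of
operators generating the group with it is trivial. -/
theorem invariant_linear_trivial {G : Type*} [Group G] [Finite G] (p : ℕ) [Fact p.Prime]
    (C P : Subgroup G) [hC : C.Normal] (hP : IsPGroup p P) (hcop : Nat.Coprime (Nat.card C) p)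
    (lam : C → ℂ) (hlam : IsCharacter C lam) (h1 : lam 1 = 1)
    (hinv : ∀ g ∈ P, conjBy C lam g = lam)
    (hker : ∀ c : C, (c : G) ∈ Subgroup.centralizer (P : Set G) → lam c = 1) :
    lam = fun _ => 1 := by
  funext c
  let f := linearHom hlam h1
  let X := {y : C // lam y = lam c}
  let act : MulAction P X :=
    { smul := fun g y => ⟨⟨(g : G) * y.1 * (g : G)⁻¹, hC.conj_mem (y.1 : G) y.1.2 g⟩,
        (congrFun (hinv g g.2) y.1).trans y.2⟩
      one_smul := fun y => Subtype.ext (Subtype.ext (by
        show ((1 : P) : G) * _ * ((1 : P) : G)⁻¹ = _; simp))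
      mul_smul := fun a b y => Subtype.ext (Subtype.ext (by
        show ((a * b : P) : G) * _ * ((a * b : P) : G)⁻¹ = _ * (_ * _ * _) * _
        simp [mul_assoc])) }
  have hX : ¬ p ∣ Nat.card X := by
    have e : X ≃ f.ker :=
      { toFun := fun y => ⟨c⁻¹ * y.1, by
          rw [MonoidHom.mem_ker, map_mul, map_inv, inv_mul_eq_one]
          exact Units.ext y.2.symm⟩
        invFun := fun k => ⟨c * k.1, by
          rw [linear_mul hlam h1]
          have : (f k.1 : ℂ) = 1 := by rw [(MonoidHom.mem_ker).mp k.2, Units.val_one]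
          rw [linearHom_apply] at this
          rw [this, mul_one]⟩
        left_inv := fun y => Subtype.ext (mul_inv_cancel_left c y.1)
        right_inv := fun k => Subtype.ext (inv_mul_cancel_left c k.1) }
    rw [Nat.card_congr e]
    intro h
    exact (Fact.out : p.Prime).one_lt.ne'
      (Nat.eq_one_of_dvd_coprimes hcop (h.trans (Subgroup.card_subgroup_dvd_card _)) dvd_rfl)
  obtain ⟨y, hy⟩ := hP.nonempty_fixed_point_of_prime_not_dvd_card X hX
  rw [← y.2]
  refine hker y.1 (Subgroup.mem_centralizer_iff.mpr fun g hg => ?_)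
  have e : g * (y.1 : G) * g⁻¹ = (y.1 : G) :=
    congrArg Subtype.val (congrArg Subtype.val (hy ⟨g, hg⟩))
  exact mul_inv_eq_iff_eq_mul.mp e

section ElemSpan

variable {G : Type*} [Group G] [Fintype G]

/-- `ℤ`-combinations of characters induced from `p`-elementary subgroups. -/
def elemSpan (p : ℕ) : AddSubgroup (G → ℂ) :=
  AddSubgroup.closure
    {f | ∃ (E : Subgroup G) (φ : E → ℂ), IsElementary p E ∧ IsCharacter E φ ∧ f = indFun E φ}

theorem elemSpan_mul {p : ℕ} {f χ : G → ℂ} (hf : f ∈ elemSpan p) (hχ : IsCharacter G χ) :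
    f * χ ∈ elemSpan (G := G) p := by
  induction hf using AddSubgroup.closure_induction with
  | mem f hf =>
    obtain ⟨E, φ, hE, hφ, rfl⟩ := hf
    rw [← indFun_mul_restrict E φ (isClassFunction_of_isCharacter hχ)]
    exact AddSubgroup.subset_closure
      ⟨E, _, hE, isCharacter_mul hφ (isCharacter_restrict E hχ), rfl⟩
  | zero => rw [zero_mul]; exact zero_mem _
  | add _ _ _ _ h1 h2 => rw [add_mul]; exact add_mem h1 h2
  | neg _ _ h => rw [neg_mul]; exact neg_mem h

theorem mem_of_one_mem {p : ℕ} (h : (1 : G → ℂ) ∈ elemSpan p) {χ : G → ℂ}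
    (hχ : IsCharacter G χ) : χ ∈ elemSpan (G := G) p := by
  simpa using elemSpan_mul h hχ

theorem isElementary_equiv {p : ℕ} {A B : Type u} [Group A] [Group B] (e : A ≃* B)
    (h : IsElementary p A) : IsElementary p B := by
  obtain ⟨x, hx, hcop, k, hk⟩ := h
  refine ⟨e x, ?_, ?_, k, ?_⟩
  · rw [Subgroup.mem_center_iff]
    intro y
    have := congrArg e (Subgroup.mem_center_iff.mp hx (e.symm y))
    simpa using this
  · rwa [MulEquiv.orderOf_eq]
  · rw [← hk, show Subgroup.zpowers (e x) = (Subgroup.zpowers x).map e.toMonoidHom from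
      (MonoidHom.map_zpowers e.toMonoidHom x).symm]
    exact Subgroup.index_map_equiv _ e

theorem indFun_mem_elemSpan {p : ℕ} (T : Subgroup G) [Fintype T] {f : T → ℂ}
    (hf : f ∈ elemSpan (G := T) p) : indFun T f ∈ elemSpan (G := G) p := by
  induction hf using AddSubgroup.closure_induction with
  | mem f hf =>
    obtain ⟨E, φ, hE, hφ, rfl⟩ := hf
    rw [indFun_map T E φ]
    exact AddSubgroup.subset_closure ⟨_, _,
      isElementary_equiv (E.equivMapOfInjective T.subtype T.subtype_injective) hE,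
      isCharacter_comp (E.equivMapOfInjective T.subtype T.subtype_injective).symm.toMonoidHom hφ, rfl⟩
  | zero => rw [indFun_zero]; exact zero_mem _
  | add _ _ _ _ h1 h2 => rw [indFun_add]; exact add_mem h1 h2
  | neg _ _ h => rw [indFun_neg]; exact neg_mem h

end ElemSpan

theorem one_mem_of_quasiEl (p : ℕ) (hp : p.Prime) : ∀ (n : ℕ) (H : Type u) [Group H] [Fintype H],
    Nat.card H = n → (∃ C : Subgroup H, C.Normal ∧ IsCyclic C ∧ Nat.Coprime (Nat.card C) p ∧
      ∃ k, C.index = p ^ k) → (1 : H → ℂ) ∈ elemSpan p := by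
  classical
  intro n
  induction n using Nat.strong_induction_on with
  | _ n ih => ?_
  intro H _ _ hn ⟨C, hC, hcyc, hcop, k, hk⟩
  have := Fact.mk hp
  have hCcomm : ∀ a ∈ C, ∀ b ∈ C, a * b = b * a := fun a ha b hb => by
    obtain ⟨g, hg⟩ := IsCyclic.exists_generator (α := C)
    obtain ⟨i, hi⟩ := hg ⟨a, ha⟩
    obtain ⟨j, hj⟩ := hg ⟨b, hb⟩
    have := zpow_mul_comm g i j
    simp only at hi hj
    rw [hi, hj] at this
    exact congrArg Subtype.val this
  let P : Sylow p H := default
  have hCP : C ⊔ (P : Subgroup H) = ⊤ := by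
    rw [← Subgroup.index_eq_one]
    have h1 : (C ⊔ (P : Subgroup H)).index ∣ p ^ k := hk ▸ Subgroup.index_dvd_of_le le_sup_left
    obtain ⟨i, -, hi⟩ := (Nat.dvd_prime_pow hp).mp h1
    rcases Nat.eq_zero_or_pos i with h | h
    · rw [hi, h, pow_zero]
    · exact absurd (((dvd_pow_self p h.ne').trans (dvd_of_eq hi.symm)).trans
        (Subgroup.index_dvd_of_le le_sup_right)) P.not_dvd_index
  set Z := C ⊓ Subgroup.centralizer ((P : Subgroup H) : Set H) with hZ
  have hZc : ∀ z ∈ Z, ∀ h : H, h * z = z * h := by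
    intro z hz
    have : C ⊔ (P : Subgroup H) ≤ Subgroup.centralizer ({z} : Set H) := by
      refine sup_le (fun c hc => ?_) (fun q hq => ?_)
      · exact Subgroup.mem_centralizer_singleton_iff.mpr (hCcomm c hc z hz.1)
      · exact Subgroup.mem_centralizer_singleton_iff.mpr
          (Subgroup.mem_centralizer_iff.mp hz.2 q hq)
    rw [hCP] at this
    exact fun h => Subgroup.mem_centralizer_singleton_iff.mp (this (Subgroup.mem_top h))
  have hZn : Z.Normal := ⟨fun z hz h => by rw [hZc z hz h, mul_inv_cancel_right]; exact hz⟩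
  set E := Z ⊔ (P : Subgroup H) with hE
  have hEel : IsElementary p E := by
    have : IsCyclic Z := isCyclic_of_injective (Subgroup.inclusion (inf_le_left : Z ≤ C))
      (Subgroup.inclusion_injective _)
    obtain ⟨z, hz⟩ := IsCyclic.exists_generator (α := Z)
    have hzE : (z : H) ∈ E := Subgroup.mem_sup_left z.2
    refine ⟨⟨z, hzE⟩, Subgroup.mem_center_iff.mpr fun e => Subtype.ext (hZc z z.2 e), ?_, ?_⟩
    · rw [← Subgroup.orderOf_coe, Subgroup.orderOf_coe z]
      exact hcop.coprime_dvd_left ((orderOf_dvd_natCard z).trans (Subgroup.card_dvd_of_le inf_le_left))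
    have hzp : Subgroup.zpowers (⟨z, hzE⟩ : E) = Z.subgroupOf E := by
      ext y
      constructor
      · rintro ⟨i, rfl⟩
        exact Subgroup.mem_subgroupOf.mpr (by simpa using Z.zpow_mem z.2 i)
      · intro hy
        obtain ⟨i, hi⟩ := hz ⟨(y : H), Subgroup.mem_subgroupOf.mp hy⟩
        exact ⟨i, Subtype.ext (by simpa using congrArg Subtype.val hi)⟩
    rw [hzp]
    have htop : Z.subgroupOf E ⊔ (P : Subgroup H).subgroupOf E = ⊤ := by
      rw [← Subgroup.subgroupOf_sup le_sup_left le_sup_right]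
      exact Subgroup.subgroupOf_self E
    have hq : IsPGroup p (E ⧸ Z.subgroupOf E) := by
      have h1 := (IsPGroup.of_equiv P.isPGroup' (Subgroup.subgroupOfEquivOfLe
        (le_sup_right : (P : Subgroup H) ≤ E)).symm).map (QuotientGroup.mk' (Z.subgroupOf E))
      have h2 : ((P : Subgroup H).subgroupOf E).map (QuotientGroup.mk' (Z.subgroupOf E)) = ⊤ := by
        have h3 := congrArg (Subgroup.map (QuotientGroup.mk' (Z.subgroupOf E))) htop
        rw [Subgroup.map_sup, QuotientGroup.map_mk'_self, bot_sup_eq,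
          Subgroup.map_top_of_surjective _ (QuotientGroup.mk'_surjective _)] at h3
        exact h3
      rw [h2] at h1
      exact h1.of_equiv Subgroup.topEquiv
    obtain ⟨i, hi⟩ := IsPGroup.iff_card.mp hq
    exact ⟨i, by rw [Subgroup.index_eq_card, hi]⟩
  set f := indFun E (fun _ => (1 : ℂ)) with hf
  have hfchar : IsCharacter H f := isCharacter_indFun E isCharacter_one
  have hfmem : f ∈ elemSpan (G := H) p :=
    AddSubgroup.subset_closure ⟨E, _, hEel, isCharacter_one, rfl⟩
  have hECtop : E ⊔ C = ⊤ := by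
    rw [← top_le_iff, ← hCP]
    exact sup_le le_sup_right (le_sup_right.trans le_sup_left)
  have hfC : classInner (fun c : C => f c) (fun _ => 1) = 1 := by
    have e1 : classInner f (indFun C (fun _ => 1)) = 1 := by
      rw [hf, frobenius_reciprocity E _ (isClassFunction_indFun C _), classInner]
      have hval : ∀ e : E, indFun C (fun _ => (1 : ℂ)) (e : H) =
          if (e : H) ∈ C then (C.index : ℂ) else 0 := by
        intro e
        split_ifs with h
        · rw [indFun_apply_of_normal C _ ⟨e, h⟩, Finset.sum_const, Finset.card_univ,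
            ← Nat.card_eq_fintype_card, nsmul_eq_mul, mul_one, inv_mul_eq_iff_eq_mul₀
            (Nat.cast_ne_zero.mpr Nat.card_pos.ne'), ← Nat.cast_mul, C.card_mul_index]
        · exact indFun_notMem_of_normal C _ h
      simp only [hval, apply_ite conj, map_natCast, map_zero, one_mul]
      rw [← Finset.sum_filter, Finset.sum_const, nsmul_eq_mul]
      have hc1 : (Finset.univ.filter fun e : E => (e : H) ∈ C).card = Nat.card (C.subgroupOf E) := by
        rw [Nat.card_eq_fintype_card, ← Fintype.card_subtype]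
        exact Fintype.card_congr (Equiv.refl _)
      have hidx : C.index = (C.subgroupOf E).index := by
        show _ = C.relIndex E
        rw [← Subgroup.relIndex_sup_right E C, hECtop, Subgroup.relIndex_top_right]
      rw [hc1, hidx, ← Nat.cast_mul, Subgroup.card_mul_index,
        inv_mul_cancel₀ (Nat.cast_ne_zero.mpr Nat.card_pos.ne')]
    rwa [frobenius_reciprocity' C _ (isClassFunction_of_isCharacter hfchar)] at e1
  obtain ⟨a, ha⟩ := exists_multiplicities hfchar
  set one : IrrCharacter H := ⟨fun _ => 1, isIrrCharacter_one⟩ with hone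
  choose r hr using fun χ : IrrCharacter H =>
    exists_nat_classInner (isCharacter_restrict C (isCharacter_of_isIrr χ.2)) (isCharacter_one (G := C))
  have hf1 : classInner f (fun _ => 1) = 1 := by
    rw [hf, frobenius_reciprocity E _ (isClassFunction_of_isCharacter isCharacter_one),
      classInner_irr_self isIrrCharacter_one]
  have ha1 : a one = 1 := by
    rw [ha, classInner_sum_smul_irr _ one] at hf1
    exact_mod_cast hf1
  have hrone : r one = 1 := by
    have := hr one
    rw [classInner_irr_self isIrrCharacter_one] at this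
    exact_mod_cast this.symm
  have hsum : ∑ χ : IrrCharacter H, a χ * r χ = 1 := by
    have e : (fun c : C => f c) = ∑ χ : IrrCharacter H, (a χ : ℂ) • fun c : C => (χ : H → ℂ) c := by
      rw [ha]; funext c; simp [Finset.sum_apply]
    rw [e, classInner_sum_left] at hfC
    simp only [classInner_smul_left, hr] at hfC
    exact_mod_cast hfC
  have hrest : ∀ χ, χ ≠ one → a χ ≠ 0 → (χ : H → ℂ) ∈ elemSpan (G := H) p := by
    intro χ hχ haχ
    have hrχ : r χ = 0 := by
      have h := Finset.add_sum_erase Finset.univ (fun χ => a χ * r χ) (Finset.mem_univ one)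
      rw [hsum, ha1, hrone] at h
      have h0 := Finset.sum_eq_zero_iff.mp (show ∑ x ∈ Finset.univ.erase one, a x * r x = 0 by omega)
        χ (Finset.mem_erase.mpr ⟨hχ, Finset.mem_univ χ⟩)
      exact (mul_eq_zero.mp h0).resolve_left haχ
    obtain ⟨θ, hθ⟩ := exists_constituent C (isCharacter_of_isIrr χ.2) (irr_degree_ne_zero χ.2)
    have hθne : (θ : C → ℂ) ≠ fun _ => 1 := fun e => hθ (by rw [e, hr, hrχ, Nat.cast_zero])
    have hθ1 : (θ : C → ℂ) 1 = 1 := by
      obtain ⟨e, σ, hσ, heθ⟩ := θ.2
      have hdeg : Module.finrank ℂ (Fin e → ℂ) ∣ (⊤ : Subgroup C).index := by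
        refine degree_dvd_index_of_scalar σ ⊤ fun c _ => ?_
        let T : Representation.IntertwiningMap σ σ := ⟨σ c, fun d => by
          rw [← Module.End.mul_eq_comp, ← Module.End.mul_eq_comp, ← map_mul, ← map_mul,
            show c * d = d * c from Subtype.ext (hCcomm c c.2 d d.2)]⟩
        obtain ⟨s, hs⟩ :=
          (Representation.IsIrreducible.algebraMap_intertwiningMap_bijective_of_isAlgClosed (ρ := σ)).2 T
        refine ⟨s, ?_⟩
        refine Eq.trans (congrArg Representation.IntertwiningMap.toLinearMap hs).symm ?_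
        ext v; simp [Algebra.algebraMap_eq_smul_one]
      rw [Subgroup.index_top, Nat.dvd_one] at hdeg
      rw [← heθ, Representation.char_one, hdeg, Nat.cast_one]
    have hker : ∀ c : C, (c : H) ∈ Subgroup.centralizer ((P : Subgroup H) : Set H) →
        (θ : C → ℂ) c = 1 := by
      intro c hc
      have hcZ : (c : H) ∈ Z := ⟨c.2, hc⟩
      have hfc : f (c : H) = f 1 := by
        rw [hf, indFun_one, indFun]
        have hx : ∀ x : H, extendByZero E (fun _ => (1 : ℂ)) (x⁻¹ * (c : H) * x) = 1 := fun x => by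
          rw [extendByZero_mem]
          rw [mul_assoc, ← hZc _ hcZ x, inv_mul_cancel_left]
          exact Subgroup.mem_sup_left hcZ
        simp only [hx, Finset.sum_const, Finset.card_univ, ← Nat.card_eq_fintype_card, nsmul_eq_mul,
          mul_one]
        rw [inv_mul_eq_iff_eq_mul₀ (Nat.cast_ne_zero.mpr Nat.card_pos.ne'), ← Nat.cast_mul,
          E.card_mul_index]
      have hχc : (χ : H → ℂ) c = (χ : H → ℂ) 1 := eq_degree_of_constituent hfchar hfc χ.2 (by
        rw [ha, classInner_sum_smul_irr]; exact Nat.cast_ne_zero.mpr haχ)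
      rw [← hθ1]
      exact eq_degree_of_constituent (isCharacter_restrict C (isCharacter_of_isIrr χ.2))
        (c := c) (by simpa using hχc) θ.2 hθ
    have hT : inertia C (θ : C → ℂ) ≠ ⊤ := fun htop => hθne
      (invariant_linear_trivial p C P P.isPGroup' hcop _ (isCharacter_of_isIrr θ.2) hθ1
        (fun g _ => (mem_inertia C).mp (htop ▸ Subgroup.mem_top g)) hker)
    have : Fintype (inertia C (θ : C → ℂ)) := Fintype.ofFinite _
    have hCT := le_inertia C (isClassFunction_irr θ)
    obtain ⟨ψ, hψ, hind, -⟩ := clifford_correspondence_surjective C (inertia C (θ : C → ℂ)) θ.2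
      (fun g => mem_inertia C) hCT χ.2 hθ
    rw [← hind]
    refine indFun_mem_elemSpan _ (mem_of_one_mem ?_ (isCharacter_of_isIrr hψ))
    refine ih _ ?_ _ rfl ⟨C.subgroupOf _, inferInstance, ?_, ?_, ?_⟩
    · rw [← hn]
      exact lt_of_le_of_ne (Subgroup.card_le_card_group _) fun e => hT (Subgroup.eq_top_of_card_eq _ e)
    · exact isCyclic_of_injective (Subgroup.subgroupOfEquivOfLe hCT).toMonoidHom
        (Subgroup.subgroupOfEquivOfLe hCT).injective
    · rwa [Nat.card_congr (Subgroup.subgroupOfEquivOfLe hCT).toEquiv]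
    · obtain ⟨i, -, hi⟩ := (Nat.dvd_prime_pow hp).mp
        (hk ▸ Subgroup.relIndex_dvd_index_of_normal C (inertia C (θ : C → ℂ)))
      exact ⟨i, hi⟩
  have h1 : (1 : H → ℂ) = f - ∑ χ ∈ Finset.univ.erase one, (a χ : ℂ) • (χ : H → ℂ) := by
    rw [ha, eq_sub_iff_add_eq, ← Finset.add_sum_erase Finset.univ _ (Finset.mem_univ one), ha1,
      Nat.cast_one, one_smul]
    rfl
  rw [h1]
  refine sub_mem hfmem (AddSubgroup.sum_mem _ fun χ hχ => ?_)
  rw [Nat.cast_smul_eq_nsmul]
  by_cases h0 : a χ = 0
  · rw [h0, zero_nsmul]; exact zero_mem _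
  · exact nsmul_mem (hrest χ (Finset.mem_erase.mp hχ).1 h0) _

variable {G : Type u} [Group G] [Fintype G]

/-- Brauer's theorem at one prime. -/
theorem brauer_local (p : ℕ) (hp : p.Prime) :
    ∃ m : ℤ, ¬ (p : ℤ) ∣ m ∧ (fun _ : G => (m : ℂ)) ∈ elemSpan (G := G) p := by
  classical
  obtain ⟨m, hm, hmem⟩ := solomon (G := G) p hp
  refine ⟨m, hm, ?_⟩
  have hle : qeSpan (G := G) p ≤ elemSpan (G := G) p := by
    refine (AddSubgroup.closure_le _).mpr ?_
    rintro _ ⟨H, ⟨C, hCH, hHN, hcyc, hcop, k, hk⟩, rfl⟩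
    refine indFun_mem_elemSpan H (one_mem_of_quasiEl p hp _ H rfl ⟨C.subgroupOf H,
      (Subgroup.normal_subgroupOf_iff_le_normalizer hCH).mpr hHN, ?_, ?_, k, hk⟩)
    · exact isCyclic_of_injective (Subgroup.subgroupOfEquivOfLe hCH).toMonoidHom
        (Subgroup.subgroupOfEquivOfLe hCH).injective
    · rwa [Nat.card_congr (Subgroup.subgroupOfEquivOfLe hCH).toEquiv]
  exact hle hmem

/-- `ℤ`-combinations of characters induced from elementary subgroups (any prime). -/
def elemSpanAll (G : Type u) [Group G] [Fintype G] : AddSubgroup (G → ℂ) :=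
  AddSubgroup.closure
    {f | ∃ (E : Subgroup G) (φ : E → ℂ), (∃ p : ℕ, p.Prime ∧ IsElementary p E) ∧
      IsCharacter E φ ∧ f = indFun E φ}

/-- **Brauer's induction theorem.** -/
theorem mem_elemSpanAll {χ : G → ℂ} (hχ : IsGeneralizedCharacter G χ) : χ ∈ elemSpanAll G := by
  classical
  have hle : ∀ p : ℕ, p.Prime → elemSpan (G := G) p ≤ elemSpanAll G := fun p hp =>
    AddSubgroup.closure_mono fun f ⟨E, φ, hE, h⟩ => ⟨E, φ, ⟨p, hp, hE⟩, h⟩
  let I : AddSubgroup ℤ :=
    { carrier := {m | ∀ ψ, IsCharacter G ψ → (m : ℂ) • ψ ∈ elemSpanAll G}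
      zero_mem' := fun ψ _ => by simpa using zero_mem _
      add_mem' := fun {a b} ha hb ψ hψ => by
        rw [Int.cast_add, add_smul]; exact add_mem (ha ψ hψ) (hb ψ hψ)
      neg_mem' := fun {a} ha ψ hψ => by
        rw [Int.cast_neg, neg_smul]; exact neg_mem (ha ψ hψ) }
  have hI : ∀ p : ℕ, p.Prime → ∃ m ∈ I, ¬ (p : ℤ) ∣ m := fun p hp => by
    obtain ⟨m, hm, hmem⟩ := brauer_local (G := G) p hp
    refine ⟨m, fun ψ hψ => hle p hp ?_, hm⟩
    have := elemSpan_mul hmem hψ
    convert this using 1
    rfl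
  obtain ⟨d, hd⟩ := Int.subgroup_cyclic I
  have hd1 : d.natAbs = 1 := by
    by_contra h1
    obtain ⟨p, hp, hpd⟩ := Nat.exists_prime_and_dvd h1
    obtain ⟨m, hm, hpm⟩ := hI p hp
    rw [hd, AddSubgroup.mem_closure_singleton] at hm
    obtain ⟨k, rfl⟩ := hm
    exact hpm ((Int.natCast_dvd.mpr hpd).trans (Dvd.intro_left k (by simp)))
  have hmem : (1 : ℤ) ∈ I := by
    have hdI : d ∈ I := by rw [hd]; exact AddSubgroup.subset_closure rfl
    rcases Int.natAbs_eq d with e | e <;> rw [hd1] at e
    · simpa [e] using hdI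
    · simpa [e] using neg_mem hdI
  obtain ⟨a, b, ha, hb, rfl⟩ := hχ
  have h1 : ∀ ψ, IsCharacter G ψ → ψ ∈ elemSpanAll G := fun ψ hψ => by
    simpa using hmem ψ hψ
  exact sub_mem (h1 a ha) (h1 b hb)

/-- **Brauer's characterisation of characters.** -/
theorem brauer_characterisation {θ : G → ℂ} (hθ : IsClassFunction G θ)
    (hE : ∀ (E : Subgroup G) (p : ℕ), p.Prime → IsElementary p E →
      IsGeneralizedCharacter E (fun e : E => θ e)) : IsGeneralizedCharacter G θ := by
  classical
  have key : ∀ f ∈ elemSpanAll G, IsGeneralizedCharacter G (f * θ) := by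
    intro f hf
    induction hf using AddSubgroup.closure_induction with
    | mem f hf =>
      obtain ⟨E, φ, ⟨p, hp, hEp⟩, hφ, rfl⟩ := hf
      rw [← indFun_mul_restrict E φ hθ]
      exact isGeneralized_indFun E (isGeneralized_mul (isGeneralized_of_isCharacter hφ) (hE E p hp hEp))
    | zero => rw [zero_mul]; exact isGeneralized_zero
    | add _ _ _ _ h1 h2 => rw [add_mul]; exact isGeneralized_add h1 h2
    | neg _ _ h => rw [neg_mul]; exact isGeneralized_neg h
  have h := key _ (mem_elemSpanAll (isGeneralized_one (G := G)))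
  have e : (fun _ => (1 : ℂ)) * θ = θ := funext fun g => one_mul _
  rwa [e] at h

theorem isNilpotent_of_isElementary {p : ℕ} (hp : p.Prime) {E : Type u} [Group E] [Finite E]
    (h : IsElementary p E) : Group.IsNilpotent E := by
  have := Fact.mk hp
  obtain ⟨x, hx, -, k, hk⟩ := h
  have hle : Subgroup.zpowers x ≤ Subgroup.center E := Subgroup.zpowers_le.mpr hx
  have : (Subgroup.zpowers x).Normal := ⟨fun a ha g => by
    rw [Subgroup.mem_center_iff.mp (hle ha) g, mul_inv_cancel_right]; exact ha⟩
  have hq : IsPGroup p (E ⧸ Subgroup.zpowers x) := IsPGroup.of_card (n := k) (by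
    rw [← Subgroup.index_eq_card, hk])
  have := hq.isNilpotent
  exact Subgroup.isNilpotent_of_ker_le_center (QuotientGroup.mk' (Subgroup.zpowers x))
    (by rwa [QuotientGroup.ker_mk'])

theorem isElementary_subgroup {p : ℕ} (hp : p.Prime) {E : Type u} [Group E] [Finite E]
    (h : IsElementary p E) (S : Subgroup E) : IsElementary p S := by
  obtain ⟨x, hx, hcop, k, hk⟩ := h
  have hle : Subgroup.zpowers x ≤ Subgroup.center E := Subgroup.zpowers_le.mpr hx
  have hn : (Subgroup.zpowers x).Normal := ⟨fun a ha g => by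
    rw [Subgroup.mem_center_iff.mp (hle ha) g, mul_inv_cancel_right]; exact ha⟩
  have : IsCyclic ((Subgroup.zpowers x).subgroupOf S) :=
    isCyclic_of_injective ((S.subtype.comp (Subgroup.subtype _)).codRestrict (Subgroup.zpowers x)
      fun y => Subgroup.mem_subgroupOf.mp y.2) fun a b h => Subtype.ext (Subtype.ext (congrArg Subtype.val h :))
  obtain ⟨z, hz⟩ := IsCyclic.exists_generator (α := (Subgroup.zpowers x).subgroupOf S)
  refine ⟨(z : S), ?_, ?_, ?_⟩
  · exact Subgroup.mem_center_iff.mpr fun s =>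
      Subtype.ext (Subgroup.mem_center_iff.mp (hle (Subgroup.mem_subgroupOf.mp z.2)) s)
  · refine hcop.coprime_dvd_left ?_
    rw [← Subgroup.orderOf_coe (z : S)]
    show orderOf ((z : S) : E) ∣ orderOf x
    exact orderOf_dvd_of_mem_zpowers (Subgroup.mem_subgroupOf.mp z.2)
  · have hzp : Subgroup.zpowers (z : S) = (Subgroup.zpowers x).subgroupOf S := by
      refine le_antisymm (Subgroup.zpowers_le.mpr z.2) fun y hy => ?_
      obtain ⟨i, hi⟩ := hz ⟨y, hy⟩
      exact ⟨i, by simpa using congrArg Subtype.val hi⟩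
    rw [hzp]
    obtain ⟨i, -, hi⟩ := (Nat.dvd_prime_pow hp).mp
      (hk ▸ Subgroup.relIndex_dvd_index_of_normal (Subgroup.zpowers x) S)
    exact ⟨i, hi⟩

/-- Combinations of characters induced from linear characters of elementary subgroups. -/
def monomialSpan (G : Type u) [Group G] [Fintype G] : AddSubgroup (G → ℂ) :=
  AddSubgroup.closure
    {f | ∃ (E : Subgroup G) (lam : E →* ℂˣ), (∃ p : ℕ, p.Prime ∧ IsElementary p E) ∧
      f = indFun E (fun e => (lam e : ℂ))}

theorem mem_monomialSpan {χ : G → ℂ} (hχ : IsGeneralizedCharacter G χ) : χ ∈ monomialSpan G := by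
  classical
  refine (AddSubgroup.closure_le _).mpr ?_ (mem_elemSpanAll hχ)
  rintro _ ⟨E, φ, ⟨p, hp, hEp⟩, hφ, rfl⟩
  have : Group.IsNilpotent E := isNilpotent_of_isElementary hp hEp
  obtain ⟨m, rfl⟩ := exists_multiplicities hφ
  rw [SetLike.mem_coe, indFun_sum]
  refine AddSubgroup.sum_mem _ fun ψ _ => ?_
  rw [indFun_smul, Nat.cast_smul_eq_nsmul]
  refine nsmul_mem ?_ _
  obtain ⟨H, lam, hlam⟩ := monomial ψ.2
  rw [hlam, indFun_map E H]
  refine AddSubgroup.subset_closure ⟨H.map E.subtype,
    lam.comp (H.equivMapOfInjective E.subtype E.subtype_injective).symm.toMonoidHom, ⟨p, hp, ?_⟩, rfl⟩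
  exact isElementary_equiv (H.equivMapOfInjective E.subtype E.subtype_injective)
    (isElementary_subgroup hp hEp H)

end CfsgLib.Char
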