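import Cfsg.Agent.Lib.Char.Virtual

/-!
# Clifford theory

`conjBy N θ g` is the conjugate `n ↦ θ (g n g⁻¹)` of a function on a normal subgroup `N`,
`inertia N θ` its stabilizer and `orbit N θ` the finite set of conjugates.
-/

set_option autoImplicit false

namespace CfsgLib.Char

open Cfsg
open scoped ComplexConjugate

variable {G : Type*} [Group G]

section Conj

variable (N : Subgroup G) [hN : N.Normal]

/-- The conjugate of a function on a normal subgroup. -/
def conjBy (θ : N → ℂ) (g : G) : N → ℂ :=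
  fun n => θ ⟨g * n * g⁻¹, hN.conj_mem (n : G) n.2 g⟩

theorem conjBy_apply (θ : N → ℂ) (g : G) (n : N) :
    conjBy N θ g n = θ ⟨g * n * g⁻¹, hN.conj_mem (n : G) n.2 g⟩ := rfl

theorem conjBy_one (θ : N → ℂ) : conjBy N θ 1 = θ := by
  funext n; simp [conjBy]

theorem conjBy_mul (θ : N → ℂ) (a b : G) : conjBy N θ (a * b) = conjBy N (conjBy N θ a) b := by
  funext n; simp only [conjBy]; congr 1; exact Subtype.ext (by simp [mul_assoc])

theorem conjBy_eq_comp (θ : N → ℂ) (g : G) :
    conjBy N θ g = fun n => θ ((MulAut.conjNormal g : MulAut N) n) := by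
  funext n; simp only [conjBy]; congr 1

theorem conjBy_mem {θ : N → ℂ} (hθ : IsClassFunction N θ) {g : G} (hg : g ∈ N) :
    conjBy N θ g = θ := by
  funext n; exact hθ n ⟨g, hg⟩

theorem isIrrCharacter_conjBy {θ : N → ℂ} (hθ : IsIrrCharacter N θ) (g : G) :
    IsIrrCharacter N (conjBy N θ g) := by
  rw [conjBy_eq_comp]; exact (isIrrCharacter_comp_equiv (MulAut.conjNormal g : MulAut N)).mpr hθ

theorem classInner_conjBy [Fintype N] (θ φ : N → ℂ) (g : G) :
    classInner (conjBy N θ g) (conjBy N φ g) = classInner θ φ := by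
  rw [conjBy_eq_comp, conjBy_eq_comp]
  exact classInner_comp_equiv (MulAut.conjNormal g : MulAut N) θ φ

theorem conjBy_restrict {χ : G → ℂ} (hχ : IsClassFunction G χ) (g : G) :
    conjBy N (fun n : N => χ n) g = fun n : N => χ n := by
  funext n; exact hχ n g

theorem conjBy_apply_one (θ : N → ℂ) (g : G) : conjBy N θ g 1 = θ 1 := by
  simp only [conjBy]; congr 1; exact Subtype.ext (by simp)

/-- The inertia group of a function on a normal subgroup. -/
def inertia (θ : N → ℂ) : Subgroup G where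
  carrier := {g | conjBy N θ g = θ}
  one_mem' := conjBy_one N θ
  mul_mem' := fun {a b} (ha : conjBy N θ a = θ) (hb : conjBy N θ b = θ) => by
    show conjBy N θ (a * b) = θ
    rw [conjBy_mul, ha, hb]
  inv_mem' := fun {a} (ha : conjBy N θ a = θ) => by
    show conjBy N θ a⁻¹ = θ
    nth_rw 1 [← ha]
    rw [← conjBy_mul, mul_inv_cancel, conjBy_one]

theorem mem_inertia {θ : N → ℂ} {g : G} : g ∈ inertia N θ ↔ conjBy N θ g = θ := Iff.rfl

theorem mem_inertia_iff {θ : N → ℂ} {g : G} :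
    g ∈ inertia N θ ↔ ∀ n : N, θ ⟨g * n * g⁻¹, hN.conj_mem (n : G) n.2 g⟩ = θ n :=
  funext_iff

theorem le_inertia {θ : N → ℂ} (hθ : IsClassFunction N θ) : N ≤ inertia N θ :=
  fun _ hg => conjBy_mem N hθ hg

theorem conjBy_eq_conjBy_iff (θ : N → ℂ) (a b : G) :
    conjBy N θ a = conjBy N θ b ↔ a * b⁻¹ ∈ inertia N θ := by
  rw [mem_inertia, conjBy_mul]
  constructor
  · intro h; rw [h, ← conjBy_mul, mul_inv_cancel, conjBy_one]
  · intro h
    have := congrArg (fun φ => conjBy N φ b) h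
    simpa only [← conjBy_mul, mul_assoc, inv_mul_cancel, mul_one] using this

variable [Fintype G]

/-- The finite set of conjugates. -/
noncomputable def orbit (θ : N → ℂ) : Finset (N → ℂ) :=
  open Classical in Finset.univ.image (conjBy N θ)

theorem mem_orbit {θ φ : N → ℂ} : φ ∈ orbit N θ ↔ ∃ g, conjBy N θ g = φ := by
  simp [orbit]

theorem self_mem_orbit (θ : N → ℂ) : θ ∈ orbit N θ := (mem_orbit N).mpr ⟨1, conjBy_one N θ⟩

theorem card_fiber_conjBy (θ : N → ℂ) (a : G) [DecidablePred fun x => conjBy N θ x = conjBy N θ a] :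
    (Finset.univ.filter fun x => conjBy N θ x = conjBy N θ a).card = Nat.card (inertia N θ) := by
  rw [← Fintype.card_subtype, ← Nat.card_eq_fintype_card]
  refine Nat.card_congr (Equiv.subtypeEquiv (Equiv.mulRight a⁻¹) fun x => ?_)
  exact conjBy_eq_conjBy_iff N θ x a

theorem sum_conjBy (θ : N → ℂ) :
    ∑ x : G, conjBy N θ x = (Nat.card (inertia N θ) : ℂ) • ∑ φ ∈ orbit N θ, φ := by
  classical
  rw [Finset.smul_sum, ← Finset.sum_fiberwise_of_maps_to (g := conjBy N θ) (t := orbit N θ)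
    fun x _ => (mem_orbit N).mpr ⟨x, rfl⟩]
  refine Finset.sum_congr rfl fun φ hφ => ?_
  obtain ⟨a, rfl⟩ := (mem_orbit N).mp hφ
  rw [Finset.sum_congr rfl fun x hx => (Finset.mem_filter.mp hx).2, Finset.sum_const,
    card_fiber_conjBy, Nat.cast_smul_eq_nsmul]

theorem card_orbit_mul (θ : N → ℂ) :
    (orbit N θ).card * Nat.card (inertia N θ) = Nat.card G := by
  classical
  rw [Nat.card_eq_fintype_card (α := G), ← Finset.card_univ,
    Finset.card_eq_sum_card_fiberwise (f := conjBy N θ) (t := orbit N θ)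
      fun x _ => (mem_orbit N).mpr ⟨x, rfl⟩]
  rw [← smul_eq_mul, ← Finset.sum_const]
  refine Finset.sum_congr rfl fun φ hφ => ?_
  obtain ⟨a, rfl⟩ := (mem_orbit N).mp hφ
  exact (card_fiber_conjBy N θ a).symm

theorem card_orbit_eq_index (θ : N → ℂ) : (orbit N θ).card = (inertia N θ).index := by
  have h := card_orbit_mul N θ
  rw [← (inertia N θ).index_mul_card] at h
  exact Nat.eq_of_mul_eq_mul_right Nat.card_pos h

theorem indFun_restrict (θ : N → ℂ) :
    (fun n : N => indFun N θ n) = (Nat.card N : ℂ)⁻¹ • ∑ x : G, conjBy N θ x := by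
  funext n
  rw [indFun_apply_of_normal]
  simp [conjBy, Finset.sum_apply]

theorem indFun_restrict_orbit (θ : N → ℂ) :
    (fun n : N => indFun N θ n) =
      ((Nat.card (inertia N θ) : ℂ) / (Nat.card N : ℂ)) • ∑ φ ∈ orbit N θ, φ := by
  rw [indFun_restrict, sum_conjBy, smul_smul, div_eq_inv_mul]

theorem indFun_conjBy (θ : N → ℂ) (g : G) : indFun N (conjBy N θ g) = indFun N θ := by
  funext y
  by_cases hy : y ∈ N
  · rw [indFun_apply_of_normal N _ ⟨y, hy⟩, indFun_apply_of_normal N _ ⟨y, hy⟩]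
    congr 1
    symm
    refine (Equiv.sum_comp (Equiv.mulLeft g) _).symm.trans ?_
    refine Finset.sum_congr rfl fun x _ => ?_
    simp only [conjBy, Equiv.coe_mulLeft]
    congr 1
    exact Subtype.ext (by simp [mul_assoc])
  · rw [indFun_notMem_of_normal N _ hy, indFun_notMem_of_normal N _ hy]

theorem finsum_orbit (θ : N → ℂ) :
    ∑ᶠ ψ ∈ {ψ : N → ℂ | ∃ g : G, ψ = fun n : N => θ ⟨g * n * g⁻¹, hN.conj_mem n n.2 g⟩}, ψ =
      ∑ φ ∈ orbit N θ, φ := by
  have h : {ψ : N → ℂ | ∃ g : G, ψ = fun n : N => θ ⟨g * n * g⁻¹, hN.conj_mem n n.2 g⟩} =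
      (orbit N θ : Set (N → ℂ)) := by
    ext φ
    simp only [Set.mem_setOf_eq, Finset.mem_coe, mem_orbit]
    exact ⟨fun ⟨g, e⟩ => ⟨g, e.symm⟩, fun ⟨g, e⟩ => ⟨g, e.symm⟩⟩
  rw [h, finsum_mem_coe_finset]

variable [Fintype N]

theorem classInner_indFun_indFun {θ φ : N → ℂ} (hθ : IsIrrCharacter N θ)
    (hφ : IsIrrCharacter N φ) :
    classInner (indFun N φ) (indFun N θ) = open Classical in
      if φ ∈ orbit N θ then (Nat.card (inertia N θ) : ℂ) / (Nat.card N : ℂ) else 0 := by
  classical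
  rw [frobenius_reciprocity N φ (isClassFunction_indFun N θ), indFun_restrict_orbit,
    classInner_smul_right, classInner_sum_right]
  have h : ∀ ψ ∈ orbit N θ, classInner φ ψ = if φ = ψ then 1 else 0 := by
    intro ψ hψ
    obtain ⟨g, rfl⟩ := (mem_orbit N).mp hψ
    exact classInner_irr hφ (isIrrCharacter_conjBy N hθ g)
  rw [Finset.sum_congr rfl h, Finset.sum_ite_eq, map_div₀, map_natCast, map_natCast]
  split_ifs <;> simp

/-- **Clifford's theorem**: the restriction of an irreducible character to a normal subgroup is a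
multiple of the sum over one orbit. -/
theorem clifford {χ : G → ℂ} (hχ : IsIrrCharacter G χ) {θ : N → ℂ} (hθ : IsIrrCharacter N θ)
    (hcon : classInner (fun n : N => χ n) θ ≠ 0) :
    (fun n : N => χ n) = classInner (fun n : N => χ n) θ • ∑ φ ∈ orbit N θ, φ := by
  classical
  have hcl := isClassFunction_of_isCharacter (isCharacter_of_isIrr hχ)
  have hres := isClassFunction_restrict N hcl
  conv_lhs => rw [classFunction_expansion hres]
  have himg : orbit N θ = (Finset.univ.filter fun ψ : IrrCharacter N =>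
      (ψ : N → ℂ) ∈ orbit N θ).image (Subtype.val : IrrCharacter N → N → ℂ) := by
    ext φ
    simp only [Finset.mem_image, Finset.mem_filter, Finset.mem_univ, true_and]
    refine ⟨fun h => ?_, fun ⟨ψ, h, e⟩ => e ▸ h⟩
    obtain ⟨g, hg⟩ := (mem_orbit N).mp h
    exact ⟨⟨φ, hg ▸ isIrrCharacter_conjBy N hθ g⟩, h, rfl⟩
  conv_rhs => rw [himg, Finset.sum_image fun a _ b _ h => Subtype.ext h, Finset.smul_sum,
    Finset.sum_filter]
  refine Finset.sum_congr rfl fun ψ _ => ?_
  split_ifs with h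
  · obtain ⟨g, hg⟩ := (mem_orbit N).mp h
    congr 1
    rw [← hg]
    nth_rw 1 [← conjBy_restrict N hcl g]
    exact classInner_conjBy N _ _ g
  · suffices classInner (fun n : N => χ n) (ψ : N → ℂ) = 0 by rw [this, zero_smul]
    by_contra hne
    rw [← frobenius_reciprocity' N θ hcl] at hcon
    rw [← frobenius_reciprocity' N (ψ : N → ℂ) hcl] at hne
    have hθi := isCharacter_indFun N (isCharacter_of_isIrr hθ)
    have hψi := isCharacter_indFun N (isCharacter_of_isIrr ψ.2)
    have h0 := classInner_indFun_indFun N hθ ψ.2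
    rw [if_neg h] at h0
    obtain ⟨a, ha⟩ := exists_multiplicities hθi
    obtain ⟨b, hb⟩ := exists_multiplicities hψi
    rw [hb, ha, classInner_sum_smul_sum_smul] at h0
    simp only [map_natCast] at h0
    have h0' : ∑ ξ : IrrCharacter G, b ξ * a ξ = 0 := by exact_mod_cast h0
    have h1 := (Finset.sum_eq_zero_iff.mp h0') ⟨χ, hχ⟩ (Finset.mem_univ _)
    rcases mul_eq_zero.mp h1 with e | e
    · apply hne
      rw [← classInner_conj_symm, hb, classInner_sum_smul_irr _ ⟨χ, hχ⟩, e]; simp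
    · apply hcon
      rw [← classInner_conj_symm, ha, classInner_sum_smul_irr _ ⟨χ, hχ⟩, e]; simp

/-- The degree form of Clifford's theorem. -/
theorem clifford_degree {χ : G → ℂ} (hχ : IsIrrCharacter G χ) {θ : N → ℂ}
    (hθ : IsIrrCharacter N θ) (hcon : classInner (fun n : N => χ n) θ ≠ 0) :
    χ 1 = classInner (fun n : N => χ n) θ * ((orbit N θ).card * θ 1) := by
  have h := congrFun (clifford N hχ hθ hcon) 1
  simp only [Pi.smul_apply, Finset.sum_apply, smul_eq_mul] at h
  have e : ∀ φ ∈ orbit N θ, φ 1 = θ 1 := fun φ hφ => by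
    obtain ⟨g, rfl⟩ := (mem_orbit N).mp hφ; exact conjBy_apply_one N θ g
  rw [Finset.sum_congr rfl e, Finset.sum_const, nsmul_eq_mul] at h
  simpa using h

theorem exists_constituent {χ : G → ℂ} (hχ : IsCharacter G χ) (h1 : χ 1 ≠ 0) :
    ∃ θ : IrrCharacter N, classInner (fun n : N => χ n) (θ : N → ℂ) ≠ 0 := by
  by_contra h
  push_neg at h
  have := classFunction_expansion (isClassFunction_restrict N (isClassFunction_of_isCharacter hχ))
  simp only [h, zero_smul, Finset.sum_const_zero] at this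
  exact h1 (by simpa using congrFun this 1)

theorem orbit_eq_singleton {θ : N → ℂ} (h : ∀ g, conjBy N θ g = θ) : orbit N θ = {θ} := by
  ext φ
  simp only [mem_orbit, Finset.mem_singleton, h, exists_const]
  exact ⟨fun e => e.symm, fun e => e.symm⟩

theorem clifford_invariant {χ : G → ℂ} (hχ : IsIrrCharacter G χ) {θ : N → ℂ}
    (hθ : IsIrrCharacter N θ) (hinv : ∀ g, conjBy N θ g = θ)
    (hcon : classInner (fun n : N => χ n) θ ≠ 0) :
    (fun n : N => χ n) = classInner (fun n : N => χ n) θ • θ := by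
  have h := clifford N hχ hθ hcon
  rwa [orbit_eq_singleton N hinv, Finset.sum_singleton] at h

end Conj

section Correspondence

variable [Fintype G] (N T : Subgroup G) [hN : N.Normal] [Fintype N] [Fintype T]

/-- Restriction from `T` to `N ≤ T`. -/
def resTo (hNT : N ≤ T) (ψ : T → ℂ) : N → ℂ := fun n => ψ ⟨(n : G), hNT n.2⟩

theorem isClassFunction_resTo (hNT : N ≤ T) {ψ : T → ℂ} (hψ : IsClassFunction T ψ) :
    IsClassFunction N (resTo N T hNT ψ) := isClassFunction_comp (Subgroup.inclusion hNT) hψ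

theorem isCharacter_resTo (hNT : N ≤ T) {ψ : T → ℂ} (hψ : IsCharacter T ψ) :
    IsCharacter N (resTo N T hNT ψ) := isCharacter_comp (Subgroup.inclusion hNT) hψ

theorem indFun_subgroupOf_reciprocity (hNT : N ≤ T) (θ : N → ℂ) {ψ : T → ℂ}
    (hψ : IsClassFunction T ψ) :
    classInner (indFun (N.subgroupOf T) (fun x => θ ⟨(x : T), Subgroup.mem_subgroupOf.mp x.2⟩)) ψ =
      classInner θ (resTo N T hNT ψ) := by
  classical
  rw [frobenius_reciprocity (N.subgroupOf T) _ hψ]
  exact classInner_comp_equiv (Subgroup.subgroupOfEquivOfLe hNT) θ (resTo N T hNT ψ)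

/-- Above the inertia group, an irreducible restricts to a multiple of `θ`. -/
theorem resTo_eq_smul {θ : N → ℂ} (hθ : IsIrrCharacter N θ)
    (hT : ∀ g ∈ T, conjBy N θ g = θ) (hNT : N ≤ T) {ψ : T → ℂ} (hψ : IsIrrCharacter T ψ)
    (hcon : classInner (resTo N T hNT ψ) θ ≠ 0) :
    resTo N T hNT ψ = classInner (resTo N T hNT ψ) θ • θ := by
  classical
  set e := Subgroup.subgroupOfEquivOfLe hNT
  have hθ' : IsIrrCharacter (N.subgroupOf T) (fun x => θ (e x)) :=
    (isIrrCharacter_comp_equiv e).mpr hθ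
  have hinv : ∀ g : T, conjBy (N.subgroupOf T) (fun x => θ (e x)) g = fun x => θ (e x) := by
    intro g; funext x
    have h1 := congrFun (hT g g.2) (e x)
    rw [← h1]
    simp only [conjBy]
    congr 1
  have hi : classInner (fun x : N.subgroupOf T => ψ x) (fun x => θ (e x)) =
      classInner (resTo N T hNT ψ) θ :=
    classInner_comp_equiv e (resTo N T hNT ψ) θ
  have h := clifford_invariant (N.subgroupOf T) hψ hθ' hinv (by rw [hi]; exact hcon)
  rw [hi] at h
  funext n
  have h2 := congrFun h (e.symm n)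
  simp only [Pi.smul_apply, MulEquiv.apply_symm_apply] at h2
  exact h2

/-- The Clifford correspondence. -/
theorem clifford_correspondence {θ : N → ℂ} (hθ : IsIrrCharacter N θ)
    (hT : ∀ g, g ∈ T ↔ conjBy N θ g = θ) (hNT : N ≤ T) {ψ : T → ℂ} (hψ : IsIrrCharacter T ψ)
    (hcon : classInner (resTo N T hNT ψ) θ ≠ 0) :
    IsIrrCharacter G (indFun T ψ) ∧
      classInner (fun n : N => indFun T ψ n) θ = classInner (resTo N T hNT ψ) θ ∧
      ∀ ψ' : T → ℂ, IsIrrCharacter T ψ' → classInner (resTo N T hNT ψ') θ ≠ 0 →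
        indFun T ψ' = indFun T ψ → ψ' = ψ := by
  classical
  obtain ⟨θ₀, hθ₀, hθd⟩ := exists_nat_degree_irr hθ
  have hTeq : inertia N θ = T := Subgroup.ext fun g => (mem_inertia N).trans (hT g).symm
  have hI := isCharacter_indFun T (isCharacter_of_isIrr hψ)
  obtain ⟨ψd, hψd0, hψd⟩ := exists_nat_degree_irr hψ
  obtain ⟨m, hm⟩ := exists_multiplicities hI
  obtain ⟨χ, hχm⟩ : ∃ χ, m χ ≠ 0 := by
    by_contra h
    push_neg at h
    have h1 := congrFun hm 1
    simp only [indFun_one, h, Nat.cast_zero, zero_smul, Finset.sum_const_zero, Pi.zero_apply,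
      hψd] at h1
    rcases mul_eq_zero.mp h1 with e | e
    · exact T.index_ne_zero_of_finite (Nat.cast_eq_zero.mp e)
    · exact hψd0.ne' (Nat.cast_eq_zero.mp e)
  have hχcl := isClassFunction_irr χ
  have hmult : classInner (fun t : T => (χ : G → ℂ) t) ψ = m χ := by
    rw [← frobenius_reciprocity' T ψ hχcl, ← classInner_conj_symm, hm, classInner_sum_smul_irr]
    simp
  obtain ⟨r, hr⟩ := exists_multiplicities (isCharacter_restrict T (isCharacter_of_isIrr χ.2))
  obtain ⟨eψ, heψ⟩ := exists_nat_classInner (isCharacter_resTo N T hNT (isCharacter_of_isIrr hψ))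
    (isCharacter_of_isIrr hθ)
  have hres : ∀ ψ' : T → ℂ, IsIrrCharacter T ψ' →
      classInner (resTo N T hNT ψ') θ * θ 1 = ψ' 1 ∨ classInner (resTo N T hNT ψ') θ = 0 := by
    intro ψ' hψ'
    by_cases h : classInner (resTo N T hNT ψ') θ = 0
    · exact Or.inr h
    left
    have := congrFun (resTo_eq_smul N T hθ (fun g hg => (hT g).mp hg) hNT hψ' h) 1
    exact this.symm
  choose q hq using fun ξ : IrrCharacter T => exists_nat_classInner
    (isCharacter_resTo N T hNT (isCharacter_of_isIrr ξ.2)) (isCharacter_of_isIrr hθ)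
  have hsum : classInner (fun n : N => (χ : G → ℂ) n) θ = ((∑ ξ : IrrCharacter T, r ξ * q ξ : ℕ) : ℂ) := by
    have : (fun n : N => (χ : G → ℂ) n) =
        ∑ ξ : IrrCharacter T, (r ξ : ℂ) • resTo N T hNT (ξ : T → ℂ) := by
      funext n
      have := congrFun hr ⟨(n : G), hNT n.2⟩
      simpa [Finset.sum_apply, resTo] using this
    rw [this, classInner_sum_left]
    push_cast
    exact Finset.sum_congr rfl fun ξ _ => by rw [classInner_smul_left, hq]
  have hrψ : r ⟨ψ, hψ⟩ = m χ := by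
    rw [hr, classInner_sum_smul_irr _ ⟨ψ, hψ⟩] at hmult
    exact_mod_cast hmult
  have hqψ : q ⟨ψ, hψ⟩ = eψ := Nat.cast_injective ((hq ⟨ψ, hψ⟩).symm.trans heψ)
  set E := ∑ ξ : IrrCharacter T, r ξ * q ξ with hE
  have hsingle : m χ * eψ ≤ E := by
    rw [← hrψ, ← hqψ]
    exact Finset.single_le_sum (f := fun ξ => r ξ * q ξ) (fun _ _ => Nat.zero_le _) (Finset.mem_univ _)
  have heψ0 : 0 < eψ := Nat.pos_of_ne_zero fun e => hcon (by rw [heψ, e, Nat.cast_zero])
  have hEpos : 0 < E := lt_of_lt_of_le (Nat.mul_pos (Nat.pos_of_ne_zero hχm) heψ0) hsingle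
  have hχd := clifford_degree N χ.2 hθ (by rw [hsum]; exact Nat.cast_ne_zero.mpr hEpos.ne')
  rw [hsum, card_orbit_eq_index, hTeq, hθd] at hχd
  have hψdeg : (eψ : ℂ) * θ₀ = ψ 1 := by
    rw [← heψ, ← hθd]; exact (hres ψ hψ).resolve_right hcon
  choose d hd0 hd using fun ξ : IrrCharacter G => exists_nat_degree_irr ξ.2
  have hdegI : T.index * (eψ * θ₀) = ∑ ξ : IrrCharacter G, m ξ * d ξ := by
    have h1 := congrFun hm 1
    rw [indFun_one, ← hψdeg] at h1
    simp only [Finset.sum_apply, Pi.smul_apply, smul_eq_mul, hd] at h1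
    exact_mod_cast h1
  have hdχ : d χ = E * (T.index * θ₀) := by
    rw [hd χ] at hχd; exact_mod_cast hχd
  have hTi : 0 < T.index * θ₀ := Nat.mul_pos (Nat.pos_of_ne_zero T.index_ne_zero_of_finite) hθ₀
  have hsplit := Finset.add_sum_erase Finset.univ (fun ξ => m ξ * d ξ) (Finset.mem_univ χ)
  have hmE : m χ * E ≤ eψ := by
    have : m χ * (E * (T.index * θ₀)) ≤ T.index * (eψ * θ₀) := by
      rw [← hdχ, hdegI, ← hsplit]; exact Nat.le_add_right _ _
    nlinarith
  have hm1 : m χ = 1 := by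
    have : m χ * m χ * eψ ≤ eψ := by nlinarith
    have : m χ * m χ ≤ 1 := Nat.le_of_mul_le_mul_right (by simpa using this) heψ0
    have := Nat.pos_of_ne_zero hχm
    nlinarith
  have hEe : E = eψ := by rw [hm1] at hmE hsingle; omega
  have hrest : ∀ ξ, ξ ≠ χ → m ξ = 0 := by
    intro ξ hξ
    have h0 : ∑ x ∈ Finset.univ.erase χ, m x * d x = 0 := by
      have h2 : m χ * d χ = T.index * (eψ * θ₀) := by rw [hm1, hdχ, hEe]; ring
      rw [← hdegI, h2] at hsplit
      exact Nat.left_eq_add.mp hsplit.symm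
    rcases mul_eq_zero.mp (Finset.sum_eq_zero_iff.mp h0 ξ
      (Finset.mem_erase.mpr ⟨hξ, Finset.mem_univ ξ⟩)) with e | e
    · exact e
    · exact absurd e (hd0 ξ).ne'
  have hIχ : indFun T ψ = (χ : G → ℂ) := by
    rw [hm, Finset.sum_eq_single χ (fun ξ _ hξ => by simp [hrest ξ hξ]) (by simp), hm1,
      Nat.cast_one, one_smul]
  refine ⟨hIχ ▸ χ.2, ?_, ?_⟩
  · rw [hIχ, hsum, hEe, heψ]
  · intro ψ' hψ' hcon' he
    by_contra hne
    have hne' : (⟨ψ', hψ'⟩ : IrrCharacter T) ≠ ⟨ψ, hψ⟩ := fun e => hne (congrArg Subtype.val e)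
    have h1 : classInner (fun t : T => (χ : G → ℂ) t) ψ' = 1 := by
      rw [← frobenius_reciprocity' T ψ' hχcl, he, hIχ, classInner_irr_self χ.2]
    rw [hr, classInner_sum_smul_irr _ ⟨ψ', hψ'⟩] at h1
    have hle := Finset.sum_le_univ_sum_of_nonneg (s := {⟨ψ', hψ'⟩, ⟨ψ, hψ⟩})
      (fun ξ : IrrCharacter T => Nat.zero_le (r ξ * q ξ))
    rw [Finset.sum_pair hne', hrψ, hqψ, hm1, Nat.cast_eq_one.mp h1, one_mul, one_mul, ← hE,
      hEe] at hle
    exact hcon' (by rw [hq ⟨ψ', hψ'⟩, show q ⟨ψ', hψ'⟩ = 0 by omega, Nat.cast_zero])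

/-- Every irreducible of `G` above `θ` is induced from the inertia group. -/
theorem clifford_correspondence_surjective {θ : N → ℂ} (hθ : IsIrrCharacter N θ)
    (hT : ∀ g, g ∈ T ↔ conjBy N θ g = θ) (hNT : N ≤ T) {χ : G → ℂ} (hχ : IsIrrCharacter G χ)
    (hcon : classInner (fun n : N => χ n) θ ≠ 0) :
    ∃ ψ : T → ℂ, IsIrrCharacter T ψ ∧ indFun T ψ = χ ∧
      classInner (resTo N T hNT ψ) θ = classInner (fun n : N => χ n) θ := by
  classical
  have hχcl := isClassFunction_of_isCharacter (isCharacter_of_isIrr hχ)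
  have hexp := classFunction_expansion (isClassFunction_restrict T hχcl)
  obtain ⟨ψ, h1, h2⟩ : ∃ ψ : IrrCharacter T, classInner (fun t : T => χ t) (ψ : T → ℂ) ≠ 0 ∧
      classInner (resTo N T hNT (ψ : T → ℂ)) θ ≠ 0 := by
    by_contra h
    push_neg at h
    apply hcon
    have : (fun n : N => χ n) = ∑ ψ : IrrCharacter T,
        classInner (fun t : T => χ t) (ψ : T → ℂ) • resTo N T hNT (ψ : T → ℂ) := by
      funext n
      have := congrFun hexp ⟨(n : G), hNT n.2⟩
      simpa [Finset.sum_apply, resTo] using this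
    rw [this, classInner_sum_left]
    refine Finset.sum_eq_zero fun ψ _ => ?_
    rw [classInner_smul_left]
    by_cases h0 : classInner (fun t : T => χ t) (ψ : T → ℂ) = 0
    · rw [h0, zero_mul]
    · rw [h ψ h0, mul_zero]
  obtain ⟨hirr, he, -⟩ := clifford_correspondence N T hθ hT hNT ψ.2 h2
  rw [← frobenius_reciprocity' T (ψ : T → ℂ) hχcl, classInner_irr hχ hirr] at h1
  have hI : χ = indFun T (ψ : T → ℂ) := by
    by_contra hne; exact h1 (if_neg hne)
  exact ⟨ψ, ψ.2, hI.symm, by rw [hI, he]⟩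

end Correspondence

end CfsgLib.Char
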