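import Cfsg.Agent.Lib.Char.Clifford
import Cfsg.Agent.Lib.Blocks.Inflate

/-!
# Constituents of restrictions, transport of characters along isomorphisms
-/

set_option autoImplicit false

namespace CfsgLib.Char

open Cfsg
open scoped ComplexConjugate CfsgLib.Char

/-- Two constituents of a restriction to a normal subgroup are conjugate. -/
theorem exists_conjBy_of_constituents {G : Type*} [Group G] [Fintype G] (N : Subgroup G) [N.Normal]
    [Fintype N] {χ : G → ℂ} (hχ : IsIrrCharacter G χ) {θ φ : N → ℂ} (hθ : IsIrrCharacter N θ)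
    (hφ : IsIrrCharacter N φ) (hcθ : classInner (fun n : N => χ n) θ ≠ 0)
    (hcφ : classInner (fun n : N => χ n) φ ≠ 0) : ∃ g, conjBy N θ g = φ := by
  classical
  rw [← mem_orbit]
  by_contra hno
  refine hcφ ?_
  rw [clifford N hχ hθ hcθ, classInner_smul_left, classInner_sum_left]
  refine mul_eq_zero_of_right _ (Finset.sum_eq_zero fun ψ hψ => ?_)
  obtain ⟨h, rfl⟩ := (mem_orbit N).mp hψ
  exact classInner_irr_ne (isIrrCharacter_conjBy N hθ h) hφ fun e => hno (e ▸ hψ)

theorem classInner_comp_mulEquiv {G H : Type*} [Group G] [Group H] [Fintype G] [Fintype H]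
    (e : G ≃* H) (φ ψ : H → ℂ) :
    classInner (fun g => φ (e g)) (fun g => ψ (e g)) = classInner φ ψ := by
  simp only [classInner, Nat.card_congr e.toEquiv]
  congr 1
  exact Fintype.sum_equiv e.toEquiv _ _ fun g => rfl

theorem isIrrCharacter_comp_mulEquiv {G H : Type*} [Group G] [Group H] (e : G ≃* H) {φ : H → ℂ}
    (hφ : IsIrrCharacter H φ) : IsIrrCharacter G (fun g => φ (e g)) :=
  CfsgLib.Blocks.isIrrCharacter_comp_of_surjective hφ e.toMonoidHom e.surjective

end CfsgLib.Char
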