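import Cfsg.Agent.Lib.Char.GlaubermanCyclic
import Cfsg.Agent.Lib.Char.Constituents

/-!
# The Glauberman correspondence for a `p`-group

`S` normalises `G`, is a `p`-group, `p ∤ |G|` and `C = C_G(S)`. There is a bijection from the
`S`-invariant irreducible characters of `G` to the irreducible characters of `C`, characterised by
the multiplicity in the restriction being prime to `p` (it is then `±1` modulo `p`).
-/

set_option autoImplicit false
set_option linter.unusedSectionVars false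

namespace CfsgLib.Char.Glauberman

open Cfsg CfsgLib.Char.Canonical
open scoped ComplexConjugate CfsgLib.Char

universe u
variable {Γ : Type u} [Group Γ]

/-- Conjugation by a normalising element. -/
def conjEquiv {H : Subgroup Γ} {y : Γ} (hy : y ∈ Subgroup.normalizer (H : Set Γ)) : H ≃* H where
  toFun h := ⟨y * h * y⁻¹, (Subgroup.mem_normalizer_iff.mp hy _).mp h.2⟩
  invFun h := ⟨y⁻¹ * h * y,
    (Subgroup.mem_normalizer_iff.mp hy _).mpr (by simpa [mul_assoc] using h.2)⟩
  left_inv h := Subtype.ext (by simp [mul_assoc])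
  right_inv h := Subtype.ext (by simp [mul_assoc])
  map_mul' a b := Subtype.ext (by simp [mul_assoc])

@[simp] theorem conjEquiv_coe {H : Subgroup Γ} {y : Γ} (hy : y ∈ Subgroup.normalizer (H : Set Γ))
    (h : H) : (conjEquiv hy h : Γ) = y * h * y⁻¹ := rfl

/-- Invariance of a function on `G` under conjugation by the elements of `S`. -/
def Inv (G S : Subgroup Γ) (χ : G → ℂ) : Prop :=
  ∀ s ∈ S, ∀ g g' : G, (g' : Γ) = s * g * s⁻¹ → χ g' = χ g

/-- Restriction to a smaller subgroup. -/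
def res {G C : Subgroup Γ} (h : C ≤ G) (χ : G → ℂ) : C → ℂ := fun c => χ ⟨c, h c.2⟩

/-- The elements fixed by `S`-conjugation form a subgroup. -/
theorem inv_iff_forall_conj {G S : Subgroup Γ} (hS : S ≤ Subgroup.normalizer (G : Set Γ))
    (χ : G → ℂ) : Inv G S χ ↔ ∀ (s : Γ) (hs : s ∈ S), (fun g => χ (conjEquiv (hS hs) g)) = χ :=
  ⟨fun h s hs => funext fun g => h s hs g _ rfl, fun h s hs g g' e => by
    rw [show g' = conjEquiv (hS hs) g from Subtype.ext e]
    exact congrFun (h s hs) g⟩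

theorem inv_mono {G S T : Subgroup Γ} (hTS : T ≤ S) {χ : G → ℂ} (h : Inv G S χ) : Inv G T χ :=
  fun s hs => h s (hTS hs)

theorem inv_sup {G T : Subgroup Γ} (hT : T ≤ Subgroup.normalizer (G : Set Γ)) {s : Γ}
    (hs : s ∈ Subgroup.normalizer (G : Set Γ)) {χ : G → ℂ} (h : Inv G T χ)
    (h' : (fun g => χ (conjEquiv hs g)) = χ) : Inv G (T ⊔ Subgroup.zpowers s) χ := by
  let Q : Subgroup Γ :=
    { carrier := {y | ∃ hy : y ∈ Subgroup.normalizer (G : Set Γ), ∀ g, χ (conjEquiv hy g) = χ g}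
      one_mem' := ⟨Subgroup.one_mem _, fun g => congrArg χ (Subtype.ext (by simp))⟩
      mul_mem' := by
        rintro a b ⟨ha, ha'⟩ ⟨hb, hb'⟩
        refine ⟨Subgroup.mul_mem _ ha hb, fun g => ?_⟩
        rw [show conjEquiv (Subgroup.mul_mem _ ha hb) g = conjEquiv ha (conjEquiv hb g) from
          Subtype.ext (by simp [mul_assoc]), ha', hb']
      inv_mem' := by
        rintro a ⟨ha, ha'⟩
        refine ⟨Subgroup.inv_mem _ ha, fun g => ?_⟩
        rw [← ha' (conjEquiv (Subgroup.inv_mem _ ha) g)]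
        exact congrArg χ (Subtype.ext (by simp [mul_assoc])) }
  have hle : T ⊔ Subgroup.zpowers s ≤ Q :=
    sup_le (fun t ht => ⟨hT ht, fun g => h t ht g _ rfl⟩) (Subgroup.zpowers_le.mpr ⟨hs, congrFun h'⟩)
  intro y hy g g' e
  obtain ⟨hy', hy''⟩ := hle hy
  rw [show g' = conjEquiv hy' g from Subtype.ext e]
  exact hy'' g

/-- The correspondence, recorded through its multiplicities modulo `p`. -/
def IsCorr (p : ℕ) {G C : Subgroup Γ} [Fintype C] (hCG : C ≤ G) (χ : G → ℂ) (β : IrrCharacter C) :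
    Prop :=
  ∀ (γ : IrrCharacter C) (m : ℕ), classInner (res hCG χ) (γ : C → ℂ) = m →
    (γ ≠ β → p ∣ m) ∧ (γ = β → ((m : ℤ) ≡ 1 [ZMOD p] ∨ (m : ℤ) ≡ -1 [ZMOD p]))

variable {p : ℕ}

theorem not_dvd_of_sign (hp : p.Prime) {m : ℕ} (h : (m : ℤ) ≡ 1 [ZMOD p] ∨ (m : ℤ) ≡ -1 [ZMOD p]) :
    ¬ p ∣ m := by
  intro hd
  have h0 : (m : ℤ) ≡ 0 [ZMOD p] := Int.modEq_zero_iff_dvd.mpr (by exact_mod_cast hd)
  have h1 : (p : ℤ) ∣ 1 := by
    rcases h with h | h
    · exact Int.modEq_zero_iff_dvd.mp (h.symm.trans h0)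
    · exact dvd_neg.mp (Int.modEq_zero_iff_dvd.mp (h.symm.trans h0))
  exact hp.one_lt.ne' (Nat.dvd_one.mp (by exact_mod_cast h1))

section
variable {G C : Subgroup Γ} [Fintype G] [Fintype C] {hCG : C ≤ G} {χ : G → ℂ}

theorem isCharacter_res (hCG : C ≤ G) (hχ : IsCharacter G χ) : IsCharacter C (res hCG χ) :=
  isCharacter_comp (Subgroup.inclusion hCG) hχ

/-- A multiplicity prime to `p` singles out the correspondent. -/
theorem IsCorr.eq_of_not_dvd {β γ : IrrCharacter C} (h : IsCorr p hCG χ β) {m : ℕ}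
    (hm : classInner (res hCG χ) (γ : C → ℂ) = m) (hnd : ¬ p ∣ m) : γ = β := by
  by_contra hne
  exact hnd ((h γ m hm).1 hne)

theorem IsCorr.multiplicity (hp : p.Prime) (hχ : IsCharacter G χ) {β : IrrCharacter C}
    (h : IsCorr p hCG χ β) : ∃ m : ℕ, classInner (res hCG χ) (β : C → ℂ) = m ∧ ¬ p ∣ m := by
  obtain ⟨m, hm⟩ := exists_nat_classInner (isCharacter_res hCG hχ) (isCharacter_of_isIrr β.2)
  exact ⟨m, hm, not_dvd_of_sign hp ((h β m hm).2 rfl)⟩

theorem IsCorr.classInner_ne_zero (hp : p.Prime) (hχ : IsCharacter G χ) {β : IrrCharacter C}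
    (h : IsCorr p hCG χ β) : classInner (res hCG χ) (β : C → ℂ) ≠ 0 := by
  obtain ⟨m, hm, hnd⟩ := h.multiplicity hp hχ
  rw [hm, Nat.cast_ne_zero]
  rintro rfl
  exact hnd (dvd_zero p)

theorem IsCorr.unique (hp : p.Prime) (hχ : IsCharacter G χ) {β γ : IrrCharacter C}
    (h : IsCorr p hCG χ β) (h' : IsCorr p hCG χ γ) : γ = β := by
  obtain ⟨m, hm, hnd⟩ := h'.multiplicity hp hχ
  exact h.eq_of_not_dvd hm hnd

/-- The correspondence commutes with conjugation by elements normalising `G` and `C`. -/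
theorem IsCorr.conj {β : IrrCharacter C} (h : IsCorr p hCG χ β) {y : Γ}
    (hyG : y ∈ Subgroup.normalizer (G : Set Γ)) (hyC : y ∈ Subgroup.normalizer (C : Set Γ)) :
    IsCorr p hCG (fun g => χ (conjEquiv hyG g))
      ⟨fun c => (β : C → ℂ) (conjEquiv hyC c), isIrrCharacter_comp_mulEquiv _ β.2⟩ := by
  intro γ m hm
  set γ' : IrrCharacter C := ⟨fun c => (γ : C → ℂ) ((conjEquiv hyC).symm c),
    isIrrCharacter_comp_mulEquiv _ γ.2⟩ with hγ'
  have e : (γ : C → ℂ) = fun c => (γ' : C → ℂ) (conjEquiv hyC c) := by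
    funext c; simp [hγ']
  have hm' : classInner (res hCG χ) (γ' : C → ℂ) = m := by
    rw [← hm, ← classInner_comp_mulEquiv (conjEquiv hyC) (res hCG χ), e]
    rfl
  refine ⟨fun hne => (h γ' m hm').1 fun he => hne ?_, fun heq => (h γ' m hm').2 ?_⟩
  · exact Subtype.ext (by rw [e, he])
  · refine Subtype.ext (funext fun c => ?_)
    simp [hγ', heq]

end

/-- The bijection package. -/
def HasCorr (p : ℕ) (G S C : Subgroup Γ) [Fintype C] (hCG : C ≤ G) : Prop :=
  ∃ F : {χ : IrrCharacter G // Inv G S (χ : G → ℂ)} → IrrCharacter C,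
    Function.Bijective F ∧ ∀ χ, IsCorr p hCG ((χ.1 : IrrCharacter G) : G → ℂ) (F χ)

variable [Fintype Γ]

/-- One step: an element of `p`-power order. -/
theorem hasCorr_zpowers (hp : p.Prime) {G C : Subgroup Γ} [Fintype G] [Fintype C] {s : Γ}
    (hs : s ∈ Subgroup.normalizer (G : Set Γ)) {k : ℕ} (hk : orderOf s = p ^ k)
    (hcop : (Nat.card G).Coprime (orderOf s)) (hC : ∀ c, c ∈ C ↔ c ∈ G ∧ c * s = s * c)
    (hCG : C ≤ G) : HasCorr p G (Subgroup.zpowers s) C hCG := by
  classical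
  set M := G ⊔ Subgroup.zpowers s with hM
  have hGM : G ≤ M := le_sup_left
  haveI hN : (G.subgroupOf M).Normal := Subgroup.normal_subgroupOf_iff_le_normalizer hGM |>.mpr
    (sup_le Subgroup.le_normalizer (Subgroup.zpowers_le.mpr hs))
  haveI := Fintype.ofFinite M
  haveI := Fintype.ofFinite (G.subgroupOf M)
  haveI := Fintype.ofFinite (C.subgroupOf M)
  set s' : M := ⟨s, Subgroup.mem_sup_right (Subgroup.mem_zpowers s)⟩ with hs'
  set eG : G.subgroupOf M ≃* G := Subgroup.subgroupOfEquivOfLe hGM with heG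
  set eC : C.subgroupOf M ≃* C := Subgroup.subgroupOfEquivOfLe (hCG.trans hGM) with heC
  have htop : G.subgroupOf M ⊔ Subgroup.zpowers s' = ⊤ := by
    apply Subgroup.map_injective M.subtype_injective
    rw [Subgroup.map_sup,
      Subgroup.subgroupOf_map_subtype, inf_eq_left.mpr hGM, MonoidHom.map_zpowers,
      ← MonoidHom.range_eq_map, M.range_subtype]
    rfl
  have hord : orderOf s' = orderOf s := (Subgroup.orderOf_coe s').symm
  have hcop' : (Nat.card (G.subgroupOf M)).Coprime (orderOf s') := by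
    rw [Nat.card_congr eG.toEquiv, hord]; exact hcop
  have hC' : ∀ c, c ∈ C.subgroupOf M ↔ c ∈ G.subgroupOf M ∧ c * s' = s' * c := fun c => by
    simp only [Subgroup.mem_subgroupOf, hC, Subtype.ext_iff, Subgroup.coe_mul, hs']
  have hfix : ∀ χ : G → ℂ, conjBy (G.subgroupOf M) (fun n => χ (eG n)) s' =
      fun n => (fun g => χ (conjEquiv hs g)) (eG n) := fun χ => funext fun n => rfl
  have main : ∀ (χ : IrrCharacter G), Inv G (Subgroup.zpowers s) (χ : G → ℂ) →
      ∃ (η : M → ℂ) (β : IrrCharacter C) (ε : ℤ), (ε = 1 ∨ ε = -1) ∧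
        IsCanonical (G.subgroupOf M) s' (fun n => (χ : G → ℂ) (eG n)) η ∧
        (∀ c : C.subgroupOf M, η ((c : M) * s') = (ε : ℂ) * (β : C → ℂ) (eC c)) := by
    intro χ hχ
    have hi : conjBy (G.subgroupOf M) (fun n => (χ : G → ℂ) (eG n)) s' =
        fun n => (χ : G → ℂ) (eG n) := by
      rw [hfix]; exact funext fun n => hχ s (Subgroup.mem_zpowers s) _ _ rfl
    obtain ⟨η, hη⟩ := exists_canonical htop hcop' (isIrrCharacter_comp_mulEquiv eG χ.2) hi
    obtain ⟨β, ε, hε, he⟩ :=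
      exists_sign htop hcop' hC' (isIrrCharacter_comp_mulEquiv eG χ.2) hη
    exact ⟨η, ⟨fun c => (β : _ → ℂ) (eC.symm c), isIrrCharacter_comp_mulEquiv _ β.2⟩, ε, hε, hη,
      fun c => by rw [he c]; simp⟩
  choose η β ε hε hη he using main
  refine ⟨fun χ => β χ.1 χ.2, ⟨fun χ χ' e => ?_, fun γ => ?_⟩, fun χ γ m hm => ?_⟩
  · have h := sign_injective hcop' hC' (isIrrCharacter_comp_mulEquiv eG χ.1.2)
      (isIrrCharacter_comp_mulEquiv eG χ'.1.2) (hη χ.1 χ.2) (hη χ'.1 χ'.2)
      (β := ⟨fun c => (β χ.1 χ.2 : C → ℂ) (eC c), isIrrCharacter_comp_mulEquiv _ (β χ.1 χ.2).2⟩)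
      (hε χ.1 χ.2) (hε χ'.1 χ'.2) (he χ.1 χ.2) (fun c => by rw [he χ'.1 χ'.2]; simp only [e])
    refine Subtype.ext (Subtype.ext (funext fun g => ?_))
    simpa using congrFun h (eG.symm g)
  · obtain ⟨θ, η', hθ, hθs, hη', δ, hδ, hd⟩ := sign_surjective htop hcop' hC'
      ⟨fun c => (γ : C → ℂ) (eC c), isIrrCharacter_comp_mulEquiv _ γ.2⟩
    set χ : IrrCharacter G := ⟨fun g => θ (eG.symm g), isIrrCharacter_comp_mulEquiv _ hθ⟩ with hχ
    have eθ : (fun n => (χ : G → ℂ) (eG n)) = θ := by funext n; simp [hχ]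
    have hinv : Inv G (Subgroup.zpowers s) (χ : G → ℂ) := by
      have h1 : (fun g => (χ : G → ℂ) (conjEquiv hs g)) = χ := by
        have h2 := hfix χ
        rw [eθ, hθs] at h2
        funext g
        have h3 := congrFun h2 (eG.symm g)
        simp only [MulEquiv.apply_symm_apply] at h3
        exact h3.symm
      have := inv_sup (T := ⊥) bot_le hs (χ := (χ : G → ℂ)) (fun t ht g g' e => by
        rw [Subgroup.mem_bot] at ht; subst ht
        exact congrArg _ (Subtype.ext (by simpa using e))) h1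
      rwa [bot_sup_eq] at this
    refine ⟨⟨χ, hinv⟩, ?_⟩
    by_contra hne
    have hu := canonical_unique htop hcop' hθ hη' (eθ ▸ hη χ hinv)
    have h1 := fun c => (he χ hinv c).symm.trans ((congrFun hu _).trans (hd c))
    have h2 : ((ε χ hinv : ℤ) : ℂ) • (β χ hinv : C → ℂ) = (δ : ℂ) • (γ : C → ℂ) := funext fun c => by
      have := h1 (eC.symm c)
      simpa using this
    have h3 := congrArg (fun f => classInner f (γ : C → ℂ)) h2
    simp only [classInner_smul_left, classInner_irr_self γ.2, mul_one,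
      classInner_irr_ne (β χ hinv).2 γ.2 (fun e => hne (Subtype.ext e)), mul_zero] at h3
    exact isPos_sign hδ h3.symm
  · obtain ⟨χ, hχ⟩ := χ
    set γ' : IrrCharacter (C.subgroupOf M) :=
      ⟨fun c => (γ : C → ℂ) (eC c), isIrrCharacter_comp_mulEquiv _ γ.2⟩ with hγ'
    have hres : classInner (fun c : C.subgroupOf M => η χ hχ (c : M)) (γ' : _ → ℂ) = m := by
      rw [← hm, ← classInner_comp_mulEquiv eC (res hCG _)]
      congr 1
      funext c
      exact (hη χ hχ).2.1 ⟨(c : M), hCG c.2⟩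
    have key : ∀ z : ℤ, classInner (fun c : C.subgroupOf M => η χ hχ ((c : M) * s'))
        (γ' : _ → ℂ) = z → (m : ℤ) ≡ z [ZMOD p] := by
      intro z hz
      obtain ⟨m', hm', -, hmod⟩ := multiplicity_of_sign hC' (isCharacter_of_isIrr (hη χ hχ).1) γ' hz
      rw [hres] at hm'
      rw [Nat.cast_inj.mp hm']
      exact hmod p k hp (hord.trans hk)
    have hz : classInner (fun c : C.subgroupOf M => η χ hχ ((c : M) * s')) (γ' : _ → ℂ) =
        (ε χ hχ : ℂ) * classInner (β χ hχ : C → ℂ) (γ : C → ℂ) := by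
      rw [← classInner_comp_mulEquiv eC, ← classInner_smul_left]
      congr 1
      funext c
      exact he χ hχ c
    refine ⟨fun hne => ?_, fun heq => ?_⟩
    · have h := key 0 (by
        rw [hz, classInner_irr_ne (β χ hχ).2 γ.2 fun e => hne (Subtype.ext e.symm), mul_zero,
          Int.cast_zero])
      exact_mod_cast Int.modEq_zero_iff_dvd.mp h
    · have h := key (ε χ hχ) (by
        rw [hz, show (γ : C → ℂ) = (β χ hχ : C → ℂ) from congrArg Subtype.val heq,
          classInner_irr_self (β χ hχ).2, mul_one])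
      rcases hε χ hχ with e | e <;> rw [e] at h
      · exact Or.inl h
      · exact Or.inr h

/-- **Glauberman correspondence** for a `p`-group. -/
theorem hasCorr_of_isPGroup (hp : p.Prime) {G : Subgroup Γ} [instG : Fintype G] :
    ∀ (n : ℕ) (S : Subgroup Γ), Nat.card S = n → S ≤ Subgroup.normalizer (G : Set Γ) →
      IsPGroup p S → (Nat.card G).Coprime (Nat.card S) →
      ∀ (C : Subgroup Γ) [Fintype C] (hCG : C ≤ G), C = G ⊓ Subgroup.centralizer (S : Set Γ) →
        HasCorr p G S C hCG := by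
  classical
  haveI := Fact.mk hp
  intro n
  induction n using Nat.strong_induction_on with
  | _ n ih =>
  intro S hn hS hpS hcop C instC hCG hC
  by_cases hbot : S = ⊥
  · subst hbot
    have e : C = G := by
      rw [hC, inf_eq_left]
      intro g _
      exact Subgroup.mem_centralizer_iff.mpr fun h hh => by
        rw [SetLike.mem_coe, Subgroup.mem_bot] at hh
        simp [hh]
    subst e
    obtain rfl : instC = instG := Subsingleton.elim _ _
    refine ⟨fun χ => χ.1, ⟨fun a b h => Subtype.ext h, fun β => ⟨⟨β, fun s hs g g' e => ?_⟩, rfl⟩⟩,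
      fun χ γ m hm => ?_⟩
    · rw [Subgroup.mem_bot] at hs; subst hs
      exact congrArg _ (Subtype.ext (by simpa using e))
    · rw [show res hCG ((χ.1 : IrrCharacter C) : C → ℂ) = χ.1 from rfl,
        classInner_irr χ.1.2 γ.2] at hm
      refine ⟨fun hne => ?_, fun heq => ?_⟩
      · rw [if_neg fun e => hne (Subtype.ext e.symm)] at hm
        rw [Nat.cast_eq_zero.mp hm.symm]; exact dvd_zero p
      · rw [if_pos (congrArg Subtype.val heq.symm)] at hm
        rw [Nat.cast_eq_one.mp hm.symm]; exact Or.inl rfl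
  -- a maximal subgroup of `S`
  obtain ⟨a, ha⟩ := IsPGroup.iff_card.mp hpS
  have ha0 : a ≠ 0 := by
    rintro rfl
    exact hbot (Subgroup.eq_bot_of_card_eq S (by simpa using ha))
  obtain ⟨b, rfl⟩ := Nat.exists_eq_succ_of_ne_zero ha0
  obtain ⟨T0, hT0⟩ := Sylow.exists_subgroup_card_pow_prime p (G := S) (n := b)
    (by rw [ha]; exact pow_dvd_pow p (Nat.le_succ b))
  set T := T0.map S.subtype with hT
  have hTS : T ≤ S := Subgroup.map_subtype_le T0
  have hTc : Nat.card T = p ^ b := by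
    rw [hT, Subgroup.card_map_of_injective S.subtype_injective, hT0]
  obtain ⟨s, hsS, hsT⟩ : ∃ s ∈ S, s ∉ T := by
    by_contra h
    push_neg at h
    rw [le_antisymm hTS h, ha] at hTc
    exact absurd (Nat.pow_right_injective hp.two_le hTc) (Nat.succ_ne_self b)
  have hsup : T ⊔ Subgroup.zpowers s = S := by
    refine Subgroup.eq_of_le_of_card_ge (sup_le hTS (Subgroup.zpowers_le.mpr hsS)) ?_
    obtain ⟨c, hc⟩ := IsPGroup.iff_card.mp
      (hpS.to_le (sup_le hTS (Subgroup.zpowers_le.mpr hsS) : T ⊔ Subgroup.zpowers s ≤ S))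
    have hlt : Nat.card T < Nat.card ↥(T ⊔ Subgroup.zpowers s) := by
      refine lt_of_le_of_ne (Subgroup.card_le_of_le le_sup_left) fun e => hsT ?_
      have := Subgroup.eq_of_le_of_card_ge (le_sup_left : T ≤ T ⊔ Subgroup.zpowers s) e.ge
      exact this ▸ Subgroup.mem_sup_right (Subgroup.mem_zpowers s)
    rw [hTc, hc] at hlt
    rw [ha, hc]
    exact Nat.pow_le_pow_right hp.pos ((Nat.pow_lt_pow_iff_right hp.one_lt).mp hlt)
  have hTn : S ≤ Subgroup.normalizer (T : Set Γ) := by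
    haveI : Finite S := inferInstance
    have hn0 : T0.Normal := by
      refine Subgroup.normal_of_index_eq_minFac_card ?_
      have := T0.card_mul_index
      rw [hT0, ha, pow_succ] at this
      rw [ha, Nat.pow_minFac (Nat.succ_ne_zero b), hp.minFac_eq]
      exact Nat.eq_of_mul_eq_mul_left (pow_pos hp.pos b) this
    intro y hy
    refine Subgroup.mem_normalizer_iff.mpr fun x => ⟨?_, fun hx => ?_⟩
    · rintro ⟨t, ht, rfl⟩
      exact ⟨_, hn0.conj_mem t ht ⟨y, hy⟩, rfl⟩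
    · obtain ⟨t, ht, he⟩ := hx
      refine ⟨_, hn0.conj_mem t ht ⟨y, hy⟩⁻¹, ?_⟩
      have he' : (t : Γ) = y * x * y⁻¹ := he
      simp [he', mul_assoc]
  set C1 := G ⊓ Subgroup.centralizer (T : Set Γ) with hC1
  haveI := Fintype.ofFinite C1
  have hC1G : C1 ≤ G := inf_le_left
  have hnC1 : S ≤ Subgroup.normalizer (C1 : Set Γ) := by
    intro y hy
    have key : ∀ y ∈ S, ∀ x ∈ C1, y * x * y⁻¹ ∈ C1 := by
      intro y hy x hx
      obtain ⟨hxG, hxT⟩ := Subgroup.mem_inf.mp hx
      refine Subgroup.mem_inf.mpr ⟨(Subgroup.mem_normalizer_iff.mp (hS hy) x).mp hxG,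
        Subgroup.mem_centralizer_iff.mpr fun t ht => ?_⟩
      have ht' : y⁻¹ * t * y ∈ T := by
        have := (Subgroup.mem_normalizer_iff.mp (hTn (inv_mem hy)) t).mp ht
        simpa using this
      have h2 := congrArg (fun z => y * z * y⁻¹) (Subgroup.mem_centralizer_iff.mp hxT _ ht')
      simpa [mul_assoc] using h2
    refine Subgroup.mem_normalizer_iff.mpr fun x => ⟨key y hy x, fun hx => ?_⟩
    have := key y⁻¹ (inv_mem hy) _ hx
    simpa [mul_assoc] using this
  obtain ⟨F1, hF1, hI1⟩ := ih (Nat.card T) (by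
      rw [← hn, hTc, ha]; exact Nat.pow_lt_pow_right hp.one_lt (Nat.lt_succ_self b))
    T rfl (hTS.trans hS) (hpS.to_le hTS)
    (hcop.coprime_dvd_right (Subgroup.card_dvd_of_le hTS)) C1 hC1G rfl
  obtain ⟨k, hk⟩ : ∃ k, orderOf s = p ^ k := by
    obtain ⟨k, hk⟩ := IsPGroup.iff_orderOf.mp hpS ⟨s, hsS⟩
    exact ⟨k, (Subgroup.orderOf_coe (⟨s, hsS⟩ : S)).trans hk⟩
  have hC2 : ∀ c, c ∈ C ↔ c ∈ C1 ∧ c * s = s * c := fun c => by
    rw [hC, hC1, Subgroup.mem_inf, Subgroup.mem_inf, and_assoc, ← hsup]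
    refine and_congr_right fun _ => ⟨fun h => ?_, fun ⟨h1, h2⟩ => ?_⟩
    · exact ⟨Subgroup.centralizer_le (SetLike.coe_subset_coe.mpr le_sup_left) h,
        (Subgroup.mem_centralizer_iff.mp h s (Subgroup.mem_sup_right (Subgroup.mem_zpowers s))).symm⟩
    · have hle : T ⊔ Subgroup.zpowers s ≤ Subgroup.centralizer ({c} : Set Γ) := sup_le
        (fun t ht => Subgroup.mem_centralizer_singleton_iff.mpr
          (Subgroup.mem_centralizer_iff.mp h1 t ht))
        (Subgroup.zpowers_le.mpr (Subgroup.mem_centralizer_singleton_iff.mpr h2.symm))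
      exact Subgroup.mem_centralizer_iff.mpr fun t ht =>
        Subgroup.mem_centralizer_singleton_iff.mp (hle ht)
  have hCC1 : C ≤ C1 := fun c hc => ((hC2 c).mp hc).1
  obtain ⟨F2, hF2, hI2⟩ := hasCorr_zpowers hp (G := C1) (C := C) (hnC1 hsS) hk
    (hcop.coprime_dvd_left (Subgroup.card_dvd_of_le hC1G) |>.coprime_dvd_right
      (Subgroup.orderOf_dvd_natCard S hsS)) hC2 hCC1
  have hTG := hTS.trans hS
  have equiv : ∀ χ : {χ : IrrCharacter G // Inv G T (χ : G → ℂ)},
      Inv G S (χ.1 : G → ℂ) ↔ Inv C1 (Subgroup.zpowers s) (F1 χ : C1 → ℂ) := by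
    intro χ
    set χ' : {χ : IrrCharacter G // Inv G T (χ : G → ℂ)} :=
      ⟨⟨fun g => (χ.1 : G → ℂ) (conjEquiv (hS hsS) g), isIrrCharacter_comp_mulEquiv _ χ.1.2⟩,
        fun t ht g g' e => χ.2 (s * t * s⁻¹)
          ((Subgroup.mem_normalizer_iff.mp (hTn hsS) t).mp ht) _ _ (by simp [e, mul_assoc])⟩ with hχ'
    have hF : F1 χ' = ⟨fun c => (F1 χ : C1 → ℂ) (conjEquiv (hnC1 hsS) c),
        isIrrCharacter_comp_mulEquiv _ (F1 χ).2⟩ :=
      ((hI1 χ').unique hp (isCharacter_of_isIrr χ'.1.2) ((hI1 χ).conj (hS hsS) (hnC1 hsS))).symm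
    refine ⟨fun h => ?_, fun h => ?_⟩
    · have e : χ' = χ := Subtype.ext (Subtype.ext (funext fun g => h s hsS _ _ rfl))
      rw [e] at hF
      have := inv_sup (T := ⊥) bot_le (hnC1 hsS) (χ := (F1 χ : C1 → ℂ)) (fun t ht g g' e' => by
        rw [Subgroup.mem_bot] at ht; subst ht
        exact congrArg _ (Subtype.ext (by simpa using e'))) (congrArg Subtype.val hF).symm
      rwa [bot_sup_eq] at this
    · have e : χ' = χ := hF1.1 (hF.trans (Subtype.ext (funext fun c =>
        h s (Subgroup.mem_zpowers s) _ _ rfl)))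
      have := inv_sup hTG (hS hsS) χ.2 (congrArg (fun x => ((x.1 : IrrCharacter G) : G → ℂ)) e)
      rwa [hsup] at this
  set lift : {χ : IrrCharacter G // Inv G S (χ : G → ℂ)} →
      {χ : IrrCharacter G // Inv G T (χ : G → ℂ)} := fun χ => ⟨χ.1, inv_mono hTS χ.2⟩ with hlift
  refine ⟨fun χ => F2 ⟨F1 (lift χ), (equiv (lift χ)).mp χ.2⟩, ⟨fun χ χ' e => ?_, fun β => ?_⟩,
    fun χ => ?_⟩
  · have h := hF1.1 (congrArg Subtype.val (hF2.1 e))
    exact Subtype.ext (congrArg (fun x : {χ : IrrCharacter G // Inv G T (χ : G → ℂ)} => x.1) h)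
  · obtain ⟨γ, rfl⟩ := hF2.2 β
    obtain ⟨χ, hχ⟩ := hF1.2 γ.1
    refine ⟨⟨χ.1, (equiv χ).mpr (hχ ▸ γ.2)⟩, ?_⟩
    exact congrArg F2 (Subtype.ext hχ)
  · intro β n hn
    set γ0 := F1 (lift χ) with hγ0
    obtain ⟨m, hm⟩ := exists_multiplicities
      (isCharacter_res hC1G (isCharacter_of_isIrr χ.1.2))
    choose q hq using fun γ : IrrCharacter C1 => exists_nat_classInner
      (isCharacter_res hCC1 (isCharacter_of_isIrr γ.2)) (isCharacter_of_isIrr β.2)
    have hn' : n = ∑ γ, m γ * q γ := by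
      have e : res hCG ((χ.1 : IrrCharacter G) : G → ℂ) =
          ∑ γ : IrrCharacter C1, (m γ : ℂ) • res hCC1 (γ : C1 → ℂ) := by
        funext c
        have := congrFun hm ⟨c, hCC1 c.2⟩
        simpa [res, Finset.sum_apply] using this
      rw [e, classInner_sum_left] at hn
      simp only [classInner_smul_left, hq] at hn
      exact_mod_cast hn.symm
    have hmγ : ∀ γ : IrrCharacter C1,
        classInner (res hC1G ((χ.1 : IrrCharacter G) : G → ℂ)) (γ : C1 → ℂ) = m γ := fun γ => by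
      rw [hm, classInner_sum_smul_irr]
    have hsum : ((∑ γ, m γ * q γ : ℕ) : ℤ) ≡ ((m γ0 * q γ0 : ℕ) : ℤ) [ZMOD p] := by
      rw [← Finset.add_sum_erase _ _ (Finset.mem_univ γ0)]
      push_cast
      have h0 : (p : ℤ) ∣ ∑ γ ∈ Finset.univ.erase γ0, (m γ : ℤ) * q γ :=
        Finset.dvd_sum fun γ hγ => dvd_mul_of_dvd_left
          (Int.natCast_dvd_natCast.mpr ((hI1 (lift χ) γ _ (hmγ γ)).1 (Finset.ne_of_mem_erase hγ))) _
      conv_rhs => rw [← add_zero ((m γ0 : ℤ) * q γ0)]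
      exact Int.ModEq.add_left _ (Int.modEq_zero_iff_dvd.mpr h0)
    rw [← hn'] at hsum
    obtain ⟨h2a, h2b⟩ := hI2 ⟨γ0, (equiv (lift χ)).mp χ.2⟩ β (q γ0) (hq γ0)
    refine ⟨fun hne => ?_, fun heq => ?_⟩
    · have h3 := hsum.trans (Int.modEq_zero_iff_dvd.mpr
        (Int.natCast_dvd_natCast.mpr (dvd_mul_of_dvd_right (h2a hne) _)))
      exact Int.natCast_dvd_natCast.mp (Int.modEq_zero_iff_dvd.mp h3)
    · push_cast at hsum
      rcases (hI1 (lift χ) γ0 _ (hmγ γ0)).2 rfl with h1 | h1 <;> rcases h2b heq with h2 | h2 <;>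
        [left; right; right; left] <;> exact hsum.trans (by simpa using h1.mul h2)

end CfsgLib.Char.Glauberman
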