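import Cfsg.Agent.Lib.Char.MeanValue

/-!
# The mean value bound for generalized characters
-/

set_option autoImplicit false
set_option linter.unusedSectionVars false

namespace CfsgLib.Char

open Cfsg
open scoped ComplexConjugate CfsgLib.Char

variable {G : Type*} [Group G]

theorem isGeneralized_conj [Finite G] {f : G → ℂ} (hf : IsGeneralizedCharacter G f) :
    IsGeneralizedCharacter G (fun g => conj (f g)) := by
  obtain ⟨χ, ψ, hχ, hψ, rfl⟩ := hf
  exact ⟨_, _, isCharacter_conj hχ, isCharacter_conj hψ, funext fun g => map_sub _ _ _⟩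

theorem mem_qbar_generalized [Finite G] {f : G → ℂ} (hf : IsGeneralizedCharacter G f) (g : G) :
    f g ∈ QBar := by
  obtain ⟨χ, ψ, hχ, hψ, rfl⟩ := hf
  exact sub_mem (value_mem hχ g) (value_mem hψ g)

theorem isIntegral_generalized [Finite G] {f : G → ℂ} (hf : IsGeneralizedCharacter G f) (g : G) :
    IsIntegral ℤ (f g) := by
  obtain ⟨χ, ψ, hχ, hψ, rfl⟩ := hf
  exact (isIntegral_value hχ g).sub (isIntegral_value hψ g)

/-- Galois automorphisms act on generalized characters by powering. -/
theorem galois_generalized [Finite G] {σ : QBar →ₐ[ℚ] ℂ} {k : ℕ}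
    (hσ : ∀ {χ : G → ℂ} (hχ : IsCharacter G χ) (g : G), σ (value hχ g) = χ (g ^ k))
    {f : G → ℂ} (hf : IsGeneralizedCharacter G f) (g : G) :
    σ ⟨f g, mem_qbar_generalized hf g⟩ = f (g ^ k) := by
  obtain ⟨χ, ψ, hχ, hψ, rfl⟩ := id hf
  have e : (⟨(χ - ψ) g, mem_qbar_generalized hf g⟩ : QBar) = value hχ g - value hψ g :=
    Subtype.ext rfl
  rw [e, map_sub, hσ hχ, hσ hψ]
  rfl

/-- A rational value of a generalized character is constant on the generators. -/
theorem eq_of_zpowers_eq_of_rat [Finite G] {f : G → ℂ} (hf : IsGeneralizedCharacter G f) {a b : G}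
    (h : Subgroup.zpowers a = Subgroup.zpowers b) {q : ℚ} (hq : f a = q) : f b = q := by
  obtain ⟨k, hk, rfl⟩ := exists_pow_eq_of_zpowers_eq h
  obtain ⟨σ, hσ⟩ := exists_galois_of_coprime (G := G) hk
  have e : (⟨f a, mem_qbar_generalized hf a⟩ : QBar) = (q : QBar) := Subtype.ext (hq.trans (by simp))
  rw [← galois_generalized (fun hχ g => hσ hχ g) hf a, e, map_ratCast]

/-- A generalized character with positive real values on a set closed under taking generators is
at least one on average there. -/
theorem card_le_sum_of_pos [Fintype G] {f : G → ℂ} (hf : IsGeneralizedCharacter G f) (S : Finset G)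
    (hS : ∀ a b, Subgroup.zpowers a = Subgroup.zpowers b → a ∈ S → b ∈ S)
    (hpos : ∀ a ∈ S, 0 < (f a).re ∧ (f a).im = 0) : (S.card : ℝ) ≤ ∑ a ∈ S, (f a).re := by
  classical
  let gens : Subgroup G → Finset G := fun C => S.filter fun a => Subgroup.zpowers a = C
  have hC : ∀ C : Subgroup G, ((gens C).card : ℝ) ≤ ∑ a ∈ gens C, (f a).re := by
    intro C
    have hmem : ∀ a ∈ gens C, a ∈ S := fun a ha => (Finset.mem_filter.mp ha).1
    let z : QBar := ∏ a ∈ gens C, ⟨f a, mem_qbar_generalized hf a⟩
    have hzc : (z : ℂ) = ((∏ a ∈ gens C, (f a).re : ℝ) : ℂ) := by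
      simp only [z]
      push_cast
      exact Finset.prod_congr rfl fun a ha => (Complex.ext (by simp) (by simp [(hpos a (hmem a ha)).2]))
    have hfix : ∀ σ : QBar →ₐ[ℚ] ℂ, σ z = (z : ℂ) := by
      intro σ
      obtain ⟨k, hk, hσ⟩ := exists_galois_exponent G σ
      have hbij : Function.Injective fun a : G => a ^ k := (powCoprime hk.symm).injective
      simp only [z, map_prod, galois_generalized (fun hχ g => hσ hχ g) hf]
      push_cast
      have himg : (gens C).image (fun a => a ^ k) = gens C := by
        refine Finset.eq_of_subset_of_card_le (Finset.image_subset_iff.mpr fun a ha => ?_)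
          (by rw [Finset.card_image_of_injective _ hbij])
        simp only [gens, Finset.mem_filter] at ha ⊢
        exact ⟨hS _ _ (zpowers_pow_of_coprime a hk).symm ha.1, by rw [zpowers_pow_of_coprime a hk, ha.2]⟩
      conv_rhs => rw [← himg, Finset.prod_image fun a _ b _ h => hbij h]
    obtain ⟨q, hq⟩ := exists_rat_of_fixed z hfix
    have hqint : IsIntegral ℤ (q : ℂ) := by
      rw [← hq]; simp only [z]; push_cast
      exact IsIntegral.prod _ fun a _ => isIntegral_generalized hf a
    obtain ⟨n, hn⟩ := exists_int_of_isIntegral_rat hqint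
    have hpn : (∏ a ∈ gens C, (f a).re) = (n : ℝ) := by
      rw [hzc, hn] at hq; push_cast at hq; exact_mod_cast hq
    have hrp : ∀ a ∈ gens C, 0 < (f a).re := fun a ha => (hpos a (hmem a ha)).1
    have hpos' : (0 : ℝ) < ∏ a ∈ gens C, (f a).re := Finset.prod_pos hrp
    have h1 : (1 : ℝ) ≤ ∏ a ∈ gens C, (f a).re := by
      rw [hpn] at hpos' ⊢
      exact_mod_cast (Int.cast_pos.mp hpos' : 0 < n)
    have h2 : ∑ a ∈ gens C, Real.log ((f a).re) ≤ ∑ a ∈ gens C, ((f a).re - 1) :=
      Finset.sum_le_sum fun a ha => Real.log_le_sub_one_of_pos (hrp a ha)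
    rw [← Real.log_prod (fun a ha => (hrp a ha).ne'), Finset.sum_sub_distrib] at h2
    have h3 := Real.log_nonneg h1
    simp only [Finset.sum_const, nsmul_eq_mul, mul_one] at h2
    linarith
  have key := Finset.sum_le_sum (s := (Finset.univ : Finset (Subgroup G))) fun C _ => hC C
  simp only [gens] at key
  rwa [Finset.sum_fiberwise S (fun a => Subgroup.zpowers a) (fun a => (f a).re), ← Nat.cast_sum,
    ← Finset.card_eq_sum_card_fiberwise (f := fun a => Subgroup.zpowers a) (s := S)
      (t := Finset.univ) fun _ _ => Finset.mem_univ _] at key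

/-- Non-vanishing values of a generalized character have squared absolute value at least one on
average over the generators of a cyclic subgroup. -/
theorem card_le_sum_normSq_generalized [Fintype G] {f : G → ℂ} (hf : IsGeneralizedCharacter G f)
    (S : Finset G) (hS : ∀ a b, Subgroup.zpowers a = Subgroup.zpowers b → a ∈ S → b ∈ S)
    (h0 : ∀ a ∈ S, f a ≠ 0) : (S.card : ℝ) ≤ ∑ a ∈ S, Complex.normSq (f a) := by
  have h := card_le_sum_of_pos (isGeneralized_mul hf (isGeneralized_conj hf)) S hS fun a ha => by
    simp only [Pi.mul_apply, Complex.mul_conj, Complex.ofReal_re, Complex.ofReal_im, and_true]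
    exact Complex.normSq_pos.mpr (h0 a ha)
  simpa only [Pi.mul_apply, Complex.mul_conj, Complex.ofReal_re] using h

end CfsgLib.Char
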