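import Cfsg.Agent.Lib.Char.Kernel
import Cfsg.Agent.Lib.Char.TICoherent

/-!
# Products of conjugacy classes
-/

set_option autoImplicit false

namespace CfsgLib.Char.ClassProd

open Cfsg
open scoped ComplexConjugate CfsgLib.Char

variable {G : Type*} [Group G] [Fintype G]

theorem card_filter_isConj (a : G) [DecidablePred fun x => IsConj x a] :
    (Finset.univ.filter fun x => IsConj x a).card = (Subgroup.centralizer ({a} : Set G)).index := by
  rw [← card_isConj_eq_index, Nat.card_eq_fintype_card, Fintype.card_subtype]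

/-- A constant value of a character on the product of two classes. -/
theorem mul_degree_eq {χ : G → ℂ} (hχ : IsIrrCharacter G χ) (a b : G) (c : ℂ)
    (h : ∀ x y : G, IsConj x a → IsConj y b → χ (x * y) = c) : χ 1 * c = χ a * χ b := by
  classical
  obtain ⟨n, ρ, hρ, rfl⟩ := hχ
  haveI := hρ
  have h1 : ρ.character 1 ≠ 0 := irr_degree_ne_zero ⟨n, ρ, hρ, rfl⟩
  have hs := sum_char_mul ρ a b
  rw [Finset.sum_congr rfl fun x hx => Finset.sum_congr rfl fun y hy =>
      h x y (Finset.mem_filter.mp hx).2 (Finset.mem_filter.mp hy).2,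
    Finset.sum_const, Finset.sum_const, card_filter_isConj, card_filter_isConj, smul_smul,
    nsmul_eq_mul, omega, omega] at hs
  have hA : ((Subgroup.centralizer ({a} : Set G)).index : ℂ) ≠ 0 :=
    Nat.cast_ne_zero.mpr Subgroup.index_ne_zero_of_finite
  have hB : ((Subgroup.centralizer ({b} : Set G)).index : ℂ) ≠ 0 :=
    Nat.cast_ne_zero.mpr Subgroup.index_ne_zero_of_finite
  push_cast at hs
  field_simp at hs
  linear_combination hs

/-- A nontrivial irreducible character vanishes on an element whose coset is fused. -/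
theorem eq_zero_of_coset_conj (N : Subgroup G) [hN : N.Normal] {χ : G → ℂ}
    (hχ : IsIrrCharacter G χ) (hnt : ∃ x : G, x ∈ N ∧ χ x ≠ χ 1) (g : G)
    (h : ∀ n ∈ N, IsConj g (g * n)) : χ g = 0 := by
  classical
  have hcl := isClassFunction_of_isCharacter (isCharacter_of_isIrr hχ)
  have h1 : ∀ n : N, χ 1 * χ g = χ g * χ n := fun n => by
    refine mul_degree_eq hχ g n (χ g) fun x y hx hy => ?_
    obtain ⟨c, rfl⟩ := isConj_iff.mp hx.symm
    have hyN : y ∈ N := by
      obtain ⟨d, rfl⟩ := isConj_iff.mp hy.symm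
      exact hN.conj_mem _ n.2 _
    rw [show c * g * c⁻¹ * y = c * (g * (c⁻¹ * y * c)) * c⁻¹ by group, hcl]
    refine (eq_of_isConj hcl (h _ ?_)).symm
    simpa using hN.conj_mem y hyN c⁻¹
  have h2 : (Nat.card N : ℂ) * (χ 1 * χ g) = 0 := by
    rw [Nat.card_eq_fintype_card, ← Finset.card_univ, ← nsmul_eq_mul, ← Finset.sum_const,
      Finset.sum_congr rfl fun n _ => h1 n, ← Finset.mul_sum,
      TIKernel.sum_eq_zero_of_nonconstant N hχ hnt, mul_zero]
  simpa [Nat.card_pos.ne', irr_degree_ne_zero hχ] using h2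

/-- The product of two classes for multiplicative characters. -/
theorem isConj_products {x y : G}
    (h : ∀ (a b : G) (χ : IrrCharacter G), (χ : G → ℂ) 1 * (χ : G → ℂ) (a * x * a⁻¹ * (b * y * b⁻¹))
      = (χ : G → ℂ) x * (χ : G → ℂ) y) (z : G) :
    IsConj (x * y) z ↔ ∃ a b : G, z = a * x * a⁻¹ * (b * y * b⁻¹) := by
  constructor
  · intro hz
    obtain ⟨c, rfl⟩ := isConj_iff.mp hz
    exact ⟨c, c, by group⟩
  · rintro ⟨a, b, rfl⟩
    refine (isConj_iff_irr_agree _ _).mpr fun χ => mul_left_cancel₀ (irr_degree_ne_zero χ.2) ?_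
    rw [h a b χ, ← h 1 1 χ]
    simp

/-- A character that is nonzero on two classes is the only faithful irreducible character. -/
theorem two_classes (hG : 2 < Nat.card G) (χ : IrrCharacter G)
    (hχ : Nat.card {C : ConjClasses G // ∃ g ∈ C.carrier, (χ : G → ℂ) g ≠ 0} = 2) :
    (∀ g : G, (χ : G → ℂ) g = (χ : G → ℂ) 1 → g = 1) ∧
      ∀ ψ : IrrCharacter G, (∀ g : G, (ψ : G → ℂ) g = (ψ : G → ℂ) 1 → g = 1) → ψ = χ := by
  classical
  obtain ⟨c, hc1, hc, hsupp⟩ : ∃ c : G, c ≠ 1 ∧ (χ : G → ℂ) c ≠ 0 ∧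
      ∀ g : G, (χ : G → ℂ) g ≠ 0 → g = 1 ∨ IsConj c g := by
    haveI : Finite (ConjClasses G) := Finite.of_surjective _ ConjClasses.mk_surjective
    obtain ⟨A, B, hAB, huniv⟩ := Nat.card_eq_two_iff.mp hχ
    have h1m : ∃ g ∈ (ConjClasses.mk (1 : G)).carrier, (χ : G → ℂ) g ≠ 0 :=
      ⟨1, ConjClasses.mem_carrier_mk, irr_degree_ne_zero χ.2⟩
    let O : {C : ConjClasses G // ∃ g ∈ C.carrier, (χ : G → ℂ) g ≠ 0} := ⟨_, h1m⟩
    obtain ⟨C, hCO, hall⟩ : ∃ C, C ≠ O ∧ ∀ D, D = O ∨ D = C := by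
      have hm : ∀ D, D = A ∨ D = B := fun D => by
        have := huniv ▸ Set.mem_univ D
        simpa using this
      rcases hm O with e | e
      · exact ⟨B, e ▸ hAB.symm, fun D => e ▸ hm D⟩
      · exact ⟨A, e ▸ hAB, fun D => e ▸ (hm D).symm⟩
    obtain ⟨c, hcm, hc⟩ := C.2
    refine ⟨c, ?_, hc, fun g hg => ?_⟩
    · rintro rfl
      exact hCO (Subtype.ext (ConjClasses.mem_carrier_iff_mk_eq.mp hcm).symm)
    · rcases hall ⟨ConjClasses.mk g, g, ConjClasses.mem_carrier_mk, hg⟩ with e | e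
      · left
        obtain ⟨d, hd⟩ := isConj_iff.mp
          (ConjClasses.mk_eq_mk_iff_isConj.mp (congrArg Subtype.val e)).symm
        simpa using hd.symm
      · right
        exact ConjClasses.mk_eq_mk_iff_isConj.mp
          ((ConjClasses.mem_carrier_iff_mk_eq.mp hcm).trans (congrArg Subtype.val e).symm)
  have hcl := isClassFunction_irr χ
  have hsum : ∀ f : G → ℂ, IsClassFunction G f →
      ∑ g : G, (χ : G → ℂ) g * (starRingEnd ℂ) (f g) = (χ : G → ℂ) 1 * (starRingEnd ℂ) (f 1) +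
        ((Subgroup.centralizer ({c} : Set G)).index : ℂ) * ((χ : G → ℂ) c * (starRingEnd ℂ) (f c)) := by
    intro f hf
    have hterm : ∀ g : G, (χ : G → ℂ) g * (starRingEnd ℂ) (f g) =
        (if g = 1 then (χ : G → ℂ) 1 * (starRingEnd ℂ) (f 1) else 0) +
          (if IsConj g c then (χ : G → ℂ) c * (starRingEnd ℂ) (f c) else 0) := by
      intro g
      by_cases h1 : g = 1
      · subst h1
        rw [if_pos rfl, if_neg, add_zero]
        intro e
        exact hc1 (isConj_one_left.mp e.symm)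
      · rw [if_neg h1, zero_add]
        split_ifs with hg
        · rw [eq_of_isConj hcl hg, eq_of_isConj hf hg]
        · by_cases h0 : (χ : G → ℂ) g = 0
          · rw [h0, zero_mul]
          · exact absurd ((hsupp g h0).resolve_left h1).symm hg
    rw [Finset.sum_congr rfl fun g _ => hterm g, Finset.sum_add_distrib, Finset.sum_ite_eq',
      if_pos (Finset.mem_univ _), ← Finset.sum_filter, Finset.sum_const, nsmul_eq_mul,
      card_filter_isConj]
  have horth : ∀ ψ : IrrCharacter G, ψ ≠ χ → (χ : G → ℂ) 1 * (starRingEnd ℂ) ((ψ : G → ℂ) 1) +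
      ((Subgroup.centralizer ({c} : Set G)).index : ℂ) *
        ((χ : G → ℂ) c * (starRingEnd ℂ) ((ψ : G → ℂ) c)) = 0 := by
    intro ψ hψ
    have h0 := classInner_irr_ne χ.2 ψ.2 (fun e => hψ (Subtype.ext e.symm))
    simp only [classInner, mul_eq_zero, inv_eq_zero, Nat.cast_eq_zero, Nat.card_pos.ne',
      false_or] at h0
    rwa [hsum _ (isClassFunction_irr ψ)] at h0
  have hne1 : (⟨fun _ => 1, isIrrCharacter_one⟩ : IrrCharacter G) ≠ χ := by
    intro e
    have hall : ∀ g : G, g ≠ 1 → IsConj c g := fun g hg =>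
      (hsupp g (by rw [← e]; exact one_ne_zero)).resolve_left hg
    have h2 : (Subgroup.centralizer ({c} : Set G)).index = Nat.card G - 1 := by
      rw [← card_filter_isConj, Nat.card_eq_fintype_card, ← Finset.card_univ,
        ← Finset.card_erase_of_mem (Finset.mem_univ (1 : G))]
      congr 1
      ext g
      simp only [Finset.mem_filter, Finset.mem_univ, true_and, Finset.mem_erase, and_true]
      exact ⟨fun hg h1 => hc1 (isConj_one_left.mp (h1 ▸ hg.symm)), fun hg => (hall g hg).symm⟩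
    have h3 : Nat.card G - 1 ∣ Nat.card G := h2 ▸ Subgroup.index_dvd_card _
    have h4 : Nat.card G - 1 ∣ 1 := by
      have := Nat.dvd_sub h3 (dvd_refl _)
      rwa [Nat.sub_sub_self (by omega)] at this
    have := Nat.le_of_dvd Nat.one_pos h4
    omega
  have hone := horth _ hne1
  simp only [map_one, mul_one] at hone
  have hfaith : ∀ g : G, (χ : G → ℂ) g = (χ : G → ℂ) 1 → g = 1 := by
    intro g hg
    by_contra hg1
    have hgc : IsConj c g :=
      (hsupp g (hg ▸ irr_degree_ne_zero χ.2)).resolve_left hg1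
    rw [eq_of_isConj hcl hgc, hg, ← one_add_mul, mul_eq_zero] at hone
    rcases hone with e | e
    · have h' : ((1 + (Subgroup.centralizer ({c} : Set G)).index : ℕ) : ℂ) = 0 := by exact_mod_cast e
      exact Nat.cast_ne_zero.mpr (by omega) h'
    · exact irr_degree_ne_zero χ.2 e
  have huniq : ∀ ψ : IrrCharacter G,
      (∀ g : G, (ψ : G → ℂ) g = (ψ : G → ℂ) 1 → g = 1) → ψ = χ := by
    intro ψ hψ
    by_contra hne
    refine hc1 (hψ c ?_)
    have h0 := horth ψ hne
    have h1 : (starRingEnd ℂ) ((ψ : G → ℂ) c) = (starRingEnd ℂ) ((ψ : G → ℂ) 1) := by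
      have hχ1 := irr_degree_ne_zero χ.2
      refine mul_left_cancel₀ hχ1 ?_
      linear_combination ((starRingEnd ℂ) ((ψ : G → ℂ) c)) * hone - h0
    exact (starRingEnd ℂ).injective h1
  exact ⟨hfaith, huniq⟩

end CfsgLib.Char.ClassProd
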