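import Cfsg.Agent.Lib.Char.Artin
import Cfsg.Agent.Lib.Char.Counting
import Cfsg.Agent.Lib.Char.Virtual

/-!
# Real generalized characters of cyclic `2`-groups

The average over the generators of a real generalized character of odd degree of a cyclic
`2`-group is an odd integer.
-/

set_option autoImplicit false
set_option linter.unusedSectionVars false

namespace CfsgLib.Char

open Cfsg
open scoped ComplexConjugate CfsgLib.Char

variable {G : Type*} [Group G] [Fintype G]

theorem exists_odd_average {x : G} (hgen : ∀ v : G, v ∈ Subgroup.zpowers x) {m : ℕ}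
    (hm : orderOf x = 2 ^ m) {f : G → ℂ} (hf : IsGeneralizedCharacter G f)
    (hreal : ∀ v, conj (f v) = f v) {n : ℤ} (hn : f 1 = n) (hodd : Odd n) (S : Finset G)
    (hS : ∀ v : G, v ∈ S ↔ Subgroup.zpowers v = Subgroup.zpowers x) :
    ∃ z : ℤ, Odd z ∧ ∑ v ∈ S, f v = (S.card : ℂ) * z := by
  classical
  rcases Nat.eq_zero_or_pos m with rfl | hm0
  · have hx : x = 1 := orderOf_eq_one_iff.mp (by simpa using hm)
    have hall : ∀ v : G, v = 1 := fun v => by simpa [hx] using hgen v
    refine ⟨n, hodd, ?_⟩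
    rw [Finset.sum_congr rfl fun v _ => (congrArg f (hall v)).trans hn, Finset.sum_const,
      nsmul_eq_mul]
  have hpow : ∀ v : G, ∃ k : ℕ, x ^ k = v := fun v =>
    (Subgroup.mem_zpowers_iff.mp (hgen v)).imp' (fun k => (k % (orderOf x : ℤ)).toNat) fun k hk => by
      rw [← hk, ← zpow_natCast, Int.toNat_of_nonneg (Int.emod_nonneg _ (by simp [hm])),
        zpow_mod_orderOf]
  have hcomm : ∀ a b : G, a * b = b * a := fun a b => by
    obtain ⟨i, rfl⟩ := hpow a
    obtain ⟨j, rfl⟩ := hpow b
    rw [← pow_add, ← pow_add, add_comm]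
  have hmemS : ∀ k : ℕ, x ^ k ∈ S ↔ Odd k := fun k => by
    rw [hS]
    constructor
    · intro h
      by_contra hk
      rw [Nat.not_odd_iff_even] at hk
      have h1 : orderOf (x ^ k) = orderOf x := by rw [← Nat.card_zpowers, h, Nat.card_zpowers]
      rw [orderOf_pow, hm] at h1
      have h2 : 2 ∣ (2 ^ m).gcd k := Nat.dvd_gcd (dvd_pow_self 2 hm0.ne') hk.two_dvd
      have h3 := Nat.div_lt_self (Nat.two_pow_pos m)
        (Nat.lt_of_lt_of_le one_lt_two (Nat.le_of_dvd (Nat.gcd_pos_of_pos_left _ (Nat.two_pow_pos m)) h2))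
      omega
    · intro hk
      refine le_antisymm (Subgroup.zpowers_le.mpr (Subgroup.npow_mem_zpowers x k))
        (Subgroup.zpowers_le.mpr ?_)
      obtain ⟨l, hl⟩ := exists_pow_eq_self_of_coprime (x := x) (n := k)
        (by rw [hm]; exact (Nat.coprime_two_right.mpr hk).pow_right m)
      exact ⟨(l : ℤ), by simpa using hl⟩
  -- the sign character
  have hmul : ∀ a b : G, (if a * b ∈ S then (-1 : ℂˣ) else 1) =
      (if a ∈ S then (-1 : ℂˣ) else 1) * (if b ∈ S then (-1 : ℂˣ) else 1) := fun a b => by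
    obtain ⟨i, rfl⟩ := hpow a
    obtain ⟨j, rfl⟩ := hpow b
    simp only [← pow_add, hmemS, Nat.odd_add]
    rcases Nat.even_or_odd i with hi | hi <;> rcases Nat.even_or_odd j with hj | hj <;>
      simp [hi, hj, Nat.not_odd_iff_even.mpr, Nat.not_even_iff_odd.mpr]
  set ε : G →* ℂˣ :=
    { toFun := fun v => if v ∈ S then -1 else 1
      map_one' := by rw [if_neg]; rw [← pow_zero x, hmemS]; decide
      map_mul' := hmul }
  set one : IrrCharacter G := ⟨_, isIrrCharacter_one⟩
  set eps : IrrCharacter G := ⟨_, isIrrCharacter_monoidHom ε⟩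
  have hne : one ≠ eps := fun h => by
    have h1 := congrFun (congrArg Subtype.val h) x
    simp only [one, eps, ε, MonoidHom.coe_mk, OneHom.coe_mk] at h1
    rw [if_pos (by simpa using (hmemS 1).mpr odd_one)] at h1
    norm_num at h1
  choose c hc using fun ψ : IrrCharacter G => exists_int_classInner hf (isGeneralized_of_isIrr ψ.2)
  have hexp : ∀ v, f v = ∑ ψ : IrrCharacter G, (c ψ : ℂ) * (ψ : G → ℂ) v := fun v => by
    conv_lhs => rw [classFunction_expansion (isClassFunction_of_isGeneralized hf)]
    simp only [Finset.sum_apply, Pi.smul_apply, smul_eq_mul, hc]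
  -- the degree
  have hdeg : n = ∑ ψ : IrrCharacter G, c ψ := by
    have h := hexp 1
    simp only [degree_one_of_comm hcomm, mul_one, hn] at h
    exact_mod_cast h
  -- the involution
  let inv : IrrCharacter G → IrrCharacter G := fun ψ => ⟨_, isIrrCharacter_conj ψ.2⟩
  have hcinv : ∀ ψ, c (inv ψ) = c ψ := fun ψ => by
    have h : (c (inv ψ) : ℂ) = c ψ := by
      rw [← hc, ← hc]
      have h1 : classInner f (fun v => conj ((ψ : G → ℂ) v)) = conj (classInner f (ψ : G → ℂ)) := by
        simp only [classInner, map_mul, map_inv₀, map_natCast, map_sum, hreal]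
      exact h1.trans (by rw [hc, map_intCast])
    exact_mod_cast h
  have hfix : ∀ ψ, inv ψ = ψ → ψ = one ∨ ψ = eps := fun ψ hψ => by
    have h1 : conj ((ψ : G → ℂ) x) = (ψ : G → ℂ) x := congrFun (congrArg Subtype.val hψ) x
    set L := linearHom (isCharacter_of_isIrr ψ.2) (degree_one_of_comm hcomm ψ)
    have hL : ∀ v, (L v : ℂ) = (ψ : G → ℂ) v := linearHom_apply _ _
    have hnorm : ‖(L x : ℂ)‖ = 1 := Complex.norm_eq_one_of_pow_eq_one (n := orderOf x)
      (by rw [← Units.val_pow_eq_pow_val, ← map_pow, pow_orderOf_eq_one, map_one, Units.val_one])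
      (orderOf_pos x).ne'
    have hsq : (L x : ℂ) * (L x : ℂ) = 1 := by
      nth_rw 2 [show (L x : ℂ) = conj (L x : ℂ) by rw [hL, h1]]
      rw [Complex.mul_conj, Complex.normSq_eq_norm_sq, hnorm]
      norm_num
    rcases mul_self_eq_one_iff.mp hsq with h | h
    · refine Or.inl (Subtype.ext (funext fun v => ?_))
      obtain ⟨k, rfl⟩ := hpow v
      rw [← hL, map_pow, Units.val_pow_eq_pow_val, h, one_pow]
    · refine Or.inr (Subtype.ext (funext fun v => ?_))
      obtain ⟨k, rfl⟩ := hpow v
      rw [← hL, map_pow, Units.val_pow_eq_pow_val, h]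
      simp only [eps, ε, MonoidHom.coe_mk, OneHom.coe_mk, hmemS]
      rcases Nat.even_or_odd k with hk | hk
      · rw [if_neg (Nat.not_odd_iff_even.mpr hk), hk.neg_one_pow]; rfl
      · rw [if_pos hk, hk.neg_one_pow]; rfl
  have hrest : Even (∑ ψ ∈ (Finset.univ.erase one).erase eps, c ψ) := by
    refine even_iff_two_dvd.mpr ((ZMod.intCast_zmod_eq_zero_iff_dvd _ 2).mp ?_)
    rw [Int.cast_sum]
    refine Finset.sum_involution (fun ψ _ => inv ψ) (fun ψ _ => ?_) (fun ψ hψ _ h => ?_)
      (fun ψ hψ => ?_) fun ψ _ => Subtype.ext (funext fun v => Complex.conj_conj _)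
    · rw [hcinv]; exact CharTwo.add_self_eq_zero _
    · simp only [Finset.mem_erase, Finset.mem_univ, and_true] at hψ
      exact (hfix ψ h).elim hψ.2 hψ.1
    · simp only [Finset.mem_erase, Finset.mem_univ, and_true] at hψ ⊢
      have h1 : inv one = one := Subtype.ext (funext fun v => map_one _)
      have h2 : inv eps = eps := Subtype.ext (funext fun v => by
        show conj ((ε v : ℂ)) = (ε v : ℂ)
        simp only [ε, MonoidHom.coe_mk, OneHom.coe_mk]
        split <;> simp)
      have hinv : ∀ φ, inv (inv φ) = φ := fun φ => Subtype.ext (funext fun v => Complex.conj_conj _)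
      exact ⟨fun h => hψ.1 (by rw [← hinv ψ, h, h2]), fun h => hψ.2 (by rw [← hinv ψ, h, h1])⟩
  refine ⟨c one - c eps, ?_, ?_⟩
  · rw [hdeg, ← Finset.add_sum_erase _ _ (Finset.mem_univ one),
      ← Finset.add_sum_erase _ _ (Finset.mem_erase.mpr ⟨hne.symm, Finset.mem_univ eps⟩),
      ← add_assoc, Int.odd_add] at hodd
    have h := hodd.mpr hrest
    rw [Int.odd_add] at h
    rw [Int.odd_sub]
    exact h
  · have hcard : 2 * (S.card : ℂ) = (Nat.card G : ℂ) := by
      have h := classInner_irr_ne isIrrCharacter_one (isIrrCharacter_monoidHom ε)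
        (fun h => hne (Subtype.ext h))
      simp only [classInner, one_mul, mul_eq_zero, inv_eq_zero, Nat.cast_eq_zero,
        Nat.card_pos.ne', false_or] at h
      have h' : ∑ v : G, (1 - (2 : ℂ) * if v ∈ S then 1 else 0) = 0 := by
        refine Eq.trans (Finset.sum_congr rfl fun v _ => ?_) h
        simp only [ε, MonoidHom.coe_mk, OneHom.coe_mk]
        split <;> norm_num
      rw [Finset.sum_sub_distrib, ← Finset.mul_sum, Finset.sum_boole, Finset.sum_const,
        nsmul_eq_mul, mul_one, Finset.card_univ, ← Nat.card_eq_fintype_card, sub_eq_zero] at h'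
      simpa using h'.symm
    have h1 : 2 * ∑ v ∈ S, f v = (Nat.card G : ℂ) * (classInner f (one : G → ℂ) - classInner f (eps : G → ℂ)) := by
      simp only [classInner, ← mul_sub, ← Finset.sum_sub_distrib]
      rw [mul_inv_cancel_left₀ (Nat.cast_ne_zero.mpr Nat.card_pos.ne'), Finset.mul_sum,
        ← Finset.sum_subset (Finset.subset_univ S) fun v _ hv => by
          simp [one, eps, ε, hv]]
      refine Finset.sum_congr rfl fun v hv => ?_
      simp only [one, eps, ε, MonoidHom.coe_mk, OneHom.coe_mk, if_pos hv, Units.val_neg,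
        Units.val_one, map_neg, map_one]
      ring
    rw [hc, hc] at h1
    refine mul_left_cancel₀ (two_ne_zero (α := ℂ)) ?_
    rw [h1, ← hcard]
    push_cast
    ring

end CfsgLib.Char
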