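import Cfsg.Agent.Lib.Char.CanonicalExtension
import Cfsg.Agent.Lib.Char.Central

/-!
# The canonical extension over a normal subgroup of coprime index

An invariant irreducible character of a normal subgroup `N` with index prime to `|N|` has exactly
one extension whose determinant has exponent `|N|`.
-/

set_option autoImplicit false
set_option linter.unusedSectionVars false

namespace CfsgLib.Char

open Cfsg
open scoped ComplexConjugate CfsgLib.Char

variable {H : Type*} [Group H] [Finite H]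

/-- Determinants commute with pulling back along homomorphisms. -/
theorem detChar_comp {G : Type*} [Group G] [Finite G] (f : G →* H) {χ : H → ℂ}
    (hχ : IsCharacter H χ) (g : G) : detChar (fun x => χ (f x)) g = detChar χ (f g) := by
  obtain ⟨k, σ, rfl⟩ := hχ
  have e : (fun x => σ.character (f x)) =
      Representation.character (k := ℂ) (G := G) (V := Fin k → ℂ) (σ.comp f) := rfl
  rw [e, detChar_character, detChar_character]
  rfl

variable (N : Subgroup H) [hN : N.Normal]

theorem extension_degree_coprime {θ : N → ℂ} (hθ : IsIrrCharacter N θ)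
    (hcop : N.index.Coprime (Nat.card N)) :
    ∃ d : ℕ, θ 1 = d ∧ N.index.Coprime (d * Nat.card N) := by
  obtain ⟨d, hd, -, hdiv⟩ := exists_degree_dvd_card hθ
  exact ⟨d, hd, Nat.Coprime.mul_right (hcop.coprime_dvd_right hdiv) hcop⟩

/-- An invariant character has an extension with determinant of exponent `|N|`. -/
theorem exists_power_extension {θ : N → ℂ} (hθ : IsIrrCharacter N θ)
    (hinv : ∀ g, conjBy N θ g = θ) (hcop : N.index.Coprime (Nat.card N)) :
    ∃ χ : H → ℂ, IsIrrCharacter H χ ∧ (∀ n : N, χ n = θ n) ∧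
      ∀ h, detChar χ h ^ Nat.card N = 1 := by
  classical
  obtain ⟨d, hd, hda⟩ := extension_degree_coprime N hθ hcop
  obtain ⟨χ₀, hχ₀, hres⟩ := extends_of_det N hθ hinv d (Nat.card N) hd 1 (fun n => by
    obtain ⟨f, hf⟩ := exists_det_hom (isCharacter_of_isIrr hθ)
    rw [hf, MonoidHom.one_apply, Units.val_one, ← Units.val_pow_eq_pow_val, ← map_pow,
      pow_card_eq_one', map_one, Units.val_one]) hda
  have hχ₀c := isCharacter_of_isIrr hχ₀
  obtain ⟨μ, hμ⟩ := exists_det_hom hχ₀c
  let ν : H →* ℂˣ := (powMonoidHom (Nat.card N)).comp μ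
  have hνN : ∀ n : N, ν n = 1 := fun n => by
    show μ (n : H) ^ Nat.card N = 1
    rw [← map_pow, ← Subgroup.coe_pow, pow_card_eq_one', Subgroup.coe_one, map_one]
  have hνi : ∀ h : H, ν h ^ N.index = 1 := fun h => by
    rw [← map_pow]
    exact hνN ⟨_, N.pow_index_mem h⟩
  set a := d * Nat.card N with ha
  let j : ℤ := Nat.gcdA a N.index
  have hj : (1 : ℤ) = a * j + N.index * Nat.gcdB a N.index := by
    rw [← Nat.gcd_eq_gcd_ab, hda.symm.gcd_eq_one, Nat.cast_one]
  let β : H →* ℂˣ := (zpowGroupHom (-j)).comp ν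
  have hβN : ∀ n : N, β n = 1 := fun n => by
    show ν (n : H) ^ (-j) = 1
    rw [hνN, one_zpow]
  have hd0 : χ₀ 1 = d := (hres 1).trans hd
  refine ⟨fun g => (β g : ℂ) * χ₀ g, isIrr_of_restrict N
    (isCharacter_mul (isCharacter_monoidHom β) hχ₀c) ?_, fun n => ?_, fun h => ?_⟩
  · rw [show (fun n : N => (β (n : H) : ℂ) * χ₀ n) = θ from funext fun n => by
      rw [hβN, Units.val_one, one_mul, hres]]
    exact hθ
  · show (β (n : H) : ℂ) * χ₀ n = θ n
    rw [hβN, Units.val_one, one_mul, hres]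
  · rw [detChar_linear_mul hχ₀c β d hd0, hμ]
    show ((β h : ℂ) ^ d * (μ h : ℂ)) ^ Nat.card N = 1
    rw [mul_pow, ← pow_mul, ← Units.val_pow_eq_pow_val, ← Units.val_pow_eq_pow_val,
      ← Units.val_mul]
    show (((ν h ^ (-j)) ^ a * ν h : ℂˣ) : ℂ) = 1
    rw [← zpow_natCast (ν h ^ (-j)), ← zpow_mul, ← zpow_add_one,
      show -j * (a : ℤ) + 1 = (N.index : ℤ) * Nat.gcdB a N.index by rw [hj]; ring, zpow_mul,
      zpow_natCast, hνi, one_zpow, Units.val_one]

/-- That extension is unique. -/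
theorem power_extension_unique {θ : N → ℂ} (hθ : IsIrrCharacter N θ)
    (hcop : N.index.Coprime (Nat.card N)) {χ χ' : H → ℂ} (hχ : IsIrrCharacter H χ)
    (hχ' : IsIrrCharacter H χ') (h : ∀ n : N, χ n = θ n) (h' : ∀ n : N, χ' n = θ n)
    (hd : ∀ x, detChar χ x ^ Nat.card N = 1) (hd' : ∀ x, detChar χ' x ^ Nat.card N = 1) :
    χ' = χ := by
  obtain ⟨d, hdeg, hda⟩ := extension_degree_coprime N hθ hcop
  obtain ⟨β, hβN, rfl⟩ := extensions_differ N hθ hχ hχ' h h'
  funext g
  have h1 : β g ^ N.index = 1 := by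
    rw [← map_pow]
    exact hβN ⟨_, N.pow_index_mem g⟩
  have h2 : β g ^ (d * Nat.card N) = 1 := by
    have e := hd' g
    rw [detChar_linear_mul (isCharacter_of_isIrr hχ) β d ((h 1).trans hdeg), mul_pow, hd, mul_one,
      ← pow_mul, ← Units.val_pow_eq_pow_val] at e
    exact Units.ext e
  have h3 : β g = 1 := by
    rw [← pow_one (β g), ← hda.gcd_eq_one, pow_gcd_eq_one.mpr ⟨h1, h2⟩]
  rw [h3, Units.val_one, one_mul]

end CfsgLib.Char
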