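import Cfsg.Agent.Lib.Char.Clifford
import Cfsg.Agent.Lib.Char.Counting
import Cfsg.Agent.Lib.Coprime.Action

/-!
# Characters and classes fixed by an automorphism
-/

set_option autoImplicit false

namespace CfsgLib.Char

open Cfsg
open scoped CfsgLib.Char

variable {G : Type*} [Group G]

theorem map_classes_symm (e : G ≃* G) (C : ConjClasses G) :
    ConjClasses.map e.symm.toMonoidHom (ConjClasses.map e.toMonoidHom C) = C := by
  obtain ⟨x, rfl⟩ := ConjClasses.exists_rep C
  exact congrArg ConjClasses.mk (e.symm_apply_apply x)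

/-- An automorphism fixes as many irreducible characters as classes. -/
theorem card_fixed_irr_eq_classes [Finite G] (e : G ≃* G) :
    Nat.card {χ : IrrCharacter G // (fun x => (χ : G → ℂ) (e x)) = (χ : G → ℂ)} =
      Nat.card {C : ConjClasses G // ConjClasses.map e.toMonoidHom C = C} := by
  classical
  let T : Equiv.Perm (ConjClasses G) :=
    { toFun := ConjClasses.map e.toMonoidHom
      invFun := ConjClasses.map e.symm.toMonoidHom
      left_inv := map_classes_symm e
      right_inv := fun C => by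
        obtain ⟨x, rfl⟩ := ConjClasses.exists_rep C
        exact congrArg ConjClasses.mk (e.apply_symm_apply x) }
  let σ : Equiv.Perm (IrrCharacter G) :=
    { toFun := fun χ => ⟨fun x => (χ : G → ℂ) (e.symm x), (isIrrCharacter_comp_equiv e.symm).mpr χ.2⟩
      invFun := fun χ => ⟨fun x => (χ : G → ℂ) (e x), (isIrrCharacter_comp_equiv e).mpr χ.2⟩
      left_inv := fun χ => Subtype.ext (funext fun g => by simp)
      right_inv := fun χ => Subtype.ext (funext fun g => by simp) }
  have h := brauer_perm σ T fun χ x x' hx => by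
    have : IsConj x' (e x) := ConjClasses.mk_eq_mk_iff_isConj.mp hx
    rw [eq_of_isConj (isClassFunction_irr (σ χ)) this]
    exact congrArg (χ : G → ℂ) (e.symm_apply_apply x)
  rw [← show Nat.card {χ : IrrCharacter G // σ χ = χ} =
      Nat.card {χ : IrrCharacter G // (fun x => (χ : G → ℂ) (e x)) = (χ : G → ℂ)} from
    Nat.card_congr (Equiv.subtypeEquivRight fun χ => by
      rw [Subtype.ext_iff]
      show (fun x => (χ : G → ℂ) (e.symm x)) = _ ↔ _
      constructor <;> intro h <;> funext x
      · simpa using (congrFun h (e x)).symm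
      · simpa using (congrFun h (e.symm x)).symm)]
  exact h

/-- Points for the conjugation action. -/
structure ConjPoint (G : Type*) where
  /-- The underlying element. -/
  val : G

instance : MulAction G (ConjPoint G) where
  smul g c := ⟨g * c.val * g⁻¹⟩
  one_smul c := by show ConjPoint.mk (1 * c.val * 1⁻¹) = c; simp
  mul_smul a b c := by
    show ConjPoint.mk (a * b * c.val * (a * b)⁻¹) = ConjPoint.mk (a * (b * c.val * b⁻¹) * a⁻¹)
    simp [mul_assoc]

theorem smul_conjPoint (g c : G) : g • ConjPoint.mk c = ConjPoint.mk (g * c * g⁻¹) := rfl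

variable (K : Subgroup G) [hK : K.Normal]

theorem map_conjNormal_eq_iff (x : G) (c : K) :
    ConjClasses.map ((MulAut.conjNormal x : MulAut K) : K ≃* K).toMonoidHom (ConjClasses.mk c) =
        ConjClasses.mk c ↔
      ∃ k ∈ K, x * (c : G) * x⁻¹ = k * c * k⁻¹ := by
  constructor
  · intro h
    obtain ⟨k, hk⟩ := isConj_iff.mp (ConjClasses.mk_eq_mk_iff_isConj.mp h).symm
    exact ⟨k, k.2, (congrArg Subtype.val hk).symm⟩
  · rintro ⟨k, hk, e⟩
    refine ConjClasses.mk_eq_mk_iff_isConj.mpr (isConj_iff.mpr ⟨⟨k, hk⟩, Subtype.ext ?_⟩).symm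
    exact e.symm

/-- A class fixed by a coprime element contains an element centralised by it. -/
theorem exists_centralized_in_class [Finite G] {x : G}
    (hcop : (orderOf x).Coprime (Nat.card K)) (c : K)
    (hfix : ConjClasses.map ((MulAut.conjNormal x : MulAut K) : K ≃* K).toMonoidHom (ConjClasses.mk c) =
      ConjClasses.mk c) :
    ∃ d : K, ConjClasses.mk d = ConjClasses.mk c ∧ x * (d : G) = d * x := by
  obtain ⟨k₀, hk₀, hk₀e⟩ := (map_conjNormal_eq_iff K x c).mp hfix
  have hmem : x ∈ K ⊔ Subgroup.centralizer ({(c : G)} : Set G) := by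
    have h1 : k₀⁻¹ * x ∈ Subgroup.centralizer ({(c : G)} : Set G) := by
      rw [Subgroup.mem_centralizer_singleton_iff]
      calc k₀⁻¹ * x * (c : G) = k₀⁻¹ * (x * c * x⁻¹) * x := by group
        _ = (c : G) * (k₀⁻¹ * x) := by rw [hk₀e]; group
    have := Subgroup.mul_mem_sup hk₀ h1
    rwa [mul_inv_cancel_left] at this
  have hnorm : Subgroup.zpowers x ≤ Subgroup.normalizer (K : Set G) := by
    intro a _
    rw [Subgroup.normalizer_eq_top]
    exact Subgroup.mem_top a
  obtain ⟨k, hk, hka⟩ := CfsgLib.Coprime.exists_fixed_of_coprime (A := Subgroup.zpowers x) (K := K)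
    hnorm (by rwa [Nat.card_zpowers]) (Or.inl inferInstance) (ConjPoint.mk (c : G))
    (fun a ha => by
      obtain ⟨u, hu, v, hv, rfl⟩ := Subgroup.mem_sup_of_normal_left.mp ((Subgroup.zpowers_le.mpr hmem) ha)
      refine ⟨u, hu, ?_⟩
      rw [Subgroup.mem_centralizer_singleton_iff] at hv
      rw [mul_smul, smul_conjPoint v, hv, mul_inv_cancel_right])
  have hconj : IsConj c (⟨k, hk⟩ * c * (⟨k, hk⟩ : K)⁻¹) := isConj_iff.mpr ⟨⟨k, hk⟩, rfl⟩
  refine ⟨⟨k, hk⟩ * c * (⟨k, hk⟩ : K)⁻¹, (ConjClasses.mk_eq_mk_iff_isConj.mpr hconj).symm, ?_⟩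
  have h := hka x (Subgroup.mem_zpowers x)
  rw [smul_conjPoint, smul_conjPoint, ConjPoint.mk.injEq, mul_inv_eq_iff_eq_mul] at h
  exact h

/-- Two centralised elements of one class are conjugate under the centraliser. -/
theorem exists_centralizer_conj [Finite G] {x : G} (hcop : (orderOf x).Coprime (Nat.card K))
    {c d : K} (hc : x * (c : G) = c * x) (hd : x * (d : G) = d * x)
    (hcd : ConjClasses.mk c = ConjClasses.mk d) :
    ∃ u ∈ K, x * u = u * x ∧ u * (c : G) * u⁻¹ = d := by
  obtain ⟨k, hk⟩ := isConj_iff.mp (ConjClasses.mk_eq_mk_iff_isConj.mp hcd)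
  have hk' : (k : G) * c * (k : G)⁻¹ = d := congrArg Subtype.val hk
  have hnorm : Subgroup.zpowers x ≤ Subgroup.normalizer (K : Set G) := by
    intro a _
    rw [Subgroup.normalizer_eq_top]
    exact Subgroup.mem_top a
  have hfix : ∀ e : G, x * e = e * x → ∀ a ∈ Subgroup.zpowers x, a • ConjPoint.mk e = ConjPoint.mk e := by
    intro e he a ha
    obtain ⟨n, rfl⟩ := Subgroup.mem_zpowers_iff.mp ha
    rw [smul_conjPoint, ((show Commute x e from he).zpow_left n).eq, mul_inv_cancel_right]
  obtain ⟨u, hu, hue⟩ := CfsgLib.Coprime.exists_centralizer_smul (A := Subgroup.zpowers x) (K := K)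
    hnorm (by rwa [Nat.card_zpowers]) (Or.inl inferInstance) (hfix c hc) k.2
    (by rw [smul_conjPoint, hk']; exact hfix d hd)
  rw [smul_conjPoint, smul_conjPoint, ConjPoint.mk.injEq, hk'] at hue
  exact ⟨u, hu.1, hu.2 x (Subgroup.mem_zpowers x), hue⟩

theorem le_of_surjection [Finite G] {x : G} (hcop : (orderOf x).Coprime (Nat.card K))
    (W : Subgroup G) (hW : ∀ d ∈ K, x * d = d * x → d ∈ W) :
    Nat.card {C : ConjClasses K //
      ConjClasses.map ((MulAut.conjNormal x : MulAut K) : K ≃* K).toMonoidHom C = C} ≤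
      Nat.card W := by
  have hex : ∀ C : {C : ConjClasses K //
      ConjClasses.map ((MulAut.conjNormal x : MulAut K) : K ≃* K).toMonoidHom C = C},
      ∃ d : K, ConjClasses.mk d = C.1 ∧ x * (d : G) = d * x := by
    intro C
    obtain ⟨c, hc⟩ := ConjClasses.exists_rep C.1
    obtain ⟨d, h1, h2⟩ := exists_centralized_in_class K hcop c (by rw [hc]; exact C.2)
    exact ⟨d, h1.trans hc, h2⟩
  choose d hd1 hd2 using hex
  refine Nat.card_le_card_of_injective (fun C => (⟨d C, hW _ (d C).2 (hd2 C)⟩ : W)) fun a b e => ?_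
  have e' : d a = d b := Subtype.ext (congrArg (fun w : W => (w : G)) e)
  exact Subtype.ext (by rw [← hd1 a, e', hd1 b])

/-- The fixed classes correspond to an abelian centraliser. -/
theorem card_fixed_classes [Finite G] {x : G} (hcop : (orderOf x).Coprime (Nat.card K))
    (W : Subgroup G) (hW : ∀ d, d ∈ W ↔ d ∈ K ∧ x * d = d * x)
    (hab : ∀ a ∈ W, ∀ b ∈ W, a * b = b * a) :
    Nat.card {C : ConjClasses K //
      ConjClasses.map ((MulAut.conjNormal x : MulAut K) : K ≃* K).toMonoidHom C = C} =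
      Nat.card W := by
  refine le_antisymm (le_of_surjection K hcop W fun d hd hc => (hW d).mpr ⟨hd, hc⟩) ?_
  refine Nat.card_le_card_of_injective
    (fun w => ⟨ConjClasses.mk (⟨w, ((hW w).mp w.2).1⟩ : K),
      (map_conjNormal_eq_iff K x _).mpr ⟨1, K.one_mem, by
        rw [one_mul, inv_one, mul_one]
        show x * (w : G) * x⁻¹ = w
        rw [((hW w).mp w.2).2, mul_inv_cancel_right]⟩⟩) fun a b e => ?_
  obtain ⟨u, hu, hux, hue⟩ := exists_centralizer_conj K hcop
    (c := ⟨a, ((hW a).mp a.2).1⟩) (d := ⟨b, ((hW b).mp b.2).1⟩) ((hW a).mp a.2).2 ((hW b).mp b.2).2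
    (congrArg Subtype.val e)
  have hu' : u ∈ W := (hW u).mpr ⟨hu, hux⟩
  rw [show u * (a : G) = a * u from hab u hu' a a.2, mul_inv_cancel_right] at hue
  exact Subtype.ext hue

end CfsgLib.Char
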