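import Cfsg.Agent.Lib.Char.Projective
import Cfsg.Agent.Lib.Transfer.Basic
import Cfsg.Prelude.Def_Blocks

/-!
# Characters of degree prime to `p` and the `p`-residual
-/

set_option autoImplicit false

namespace CfsgLib.Char.PResidual

open Cfsg
open scoped ComplexConjugate CfsgLib.Char

/-- A group generated by its `p'`-elements has no abelian `p`-quotient. -/
theorem not_dvd_commutator_index {K : Type*} [Group K] [Finite K] (p : ℕ) [hp : Fact p.Prime]
    (hgen : Subgroup.closure {x : K | (orderOf x).Coprime p} = ⊤) : ¬ p ∣ (commutator K).index := by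
  intro h
  haveI : Finite (Abelianization K) := Finite.of_surjective _ QuotientGroup.mk_surjective
  rw [Subgroup.index_eq_card] at h
  obtain ⟨a, ha⟩ := exists_prime_orderOf_dvd_card' (G := Abelianization K) p h
  have hall : ∀ x : K, (orderOf (Abelianization.of x)).Coprime p := by
    intro x
    have hx : x ∈ Subgroup.closure {x : K | (orderOf x).Coprime p} := hgen ▸ Subgroup.mem_top x
    induction hx using Subgroup.closure_induction with
    | mem y hy => exact hy.coprime_dvd_left (orderOf_map_dvd _ y)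
    | one => simp
    | mul y z _ _ hy hz =>
      rw [map_mul]
      exact (hy.mul_left hz).coprime_dvd_left ((Commute.all _ _).orderOf_mul_dvd_mul_orderOf)
    | inv y _ hy => rwa [map_inv, orderOf_inv]
  obtain ⟨x, rfl⟩ := QuotientGroup.mk_surjective a
  have h1 := hall x
  rw [show orderOf (Abelianization.of x) = p from ha] at h1
  exact hp.out.one_lt.ne' ((Nat.coprime_self p).mp h1)

variable {G : Type*} [Group G] [Finite G] {p : ℕ} [hp : Fact p.Prime]

theorem index_eq_pow [(pResidual p G).Normal] : ∃ k : ℕ, (pResidual p G).index = p ^ k := by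
  rw [Subgroup.index_eq_card]
  exact IsPGroup.iff_card.mp Transfer.isPGroup_quotient_pResidual

theorem pResidual_generated : Subgroup.closure {x : pResidual p G | (orderOf x).Coprime p} = ⊤ := by
  rw [eq_top_iff]
  intro x _
  have key : ∀ g (hg : g ∈ Subgroup.closure {g : G | (orderOf g).Coprime p}),
      (⟨g, hg⟩ : pResidual p G) ∈ Subgroup.closure {x : pResidual p G | (orderOf x).Coprime p} := by
    intro g hg
    induction hg using Subgroup.closure_induction with
    | mem y hy =>
      refine Subgroup.subset_closure ?_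
      show (orderOf _).Coprime p
      rw [← Subgroup.orderOf_coe]
      exact hy
    | one => exact Subgroup.one_mem _
    | mul y z _ _ hy hz => exact Subgroup.mul_mem _ hy hz
    | inv y _ hy => exact Subgroup.inv_mem _ hy
  exact key x.1 x.2

theorem detChar_pow_eq_one {K : Type*} [Group K] [Finite K] {θ : K → ℂ} (hθ : IsCharacter K θ)
    (x : K) : detChar θ x ^ (commutator K).index = 1 := by
  obtain ⟨f, hf⟩ := exists_det_hom hθ
  haveI : Finite (Abelianization K) := Finite.of_surjective _ QuotientGroup.mk_surjective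
  have h1 : Abelianization.of x ^ (commutator K).index = 1 := by
    rw [Subgroup.index_eq_card]
    exact pow_card_eq_one'
  rw [hf]
  show ((f x : ℂˣ) : ℂ) ^ (commutator K).index = 1
  rw [← Units.val_pow_eq_pow_val, ← Abelianization.lift_apply_of f x, ← map_pow, h1, map_one,
    Units.val_one]

/-- The invariant characters of degree prime to `p` of the residual extend. -/
theorem exists_extension [(pResidual p G).Normal] {θ : pResidual p G → ℂ}
    (hθ : IsIrrCharacter (pResidual p G) θ) (hinv : ∀ g, conjBy (pResidual p G) θ g = θ) {d : ℕ}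
    (hd : θ 1 = d) (hpd : ¬ p ∣ d) :
    ∃ χ : G → ℂ, IsIrrCharacter G χ ∧ ∀ n : pResidual p G, χ n = θ n := by
  obtain ⟨k, hk⟩ := index_eq_pow (G := G) (p := p)
  refine extends_of_det (pResidual p G) hθ hinv d (commutator (pResidual p G)).index hd 1
    (fun n => ?_) ?_
  · rw [MonoidHom.one_apply, Units.val_one, detChar_pow_eq_one (isCharacter_of_isIrr hθ)]
  · rw [hk]
    exact (hp.out.coprime_iff_not_dvd.mpr fun h => (hp.out.dvd_mul.mp h).elim hpd
      (not_dvd_commutator_index p pResidual_generated)).pow_left k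

/-- A character of degree prime to `p` restricts irreducibly to a normal subgroup of `p`-power
index. -/
theorem restrict_irr [Fintype G] (N : Subgroup G) [N.Normal] [Fintype N] {k : ℕ}
    (hk : N.index = p ^ k) {χ : G → ℂ} (hχ : IsIrrCharacter G χ) {d : ℕ} (hd : χ 1 = d)
    (hpd : ¬ p ∣ d) :
    IsIrrCharacter N (fun n : N => χ n) ∧ ∀ g, conjBy N (fun n : N => χ n) g = fun n : N => χ n := by
  classical
  refine ⟨?_, conjBy_restrict N (isClassFunction_of_isCharacter (isCharacter_of_isIrr hχ))⟩
  obtain ⟨θ, hθ⟩ := exists_constituent N (isCharacter_of_isIrr hχ) (irr_degree_ne_zero hχ)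
  obtain ⟨m, hm, hmdvd⟩ := degree_ratio N θ.2 hχ hθ
  obtain ⟨e, -, he⟩ := exists_nat_degree_irr θ.2
  rw [hd, he, ← Nat.cast_mul] at hm
  rw [hk] at hmdvd
  obtain ⟨j, -, rfl⟩ := (Nat.dvd_prime_pow hp.out).mp hmdvd
  have hj : j = 0 := by
    by_contra hj
    exact hpd (Nat.cast_injective hm ▸ dvd_mul_of_dvd_left (dvd_pow_self p hj) _)
  subst hj
  have h := clifford_degree N hχ θ.2 hθ
  obtain ⟨c, hc⟩ := exists_nat_classInner (isCharacter_restrict N (isCharacter_of_isIrr hχ))
    (isCharacter_of_isIrr θ.2)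
  rw [hd, hm, hc, he, pow_zero, one_mul, ← Nat.cast_mul, ← Nat.cast_mul] at h
  have h' := Nat.cast_injective h
  have he0 : 0 < e := Nat.pos_of_ne_zero fun h0 => irr_degree_ne_zero θ.2 (by rw [he, h0, Nat.cast_zero])
  have h1 : c * (orbit N (θ : N → ℂ)).card = 1 := by
    refine Nat.eq_of_mul_eq_mul_right he0 ?_
    rw [mul_assoc, ← h', one_mul]
  obtain ⟨hc1, ho⟩ := mul_eq_one.mp h1
  have hres := clifford N hχ θ.2 hθ
  obtain ⟨a, ha⟩ := Finset.card_eq_one.mp ho
  have hself := self_mem_orbit N (θ : N → ℂ)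
  rw [ha, Finset.mem_singleton] at hself
  rw [hres, hc, hc1, Nat.cast_one, one_smul, ha, Finset.sum_singleton, ← hself]
  exact θ.2

/-- The order of the residual modulo `p`. -/
theorem card_congr [hn : (pResidual p G).Normal]
    [DecidablePred fun θ : IrrCharacter (pResidual p G) =>
      (∀ g, conjBy (pResidual p G) (θ : pResidual p G → ℂ) g = θ) ∧
        ¬ p ∣ charDegree (θ : pResidual p G → ℂ)] :
    (Nat.card (pResidual p G) : ZMod p) =
      ∑ θ : IrrCharacter (pResidual p G),
        if ((∀ g, conjBy (pResidual p G) (θ : pResidual p G → ℂ) g = θ) ∧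
          ¬ p ∣ charDegree (θ : pResidual p G → ℂ)) then (charDegree (θ : pResidual p G → ℂ) : ZMod p) ^ 2
        else 0 := by
  classical
  set K := pResidual p G with hK
  haveI : Fintype K := Fintype.ofFinite _
  haveI : Fintype G := Fintype.ofFinite _
  have hcd : ∀ θ : IrrCharacter K, (θ : K → ℂ) 1 = (charDegree (θ : K → ℂ) : ℕ) := fun θ => by
    obtain ⟨e, -, he⟩ := exists_nat_degree_irr θ.2
    rw [show charDegree (θ : K → ℂ) = e by simp [charDegree, he]]
    exact he
  obtain ⟨P⟩ : Nonempty (Sylow p G) := inferInstance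
  let X := Σ θ : IrrCharacter K, Fin (charDegree (θ : K → ℂ) * charDegree (θ : K → ℂ))
  have hdeg : ∀ (θ : IrrCharacter K) (g : G),
      charDegree (conjBy K (θ : K → ℂ) g) = charDegree (θ : K → ℂ) := fun θ g => by
    simp only [charDegree, conjBy_apply_one]
  let act : ↥(P : Subgroup G) → X → X := fun g x =>
    ⟨⟨conjBy K (x.1 : K → ℂ) (g : G)⁻¹, isIrrCharacter_conjBy K x.1.2 _⟩,
      Fin.cast (by rw [hdeg x.1 _]) x.2⟩
  have hext : ∀ x y : X, (x.1 : K → ℂ) = (y.1 : K → ℂ) → (x.2 : ℕ) = (y.2 : ℕ) → x = y := by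
    rintro ⟨a, i⟩ ⟨b, j⟩ h1 h2
    obtain rfl : a = b := Subtype.ext h1
    obtain rfl : i = j := Fin.ext h2
    rfl
  letI : MulAction (P : Subgroup G) X :=
    { smul := act
      one_smul := fun x => hext _ _ (by
        show conjBy K (x.1 : K → ℂ) ((1 : (P : Subgroup G)) : G)⁻¹ = _
        rw [OneMemClass.coe_one, inv_one, conjBy_one]) rfl
      mul_smul := fun a b x => hext _ _ (by
        show conjBy K (x.1 : K → ℂ) ((a * b : (P : Subgroup G)) : G)⁻¹ =
          conjBy K (conjBy K (x.1 : K → ℂ) (b : G)⁻¹) (a : G)⁻¹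
        rw [Subgroup.coe_mul, mul_inv_rev, conjBy_mul]) rfl }
  have hmod := P.2.card_modEq_card_fixedPoints X
  have hsum : Nat.card X = Nat.card K := by
    rw [Nat.card_eq_fintype_card, Fintype.card_sigma]
    have : ((∑ θ : IrrCharacter K, charDegree (θ : K → ℂ) * charDegree (θ : K → ℂ) : ℕ) : ℂ) =
        ((Nat.card K : ℕ) : ℂ) := by
      rw [Nat.cast_sum, Finset.sum_congr rfl fun θ _ => by rw [Nat.cast_mul, ← hcd θ]]
      simpa using sum_degree_mul_irr (G := K) 1
    simpa using Nat.cast_injective this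
  have hinv : ∀ θ : IrrCharacter K,
      (∀ g : (P : Subgroup G), conjBy K (θ : K → ℂ) (g : G)⁻¹ = θ) ↔
        (∀ g, conjBy K (θ : K → ℂ) g = θ) := by
    intro θ
    refine ⟨fun h g => ?_, fun h g => h _⟩
    obtain ⟨x, hx, k, hk, rfl⟩ : ∃ x ∈ (P : Subgroup G), ∃ k ∈ K, x * k = g := by
      have : g ∈ (P : Subgroup G) ⊔ K := by
        rw [hK, Transfer.sylow_sup_pResidual P]; trivial
      exact Subgroup.mem_sup_of_normal_right.mp this
    rw [conjBy_mul]
    have hx' := h ⟨x⁻¹, (P : Subgroup G).inv_mem hx⟩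
    rw [Subtype.coe_mk, inv_inv] at hx'
    rw [hx']
    exact conjBy_mem K (isClassFunction_irr θ) hk
  let F : MulAction.fixedPoints (P : Subgroup G) X ≃
      Σ θ : {θ : IrrCharacter K // ∀ g, conjBy K (θ : K → ℂ) g = θ},
        Fin (charDegree (θ.1 : K → ℂ) * charDegree (θ.1 : K → ℂ)) :=
    { toFun := fun x => ⟨⟨x.1.1, (hinv _).mp fun g =>
        congrArg (fun y : X => (y.1 : K → ℂ)) (x.2 g)⟩, x.1.2⟩
      invFun := fun y => ⟨⟨y.1.1, y.2⟩, fun g => hext _ _ ((hinv _).mpr y.1.2 g) rfl⟩
      left_inv := fun x => rfl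
      right_inv := fun y => rfl }
  rw [hsum, Nat.card_congr F, Nat.card_sigma] at hmod
  simp only [Nat.card_eq_fintype_card (α := Fin _), Fintype.card_fin] at hmod
  have h' := (ZMod.natCast_eq_natCast_iff _ _ _).mpr hmod
  rw [Nat.cast_sum] at h'
  rw [h', ← Finset.sum_filter, ← Finset.sum_subtype
    (Finset.univ.filter fun θ : IrrCharacter K => ∀ g, conjBy K (θ : K → ℂ) g = θ)
    (p := fun θ : IrrCharacter K => ∀ g, conjBy K (θ : K → ℂ) g = θ) (fun θ => by simp)
    (fun θ => ((charDegree (θ : K → ℂ) * charDegree (θ : K → ℂ) : ℕ) : ZMod p))]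
  simp only [Nat.cast_mul]; simp only [← sq]
  refine (Finset.sum_subset (fun θ hθ => ?_) fun θ hθ hθ' => ?_).symm
  · simp only [Finset.mem_filter, Finset.mem_univ, true_and] at hθ ⊢
    exact hθ.1
  · simp only [Finset.mem_filter, Finset.mem_univ, true_and] at hθ hθ'
    have : p ∣ charDegree (θ : K → ℂ) := by_contra fun h => hθ' ⟨hθ, h⟩
    rw [(ZMod.natCast_eq_zero_iff _ _).mpr this, zero_pow two_ne_zero]

end CfsgLib.Char.PResidual
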