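import Cfsg.Agent.Lib.Char.Extraspecial
import Cfsg.Agent.Lib.Char.PResidual
import Cfsg.Agent.Lib.Char.AutClasses
import Cfsg.Agent.Lib.PSolvable.Core

/-!
# Itô's theorem for p-solvable groups
-/

set_option autoImplicit false

namespace CfsgLib.Char.ItoMichler

open Cfsg
open scoped ComplexConjugate CfsgLib.Char

/-- A subgroup meeting every class is the whole group. -/
theorem eq_top_of_meets_classes {K : Type*} [Group K] [Finite K] (C : Subgroup K)
    (h : ∀ g : K, ∃ k : K, ∃ c ∈ C, k * c * k⁻¹ = g) : C = ⊤ := by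
  classical
  haveI : Fintype K := Fintype.ofFinite K
  have key : ∀ g : {g : K // g ≠ 1}, ∃ y : (K ⧸ C) × {c : C // c ≠ 1},
      y.1.out * ((y.2.1 : C) : K) * y.1.out⁻¹ = g := by
    rintro ⟨g, hg⟩
    obtain ⟨k, c, hc, hkc⟩ := h g
    obtain ⟨d, hd⟩ := QuotientGroup.mk_out_eq_mul C k
    refine ⟨(QuotientGroup.mk k, ⟨⟨(d : K)⁻¹ * c * d, C.mul_mem (C.mul_mem (C.inv_mem d.2) hc) d.2⟩, ?_⟩), ?_⟩
    · intro e
      have e' : (d : K)⁻¹ * c * d = 1 := congrArg Subtype.val e
      have hc1 : c = 1 := by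
        rw [show c = (d : K) * ((d : K)⁻¹ * c * d) * (d : K)⁻¹ by group, e']; group
      exact hg (by rw [← hkc, hc1]; group)
    · show (QuotientGroup.mk k : K ⧸ C).out * ((d : K)⁻¹ * c * d) * (QuotientGroup.mk k : K ⧸ C).out⁻¹ = g
      rw [hd, ← hkc]
      group
  choose F hF using key
  have hle := Nat.card_le_card_of_injective F fun a b e => Subtype.ext (by rw [← hF a, e, hF b])
  rw [Nat.card_prod, Nat.card_eq_fintype_card, Fintype.card_subtype_compl,
    Nat.card_eq_fintype_card (α := {c : C // c ≠ 1}), Fintype.card_subtype_compl,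
    Fintype.card_subtype_eq, Fintype.card_subtype_eq, ← Nat.card_eq_fintype_card,
    ← Nat.card_eq_fintype_card, ← Subgroup.index_eq_card, Nat.mul_sub, mul_one,
    C.index_mul_card] at hle
  rw [← Subgroup.index_eq_one]
  have h1 : C.index ≤ Nat.card K := Nat.le_of_dvd Nat.card_pos (Subgroup.index_dvd_card C)
  have h2 : C.index ≠ 0 := Subgroup.index_ne_zero_of_finite
  omega

variable {G : Type*} [Group G] [Finite G]

/-- A coprime element fixing every class centralises. -/
theorem commute_of_fixes_classes (K : Subgroup G) [K.Normal] {x : G}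
    (hcop : (orderOf x).Coprime (Nat.card K))
    (hfix : ∀ c : K, ∃ k ∈ K, x * (c : G) * x⁻¹ = k * c * k⁻¹) :
    ∀ c ∈ K, x * c = c * x := by
  set C := (Subgroup.centralizer ({x} : Set G)).subgroupOf K with hC
  have htop : C = ⊤ := by
    refine eq_top_of_meets_classes C fun g => ?_
    obtain ⟨d, hd, hdx⟩ := exists_centralized_in_class K hcop g ((map_conjNormal_eq_iff K x g).mpr (hfix g))
    obtain ⟨k, hk⟩ := isConj_iff.mp (ConjClasses.mk_eq_mk_iff_isConj.mp hd)
    exact ⟨k, d, Subgroup.mem_centralizer_singleton_iff.mpr hdx.symm, hk⟩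
  intro c hc
  have : (⟨c, hc⟩ : K) ∈ C := htop ▸ Subgroup.mem_top _
  exact (Subgroup.mem_centralizer_singleton_iff.mp this).symm

/-- Normal subgroups inherit the condition on degrees. -/
theorem degrees_normal {p : ℕ} (N : Subgroup G) [N.Normal]
    (h : ∀ (χ : IrrCharacter G) (d : ℕ), (χ : G → ℂ) 1 = d → ¬ p ∣ d)
    (θ : IrrCharacter N) (d : ℕ) (hd : (θ : N → ℂ) 1 = d) : ¬ p ∣ d := by
  classical
  haveI : Fintype G := Fintype.ofFinite G
  haveI : Fintype N := Fintype.ofFinite N
  obtain ⟨χ, hχ⟩ : ∃ χ : IrrCharacter G, classInner (fun n : N => (χ : G → ℂ) n) (θ : N → ℂ) ≠ 0 := by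
    by_contra hc
    push_neg at hc
    have he := classFunction_expansion (isClassFunction_indFun N (θ : N → ℂ))
    have h0 : indFun N (θ : N → ℂ) 1 = 0 := by
      rw [congrFun he 1, Finset.sum_apply]
      refine Finset.sum_eq_zero fun χ _ => ?_
      rw [frobenius_reciprocity N _ (isClassFunction_irr χ), ← classInner_conj_symm, hc χ]
      simp
    rw [indFun_one] at h0
    rcases mul_eq_zero.mp h0 with e | e
    · exact Subgroup.index_ne_zero_of_finite (Nat.cast_eq_zero.mp e)
    · exact irr_degree_ne_zero θ.2 e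
  obtain ⟨k, hk, -⟩ := degree_ratio N θ.2 χ.2 hχ
  obtain ⟨e, -, he⟩ := exists_nat_degree_irr χ.2
  rw [he, hd, ← Nat.cast_mul] at hk
  exact fun hpd => h χ e he (Nat.cast_injective hk ▸ hpd.mul_left k)

/-- The theorem. -/
theorem aux (p : ℕ) [hp : Fact p.Prime] :
    ∀ n : ℕ, ∀ (G : Type*) [Group G] [Finite G], Nat.card G = n → IsPSolvable p G →
      (∀ (χ : IrrCharacter G) (d : ℕ), (χ : G → ℂ) 1 = d → ¬ p ∣ d) →
      ∃ P : Subgroup G, P.Normal ∧ IsPGroup p P ∧ ¬ p ∣ P.index ∧
        ∀ a ∈ P, ∀ b ∈ P, a * b = b * a := by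
  classical
  intro n
  induction n using Nat.strong_induction_on with
  | _ n ih =>
  intro G _ _ hn hsol hdeg
  haveI : Fintype G := Fintype.ofFinite G
  rcases subsingleton_or_nontrivial G with hs | hnt
  · refine ⟨⊥, inferInstance, IsPGroup.of_bot, ?_, fun a _ b _ => Subsingleton.elim _ _⟩
    rw [Subgroup.index_bot, Nat.card_of_subsingleton (1 : G)]
    exact hp.out.not_dvd_one
  obtain ⟨N, hNn, hNtop, hfac⟩ : ∃ N : Subgroup G, N.Normal ∧ N ≠ ⊤ ∧
      ((∃ m, N.index = p ^ m) ∨ N.index.Coprime p) := by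
    obtain ⟨m, H, h0, hlast, hmono, hnorm, hf⟩ := hsol
    have hne : (Finset.univ.filter fun i : Fin (m + 1) => H i ≠ ⊤).Nonempty :=
      ⟨0, Finset.mem_filter.mpr ⟨Finset.mem_univ _, by rw [h0]; exact bot_ne_top⟩⟩
    set i := Finset.max' _ hne with hi
    have him := (Finset.mem_filter.mp (Finset.max'_mem _ hne)).2
    have hilast : i ≠ Fin.last m := fun e => him (by rw [← hi, e]; exact hlast)
    obtain ⟨j, hj⟩ : ∃ j : Fin m, j.castSucc = i := ⟨i.castPred hilast, Fin.castSucc_castPred _ _⟩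
    have hsucc : H j.succ = ⊤ := by
      by_contra hc
      have := Finset.le_max' (Finset.univ.filter fun i : Fin (m + 1) => H i ≠ ⊤) j.succ (Finset.mem_filter.mpr ⟨Finset.mem_univ _, hc⟩)
      rw [← hi, ← hj] at this
      exact absurd this (not_le.mpr (Fin.castSucc_lt_succ (i := j)))
    refine ⟨H i, hnorm i, him, ?_⟩
    have := hf j
    rw [hsucc, Subgroup.relIndex_top_right, hj] at this
    exact this
  haveI := hNn
  have hlt : Nat.card N < n := by
    rw [← hn]
    refine lt_of_le_of_ne (Nat.le_of_dvd Nat.card_pos (Subgroup.card_subgroup_dvd_card N)) fun e => ?_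
    exact hNtop (Subgroup.eq_top_of_card_eq N e)
  obtain ⟨Q, hQn, hQp, hQidx, hQab⟩ := ih _ hlt N rfl (PSolvable.isPSolvable_subgroup N hsol)
    (fun θ d hd => degrees_normal N hdeg θ d hd)
  set Q' : Subgroup G := Q.map N.subtype with hQ'
  have hQ'p : IsPGroup p Q' := hQp.map _
  -- the Sylow subgroup of the normal subgroup is normal
  have hQ'n : Q'.Normal := by
    constructor
    rintro _ ⟨⟨a, haN⟩, ha, rfl⟩ g
    refine ⟨⟨g * a * g⁻¹, hNn.conj_mem a haN g⟩, ?_, rfl⟩
    haveI := hQn
    let S : Sylow p N := IsPGroup.toSylow hQp hQidx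
    haveI : (S : Subgroup N).Normal := by rw [IsPGroup.toSylow_coe]; exact hQn
    obtain ⟨k, hk⟩ := hQp ⟨_, ha⟩
    have hk' : (⟨g * a * g⁻¹, hNn.conj_mem a haN g⟩ : N) ^ p ^ k = 1 := by
      refine Subtype.ext ?_
      rw [SubmonoidClass.coe_pow]
      show (g * a * g⁻¹) ^ p ^ k = 1
      rw [conj_pow, show a ^ p ^ k = 1 from congrArg Subtype.val (congrArg Subtype.val hk), mul_one,
        mul_inv_cancel]
    have hz : IsPGroup p (Subgroup.zpowers (⟨g * a * g⁻¹, hNn.conj_mem a haN g⟩ : N)) := by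
      rw [IsPGroup.iff_card]
      obtain ⟨j, -, hj⟩ := (Nat.dvd_prime_pow hp.out).mp (orderOf_dvd_of_pow_eq_one hk')
      exact ⟨j, by rw [Nat.card_zpowers, hj]⟩
    obtain ⟨T, hT⟩ := hz.exists_le_sylow
    have hTS : T = S := (Sylow.unique_of_normal S inferInstance).instSubsingleton.elim T S
    have := hT (Subgroup.mem_zpowers _)
    rw [hTS, IsPGroup.toSylow_coe] at this
    exact this
  haveI := hQ'n
  obtain ⟨P, hP⟩ : ∃ P : Sylow p G, Q' ≤ (P : Subgroup G) := hQ'p.exists_le_sylow
  have hcardQ : Nat.card Q' = Nat.card Q := Subgroup.card_map_of_injective N.subtype_injective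
  have hidx : Q'.index = Q.index * N.index := by
    rw [hQ', Subgroup.index_map, N.subtype.ker_eq_bot_iff.mpr N.subtype_injective, sup_bot_eq,
      Subgroup.range_subtype]
  have hPn : (P : Subgroup G).Normal := by
    rcases hfac with ⟨m, hm⟩ | hcop
    · have hmk : ∀ x ∈ (P : Subgroup G), ∀ c ∈ N, x * c * x⁻¹ * c⁻¹ ∈ Q' := by
        intro x hx c hc
        set π := QuotientGroup.mk' Q' with hπ
        set K := N.map π with hK
        haveI : K.Normal := hNn.map π (QuotientGroup.mk'_surjective _)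
        have hKcard : Nat.card K ∣ Q.index := by
          have h1 : Nat.card K * Nat.card Q' ∣ Nat.card N := by
            have h2 := Subgroup.card_eq_card_quotient_mul_card_subgroup (π.comp N.subtype).ker
            rw [Nat.card_congr (QuotientGroup.quotientKerEquivRange (π.comp N.subtype)).toEquiv,
              MonoidHom.range_comp, Subgroup.range_subtype, ← hK] at h2
            rw [h2]
            refine mul_dvd_mul_left _ ?_
            rw [hcardQ]
            refine Subgroup.card_dvd_of_le fun y hy => ?_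
            rw [MonoidHom.mem_ker, MonoidHom.comp_apply, hπ, QuotientGroup.mk'_apply,
              QuotientGroup.eq_one_iff]
            exact Subgroup.mem_map_of_mem _ hy
          rw [hcardQ, ← Q.card_mul_index, mul_comm] at h1
          exact Nat.dvd_of_mul_dvd_mul_left Nat.card_pos h1
        have hord : (orderOf (π x)).Coprime (Nat.card K) := by
          obtain ⟨j, hj⟩ := P.2 ⟨x, hx⟩
          have : orderOf (π x) ∣ p ^ j := orderOf_dvd_of_pow_eq_one (by
            rw [← map_pow, show x ^ p ^ j = 1 from congrArg Subtype.val hj, map_one])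
          exact ((((hp.out.coprime_iff_not_dvd).mpr hQidx).pow_left j).coprime_dvd_left this).coprime_dvd_right hKcard
        have hall : ∀ d : N, ∃ k ∈ N, x * (d : G) * x⁻¹ = k * d * k⁻¹ := by
          intro d
          refine (map_conjNormal_eq_iff N x d).mp ?_
          refine ConjClasses.mk_eq_mk_iff_isConj.mpr ((isConj_iff_irr_agree _ _).mpr fun θ => ?_)
          haveI : Fintype N := Fintype.ofFinite N
          obtain ⟨χ, hχ⟩ : ∃ χ : IrrCharacter G,
              classInner (fun n : N => (χ : G → ℂ) n) (θ : N → ℂ) ≠ 0 := by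
            by_contra hc'
            push_neg at hc'
            have he := classFunction_expansion (isClassFunction_indFun N (θ : N → ℂ))
            have h0 : indFun N (θ : N → ℂ) 1 = 0 := by
              rw [congrFun he 1, Finset.sum_apply]
              refine Finset.sum_eq_zero fun χ _ => ?_
              rw [frobenius_reciprocity N _ (isClassFunction_irr χ), ← classInner_conj_symm, hc' χ]
              simp
            rw [indFun_one] at h0
            rcases mul_eq_zero.mp h0 with e | e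
            · exact Subgroup.index_ne_zero_of_finite (Nat.cast_eq_zero.mp e)
            · exact irr_degree_ne_zero θ.2 e
          obtain ⟨dd, -, hdd⟩ := exists_nat_degree_irr χ.2
          obtain ⟨hirr, -⟩ := PResidual.restrict_irr N hm χ.2 hdd (hdeg χ dd hdd)
          have hθ : (θ : N → ℂ) = fun n : N => (χ : G → ℂ) n := by
            by_contra hne
            exact hχ (classInner_irr_ne hirr θ.2 fun e => hne e.symm)
          rw [hθ]
          show (χ : G → ℂ) (x * (d : G) * x⁻¹) = (χ : G → ℂ) d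
          exact isClassFunction_irr χ d x
        have hfix : ∀ d : K, ∃ k ∈ K, π x * (d : G ⧸ Q') * (π x)⁻¹ = k * d * k⁻¹ := by
          rintro ⟨_, d, hd, rfl⟩
          obtain ⟨k, hk, hkd⟩ := hall ⟨d, hd⟩
          exact ⟨π k, Subgroup.mem_map_of_mem π hk, by
            show π x * π d * (π x)⁻¹ = π k * π d * (π k)⁻¹
            rw [← map_inv, ← map_inv, ← map_mul, ← map_mul, ← map_mul, ← map_mul]
            exact congrArg π hkd⟩
        have h := commute_of_fixes_classes K hord hfix (π c) (Subgroup.mem_map_of_mem π hc)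
        rw [← QuotientGroup.eq_one_iff]
        show π (x * c * x⁻¹ * c⁻¹) = 1
        rw [map_mul, map_mul, map_mul, h, map_inv, map_inv, mul_inv_cancel_right, mul_inv_cancel]
      have htop : (P : Subgroup G) ⊔ N = ⊤ := by
        refine Subgroup.index_eq_one.mp ?_
        have h1 : ((P : Subgroup G) ⊔ N).index ∣ p ^ m := hm ▸ Subgroup.index_dvd_of_le le_sup_right
        have h2 : ((P : Subgroup G) ⊔ N).index ∣ (P : Subgroup G).index :=
          Subgroup.index_dvd_of_le le_sup_left
        exact Nat.eq_one_of_dvd_coprimes ((hp.out.coprime_iff_not_dvd.mpr P.not_dvd_index).pow_left m) h1 h2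
      refine ⟨fun y hy g => ?_⟩
      obtain ⟨a, ha, b, hb, rfl⟩ :=
        Subgroup.mem_sup_of_normal_right.mp (show g ∈ (P : Subgroup G) ⊔ N by rw [htop]; trivial)
      have h1 := hP (hmk y hy b hb)
      have h2 : b * y * b⁻¹ = (y * b * y⁻¹ * b⁻¹)⁻¹ * y := by group
      rw [show a * b * y * (a * b)⁻¹ = a * (b * y * b⁻¹) * a⁻¹ by group, h2]
      exact Subgroup.mul_mem _ (Subgroup.mul_mem _ ha
        (Subgroup.mul_mem _ (Subgroup.inv_mem _ h1) hy)) (Subgroup.inv_mem _ ha)
    · have hdvd : ¬ p ∣ Q'.index := by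
        rw [hidx]
        exact fun h => (hp.out.dvd_mul.mp h).elim hQidx fun h' =>
          hp.out.one_lt.ne' (Nat.eq_one_of_dvd_coprimes hcop h' dvd_rfl)
      have : (IsPGroup.toSylow hQ'p hdvd : Subgroup G) = (P : Subgroup G) :=
        (IsPGroup.toSylow hQ'p hdvd).3 P.2 (by rw [IsPGroup.toSylow_coe]; exact hP) |>.symm
      rw [← this, IsPGroup.toSylow_coe]
      exact hQ'n
  haveI := hPn
  refine ⟨P, hPn, P.2, P.not_dvd_index, fun a ha b hb => ?_⟩
  -- all characters of the Sylow subgroup are linear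
  have hlin : ∀ ψ : IrrCharacter (P : Subgroup G), (ψ : ↥(P : Subgroup G) → ℂ) 1 = 1 := by
    intro ψ
    obtain ⟨d, hd, -, hdvd⟩ := exists_degree_dvd_card ψ.2
    obtain ⟨k, hk⟩ := IsPGroup.iff_card.mp P.2
    rw [hk] at hdvd
    obtain ⟨j, -, rfl⟩ := (Nat.dvd_prime_pow hp.out).mp hdvd
    rcases j with _ | j
    · simpa using hd
    · exact absurd (dvd_pow_self p (Nat.succ_ne_zero j)) (degrees_normal (P : Subgroup G) hdeg ψ _ hd)
  have hall : ∀ ψ : IrrCharacter (P : Subgroup G),
      (ψ : ↥(P : Subgroup G) → ℂ) ((⟨b, hb⟩ * ⟨a, ha⟩)⁻¹ * (⟨a, ha⟩ * ⟨b, hb⟩))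
        = (ψ : ↥(P : Subgroup G) → ℂ) 1 := by
    intro ψ
    set f := linearHom (isCharacter_of_isIrr ψ.2) (hlin ψ)
    rw [← linearHom_apply (isCharacter_of_isIrr ψ.2) (hlin ψ),
      ← linearHom_apply (isCharacter_of_isIrr ψ.2) (hlin ψ)]
    simp only [map_mul, map_inv, map_one]
    rw [mul_comm (f ⟨a, ha⟩)]
    simp [f]
  exact congrArg Subtype.val (inv_mul_eq_one.mp (eq_one_of_forall_irr hall)).symm

/-- Degrees are prime to `p` if a Sylow subgroup is normal and abelian. -/
theorem not_dvd_of_normal_abelian {p : ℕ} (P : Subgroup G) [P.Normal]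
    (hab : ∀ a ∈ P, ∀ b ∈ P, a * b = b * a) (hidx : ¬ p ∣ P.index) (χ : IrrCharacter G) :
    ¬ p ∣ charDegree (χ : G → ℂ) := by
  obtain ⟨d, -, hd⟩ := exists_nat_degree_irr χ.2
  rw [Extraspecial.charDegree_eq hd]
  exact fun h => hidx (h.trans (Extraspecial.ito χ.2 P hab hd))

end CfsgLib.Char.ItoMichler
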