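import Mathlib.FieldTheory.IsAlgClosed.Classification
import Mathlib.Analysis.Complex.Polynomial.Basic
import Cfsg.Agent.Lib.Char.Galois

/-!
# Embeddings of the algebraic numbers extend to automorphisms of the complex field
-/

set_option autoImplicit false
set_option linter.style.haveILetI false

namespace CfsgLib.Char

/-- Every embedding of the algebraic numbers extends to an automorphism of `ℂ`. -/
theorem exists_ringEquiv_extend (ψ : QBar →ₐ[ℚ] ℂ) :
    ∃ σ : ℂ ≃+* ℂ, ∀ z : QBar, σ (z : ℂ) = ψ z := by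
  have hmem : ∀ z : QBar, ψ z ∈ QBar := fun z => by
    refine (mem_algebraicClosure_iff (F := ℚ) (E := ℂ)).mpr ?_
    exact (Algebra.IsAlgebraic.isAlgebraic z).algHom ψ
  let τ₀ : QBar →ₐ[ℚ] QBar := ψ.codRestrict QBar.toSubalgebra hmem
  have hτ : Function.Bijective τ₀ := Algebra.IsAlgebraic.algHom_bijective τ₀
  let τ : QBar ≃+* QBar := (AlgEquiv.ofBijective τ₀ hτ).toRingEquiv
  obtain ⟨s, hs⟩ := exists_isTranscendenceBasis QBar ℂ
  set v : s → ℂ := ((↑) : s → ℂ)
  letI := IsAlgClosed.isAlgClosure_of_transcendence_basis v hs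
  let e : Algebra.adjoin QBar (Set.range v) ≃+* Algebra.adjoin QBar (Set.range v) :=
    hs.1.aevalEquiv.symm.toRingEquiv.trans
      ((MvPolynomial.mapEquiv s τ).trans hs.1.aevalEquiv.toRingEquiv)
  refine ⟨IsAlgClosure.equivOfEquiv ℂ ℂ e, fun z => ?_⟩
  have h1 : (algebraMap (Algebra.adjoin QBar (Set.range v)) ℂ)
      (algebraMap QBar (Algebra.adjoin QBar (Set.range v)) z) = (z : ℂ) := rfl
  rw [← h1, IsAlgClosure.equivOfEquiv_algebraMap]
  show (algebraMap (Algebra.adjoin QBar (Set.range v)) ℂ)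
    (hs.1.aevalEquiv (MvPolynomial.mapEquiv s τ (hs.1.aevalEquiv.symm
      (algebraMap QBar (Algebra.adjoin QBar (Set.range v)) z)))) = _
  rw [AlgEquiv.commutes hs.1.aevalEquiv.symm, MvPolynomial.algebraMap_eq, MvPolynomial.mapEquiv_apply,
    MvPolynomial.map_C, ← MvPolynomial.algebraMap_eq, AlgEquiv.commutes hs.1.aevalEquiv]
  rfl

/-- A ring automorphism of `ℂ` restricted to the algebraic numbers. -/
noncomputable def restrictQBar (σ : ℂ ≃+* ℂ) : QBar →ₐ[ℚ] ℂ :=
  ((σ.toRingHom).comp QBar.val.toRingHom).toRatAlgHom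

theorem restrictQBar_apply (σ : ℂ ≃+* ℂ) (z : QBar) : restrictQBar σ z = σ (z : ℂ) := rfl

end CfsgLib.Char
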