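import Cfsg.Agent.Lib.Char.Gallagher
import Cfsg.Agent.Lib.Char.ExtendChar

/-!
# Coset averages against an extension
-/

set_option autoImplicit false

namespace CfsgLib.Char

open Cfsg
open scoped ComplexConjugate CfsgLib.Char

variable {G : Type*} [Group G] [Fintype G] (N : Subgroup G) [hN : N.Normal] [Fintype N]
  {θ : N → ℂ} {η : G → ℂ}

/-- Multiplying an extension of `θ` by a character of the quotient. -/
theorem extension_mul_isIrr (hθ : IsIrrCharacter N θ) (hη : IsIrrCharacter G η)
    (hext : ∀ n : N, η n = θ n) {b : G → ℂ} (hb : IsIrrCharacter G b) (hbN : avgN N b = b) :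
    IsIrrCharacter G (b * η) ∧ (b * η = η → b = fun _ => 1) ∧
      classInner (fun n : N => (b * η) n) θ = b 1 := by
  classical
  have hθ' : θ = fun n : N => η n := funext fun n => (hext n).symm
  have hinv : ∀ g, conjBy N θ g = θ := by
    rw [hθ']
    exact conjBy_restrict N (isClassFunction_of_isCharacter (isCharacter_of_isIrr hη))
  have h1 : (fun _ => (1 : ℂ)) * θ = θ := funext fun n => one_mul _
  have hbij := gallagher N (φ := fun _ => 1) (θ := θ) isIrrCharacter_one (fun g => rfl) hinv
    (by rw [h1]; exact hθ) hη hext
  rw [h1] at hbij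
  have hconst : ∀ n : N, b n = b 1 := by
    intro n
    rcases avgN_dichotomy N hb with ⟨-, hc⟩ | ⟨h0, -⟩
    · simpa using hc n 1
    · rw [hbN] at h0
      exact absurd (congrFun h0 1) (irr_degree_ne_zero hb)
  have hmem : ∀ c : G → ℂ, IsIrrCharacter G c → (∀ n : N, c n = c 1) →
      c ∈ {β : G → ℂ | IsIrrCharacter G β ∧ classInner (indFun N fun _ => 1) β ≠ 0} := by
    intro c hc hcc
    refine ⟨hc, ?_⟩
    rw [frobenius_reciprocity N _ (isClassFunction_of_isCharacter (isCharacter_of_isIrr hc))]
    simp [classInner, hcc, irr_degree_ne_zero hc]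
  refine ⟨(hbij.mapsTo (hmem b hb hconst)).1, fun e => ?_, ?_⟩
  · exact hbij.injOn (hmem b hb hconst) (hmem _ isIrrCharacter_one fun _ => rfl)
      (e.trans (funext fun g => (one_mul (η g)).symm))
  · rw [show (fun n : N => (b * η) n) = b 1 • θ from funext fun n => by
      simp [hconst n, hext n], classInner_smul_left, classInner_irr_self hθ, mul_one]

/-- Orthogonality on cosets between an extension and characters not over `θ`. -/
theorem avgN_mul_conj_extension_eq_zero (hθ : IsIrrCharacter N θ) (hη : IsIrrCharacter G η)
    (hext : ∀ n : N, η n = θ n) {r : G → ℂ} (hr : IsCharacter G r)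
    (h0 : classInner (fun n : N => r n) θ = 0) : avgN N (fun g => r g * conj (η g)) = 0 := by
  classical
  have hcl : IsClassFunction G (fun g => r g * conj (η g)) := fun g h => by
    simp only [isClassFunction_of_isCharacter hr g h,
      isClassFunction_of_isCharacter (isCharacter_of_isIrr hη) g h]
  rw [classFunction_expansion (isClassFunction_avgN N hcl)]
  refine Finset.sum_eq_zero fun b _ => ?_
  rw [classInner_avgN]
  rcases avgN_dichotomy N b.2 with ⟨hbN, -⟩ | ⟨hbN, -⟩
  · obtain ⟨hirr, -, hres⟩ := extension_mul_isIrr N hθ hη hext b.2 hbN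
    rw [hbN, show classInner (fun g => r g * conj (η g)) (b : G → ℂ) =
      classInner r ((b : G → ℂ) * η) by
        simp only [classInner, Pi.mul_apply, map_mul]
        congr 1
        exact Finset.sum_congr rfl fun g _ => by ring]
    obtain ⟨m, hm⟩ := exists_multiplicities hr
    set ω : IrrCharacter G := ⟨(b : G → ℂ) * η, hirr⟩
    suffices hmω : m ω = 0 by
      rw [show (b : G → ℂ) * η = (ω : G → ℂ) from rfl, hm, classInner_sum_smul_irr, hmω]
      simp
    choose k hk using fun ξ : IrrCharacter G => exists_nat_classInner
      (isCharacter_restrict N (isCharacter_of_isIrr ξ.2)) (isCharacter_of_isIrr hθ)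
    have h := h0
    rw [show (fun n : N => r n) = ∑ ξ : IrrCharacter G, (m ξ : ℂ) • fun n : N => (ξ : G → ℂ) n from
      funext fun n => by rw [hm]; simp, classInner_sum_left] at h
    simp only [classInner_smul_left, hk] at h
    have h' : ∑ ξ, m ξ * k ξ = 0 := by exact_mod_cast h
    refine (mul_eq_zero.mp ((Finset.sum_eq_zero_iff.mp h') ω (Finset.mem_univ _))).resolve_right ?_
    intro hkω
    have := (hk ω).symm.trans hres
    rw [hkω, Nat.cast_zero] at this
    exact irr_degree_ne_zero b.2 this.symm
  · rw [hbN, classInner_zero_right, zero_smul]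

/-- An extension has norm one on every coset. -/
theorem avgN_mul_conj_extension_self (hθ : IsIrrCharacter N θ) (hη : IsIrrCharacter G η)
    (hext : ∀ n : N, η n = θ n) : avgN N (fun g => η g * conj (η g)) = fun _ => 1 := by
  classical
  have hcl : IsClassFunction G (fun g => η g * conj (η g)) := fun g h => by
    simp only [isClassFunction_of_isCharacter (isCharacter_of_isIrr hη) g h]
  have hone : avgN N (fun _ : G => (1 : ℂ)) = fun _ => 1 := by
    funext g
    simp [avgN, Nat.card_eq_fintype_card]
  rw [classFunction_expansion (isClassFunction_avgN N hcl),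
    Finset.sum_eq_single (⟨_, isIrrCharacter_one⟩ : IrrCharacter G)]
  · rw [classInner_avgN, hone,
      show classInner (fun g => η g * conj (η g)) (fun _ => 1) = classInner η η by simp [classInner],
      classInner_irr_self hη, one_smul]
  · intro b _ hb
    rw [classInner_avgN]
    rcases avgN_dichotomy N b.2 with ⟨hbN, -⟩ | ⟨hbN, -⟩
    · obtain ⟨hirr, hinj, -⟩ := extension_mul_isIrr N hθ hη hext b.2 hbN
      rw [hbN, show classInner (fun g => η g * conj (η g)) (b : G → ℂ) =
        classInner η ((b : G → ℂ) * η) by
          simp only [classInner, Pi.mul_apply, map_mul]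
          congr 1
          exact Finset.sum_congr rfl fun g _ => by ring,
        classInner_irr_ne hη hirr fun e => hb (Subtype.ext (hinj e.symm)), zero_smul]
    · rw [hbN, classInner_zero_right, zero_smul]
  · intro h; exact absurd (Finset.mem_univ _) h

end CfsgLib.Char
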