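import Cfsg.Agent.Lib.Char.GlaubermanPGroup
import Cfsg.Agent.Lib.Char.AbelianQuotient
import Cfsg.Agent.Lib.Coprime.Action

/-!
# Invariant constituents above an invariant character, solvable layers

Over an abelian layer `M/N` the characters over `θ` are a single orbit of the linear characters of
`M/N`, so a group of coprime order fixes one of them; a solvable layer follows by induction.
-/

set_option autoImplicit false
set_option linter.unusedSectionVars false

namespace CfsgLib.Char.InvariantAbove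

open Cfsg CfsgLib.Char.Glauberman
open scoped ComplexConjugate CfsgLib.Char

/-- A minimal supplement of a normal subgroup only involves the primes of the quotient. -/
theorem exists_supplement {Γ : Type*} [Group Γ] [Finite Γ] (K : Subgroup Γ) [K.Normal] :
    ∃ S : Subgroup Γ, K ⊔ S = ⊤ ∧ ∀ q : ℕ, q.Prime → q ∣ Nat.card S → q ∣ K.index := by
  classical
  obtain ⟨S, hS, hmin⟩ := Set.Finite.exists_minimal (Set.toFinite {S : Subgroup Γ | K ⊔ S = ⊤})
    ⟨⊤, by simp⟩
  have hS' : K ⊔ S = ⊤ := hS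
  refine ⟨S, hS', fun q hq hqS => ?_⟩
  by_contra hqK
  haveI := Fact.mk hq
  have hrel : (K.subgroupOf S).index = K.index := by
    have := Subgroup.relIndex_sup_right (H := S) (K := K)
    rw [sup_comm, hS', Subgroup.relIndex_top_right] at this
    exact this.symm
  haveI : (K.subgroupOf S).Normal := Subgroup.Normal.subgroupOf inferInstance S
  obtain ⟨Q⟩ : Nonempty (Sylow q (K.subgroupOf S)) := inferInstance
  set Q' : Subgroup S := (Q : Subgroup (K.subgroupOf S)).map (K.subgroupOf S).subtype with hQ'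
  have hfr : Subgroup.normalizer (Q' : Set S) ⊔ K.subgroupOf S = ⊤ := Sylow.normalizer_sup_eq_top Q
  have hsupp : ∀ T : Subgroup S, T ⊔ K.subgroupOf S = ⊤ → T = ⊤ := by
    intro T hT
    have h1 : K ⊔ T.map S.subtype = ⊤ := by
      rw [eq_top_iff, ← hS']
      refine sup_le le_sup_left ?_
      have h2 := congrArg (Subgroup.map S.subtype) hT
      rw [Subgroup.map_sup, Subgroup.subgroupOf_map_subtype, ← MonoidHom.range_eq_map,
        S.range_subtype] at h2
      conv_lhs => rw [← h2]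
      exact sup_le le_sup_right (inf_le_left.trans le_sup_left)
    have h3 := hmin h1 (Subgroup.map_subtype_le T)
    rw [eq_top_iff]
    intro x _
    obtain ⟨y, hy, e⟩ := h3 x.2
    rwa [show x = y from Subtype.ext e.symm]
  have hnorm : Q'.Normal := Subgroup.normalizer_eq_top_iff.mp (hsupp _ hfr)
  have hcQ : Nat.card Q' = q ^ (Nat.card S).factorization q := by
    rw [hQ', Subgroup.card_map_of_injective (K.subgroupOf S).subtype_injective, Q.card_eq_multiplicity,
      ← (K.subgroupOf S).card_mul_index, hrel,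
      Nat.factorization_mul Nat.card_pos.ne' Subgroup.index_ne_zero_of_finite]
    simp [Nat.factorization_eq_zero_of_not_dvd hqK]
  have hQi : ¬ q ∣ Q'.index := by
    intro hd
    have h1 := Q'.card_mul_index
    rw [hcQ] at h1
    have h3 := Nat.pow_succ_factorization_not_dvd (Nat.card_pos (α := S)).ne' hq
    set e := (Nat.card S).factorization q with he
    exact h3 (by rw [← h1, pow_succ]; exact mul_dvd_mul_left _ hd)
  obtain ⟨R, hR⟩ := Subgroup.exists_right_complement'_of_coprime (N := Q')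
    (by rw [hcQ]; exact (hq.coprime_iff_not_dvd.mpr hQi).pow_left _)
  have htop := hsupp R (by
    rw [eq_top_iff, ← hR.sup_eq_top]
    exact sup_le (le_sup_of_le_right (Subgroup.map_subtype_le _)) le_sup_left)
  have h1 := hR.card_mul
  rw [htop, Subgroup.card_top] at h1
  have h2 : Nat.card Q' = 1 := by
    have := Nat.eq_of_mul_eq_mul_right Nat.card_pos (h1.trans (one_mul _).symm)
    exact this
  rw [hcQ, Nat.pow_eq_one] at h2
  rcases h2 with h2 | h2
  · exact hq.one_lt.ne' h2
  · exact (hq.factorization_pos_of_dvd Nat.card_pos.ne' hqS).ne' h2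

variable {Γ : Type*} [Group Γ] [Fintype Γ]

/-- The abelian layer. -/
theorem exists_invariant_abelian {N M S : Subgroup Γ} [Fintype N] [Fintype M] (hNM : N ≤ M)
    (hMN : M ≤ Subgroup.normalizer (N : Set Γ)) (hab : ∀ a ∈ M, ∀ b ∈ M, a * b * a⁻¹ * b⁻¹ ∈ N)
    (hSM : S ≤ Subgroup.normalizer (M : Set Γ)) (hSN : S ≤ Subgroup.normalizer (N : Set Γ))
    (hcop : (N.relIndex M).Coprime (Nat.card S)) {θ : IrrCharacter N} (hθ : Inv N S (θ : N → ℂ)) :
    ∃ ψ : IrrCharacter M,
      classInner (res hNM (ψ : M → ℂ)) (θ : N → ℂ) ≠ 0 ∧ Inv M S (ψ : M → ℂ) := by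
  classical
  set N' := N.subgroupOf M with hN'
  haveI : N'.Normal := (Subgroup.normal_subgroupOf_iff_le_normalizer hNM).mpr hMN
  haveI := Fintype.ofFinite N'
  haveI := Fintype.ofFinite S
  set eN : N' ≃* N := Subgroup.subgroupOfEquivOfLe hNM with heN
  set θ' : N' → ℂ := fun n => (θ : N → ℂ) (eN n) with hθ'
  have hθ'i : IsIrrCharacter N' θ' := isIrrCharacter_comp_mulEquiv eN θ.2
  have hres : ∀ f : M → ℂ, classInner (fun n : N' => f n) θ' =
      classInner (res hNM f) (θ : N → ℂ) := fun f =>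
    classInner_comp_mulEquiv eN (res hNM f) θ
  -- linear characters of the layer act transitively
  have trans : ∀ χ χ' : IrrCharacter M, classInner (res hNM (χ : M → ℂ)) (θ : N → ℂ) ≠ 0 →
      classInner (res hNM (χ' : M → ℂ)) (θ : N → ℂ) ≠ 0 →
      ∃ μ : M →* ℂˣ, (∀ n : N', μ n = 1) ∧
        (χ' : M → ℂ) = fun x => (μ x : ℂ) * (χ : M → ℂ) x := by
    intro χ χ' h h'
    have h1 : classInner (indFun N' fun n : N' => (χ : M → ℂ) n) (χ' : M → ℂ) ≠ 0 := by
      rw [frobenius_reciprocity N' _ (isClassFunction_of_isCharacter (isCharacter_of_isIrr χ'.2))]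
      obtain ⟨a, ha⟩ := exists_multiplicities (isCharacter_restrict N' (isCharacter_of_isIrr χ.2))
      obtain ⟨b, hb⟩ := exists_multiplicities (isCharacter_restrict N' (isCharacter_of_isIrr χ'.2))
      rw [ha, hb, classInner_sum_smul_sum_smul]
      simp only [map_natCast]
      rw [← hres, ha, classInner_sum_smul_irr _ ⟨θ', hθ'i⟩, Nat.cast_ne_zero] at h
      rw [← hres, hb, classInner_sum_smul_irr _ ⟨θ', hθ'i⟩, Nat.cast_ne_zero] at h'
      have : 0 < ∑ ξ, a ξ * b ξ := Finset.sum_pos' (fun ξ _ => Nat.zero_le _)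
        ⟨⟨θ', hθ'i⟩, Finset.mem_univ _, Nat.mul_pos (Nat.pos_of_ne_zero h) (Nat.pos_of_ne_zero h')⟩
      exact_mod_cast this.ne'
    have hone : (fun n : N' => (χ : M → ℂ) n) =
        (fun _ : N' => (1 : ℂ)) * fun n : N' => (χ : M → ℂ) n := funext fun n => (one_mul _).symm
    rw [hone, indFun_mul N' (χ : M → ℂ) (isClassFunction_of_isCharacter (isCharacter_of_isIrr χ.2)),
      classFunction_expansion (isClassFunction_of_isCharacter
        (isCharacter_indFun N' isCharacter_one)), Finset.sum_mul, classInner_sum_left] at h1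
    obtain ⟨b, -, hb⟩ := Finset.exists_ne_zero_of_sum_ne_zero h1
    rw [smul_mul_assoc, classInner_smul_left] at hb
    have hb0 : classInner (indFun N' fun _ => (1 : ℂ)) (b : M → ℂ) ≠ 0 := left_ne_zero_of_mul hb
    have hconst : ∀ (n : N') (g : M), (b : M → ℂ) ((n : M) * g) = (b : M → ℂ) g := by
      rcases avgN_dichotomy N' b.2 with ⟨-, hc⟩ | ⟨h0, -⟩
      · exact hc
      · exfalso
        apply hb0
        rw [frobenius_reciprocity N' _ (isClassFunction_of_isCharacter (isCharacter_of_isIrr b.2)),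
          show classInner (fun _ : N' => (1 : ℂ)) (fun n : N' => (b : M → ℂ) n) =
            conj (avgN N' (b : M → ℂ) 1) by simp [classInner, avgN],
          h0, Pi.zero_apply, map_zero]
    obtain ⟨d, ρ, hρ, hρb⟩ := b.2
    have hb1 : (b : M → ℂ) 1 = 1 := by
      obtain ⟨dd, hdd, hpos, -⟩ := exists_degree_dvd_card b.2
      have hcomm : ∀ x y : M, (b : M → ℂ) (x * y * x⁻¹ * y⁻¹) = (b : M → ℂ) 1 := fun x y => by
        have := hconst ⟨x * y * x⁻¹ * y⁻¹, Subgroup.mem_subgroupOf.mpr (hab x x.2 y y.2)⟩ 1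
        simpa using this
      haveI := hρ
      have hker : ∀ x y : M, ρ (x * y * x⁻¹ * y⁻¹) = 1 := fun x y => by
        have h2 := hcomm x y
        rw [← hρb, Representation.char_one] at h2
        exact ((character_eq_finrank_iff ρ _).mp h2).trans rfl
      have hcom : ∀ x y : M, ρ x * ρ y = ρ y * ρ x := fun x y => by
        have e : x * y = (x * y * x⁻¹ * y⁻¹) * (y * x) := by group
        rw [← map_mul, e, map_mul, hker, one_mul, map_mul]
      rw [← hρb, Representation.char_one]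
      have hscal : ∀ x, ∃ c : ℂ, ρ x = c • LinearMap.id := fun x => by
        let T : Representation.IntertwiningMap ρ ρ := ⟨ρ x, fun y => hcom x y⟩
        obtain ⟨c, hc⟩ :=
          (Representation.IsIrreducible.algebraMap_intertwiningMap_bijective_of_isAlgClosed (ρ := ρ)).2 T
        refine ⟨c, ?_⟩
        have := congrArg Representation.IntertwiningMap.toLinearMap hc
        refine Eq.trans this.symm ?_
        ext v; simp [Algebra.algebraMap_eq_smul_one]
      have h2 := degree_dvd_index_of_scalar ρ ⊤ fun z _ => hscal z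
      rw [Subgroup.index_top, Nat.dvd_one] at h2
      rw [h2, Nat.cast_one]
    refine ⟨linearHom (isCharacter_of_isIrr b.2) hb1, fun n => Units.ext ?_, ?_⟩
    · rw [linearHom_apply, Units.val_one, ← hb1, ← hconst n 1, mul_one]
    · have hirr : IsIrrCharacter M ((b : M → ℂ) * (χ : M → ℂ)) := by
        have := isIrrCharacter_linear_mul χ.2 (linearHom (isCharacter_of_isIrr b.2) hb1)
        simp only [linearHom_apply] at this
        exact this
      have hne := right_ne_zero_of_mul hb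
      rw [classInner_irr hirr χ'.2] at hne
      split_ifs at hne with e
      · rw [← e]; funext x; simp [linearHom_apply]
      · exact absurd rfl hne
  obtain ⟨χ, hχ⟩ : ∃ χ : IrrCharacter M, classInner (res hNM (χ : M → ℂ)) (θ : N → ℂ) ≠ 0 := by
    by_contra h
    push_neg at h
    have hI := classFunction_expansion
      (isClassFunction_of_isCharacter (isCharacter_indFun N' (isCharacter_of_isIrr hθ'i)))
    have hz : ∀ χ : IrrCharacter M, classInner (indFun N' θ') (χ : M → ℂ) = 0 := fun χ => by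
      rw [frobenius_reciprocity N' _ (isClassFunction_of_isCharacter (isCharacter_of_isIrr χ.2)),
        ← classInner_conj_symm, hres, h, map_zero]
    simp only [hz, zero_smul, Finset.sum_const_zero] at hI
    have h1 := congrFun hI 1
    rw [indFun_one, Pi.zero_apply] at h1
    exact mul_ne_zero (Nat.cast_ne_zero.mpr Subgroup.index_ne_zero_of_finite)
      (irr_degree_ne_zero hθ'i) h1
  -- the cocycle
  have hconj : ∀ s : S, ∃ μ : M →* ℂˣ, (∀ n : N', μ n = 1) ∧
      (fun x => (χ : M → ℂ) (conjEquiv (hSM s.2) x)) = fun x => (μ x : ℂ) * (χ : M → ℂ) x := by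
    intro s
    obtain ⟨μ, h1, h2⟩ := trans χ ⟨_, isIrrCharacter_comp_mulEquiv (conjEquiv (hSM s.2)) χ.2⟩ hχ (by
      have e : (fun n => (θ : N → ℂ) (conjEquiv (hSN s.2) n)) = θ :=
        funext fun n => hθ s s.2 _ _ rfl
      have h3 := classInner_comp_mulEquiv (conjEquiv (hSN s.2)) (res hNM (χ : M → ℂ)) (θ : N → ℂ)
      rw [e] at h3
      show classInner (fun n => res hNM (χ : M → ℂ) (conjEquiv (hSN s.2) n)) _ ≠ 0
      rw [h3]; exact hχ)
    exact ⟨μ, h1, h2⟩
  choose F hFN hF using hconj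
  have hexp : ∀ (t : S) (x : M), F t x ^ N.relIndex M = 1 := fun t x => by
    rw [← map_pow]
    exact hFN t ⟨_, N'.pow_index_mem x⟩
  have hcoc : ∀ (s t : S) (x : M), (χ : M → ℂ) x ≠ 0 →
      F (s * t) x = F s (conjEquiv (hSM t.2) x) * F t x := by
    intro s t x hx
    have h1 := congrFun (hF (s * t)) x
    have h2 := congrFun (hF s) (conjEquiv (hSM t.2) x)
    have h3 := congrFun (hF t) x
    try dsimp only at h1 h2 h3
    rw [show conjEquiv (hSM (s * t).2) x = conjEquiv (hSM s.2) (conjEquiv (hSM t.2) x) from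
      Subtype.ext (by simp [mul_assoc]), h2, h3, ← mul_assoc] at h1
    exact Units.ext (by simpa using (mul_right_cancel₀ hx h1).symm)
  obtain ⟨k, hk⟩ : ∃ k : ℕ, Nat.card S * k ≡ 1 [MOD N.relIndex M] := by
    obtain ⟨x, hx1, hx0⟩ := Nat.chineseRemainder hcop 1 0
    obtain ⟨k, rfl⟩ := Nat.modEq_zero_iff_dvd.mp hx0
    exact ⟨k, hx1⟩
  set ν : M →* ℂˣ := (∏ s : S, F s) ^ k with hν
  have hψirr := isIrrCharacter_linear_mul χ.2 ν
  refine ⟨⟨fun x => (ν x : ℂ) * (χ : M → ℂ) x, hψirr⟩, ?_, ?_⟩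
  · rw [show res hNM (fun x => (ν x : ℂ) * (χ : M → ℂ) x) = res hNM (χ : M → ℂ) from funext fun n => by
      have : ν ⟨n, hNM n.2⟩ = 1 := by
        rw [hν, MonoidHom.pow_apply, MonoidHom.finsetProd_apply,
          Finset.prod_eq_one (fun s _ => hFN s ⟨⟨n, hNM n.2⟩, n.2⟩), one_pow]
      simp [res, this]]
    exact hχ
  · rintro t ht g g' e
    rw [show g' = conjEquiv (hSM ht) g from Subtype.ext e]
    show (ν (conjEquiv (hSM ht) g) : ℂ) * (χ : M → ℂ) (conjEquiv (hSM ht) g) =
      (ν g : ℂ) * (χ : M → ℂ) g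
    have h3 : (χ : M → ℂ) (conjEquiv (hSM ht) g) = (F ⟨t, ht⟩ g : ℂ) * (χ : M → ℂ) g :=
      congrFun (hF ⟨t, ht⟩) g
    by_cases hg : (χ : M → ℂ) g = 0
    · rw [h3, hg, mul_zero, mul_zero, mul_zero]
    rw [h3, ← mul_assoc, ← Units.val_mul]
    congr 2
    have hprod : (∏ s : S, F s) g =
        (∏ s : S, F s) (conjEquiv (hSM ht) g) * F ⟨t, ht⟩ g ^ Nat.card S := by
      simp only [MonoidHom.finsetProd_apply]
      rw [← Equiv.prod_comp (Equiv.mulRight (⟨t, ht⟩ : S)) (fun s => F s g)]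
      simp only [Equiv.coe_mulRight]
      rw [Finset.prod_congr rfl fun s _ => hcoc s ⟨t, ht⟩ g hg, Finset.prod_mul_distrib,
        Finset.prod_const, Finset.card_univ, ← Nat.card_eq_fintype_card]
    rw [hν, MonoidHom.pow_apply, MonoidHom.pow_apply, hprod, mul_pow, ← pow_mul]
    congr 1
    conv_lhs => rw [← pow_one (F ⟨t, ht⟩ g)]
    exact pow_eq_pow_iff_modEq.mpr (hk.symm.of_dvd (orderOf_dvd_of_pow_eq_one (hexp _ _)))

/-- A solvable layer. -/
theorem exists_invariant_solvable {G S : Subgroup Γ} [Fintype G] (hSG : S ≤ Subgroup.normalizer (G : Set Γ)) :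
    ∀ (n : ℕ) (N : Subgroup Γ) [Fintype N], N.relIndex G = n → ∀ (hNG : N ≤ G),
      G ≤ Subgroup.normalizer (N : Set Γ) → S ≤ Subgroup.normalizer (N : Set Γ) →
      (∃ k, (derivedSeries G k).map G.subtype ≤ N) → (N.relIndex G).Coprime (Nat.card S) →
      ∀ θ : IrrCharacter N, Inv N S (θ : N → ℂ) →
        ∃ χ : IrrCharacter G,
          classInner (res hNG (χ : G → ℂ)) (θ : N → ℂ) ≠ 0 ∧ Inv G S (χ : G → ℂ) := by
  classical
  intro n
  induction n using Nat.strong_induction_on with
  | _ n ih =>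
  intro N instN hn hNG hGN hSN hder hcop θ hθ
  by_cases hGle : G ≤ N
  · obtain rfl : N = G := le_antisymm hNG hGle
    obtain rfl : instN = ‹Fintype N› := Subsingleton.elim _ _
    refine ⟨θ, ?_, hθ⟩
    rw [show res hNG (θ : N → ℂ) = θ from rfl, classInner_irr_self θ.2]
    exact one_ne_zero
  set k := Nat.find hder with hkdef
  have hk0 : k ≠ 0 := fun h => hGle (by
    have h1 := Nat.find_spec hder
    rw [← hkdef, h, derivedSeries_zero, ← MonoidHom.range_eq_map, G.range_subtype] at h1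
    exact h1)
  obtain ⟨j, hj⟩ := Nat.exists_eq_succ_of_ne_zero hk0
  set D := (derivedSeries G j).map G.subtype with hD
  have hDnot : ¬ D ≤ N := Nat.find_min hder (show j < Nat.find hder by omega)
  have hDD : ⁅D, D⁆ ≤ N := by
    have h1 := Nat.find_spec hder
    rw [← hkdef, hj, derivedSeries_succ, Subgroup.map_commutator] at h1
    exact h1
  set M := N ⊔ D with hM
  have hDG : D ≤ G := Subgroup.map_subtype_le _
  have hMG : M ≤ G := sup_le hNG hDG
  have hNM : N ≤ M := le_sup_left
  have hchar : ∀ y ∈ Subgroup.normalizer (G : Set Γ), ∀ x ∈ D, y * x * y⁻¹ ∈ D := by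
    rintro y hy _ ⟨x, hx, rfl⟩
    refine ⟨conjEquiv hy x, ?_, rfl⟩
    have h1 : (derivedSeries G j).map (conjEquiv hy).toMonoidHom = derivedSeries G j :=
      (Subgroup.characteristic_iff_map_eq.mp inferInstance) (conjEquiv hy)
    exact h1 ▸ ⟨x, hx, rfl⟩
  have hnormD : ∀ {y}, y ∈ Subgroup.normalizer (G : Set Γ) → y ∈ Subgroup.normalizer (D : Set Γ) :=
    fun {y} hy => Subgroup.mem_normalizer_iff.mpr fun x => ⟨hchar y hy x, fun hx => by
      have := hchar y⁻¹ (inv_mem hy) _ hx
      simpa [mul_assoc] using this⟩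
  have hGM : G ≤ Subgroup.normalizer (M : Set Γ) := fun g hg =>
    CfsgLib.Coprime.le_normalizer_sup_of_le (A := Subgroup.zpowers g)
      (Subgroup.zpowers_le.mpr (hGN hg))
      (Subgroup.zpowers_le.mpr (hnormD (Subgroup.le_normalizer hg))) (Subgroup.mem_zpowers g)
  have hSM : S ≤ Subgroup.normalizer (M : Set Γ) := fun g hg =>
    CfsgLib.Coprime.le_normalizer_sup_of_le (A := Subgroup.zpowers g)
      (Subgroup.zpowers_le.mpr (hSN hg))
      (Subgroup.zpowers_le.mpr (hnormD (hSG hg))) (Subgroup.mem_zpowers g)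
  have hMN : M ≤ Subgroup.normalizer (N : Set Γ) := hMG.trans hGN
  have hab : ∀ a ∈ M, ∀ b ∈ M, a * b * a⁻¹ * b⁻¹ ∈ N := by
    haveI : (N.subgroupOf G).Normal := (Subgroup.normal_subgroupOf_iff_le_normalizer hNG).mpr hGN
    set q := QuotientGroup.mk' (N.subgroupOf G) with hq
    have himg : ∀ a (ha : a ∈ M), ∃ d : G, (d : Γ) ∈ D ∧ q ⟨a, hMG ha⟩ = q d := by
      intro a ha
      have hle : M ≤ ((derivedSeries G j ⊔ N.subgroupOf G).map G.subtype) := by
        rw [Subgroup.map_sup, Subgroup.subgroupOf_map_subtype, inf_eq_left.mpr hNG, hM, sup_comm]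
      obtain ⟨x, hx, rfl⟩ := hle ha
      obtain ⟨d, hd, z, hz, e⟩ := Subgroup.mem_sup_of_normal_right.mp hx
      refine ⟨d, ⟨d, hd, rfl⟩, ?_⟩
      show q x = q d
      rw [← e, map_mul, show q z = 1 from (QuotientGroup.eq_one_iff z).mpr hz, mul_one]
    intro a ha b hb
    obtain ⟨d, hd, hda⟩ := himg a ha
    obtain ⟨e, he, heb⟩ := himg b hb
    have h0 : d * e * d⁻¹ * e⁻¹ ∈ N.subgroupOf G :=
      Subgroup.mem_subgroupOf.mpr (hDD (Subgroup.commutator_mem_commutator hd he))
    have h1 : q (⟨a, hMG ha⟩ * ⟨b, hMG hb⟩ * ⟨a, hMG ha⟩⁻¹ * ⟨b, hMG hb⟩⁻¹) = 1 := by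
      simp only [map_mul, map_inv, hda, heb]
      rw [← map_inv, ← map_inv, ← map_mul, ← map_mul, ← map_mul]
      exact (QuotientGroup.eq_one_iff _).mpr h0
    have h2 := (QuotientGroup.eq_one_iff _).mp h1
    exact Subgroup.mem_subgroupOf.mp h2
  haveI := Fintype.ofFinite M
  have hdvd := Subgroup.relIndex_mul_relIndex N M G hNM hMG
  obtain ⟨ψ, hψθ, hψ⟩ := exists_invariant_abelian hNM hMN hab hSM hSN
    (hcop.coprime_dvd_left (Dvd.intro _ hdvd)) hθ
  have hne : N.relIndex M ≠ 1 := fun e => hDnot (le_sup_right.trans (Subgroup.relIndex_eq_one.mp e))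
  have hlt : M.relIndex G < n := by
    have h1 : N.relIndex M ≠ 0 := Subgroup.index_ne_zero_of_finite
    have h2 : M.relIndex G ≠ 0 := Subgroup.index_ne_zero_of_finite
    rw [← hn, ← hdvd]
    calc M.relIndex G = 1 * M.relIndex G := (one_mul _).symm
      _ < N.relIndex M * M.relIndex G := by
        exact Nat.mul_lt_mul_of_pos_right (by omega) (Nat.pos_of_ne_zero h2)
  obtain ⟨χ, hχψ, hχ⟩ := ih _ hlt M rfl hMG hGM hSM
    ⟨k, (Nat.find_spec hder).trans hNM⟩ (hcop.coprime_dvd_left (Dvd.intro_left _ hdvd)) ψ hψ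
  refine ⟨χ, ?_, hχ⟩
  obtain ⟨a, ha⟩ := exists_multiplicities (isCharacter_res hMG (isCharacter_of_isIrr χ.2))
  choose b hb using fun φ : IrrCharacter M => exists_nat_classInner
    (isCharacter_res hNM (isCharacter_of_isIrr φ.2)) (isCharacter_of_isIrr θ.2)
  rw [ha, classInner_sum_smul_irr, Nat.cast_ne_zero] at hχψ
  rw [hb, Nat.cast_ne_zero] at hψθ
  rw [show res hNG (χ : G → ℂ) = ∑ φ : IrrCharacter M, (a φ : ℂ) • res hNM (φ : M → ℂ) from
    funext fun x => by
      have := congrFun ha ⟨x, hNM x.2⟩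
      simpa [res, Finset.sum_apply] using this, classInner_sum_left]
  simp only [classInner_smul_left, hb]
  have : 0 < ∑ φ, a φ * b φ := Finset.sum_pos' (fun φ _ => Nat.zero_le _)
    ⟨ψ, Finset.mem_univ _, Nat.mul_pos (Nat.pos_of_ne_zero hχψ) (Nat.pos_of_ne_zero hψθ)⟩
  exact_mod_cast this.ne'

end CfsgLib.Char.InvariantAbove
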