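import Cfsg.Agent.Lib.Char.GlaubermanSolvable
import Cfsg.Agent.Lib.Char.InvariantAbove
import Cfsg.Agent.Lib.Char.ExtensionCoset
import Cfsg.Agent.Lib.Char.MeanValue

/-!
# Invariant constituents above, coprime layers with a solvable top

For an invariant `θ ∈ Irr(N)` the elements of the covering of determinant order dividing `|N|` form
a finite group whose quotient by `N` is a central extension of `Γ/N`. The part of `G/N` of order
prime to `|Γ:G|` lifts to a subgroup of coprime order, where the Glauberman correspondence applies;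
tensoring with the canonical operators brings the invariant character back to `G`.
-/

set_option autoImplicit false
set_option linter.unusedSectionVars false

namespace CfsgLib.Char.TripleAbove

open Cfsg Module Representation CfsgLib.Char.Glauberman
open scoped ComplexConjugate CfsgLib.Char

universe u v
variable {Γ : Type u} [Group Γ] [Finite Γ] {N : Subgroup Γ} [hN : N.Normal]
variable {V : Type v} [AddCommGroup V] [Module ℂ V] [FiniteDimensional ℂ V]
variable (ρ : Representation ℂ N V)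

/-- The determinant on the covering. -/
noncomputable def δ : covering N ρ →* ℂˣ := (Units.map LinearMap.det).comp (oper N ρ)

/-- The lifts of determinant order dividing `|N|`. -/
noncomputable def fin : Subgroup (covering N ρ) :=
  ((powMonoidHom (Nat.card N)).comp (δ ρ)).ker

theorem mem_fin {x : covering N ρ} : x ∈ fin ρ ↔ δ ρ x ^ Nat.card N = 1 := Iff.rfl

theorem embN_mem_fin (n : N) : embN N ρ n ∈ fin ρ := by
  rw [mem_fin, ← map_pow, ← map_pow, pow_card_eq_one', map_one, map_one]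

theorem δ_scal (c : ℂˣ) : δ ρ (scal N ρ c) = c ^ finrank ℂ V := by
  refine Units.ext ?_
  show LinearMap.det (oper N ρ (scal N ρ c) : Module.End ℂ V) = _
  rw [oper_scal, Algebra.algebraMap_eq_smul_one, Module.End.one_eq_id, LinearMap.det_smul]
  simp

variable [hρ : ρ.IsIrreducible]

omit hρ in
theorem pos_exponent (ρ : Representation ℂ N V) [ρ.IsIrreducible] : 0 < finrank ℂ V * Nat.card N :=
  Nat.mul_pos (finrank_pos_of_irreducible ρ) Nat.card_pos

theorem exists_fin (hsurj : Function.Surjective (proj N ρ)) (g : Γ) :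
    ∃ x ∈ fin ρ, proj N ρ x = g := by
  obtain ⟨x, rfl⟩ := hsurj g
  obtain ⟨c, hc⟩ := IsAlgClosed.exists_pow_nat_eq (((δ ρ x ^ Nat.card N)⁻¹ : ℂˣ) : ℂ)
    (pos_exponent ρ)
  have hc0 : c ≠ 0 := fun e => by
    rw [e, zero_pow (pos_exponent ρ).ne'] at hc
    exact Units.ne_zero _ hc.symm
  refine ⟨scal N ρ (Units.mk0 c hc0) * x, ?_, by rw [map_mul, proj_scal, one_mul]⟩
  rw [mem_fin, map_mul, δ_scal, mul_pow, ← pow_mul,
    show Units.mk0 c hc0 ^ (finrank ℂ V * Nat.card N) = (δ ρ x ^ Nat.card N)⁻¹ from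
      Units.ext (by rw [Units.val_pow_eq_pow_val, Units.val_mk0, hc]), inv_mul_cancel]

theorem scal_mem_fin {c : ℂˣ} : scal N ρ c ∈ fin ρ ↔ c ^ (finrank ℂ V * Nat.card N) = 1 := by
  rw [mem_fin, δ_scal, ← pow_mul]

theorem finite_fin : Finite (fin ρ) := by
  classical
  have hex : ∀ x : fin ρ, ∃ y : fin ρ, proj N ρ (y : covering N ρ) = proj N ρ (x : covering N ρ) :=
    fun x => ⟨x, rfl⟩
  have hsec : ∃ sec : Γ → fin ρ, ∀ x : fin ρ,
      proj N ρ (sec (proj N ρ (x : covering N ρ)) : covering N ρ) = proj N ρ (x : covering N ρ) := by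
    refine ⟨fun g => if h : ∃ y : fin ρ, proj N ρ (y : covering N ρ) = g then h.choose else 1,
      fun x => ?_⟩
    have h : ∃ y : fin ρ, proj N ρ (y : covering N ρ) = proj N ρ (x : covering N ρ) := hex x
    simp only [dif_pos h]
    exact h.choose_spec
  obtain ⟨sec, hsec⟩ := hsec
  choose c hc using fun x : fin ρ => exists_mul_scal N ρ (hsec x).symm
  haveI : NeZero (finrank ℂ V * Nat.card N) := ⟨(pos_exponent ρ).ne'⟩
  have hmem : ∀ x : fin ρ, c x ∈ rootsOfUnity (finrank ℂ V * Nat.card N) ℂ := fun x => by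
    rw [mem_rootsOfUnity, ← scal_mem_fin ρ]
    have h := (fin ρ).mul_mem ((fin ρ).inv_mem (sec (proj N ρ (x : covering N ρ))).2) x.2
    nth_rw 2 [hc x] at h
    rwa [inv_mul_cancel_left] at h
  refine Finite.of_injective (fun x : fin ρ =>
    ((proj N ρ (x : covering N ρ), ⟨c x, hmem x⟩) :
      Γ × rootsOfUnity (finrank ℂ V * Nat.card N) ℂ)) fun a b e => ?_
  simp only [Prod.mk.injEq, Subtype.mk.injEq] at e
  exact Subtype.ext (by rw [hc a, hc b, e.1, e.2])

omit hρ in
/-- A character constant on the fibres of a surjection descends. -/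
theorem descend {D G : Type*} [Group D] [Finite D] [Group G] [Finite G] (f : D →* G)
    (hf : Function.Surjective f) {χ : D → ℂ} (hχ : IsIrrCharacter D χ)
    (h : ∀ k, f k = 1 → χ k = χ 1) : ∃ ψ : G → ℂ, IsIrrCharacter G ψ ∧ ∀ x, ψ (f x) = χ x := by
  obtain ⟨d, σ, hσ, rfl⟩ := hχ
  have hker : f.ker ≤ MonoidHom.ker (σ.asGroupHom) := by
    intro k hk
    have h1 := h k hk
    rw [Representation.char_one] at h1
    refine MonoidHom.mem_ker.mpr (Units.ext ?_)
    rw [Representation.asGroupHom_apply]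
    exact ((character_eq_finrank_iff σ k).mp h1).trans rfl
  set g := f.liftOfSurjective hf ⟨σ.asGroupHom, hker⟩ with hg
  set τ : Representation ℂ G (Fin d → ℂ) := (Units.coeHom _).comp g with hτ
  have hcomp : τ.comp f = σ := MonoidHom.ext fun x => by
    show ((g (f x) : (Module.End ℂ (Fin d → ℂ))ˣ) : Module.End ℂ (Fin d → ℂ)) = σ x
    rw [hg, MonoidHom.liftOfRightInverse_comp_apply]
    exact Representation.asGroupHom_apply σ x
  haveI : τ.IsIrreducible := irreducible_of_comp f τ (hcomp.symm ▸ hσ)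
  exact ⟨τ.character, ⟨d, τ, inferInstance, rfl⟩, fun x => by
    show LinearMap.trace ℂ _ (τ (f x)) = LinearMap.trace ℂ _ (σ x)
    rw [← hcomp]; rfl⟩

omit hρ in
/-- Tensoring an extension with an inflated character and pushing down. -/
theorem exists_twist {D A B : Type*} [Group D] [Group A] [Group B] [Fintype D] [Finite A] [Finite B]
    (M : Subgroup D) [M.Normal] [Fintype M] (f : D →* A) (hf : Function.Surjective f) (g : D →* B)
    (hg : Function.Surjective g) (hM : ∀ n : M, g n = 1) {θ : M → ℂ} (hθ : IsIrrCharacter M θ)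
    {η : D → ℂ} (hη : IsCharacter D η) (hext : ∀ n : M, η n = θ n) {ψ : B → ℂ}
    (hψ : IsIrrCharacter B ψ) (hker : ∀ k, f k = 1 → ψ (g k) * η k = ψ 1 * η 1) :
    ∃ χ : A → ℂ, IsIrrCharacter A χ ∧ (∀ x, χ (f x) = ψ (g x) * η x) ∧
      classInner (fun n : M => χ (f n)) θ ≠ 0 := by
  classical
  have hη' : IsIrrCharacter D η := isIrr_of_restrict M hη
    (by rw [show (fun n : M => η n) = θ from funext hext]; exact hθ)
  set b : D → ℂ := fun x => ψ (g x) with hb
  have hbirr : IsIrrCharacter D b := CfsgLib.Blocks.isIrrCharacter_comp_of_surjective hψ g hg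
  have hbM : avgN M b = b := by
    funext x
    simp only [avgN, hb, map_mul, hM, one_mul, Finset.sum_const, Finset.card_univ, nsmul_eq_mul,
      ← Nat.card_eq_fintype_card]
    rw [inv_mul_cancel_left₀ (Nat.cast_ne_zero.mpr Nat.card_pos.ne')]
  obtain ⟨hirr, -, hover⟩ := extension_mul_isIrr M hθ hη' hext hbirr hbM
  obtain ⟨χ, hχ, hχf⟩ := descend f hf hirr fun k hk => by
    simp only [Pi.mul_apply, hb, map_one]
    exact hker k hk
  refine ⟨χ, hχ, hχf, ?_⟩
  rw [show (fun n : M => χ (f n)) = fun n : M => (b * η) n from funext fun n => hχf n, hover]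
  exact irr_degree_ne_zero hbirr

omit hρ in
/-- The descent from the data found in the finite covering. -/
theorem exists_of_data [Fintype Γ] {d : ℕ} {ρ : Representation ℂ N (Fin d → ℂ)}
    [ρ.IsIrreducible] [Finite (fin ρ)] {G : Subgroup Γ} [hG : G.Normal] [Fintype G] [Fintype N]
    (hNG : N ≤ G) {Q : Type u} [Group Q] [Finite Q] (q : fin ρ →* Q) (hq : Function.Surjective q)
    (hqN : ∀ n : N, q ⟨embN N ρ n, embN_mem_fin ρ n⟩ = 1) {E S : Subgroup Q} [hEn : E.Normal]
    (hE : ∀ x : fin ρ, q x ∈ E → proj N ρ (x : covering N ρ) ∈ G)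
    (hE' : ∀ g : G, ∃ x : fin ρ, q x ∈ E ∧ proj N ρ (x : covering N ρ) = g) (hES : E ⊔ S = ⊤)
    (hp : ∀ g : Γ, ∃ x : fin ρ, proj N ρ (x : covering N ρ) = g)
    {ψ : E → ℂ} (hψ : IsIrrCharacter E ψ) (hψS : Inv E S ψ)
    (hker : ∀ (k : fin ρ) (hk : q k ∈ E), proj N ρ (k : covering N ρ) = 1 →
      ψ ⟨q k, hk⟩ * LinearMap.trace ℂ _ (oper N ρ (k : covering N ρ) : Module.End ℂ (Fin d → ℂ)) =
        ψ 1 * LinearMap.trace ℂ _ (1 : Module.End ℂ (Fin d → ℂ))) :
    ∃ χ : IrrCharacter G, classInner (res hNG (χ : G → ℂ)) ρ.character ≠ 0 ∧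
      ∀ (x : Γ) (g : G), (χ : G → ℂ) ⟨x * g * x⁻¹, hG.conj_mem g g.2 x⟩ = (χ : G → ℂ) g := by
  classical
  set D := E.comap q with hD
  haveI : Fintype D := Fintype.ofFinite _
  let pD : D →* G := ((proj N ρ).comp ((fin ρ).subtype.comp D.subtype)).codRestrict _
    fun x => hE _ x.2
  have hpDs : Function.Surjective pD := fun g => by
    obtain ⟨x, hx, e⟩ := hE' g
    exact ⟨⟨x, hx⟩, Subtype.ext e⟩
  let qD : D →* E := (q.comp D.subtype).codRestrict _ fun x => x.2
  have hqD : Function.Surjective qD := fun w => by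
    obtain ⟨x, hx⟩ := hq w
    exact ⟨⟨x, by show q x ∈ E; rw [hx]; exact w.2⟩, Subtype.ext hx⟩
  let em : N →* D := (((embN N ρ).codRestrict _ (embN_mem_fin ρ))).codRestrict D fun n => by
    show q _ ∈ E
    exact (hqN n).symm ▸ E.one_mem
  have hinj : Function.Injective em := fun a b e => Subtype.ext (by
    have h1 := congrArg (fun y : D => proj N ρ ((y : fin ρ) : covering N ρ)) e
    exact h1)
  haveI : em.range.Normal := by
    refine ⟨?_⟩
    rintro _ ⟨n, rfl⟩ x
    exact ⟨_, Subtype.ext (Subtype.ext (embN_normal N ρ ((x : fin ρ) : covering N ρ) n).symm)⟩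
  haveI : Fintype em.range := Fintype.ofFinite _
  let e : N ≃* em.range := MonoidHom.ofInjective hinj
  let σ : Representation ℂ D (Fin d → ℂ) :=
    (Units.coeHom _).comp ((oper N ρ).comp ((fin ρ).subtype.comp D.subtype))
  have hσN : ∀ n : N, σ (em n) = ρ n := fun n => oper_embN N ρ n
  obtain ⟨χ, hχ, hval, hover⟩ := exists_twist em.range pD hpDs qD hqD
    (fun x => by
      obtain ⟨n, hn⟩ := x.2
      rw [← hn]
      exact Subtype.ext (hqN n))
    (θ := fun x => ρ.character (e.symm x))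
    (isIrrCharacter_comp_mulEquiv e.symm ⟨d, ρ, inferInstance, rfl⟩)
    (η := σ.character) (isCharacter_character σ)
    (fun x => by
      obtain ⟨n, rfl⟩ := e.surjective x
      show LinearMap.trace ℂ _ (σ (em n)) = ρ.character (e.symm (e n))
      rw [hσN, MulEquiv.symm_apply_apply]
      rfl)
    (ψ := ψ) hψ (fun k hk => by
      show ψ ⟨q k, k.2⟩ * LinearMap.trace ℂ _ (σ k) = ψ 1 * LinearMap.trace ℂ _ (σ 1)
      rw [map_one]
      exact hker k k.2 (congrArg Subtype.val hk))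
  refine ⟨⟨χ, hχ⟩, ?_, fun x g => ?_⟩
  · rw [show classInner (res hNG χ) ρ.character =
        classInner (fun y : em.range => χ (pD y)) fun y => ρ.character (e.symm y) from ?_]
    · exact hover
    · rw [← classInner_comp_mulEquiv e]
      congr 1
      all_goals
        funext n
        first
          | exact congrArg χ (Subtype.ext rfl)
          | exact congrArg ρ.character (MulEquiv.symm_apply_apply e n).symm
  · obtain ⟨y, hy⟩ := hp x
    have h1 : q y ∈ E ⊔ S := by rw [hES]; trivial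
    obtain ⟨w, hw, t, ht, ew⟩ := Subgroup.mem_sup_of_normal_left.mp h1
    obtain ⟨yw, hyw⟩ := hq w
    set ys := yw⁻¹ * y with hys
    have hqys : q ys = t := by rw [hys, map_mul, map_inv, hyw, ← ew, inv_mul_cancel_left]
    have ha : proj N ρ (yw : covering N ρ) ∈ G := hE yw (hyw ▸ hw)
    obtain ⟨k, rfl⟩ := hpDs g
    have hk' : ys * (k : fin ρ) * ys⁻¹ ∈ D := by
      show q _ ∈ E
      rw [map_mul, map_mul, map_inv, hqys]
      exact hEn.conj_mem _ k.2 t
    have key : χ (pD ⟨_, hk'⟩) = χ (pD k) := by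
      rw [hval, hval]
      refine congrArg₂ (· * ·) (hψS t ht _ _ ?_) ?_
      · show q (ys * (k : fin ρ) * ys⁻¹) = t * q (k : fin ρ) * t⁻¹
        rw [map_mul, map_mul, map_inv, hqys]
      · show LinearMap.trace ℂ _ (oper N ρ ((ys * (k : fin ρ) * ys⁻¹ : fin ρ) : covering N ρ) :
            Module.End ℂ (Fin d → ℂ)) = LinearMap.trace ℂ _ _
        simp only [Subgroup.coe_mul, Subgroup.coe_inv, map_mul, map_inv, Units.val_mul]
        exact LinearMap.trace_conj ℂ (oper N ρ (k : fin ρ) : Module.End ℂ (Fin d → ℂ))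
          (oper N ρ (ys : covering N ρ))
    refine Eq.trans ?_ key
    refine Eq.trans ?_ (isClassFunction_of_isCharacter (isCharacter_of_isIrr hχ) (pD ⟨_, hk'⟩)
      ⟨_, ha⟩)
    refine congrArg χ (Subtype.ext ?_)
    show x * proj N ρ ((k : fin ρ) : covering N ρ) * x⁻¹ = proj N ρ (yw : covering N ρ) *
      proj N ρ ((ys * (k : fin ρ) * ys⁻¹ : fin ρ) : covering N ρ) * (proj N ρ (yw : covering N ρ))⁻¹
    rw [← hy, hys]
    simp only [Subgroup.coe_mul, Subgroup.coe_inv, map_mul, map_inv]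
    group

variable [Fintype Γ] {G : Subgroup Γ} [hG : G.Normal] [Fintype G] [Fintype N]

/-- The invariant constituent above, solvable top. -/
theorem exists_invariant_of_solvable_quotient (hNG : N ≤ G) (hcop : G.index.Coprime (N.relIndex G))
    (hsolv : Group.IsSolvable (Γ ⧸ G)) (θ : IrrCharacter N)
    (hinv : ∀ g, conjBy N (θ : N → ℂ) g = θ) :
    ∃ χ : IrrCharacter G, classInner (res hNG (χ : G → ℂ)) (θ : N → ℂ) ≠ 0 ∧
      ∀ (x : Γ) (g : G), (χ : G → ℂ) ⟨x * g * x⁻¹, hG.conj_mem g g.2 x⟩ = (χ : G → ℂ) g := by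
  classical
  obtain ⟨θf, hθf⟩ := θ
  obtain ⟨d, ρ, hρ, rfl⟩ := hθf
  have hsurj : Function.Surjective (proj N ρ) := proj_surjective N ρ fun g n => by
    have := congrFun (hinv g) n
    rw [conjBy_eq_comp] at this
    exact this
  haveI : Finite (fin ρ) := finite_fin ρ
  haveI : Fintype (fin ρ) := Fintype.ofFinite _
  -- the finite covering and its quotient by `N`
  let p : fin ρ →* Γ := (proj N ρ).comp (fin ρ).subtype
  have hp : Function.Surjective p := fun g => by
    obtain ⟨x, hx, e⟩ := exists_fin ρ hsurj g; exact ⟨⟨x, hx⟩, e⟩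
  let em : N →* fin ρ := (embN N ρ).codRestrict _ (embN_mem_fin ρ)
  haveI hNh : em.range.Normal := by
    refine ⟨?_⟩
    rintro _ ⟨n, rfl⟩ x
    exact ⟨_, Subtype.ext (embN_normal N ρ (x : covering N ρ) n).symm⟩
  let q : fin ρ →* fin ρ ⧸ em.range := QuotientGroup.mk' em.range
  have hq : Function.Surjective q := QuotientGroup.mk'_surjective _
  haveI : Fintype (fin ρ ⧸ em.range) := Fintype.ofFinite _
  have hkerq : ∀ K : Subgroup Γ, N ≤ K → q.ker ≤ K.comap p := by
    intro K hK x hx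
    rw [QuotientGroup.ker_mk'] at hx
    obtain ⟨n, rfl⟩ := hx
    exact hK n.2
  set Gh := (G.comap p).map q with hGh
  set Z := (N.comap p).map q with hZdef
  have hZG : Z ≤ Gh := Subgroup.map_mono (Subgroup.comap_mono hNG)
  haveI hGhn : Gh.Normal := Subgroup.Normal.map inferInstance q hq
  have hGhidx : Gh.index = G.index := by
    rw [hGh, Subgroup.index_map_eq _ hq (hkerq G hNG), Subgroup.index_comap_of_surjective _ hp]
  have hGhmem : ∀ x, q x ∈ Gh ↔ p x ∈ G := fun x => by
    rw [← Subgroup.mem_comap, hGh, Subgroup.comap_map_eq, sup_eq_left.mpr (hkerq G hNG),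
      Subgroup.mem_comap]
  have hZmem : ∀ x, q x ∈ Z ↔ p x ∈ N := fun x => by
    rw [← Subgroup.mem_comap, hZdef, Subgroup.comap_map_eq, sup_eq_left.mpr (hkerq N le_rfl),
      Subgroup.mem_comap]
  have hrel : Z.relIndex Gh = N.relIndex G := by
    rw [hGh, ← Subgroup.relIndex_comap, hZdef, Subgroup.comap_map_eq,
      sup_eq_left.mpr (hkerq N le_rfl), Subgroup.relIndex_comap,
      Subgroup.map_comap_eq_self_of_surjective hp]
  -- scalars
  haveI : NeZero (finrank ℂ (Fin d → ℂ) * Nat.card N) := ⟨(pos_exponent ρ).ne'⟩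
  let sc : rootsOfUnity (finrank ℂ (Fin d → ℂ) * Nat.card N) ℂ →* fin ρ :=
    ((scal N ρ).comp (rootsOfUnity _ ℂ).subtype).codRestrict _
      fun c => (scal_mem_fin ρ).mpr ((mem_rootsOfUnity _ _).mp c.2)
  let ι : rootsOfUnity (finrank ℂ (Fin d → ℂ) * Nat.card N) ℂ →* fin ρ ⧸ em.range := q.comp sc
  have hι : Function.Injective ι := by
    refine (injective_iff_map_eq_one ι).mpr fun c hc => ?_
    obtain ⟨n, hn⟩ := (QuotientGroup.eq_one_iff (sc c)).mp hc
    have h1 : embN N ρ n = scal N ρ (c : ℂˣ) := congrArg Subtype.val hn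
    have hn1 : n = 1 := Subtype.ext (by have := congrArg (proj N ρ) h1; simpa using this)
    rw [hn1, map_one] at h1
    exact Subtype.ext (scal_injective N ρ (h1.symm.trans (map_one _).symm))
  have hZι : Z = ι.range := by
    refine le_antisymm ?_ ?_
    · rintro _ ⟨x, hx, rfl⟩
      obtain ⟨c, hc⟩ := exists_mul_scal N ρ (x := (x : covering N ρ))
        (y := embN N ρ ⟨p x, hx⟩) rfl
      have hcm : c ∈ rootsOfUnity (finrank ℂ (Fin d → ℂ) * Nat.card N) ℂ := by
        rw [mem_rootsOfUnity, ← scal_mem_fin ρ]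
        have h := (fin ρ).mul_mem ((fin ρ).inv_mem (embN_mem_fin ρ ⟨p x, hx⟩)) x.2
        rwa [hc, inv_mul_cancel_left] at h
      refine ⟨⟨c, hcm⟩, ?_⟩
      have e : x = em ⟨p x, hx⟩ * sc ⟨c, hcm⟩ := Subtype.ext hc
      show q (sc ⟨c, hcm⟩) = q x
      conv_rhs => rw [e]
      rw [map_mul, show q (em ⟨p x, hx⟩) = 1 from (QuotientGroup.eq_one_iff _).mpr ⟨_, rfl⟩, one_mul]
    · rintro _ ⟨c, rfl⟩
      exact (hZmem _).mpr (by show proj N ρ (scal N ρ (c : ℂˣ)) ∈ N; rw [proj_scal]; exact N.one_mem)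
  have hZcent : ∀ z ∈ Z, ∀ y, z * y = y * z := by
    intro z hz y
    rw [hZι] at hz
    obtain ⟨c, rfl⟩ := hz
    obtain ⟨y, rfl⟩ := hq y
    show q (sc c) * q y = q y * q (sc c)
    rw [← map_mul, ← map_mul]
    exact congrArg q (Subtype.ext (scal_comm N ρ (c : ℂˣ) (y : covering N ρ)))
  -- the part of order prime to the index
  set m := G.index with hm
  have hm0 : m ≠ 0 := Subgroup.index_ne_zero_of_finite
  set e := Nat.gcd (Nat.card Z) (m ^ Nat.card Z) with he
  let Zp : Subgroup (fin ρ ⧸ em.range) :=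
    { carrier := {z | z ∈ Z ∧ z ^ e = 1}
      one_mem' := ⟨Z.one_mem, one_pow _⟩
      mul_mem' := fun {a b} ha hb => ⟨Z.mul_mem ha.1 hb.1, by
        rw [Commute.mul_pow (hZcent a ha.1 b), ha.2, hb.2, one_mul]⟩
      inv_mem' := fun {a} ha => ⟨Z.inv_mem ha.1, by rw [inv_pow, ha.2, inv_one]⟩ }
  have hZpZ : Zp ≤ Z := fun z hz => hz.1
  have hZpm : ∀ r : ℕ, r.Prime → r ∣ Nat.card Zp → r ∣ m := by
    intro r hr hrd
    haveI := Fact.mk hr
    obtain ⟨⟨z, hzZ, hze⟩, hz⟩ := exists_prime_orderOf_dvd_card' r hrd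
    have h1 : r ∣ e := by
      rw [← hz, ← Subgroup.orderOf_coe]
      exact orderOf_dvd_of_pow_eq_one hze
    exact hr.dvd_of_dvd_pow (h1.trans (Nat.gcd_dvd_right _ _))
  have hcopZ : (Nat.card Zp).Coprime (Zp.relIndex Gh) := by
    refine Nat.coprime_of_dvd fun r hr hr1 hr2 => ?_
    haveI := Fact.mk hr
    have hrm := hZpm r hr hr1
    rw [← Subgroup.relIndex_mul_relIndex Zp Z Gh hZpZ hZG, hr.dvd_mul] at hr2
    rcases hr2 with h | h
    · obtain ⟨Q⟩ : Nonempty (Sylow r Z) := inferInstance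
      have hle : (Q : Subgroup Z).map Z.subtype ≤ Zp := by
        rintro _ ⟨z, hz, rfl⟩
        refine ⟨z.2, orderOf_dvd_iff_pow_eq_one.mp ?_⟩
        rw [Subgroup.coe_subtype, Subgroup.orderOf_coe]
        refine Nat.dvd_gcd (orderOf_dvd_natCard z) ?_
        have h2 := Subgroup.orderOf_dvd_natCard (Q : Subgroup Z) hz
        rw [Q.card_eq_multiplicity] at h2
        exact h2.trans ((pow_dvd_pow_of_dvd hrm _).trans (pow_dvd_pow m
          (((Nat.card Z).factorization_lt r Nat.card_pos.ne').le)))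
      have h3 := Subgroup.card_dvd_of_le hle
      rw [Subgroup.card_map_of_injective Z.subtype_injective, Q.card_eq_multiplicity] at h3
      have h4 : Nat.card Zp * Zp.relIndex Z = Nat.card Z := by
        have := Subgroup.card_mul_index (Zp.subgroupOf Z)
        rwa [Nat.card_congr (Subgroup.subgroupOfEquivOfLe hZpZ).toEquiv] at this
      have h5 := mul_dvd_mul h3 h
      rw [h4, ← pow_succ] at h5
      exact Nat.pow_succ_factorization_not_dvd Nat.card_pos.ne' hr h5
    · rw [hrel] at h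
      exact hr.one_lt.ne' (Nat.eq_one_of_dvd_coprimes hcop hrm h)
  have hZpn : Gh ≤ Subgroup.normalizer (Zp : Set (fin ρ ⧸ em.range)) := by
    intro y _
    refine Subgroup.mem_normalizer_iff.mpr fun x => ⟨fun hx => ?_, fun hx => ?_⟩
    · rwa [← hZcent x (hZpZ hx) y, mul_inv_cancel_right]
    · have h1 := hZcent _ (hZpZ hx) y
      rw [inv_mul_cancel_right] at h1
      have h2 : y * x * y⁻¹ = x := (mul_left_cancel (h1 : y * x = y * (y * x * y⁻¹))).symm
      rwa [← h2]
  obtain ⟨E, hEG, hEsup, hEbot, hEcard⟩ := CfsgLib.Coprime.exists_complement_of_coprime hZpn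
    (by rw [inf_eq_left.mpr (hZpZ.trans hZG)]; exact hcopZ)
  rw [inf_eq_left.mpr (hZpZ.trans hZG)] at hEsup hEbot
  have hEm : (Nat.card E).Coprime m := by
    rw [hEcard]
    refine Nat.coprime_of_dvd fun r hr hr1 hr2 => ?_
    by_cases hrZ : r ∣ Nat.card Zp
    · exact hr.one_lt.ne' (Nat.eq_one_of_dvd_coprimes hcopZ hrZ hr1)
    · -- `r` divides `|Z : Zp|` or `|G : N|`
      rw [← Subgroup.relIndex_mul_relIndex Zp Z Gh hZpZ hZG, hr.dvd_mul] at hr1
      rcases hr1 with h | h
      · haveI := Fact.mk hr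
        have hrZc : r ∣ Nat.card Z := h.trans (Dvd.intro_left _ (by
          have := Subgroup.card_mul_index (Zp.subgroupOf Z)
          exact this : _ * (Zp.subgroupOf Z).index = Nat.card Z))
        obtain ⟨z, hz⟩ := exists_prime_orderOf_dvd_card' r hrZc
        apply hrZ
        have hzmem : (z : fin ρ ⧸ em.range) ∈ Zp := by
          refine ⟨z.2, orderOf_dvd_iff_pow_eq_one.mp ?_⟩
          rw [Subgroup.orderOf_coe, hz]
          exact Nat.dvd_gcd hrZc (dvd_pow hr2 Nat.card_pos.ne')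
        exact hz ▸ Subgroup.orderOf_coe z ▸ Subgroup.orderOf_dvd_natCard Zp hzmem
      · rw [hrel] at h
        exact hr.one_lt.ne' (Nat.eq_one_of_dvd_coprimes hcop hr2 h)
  have hEchar : ∀ x ∈ Gh, (orderOf x).Coprime m → x ∈ E := by
    intro x hx hxm
    rw [← hEsup] at hx
    haveI : Zp.Normal := ⟨fun z hz y => by
      rw [← hZcent z (hZpZ hz) y, mul_inv_cancel_right]; exact hz⟩
    obtain ⟨z, hz, w, hw, rfl⟩ := Subgroup.mem_sup_of_normal_left.mp hx
    have hc : Commute z w := hZcent z (hZpZ hz) w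
    have h1 : (orderOf z).Coprime m := by
      have h2 : z = z * w * w⁻¹ := (mul_inv_cancel_right z w).symm
      rw [h2]
      have hc2 : Commute (z * w) w⁻¹ := (hc.mul_left (Commute.refl w)).inv_right
      have h3 : (orderOf w⁻¹).Coprime m := by
        rw [orderOf_inv]; exact hEm.coprime_dvd_left (Subgroup.orderOf_dvd_natCard E hw)
      exact (hxm.mul_left h3).coprime_dvd_left hc2.orderOf_mul_dvd_mul_orderOf
    have hz1 : orderOf z = 1 := by
      by_contra hne
      obtain ⟨r, hr, hrd⟩ := Nat.exists_prime_and_dvd hne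
      exact hr.one_lt.ne' (Nat.eq_one_of_dvd_coprimes h1 hrd
        (hZpm r hr (hrd.trans (Subgroup.orderOf_dvd_natCard Zp hz))))
    rw [orderOf_eq_one_iff.mp hz1, one_mul]
    exact hw
  haveI hEn : E.Normal := ⟨fun x hx y => hEchar _ (hGhn.conj_mem x (hEG hx) y) (by
    rw [← MulAut.conj_apply, MulEquiv.orderOf_eq]
    exact hEm.coprime_dvd_left (Subgroup.orderOf_dvd_natCard E hx))⟩
  have hEprimes : ∀ r : ℕ, r.Prime → r ∣ E.index → r ∣ m := by
    intro r hr hrd
    have h1 : E.relIndex Gh = Nat.card Zp := by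
      have e1 : Nat.card E * E.relIndex Gh = Nat.card Gh := by
        have := Subgroup.card_mul_index (E.subgroupOf Gh)
        rwa [Nat.card_congr (Subgroup.subgroupOfEquivOfLe hEG).toEquiv] at this
      have e2 : Nat.card Zp * Zp.relIndex Gh = Nat.card Gh := by
        have := Subgroup.card_mul_index (Zp.subgroupOf Gh)
        rwa [Nat.card_congr (Subgroup.subgroupOfEquivOfLe (hZpZ.trans hZG)).toEquiv] at this
      rw [hEcard] at e1
      have e3 : Zp.relIndex Gh * E.relIndex Gh = Zp.relIndex Gh * Nat.card Zp := by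
        rw [e1, ← e2, mul_comm]
      exact Nat.eq_of_mul_eq_mul_left (Nat.pos_of_ne_zero Subgroup.index_ne_zero_of_finite) e3
    rw [← Subgroup.relIndex_mul_index hEG, h1, hGhidx, hr.dvd_mul] at hrd
    exact hrd.elim (hZpm r hr) id
  obtain ⟨S, hES, hSm⟩ := InvariantAbove.exists_supplement E
  have hSE : (Nat.card E).Coprime (Nat.card S) :=
    Nat.coprime_of_dvd fun r hr h1 h2 =>
      hr.one_lt.ne' (Nat.eq_one_of_dvd_coprimes hEm h1 (hEprimes r hr (hSm r hr h2)))
  have hSsolv : Group.IsSolvable S := by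
    have hinj : Function.Injective ((QuotientGroup.mk' E).comp S.subtype) :=
      (injective_iff_map_eq_one _).mpr fun x hx => by
        have h1 : (x : fin ρ ⧸ em.range) ∈ E ⊓ S :=
          Subgroup.mem_inf.mpr ⟨(QuotientGroup.eq_one_iff _).mp hx, x.2⟩
        rw [Subgroup.inf_eq_bot_of_coprime hSE, Subgroup.mem_bot] at h1
        exact Subtype.ext h1
    let f1 : (fin ρ ⧸ em.range) →* Γ ⧸ G :=
      QuotientGroup.lift em.range ((QuotientGroup.mk' G).comp p) (fun x hx => by
        obtain ⟨n, rfl⟩ := hx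
        exact (QuotientGroup.eq_one_iff _).mpr (hNG n.2))
    have hEf : E ≤ f1.ker := fun x hx => by
      obtain ⟨x, rfl⟩ := hq x
      exact (QuotientGroup.eq_one_iff _).mpr ((hGhmem x).mp (hEG hx))
    let f2 : ((fin ρ ⧸ em.range) ⧸ E) →* Γ ⧸ G := QuotientGroup.lift E f1 hEf
    let zp : Zp →* ((fin ρ ⧸ em.range) ⧸ E) := (QuotientGroup.mk' E).comp Zp.subtype
    haveI : Group.IsSolvable Zp := Group.isSolvable_of_comm fun a b =>
      Subtype.ext (hZcent _ (hZpZ a.2) _)
    haveI := hsolv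
    haveI : Group.IsSolvable ((fin ρ ⧸ em.range) ⧸ E) :=
      Group.isSolvable_of_ker_le_range zp f2 fun a ha => by
        obtain ⟨a, rfl⟩ := QuotientGroup.mk'_surjective E a
        obtain ⟨x, rfl⟩ := hq a
        have hxG : q x ∈ Gh := (hGhmem x).mpr ((QuotientGroup.eq_one_iff _).mp ha)
        rw [← hEsup] at hxG
        obtain ⟨z, hz, w, hw, e⟩ := Subgroup.mem_sup_of_normal_right.mp hxG
        refine ⟨⟨z, hz⟩, ?_⟩
        show QuotientGroup.mk' E z = QuotientGroup.mk' E (q x)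
        rw [← e, map_mul, show QuotientGroup.mk' E w = 1 from (QuotientGroup.eq_one_iff w).mpr hw,
          mul_one]
    exact Group.isSolvable_of_isSolvable_injective hinj
  -- the scalar character
  set Z0 := Z ⊓ E with hZ0
  have hZ0r : Z0 ≤ ι.range := fun z hz => hZι ▸ (Subgroup.mem_inf.mp hz).1
  obtain ⟨lam, hlam⟩ : ∃ lam : Z0 →* ℂˣ,
      ∀ (z : Z0) (c : rootsOfUnity (finrank ℂ (Fin d → ℂ) * Nat.card N) ℂ),
        (z : fin ρ ⧸ em.range) = ι c → lam z = (c : ℂˣ)⁻¹ := by
    refine ⟨((rootsOfUnity (finrank ℂ (Fin d → ℂ) * Nat.card N) ℂ).subtype.comp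
      ((MonoidHom.ofInjective hι).symm.toMonoidHom.comp (Subgroup.inclusion hZ0r)))⁻¹, fun z c hc => ?_⟩
    show ((((MonoidHom.ofInjective hι).symm (Subgroup.inclusion hZ0r z) :
      rootsOfUnity (finrank ℂ (Fin d → ℂ) * Nat.card N) ℂ)) : ℂˣ)⁻¹ = _
    congr 2
    rw [MulEquiv.symm_apply_eq]
    exact Subtype.ext hc
  haveI : Fintype E := Fintype.ofFinite _
  haveI : Fintype Z0 := Fintype.ofFinite _
  have hnE : ∀ y, y ∈ Subgroup.normalizer (E : Set (fin ρ ⧸ em.range)) := fun y => by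
    rw [Subgroup.normalizer_eq_top E]; trivial
  have hnZ0 : ∀ y, y ∈ Subgroup.normalizer (Z0 : Set (fin ρ ⧸ em.range)) := fun y =>
    mem_normalizer_of_commute fun z hz => (hZcent z (Subgroup.mem_inf.mp hz).1 y).symm
  obtain ⟨ψ, hψ, hψinv⟩ := exists_invariant_over (G := E) (N := Z0) (S := S) (fun y _ => hnE y)
    (fun y _ => hnZ0 y) inf_le_right (fun y _ => hnZ0 y) hSsolv hSE
    (θ := ⟨fun z => (lam z : ℂ), isIrrCharacter_monoidHom lam⟩) (fun s hs z z' e => by
      have h1 : z' = z := Subtype.ext (by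
        rw [e, ← hZcent _ (Subgroup.mem_inf.mp z.2).1 s, mul_inv_cancel_right])
      rw [h1])
  rw [over_iff] at hψ
  have hψz : ∀ (z : Z0) (x : E), (ψ : E → ℂ) (⟨z, (Subgroup.mem_inf.mp z.2).2⟩ * x) =
      (lam z : ℂ) * (ψ : E → ℂ) x := by
    intro z x
    set z' : E := ⟨z, (Subgroup.mem_inf.mp z.2).2⟩ with hz'
    obtain ⟨ω, h2⟩ : ∃ ω : ℂ, ∀ y : E, (ψ : E → ℂ) (z' * y) = ω * (ψ : E → ℂ) y := by
      have hc : z' ∈ Subgroup.center E := Subgroup.mem_center_iff.mpr fun y =>
        Subtype.ext (hZcent _ (Subgroup.mem_inf.mp z.2).1 _).symm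
      refine ⟨(ψ : E → ℂ) z' / (ψ : E → ℂ) 1, fun y => ?_⟩
      have h1 := central_mul ψ.2 hc y
      rw [← Subgroup.mem_center_iff.mp hc y]
      field_simp [irr_degree_ne_zero ψ.2]
      linear_combination h1
    have hω : ω = lam z := by
      set f := res (inf_le_right : Z0 ≤ E) (ψ : E → ℂ) with hf
      set A := ∑ y : Z0, f y * conj ((lam y : ℂˣ) : ℂ) with hA
      have hA0 : A ≠ 0 := fun e => hψ (by
        show (Nat.card Z0 : ℂ)⁻¹ * A = 0
        rw [e, mul_zero])
      have hu : conj ((lam z : ℂˣ) : ℂ) * (lam z : ℂ) = 1 := by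
        rw [mul_comm, Complex.mul_conj']
        have : ‖((lam z : ℂˣ) : ℂ)‖ = 1 := Complex.norm_eq_one_of_pow_eq_one
          (n := Nat.card Z0) (by rw [← Units.val_pow_eq_pow_val, ← map_pow, pow_card_eq_one', map_one,
            Units.val_one]) Nat.card_pos.ne'
        rw [this]; simp
      refine mul_right_cancel₀ hA0 ?_
      rw [hA, Finset.mul_sum, Finset.mul_sum]
      refine Fintype.sum_equiv (Equiv.mulLeft z) _ _ fun y => ?_
      have h3 : f (z * y) = ω * f y := h2 ⟨y, (Subgroup.mem_inf.mp y.2).2⟩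
      simp only [Equiv.coe_mulLeft, map_mul, Units.val_mul, h3]
      linear_combination (-(ω * f y * conj ((lam y : ℂˣ) : ℂ))) * hu
    rw [h2, hω]
  -- the descent
  refine exists_of_data hNG q hq
    (fun n => (QuotientGroup.eq_one_iff _).mpr ⟨n, rfl⟩) (E := E) (S := S)
    (fun x hx => (hGhmem x).mp (hEG hx)) (fun g => ?_) hES hp ψ.2 hψinv (fun k hk hk1 => ?_)
  · obtain ⟨x, hx⟩ := hp g
    have h1 : q x ∈ Gh := (hGhmem x).mpr (hx ▸ g.2)
    rw [← hEsup] at h1
    obtain ⟨z, hz, w, hw, e⟩ := Subgroup.mem_sup_of_normal_right.mp h1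
    obtain ⟨c, hc⟩ := hZι ▸ hZpZ hz
    refine ⟨(sc c)⁻¹ * x, ?_, ?_⟩
    · rw [map_mul, map_inv, ← e, show q (sc c) = z from hc, inv_mul_cancel_left]
      exact hw
    · show proj N ρ ((scal N ρ (c : ℂˣ))⁻¹ * (x : covering N ρ)) = g
      rw [map_mul, map_inv, proj_scal, inv_one, one_mul]
      exact hx
  · obtain ⟨c, hc⟩ := exists_scal N ρ (x := (k : covering N ρ)) hk1
    have hcm : c ∈ rootsOfUnity (finrank ℂ (Fin d → ℂ) * Nat.card N) ℂ := by
      rw [mem_rootsOfUnity, ← scal_mem_fin ρ, ← hc]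
      exact k.2
    have hk' : q k = ι ⟨c, hcm⟩ := congrArg q (Subtype.ext hc)
    have hz0 : q k ∈ Z0 := Subgroup.mem_inf.mpr ⟨hZι.symm ▸ ⟨_, hk'.symm⟩, hk⟩
    have hψk := hψz ⟨_, hz0⟩ 1
    rw [mul_one] at hψk
    rw [show (⟨q k, hk⟩ : E) = ⟨((⟨q k, hz0⟩ : Z0) : fin ρ ⧸ em.range), hk⟩ from rfl, hψk,
      hlam ⟨_, hz0⟩ ⟨c, hcm⟩ hk', hc, oper_scal, Algebra.algebraMap_eq_smul_one, map_smul,
      smul_eq_mul]
    push_cast
    field_simp

end CfsgLib.Char.TripleAbove
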