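import Cfsg.Agent.Lib.Char.Basic

/-!
# Orthogonality, completeness, decomposition of characters
-/

set_option autoImplicit false

namespace CfsgLib.Char

open Module Representation Cfsg
open scoped ComplexConjugate

variable {G : Type*} [Group G]

section Inner

variable [Fintype G]

theorem classInner_add_left (φ φ' ψ : G → ℂ) :
    classInner (φ + φ') ψ = classInner φ ψ + classInner φ' ψ := by
  simp [classInner, add_mul, Finset.sum_add_distrib, mul_add]

theorem classInner_add_right (φ ψ ψ' : G → ℂ) :
    classInner φ (ψ + ψ') = classInner φ ψ + classInner φ ψ' := by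
  simp [classInner, Finset.sum_add_distrib, mul_add]

theorem classInner_smul_left (a : ℂ) (φ ψ : G → ℂ) :
    classInner (a • φ) ψ = a * classInner φ ψ := by
  simp only [classInner, Pi.smul_apply, smul_eq_mul, Finset.mul_sum]
  exact Finset.sum_congr rfl fun g _ => by ring

theorem classInner_smul_right (a : ℂ) (φ ψ : G → ℂ) :
    classInner φ (a • ψ) = conj a * classInner φ ψ := by
  simp only [classInner, Pi.smul_apply, smul_eq_mul, map_mul, Finset.mul_sum]
  exact Finset.sum_congr rfl fun g _ => by ring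

theorem classInner_zero_left (ψ : G → ℂ) : classInner (0 : G → ℂ) ψ = 0 := by simp [classInner]

theorem classInner_zero_right (φ : G → ℂ) : classInner φ (0 : G → ℂ) = 0 := by simp [classInner]

theorem classInner_neg_left (φ ψ : G → ℂ) : classInner (-φ) ψ = -classInner φ ψ := by
  simp [classInner]

theorem classInner_neg_right (φ ψ : G → ℂ) : classInner φ (-ψ) = -classInner φ ψ := by
  simp [classInner]

theorem classInner_sub_left (φ φ' ψ : G → ℂ) :
    classInner (φ - φ') ψ = classInner φ ψ - classInner φ' ψ := by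
  rw [sub_eq_add_neg, classInner_add_left, classInner_neg_left, sub_eq_add_neg]

theorem classInner_sub_right (φ ψ ψ' : G → ℂ) :
    classInner φ (ψ - ψ') = classInner φ ψ - classInner φ ψ' := by
  rw [sub_eq_add_neg, classInner_add_right, classInner_neg_right, sub_eq_add_neg]

theorem classInner_sum_left {ι : Type*} (s : Finset ι) (f : ι → G → ℂ) (ψ : G → ℂ) :
    classInner (∑ i ∈ s, f i) ψ = ∑ i ∈ s, classInner (f i) ψ := by
  classical
  induction s using Finset.induction with
  | empty => simp [classInner_zero_left]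
  | insert a t hat ih => rw [Finset.sum_insert hat, Finset.sum_insert hat, classInner_add_left, ih]

theorem classInner_sum_right {ι : Type*} (s : Finset ι) (φ : G → ℂ) (f : ι → G → ℂ) :
    classInner φ (∑ i ∈ s, f i) = ∑ i ∈ s, classInner φ (f i) := by
  classical
  induction s using Finset.induction with
  | empty => simp [classInner_zero_right]
  | insert a t hat ih => rw [Finset.sum_insert hat, Finset.sum_insert hat, classInner_add_right, ih]

theorem classInner_conj_symm (φ ψ : G → ℂ) : conj (classInner φ ψ) = classInner ψ φ := by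
  simp [classInner, map_mul, map_sum, mul_comm]

theorem classInner_self_eq (φ : G → ℂ) :
    classInner φ φ = (((Nat.card G : ℝ)⁻¹ * ∑ g, ‖φ g‖ ^ 2 : ℝ) : ℂ) := by
  simp [classInner, Complex.mul_conj']

theorem classInner_self_re_nonneg (φ : G → ℂ) : 0 ≤ (classInner φ φ).re := by
  rw [classInner_self_eq, Complex.ofReal_re]
  positivity

theorem eq_zero_of_classInner_self {φ : G → ℂ} (h : classInner φ φ = 0) : φ = 0 := by
  rw [classInner_self_eq, Complex.ofReal_eq_zero] at h
  have hne : ((Nat.card G : ℝ))⁻¹ ≠ 0 := by simp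
  have h2 := (mul_eq_zero.mp h).resolve_left hne
  funext g
  have := (Finset.sum_eq_zero_iff_of_nonneg fun i _ => sq_nonneg ‖φ i‖).mp h2 g (Finset.mem_univ g)
  simpa using this

theorem classInner_character_eq_finrank {V W : Type*} [AddCommGroup V] [Module ℂ V]
    [FiniteDimensional ℂ V] [AddCommGroup W] [Module ℂ W] [FiniteDimensional ℂ W]
    (ρ : Representation ℂ G V) (σ : Representation ℂ G W) :
    classInner σ.character ρ.character = (finrank ℂ (IntertwiningMap ρ σ) : ℂ) := by
  have : Invertible (Nat.card G : ℂ) := invertibleOfNonzero (Nat.cast_ne_zero.mpr Nat.card_pos.ne')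
  rw [← card_inv_mul_sum_char_mul_char_eq_finrank ρ σ]
  simp only [classInner, char_value_inv]

theorem classInner_irr_rep {V W : Type*} [AddCommGroup V] [Module ℂ V] [FiniteDimensional ℂ V]
    [AddCommGroup W] [Module ℂ W] [FiniteDimensional ℂ W] (ρ : Representation ℂ G V)
    (σ : Representation ℂ G W) [ρ.IsIrreducible] [σ.IsIrreducible] :
    classInner ρ.character σ.character = open Classical in
      if Nonempty (σ.Equiv ρ) then 1 else 0 := by
  have : Invertible (Nat.card G : ℂ) := invertibleOfNonzero (Nat.cast_ne_zero.mpr Nat.card_pos.ne')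
  classical
  rw [← char_orthonormal ρ σ]
  simp only [classInner, char_value_inv]

theorem classInner_irr {φ ψ : G → ℂ} (hφ : IsIrrCharacter G φ) (hψ : IsIrrCharacter G ψ) :
    classInner φ ψ = open Classical in if φ = ψ then 1 else 0 := by
  classical
  obtain ⟨n, ρ, hρ, rfl⟩ := hφ
  obtain ⟨m, σ, hσ, rfl⟩ := hψ
  rw [classInner_irr_rep]
  by_cases h : Nonempty (σ.Equiv ρ)
  · rw [if_pos h, if_pos (char_iso (Classical.choice h)).symm]
  · rw [if_neg h, if_neg]
    intro heq
    apply h
    have h1 : classInner ρ.character ρ.character = 1 := by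
      rw [classInner_irr_rep, if_pos ⟨Representation.Equiv.refl ρ⟩]
    have h2 : classInner ρ.character σ.character = 0 := by rw [classInner_irr_rep, if_neg h]
    rw [← heq, h1] at h2
    exact absurd h2 one_ne_zero

theorem classInner_irr_self {φ : G → ℂ} (hφ : IsIrrCharacter G φ) : classInner φ φ = 1 := by
  classical
  rw [classInner_irr hφ hφ, if_pos rfl]

theorem classInner_irr_ne {φ ψ : G → ℂ} (hφ : IsIrrCharacter G φ) (hψ : IsIrrCharacter G ψ)
    (h : φ ≠ ψ) : classInner φ ψ = 0 := by
  classical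
  rw [classInner_irr hφ hψ, if_neg h]

theorem classInner_coe (χ ξ : IrrCharacter G) :
    classInner (χ : G → ℂ) (ξ : G → ℂ) = open Classical in if χ = ξ then 1 else 0 := by
  classical
  rw [classInner_irr χ.2 ξ.2]
  simp [Subtype.coe_inj]

end Inner

/-- Irreducible characters are linearly independent. -/
theorem linearIndependent_irr [Finite G] :
    LinearIndependent ℂ (fun χ : IrrCharacter G => (χ : G → ℂ)) := by
  classical
  have : Fintype G := Fintype.ofFinite G
  rw [linearIndependent_iff']
  intro s a hsum χ hχ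
  have h := congrArg (fun f => classInner f (χ : G → ℂ)) hsum
  simpa [classInner_sum_left, classInner_smul_left, classInner_zero_left, classInner_coe,
    Finset.sum_ite_eq', hχ] using h

theorem finite_irrCharacter [Finite G] : Finite (IrrCharacter G) := by
  have : Fintype G := Fintype.ofFinite G
  exact (linearIndependent_irr (G := G)).finite

noncomputable scoped instance instFintypeIrrCharacter [Finite G] : Fintype (IrrCharacter G) :=
  have := finite_irrCharacter (G := G)
  Fintype.ofFinite _

theorem finsum_irr [Finite G] {M : Type*} [AddCommMonoid M] (f : IrrCharacter G → M) :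
    ∑ᶠ χ : IrrCharacter G, f χ = ∑ χ : IrrCharacter G, f χ := by
  convert finsum_eq_sum_of_fintype f

/-- A character is a sum of irreducible characters with natural number multiplicities. -/
theorem exists_multiplicities [Finite G] {χ : G → ℂ} (hχ : IsCharacter G χ) :
    ∃ m : IrrCharacter G → ℕ, χ = ∑ ψ : IrrCharacter G, (m ψ : ℂ) • (ψ : G → ℂ) := by
  classical
  obtain ⟨n, ρ, rfl⟩ := hχ
  revert ρ
  suffices h : ∀ {V : Type} [AddCommGroup V] [Module ℂ V] [FiniteDimensional ℂ V]
      (ρ : Representation ℂ G V), ∃ m : IrrCharacter G → ℕ,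
      ρ.character = ∑ ψ : IrrCharacter G, (m ψ : ℂ) • (ψ : G → ℂ) from fun ρ => h ρ
  intro V _ _ _ ρ
  refine rep_induction (G := G) (fun {V} _ _ ρ => ∃ m : IrrCharacter G → ℕ,
    ρ.character = ∑ ψ : IrrCharacter G, (m ψ : ℂ) • (ψ : G → ℂ)) ?_ ?_ ?_ ρ
  · intro V _ _ _ ρ
    refine ⟨0, ?_⟩
    funext g
    show LinearMap.trace ℂ V (ρ g) = _
    rw [Subsingleton.elim (ρ g) 0]
    simp
  · intro V _ _ _ ρ hρ
    refine ⟨fun ψ => if ψ = irrOf ρ then 1 else 0, ?_⟩
    simp only [Nat.cast_ite, Nat.cast_one, Nat.cast_zero, ite_smul, one_smul, zero_smul,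
      Finset.sum_ite_eq', Finset.mem_univ, if_true]
    rfl
  · rintro V _ _ _ ρ A B hAB ⟨a, ha⟩ ⟨b, hb⟩
    refine ⟨a + b, ?_⟩
    rw [char_eq_add_of_isCompl ρ A B hAB, ha, hb, ← Finset.sum_add_distrib]
    refine Finset.sum_congr rfl fun ψ _ => ?_
    rw [Pi.add_apply, Nat.cast_add, add_smul]

theorem classInner_sum_smul_irr [Fintype G] (c : IrrCharacter G → ℂ) (ξ : IrrCharacter G) :
    classInner (∑ ψ : IrrCharacter G, c ψ • (ψ : G → ℂ)) (ξ : G → ℂ) = c ξ := by
  classical
  simp [classInner_sum_left, classInner_smul_left, classInner_coe]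

theorem classInner_sum_smul_sum_smul [Fintype G] (a b : IrrCharacter G → ℂ) :
    classInner (∑ ψ : IrrCharacter G, a ψ • (ψ : G → ℂ))
      (∑ ψ : IrrCharacter G, b ψ • (ψ : G → ℂ)) = ∑ ψ : IrrCharacter G, a ψ * conj (b ψ) := by
  rw [classInner_sum_right]
  refine Finset.sum_congr rfl fun ψ _ => ?_
  rw [classInner_smul_right, classInner_sum_smul_irr, mul_comm]

/-- The inner product of two characters is a natural number. -/
theorem exists_nat_classInner [Fintype G] {φ ψ : G → ℂ} (hφ : IsCharacter G φ)
    (hψ : IsCharacter G ψ) : ∃ n : ℕ, classInner φ ψ = n := by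
  obtain ⟨n, ρ, rfl⟩ := hφ
  obtain ⟨m, σ, rfl⟩ := hψ
  exact ⟨_, classInner_character_eq_finrank σ ρ⟩

section Completeness

variable [Fintype G]

/-- The twisted sum `∑ f g • ρ g⁻¹`. -/
noncomputable def twistedSum {V : Type*} [AddCommGroup V] [Module ℂ V]
    (ρ : Representation ℂ G V) (f : G → ℂ) : V →ₗ[ℂ] V :=
  ∑ g, f g • ρ g⁻¹

theorem twistedSum_comm {V : Type*} [AddCommGroup V] [Module ℂ V]
    (ρ : Representation ℂ G V) {f : G → ℂ} (hf : IsClassFunction G f) (h : G) :
    twistedSum ρ f ∘ₗ ρ h = ρ h ∘ₗ twistedSum ρ f := by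
  refine LinearMap.ext fun v => ?_
  simp only [twistedSum, LinearMap.comp_apply, LinearMap.sum_apply, LinearMap.smul_apply,
    map_sum, map_smul]
  refine Fintype.sum_equiv (MulAut.conj h⁻¹).toEquiv _ _ fun g => ?_
  simp only [MulEquiv.toEquiv_eq_coe, EquivLike.coe_coe]
  have h1 : f ((MulAut.conj h⁻¹) g) = f g := by simpa using hf g h⁻¹
  have h2 : ((MulAut.conj h⁻¹) g)⁻¹ = h⁻¹ * g⁻¹ * h := by simp [mul_assoc]
  rw [h1, h2, ← Module.End.mul_apply, ← Module.End.mul_apply, ← map_mul, ← map_mul]
  simp [mul_assoc]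

theorem trace_twistedSum {V : Type*} [AddCommGroup V] [Module ℂ V] [FiniteDimensional ℂ V]
    (ρ : Representation ℂ G V) (f : G → ℂ) :
    LinearMap.trace ℂ V (twistedSum ρ f) = (Nat.card G : ℂ) * classInner f ρ.character := by
  rw [classInner, mul_inv_cancel_left₀ (Nat.cast_ne_zero.mpr Nat.card_pos.ne'), twistedSum, map_sum]
  refine Finset.sum_congr rfl fun g _ => ?_
  rw [map_smul, smul_eq_mul, ← char_value_inv]
  rfl

/-- A class function orthogonal to all irreducible characters annihilates every representation. -/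
theorem twistedSum_eq_zero {f : G → ℂ} (hf : IsClassFunction G f)
    (horth : ∀ χ : IrrCharacter G, classInner f (χ : G → ℂ) = 0)
    {V : Type*} [AddCommGroup V] [Module ℂ V] [FiniteDimensional ℂ V]
    (ρ : Representation ℂ G V) : twistedSum ρ f = 0 := by
  refine rep_induction (G := G) (fun {V} _ _ ρ => twistedSum ρ f = 0) ?_ ?_ ?_ ρ
  · intro V _ _ _ ρ
    exact LinearMap.ext fun v => Subsingleton.elim _ _
  · intro V _ _ _ ρ hρ
    let T : IntertwiningMap ρ ρ := ⟨twistedSum ρ f, fun g => twistedSum_comm ρ hf g⟩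
    obtain ⟨c, hc⟩ := (IsIrreducible.algebraMap_intertwiningMap_bijective_of_isAlgClosed (ρ := ρ)).2 T
    have hT : twistedSum ρ f = c • LinearMap.id := by
      rw [show twistedSum ρ f = T.toLinearMap from rfl, ← hc, Algebra.algebraMap_eq_smul_one]
      rfl
    have htr := trace_twistedSum ρ f
    have h0 : classInner f ρ.character = 0 := horth (irrOf ρ)
    rw [hT, map_smul, LinearMap.trace_id, smul_eq_mul, h0, mul_zero] at htr
    rcases mul_eq_zero.mp htr with h | h
    · rw [hT, h, zero_smul]
    · have : Subsingleton V := (Module.finrank_zero_iff (R := ℂ)).mp (by exact_mod_cast h)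
      exact LinearMap.ext fun v => Subsingleton.elim _ _
  · intro V _ _ _ ρ A B hAB hA hB
    refine LinearMap.ext fun v => ?_
    have hv : v ∈ (A ⊔ B).toSubmodule := by
      rw [hAB.sup_eq_top]
      trivial
    rw [Subrepresentation.toSubmodule_sup, Submodule.mem_sup] at hv
    obtain ⟨a, ha, b, hb, rfl⟩ := hv
    have h1 := congrArg Subtype.val (LinearMap.congr_fun hA ⟨a, ha⟩)
    have h2 := congrArg Subtype.val (LinearMap.congr_fun hB ⟨b, hb⟩)
    simp only [twistedSum, LinearMap.sum_apply, LinearMap.smul_apply, AddSubmonoidClass.coe_finsetSum,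
      Submodule.coe_smul, LinearMap.zero_apply, Submodule.coe_zero] at h1 h2 ⊢
    simp only [Subrepresentation.toRepresentation, MonoidHom.coe_mk, OneHom.coe_mk,
      LinearMap.restrict_apply] at h1 h2
    simp [map_add, Finset.sum_add_distrib, h1, h2]

/-- The regular representation on functions. -/
noncomputable def regular : Representation ℂ G (G → ℂ) where
  toFun g := LinearMap.funLeft ℂ ℂ (fun x => g⁻¹ * x)
  map_one' := by ext v x; simp
  map_mul' a b := LinearMap.ext fun v => funext fun x => by simp [mul_assoc]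

omit [Fintype G] in
theorem regular_apply (g : G) (v : G → ℂ) (x : G) : regular g v x = v (g⁻¹ * x) := rfl

theorem eq_zero_of_orthogonal {f : G → ℂ} (hf : IsClassFunction G f)
    (horth : ∀ χ : IrrCharacter G, classInner f (χ : G → ℂ) = 0) : f = 0 := by
  classical
  funext a
  have h := congrFun (LinearMap.congr_fun (twistedSum_eq_zero hf horth (regular (G := G)))
    (Pi.single 1 1)) a⁻¹
  simp only [twistedSum, LinearMap.sum_apply, LinearMap.smul_apply, Finset.sum_apply, Pi.smul_apply,
    regular_apply, inv_inv, smul_eq_mul, Pi.single_apply, mul_ite, mul_one, mul_zero,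
    LinearMap.zero_apply, Pi.zero_apply, mul_inv_eq_one, Finset.sum_ite_eq', Finset.mem_univ,
    if_true] at h
  exact h

theorem classFunction_expansion {f : G → ℂ} (hf : IsClassFunction G f) :
    f = ∑ χ : IrrCharacter G, classInner f (χ : G → ℂ) • (χ : G → ℂ) := by
  refine sub_eq_zero.mp (eq_zero_of_orthogonal ?_ fun ξ => ?_)
  · intro g h
    simp only [Pi.sub_apply, Finset.sum_apply, Pi.smul_apply]
    rw [hf g h]
    simp only [fun χ : IrrCharacter G => isClassFunction_of_isCharacter (isCharacter_of_isIrr χ.2) g h]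
  · rw [classInner_sub_left, classInner_sum_smul_irr, sub_self]

theorem isCharacter_iff_exists_multiplicities {χ : G → ℂ} :
    IsCharacter G χ ↔ ∃ m : IrrCharacter G → ℕ, χ = ∑ ψ : IrrCharacter G, (m ψ : ℂ) • (ψ : G → ℂ) :=
  ⟨exists_multiplicities, fun ⟨m, hm⟩ => hm ▸ isCharacter_sum _ _ fun ψ _ =>
    isCharacter_natCast_smul (isCharacter_of_isIrr ψ.2) _⟩

theorem isCharacter_iff_classInner {χ : G → ℂ} (hχ : IsClassFunction G χ) :
    IsCharacter G χ ↔ ∀ ψ : IrrCharacter G, ∃ n : ℕ, classInner χ (ψ : G → ℂ) = n := by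
  refine ⟨fun h ψ => exists_nat_classInner h (isCharacter_of_isIrr ψ.2), fun h => ?_⟩
  choose n hn using h
  exact isCharacter_iff_exists_multiplicities.mpr ⟨n, by
    rw [classFunction_expansion hχ]; simp_rw [hn]⟩

end Completeness

section Degree

theorem exists_nat_degree {χ : G → ℂ} (hχ : IsCharacter G χ) : ∃ n : ℕ, χ 1 = n := by
  obtain ⟨n, ρ, rfl⟩ := hχ
  exact ⟨_, Representation.char_one ρ⟩

theorem exists_nat_degree_irr {χ : G → ℂ} (hχ : IsIrrCharacter G χ) :
    ∃ n : ℕ, 0 < n ∧ χ 1 = n := by
  obtain ⟨n, ρ, hρ, rfl⟩ := hχ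
  exact ⟨_, finrank_pos_of_irreducible ρ, Representation.char_one ρ⟩

theorem irr_degree_ne_zero {χ : G → ℂ} (hχ : IsIrrCharacter G χ) : χ 1 ≠ 0 := by
  obtain ⟨n, hn, h⟩ := exists_nat_degree_irr hχ
  rw [h]; exact Nat.cast_ne_zero.mpr hn.ne'

end Degree

end CfsgLib.Char
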