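import Cfsg.Agent.Lib.Char.GlaubermanCyclic
import Cfsg.Agent.Lib.Char.Kernel

/-!
# A `p`-element acting on a `p'`-group with a faithful representation of degree at most `p - 2`
-/

set_option autoImplicit false
set_option linter.unusedSectionVars false
set_option linter.style.haveILetI false

namespace CfsgLib.Char

open Cfsg Module Representation CfsgLib.Char.Canonical CfsgLib.Char.Glauberman
open scoped _root_.Classical
open scoped CfsgLib.Char

variable {Γ : Type*} [Group Γ] [Fintype Γ] {N : Subgroup Γ} [N.Normal] {s : Γ} {p k : ℕ}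
  (htop : N ⊔ Subgroup.zpowers s = ⊤) (hcop : (Nat.card N).Coprime (orderOf s))
  (hp : p.Prime) (hord : orderOf s = p ^ k)

include htop hcop hp hord in
/-- An irreducible character of degree at most `p - 2` contains the commutators in its kernel. -/
theorem irr_commutator_eq_degree {χ : Γ → ℂ} (hχ : IsIrrCharacter Γ χ) {d : ℕ} (hd : χ 1 = d)
    (hdp : d + 1 < p) (x : N) : χ (s * x * s⁻¹ * (x : Γ)⁻¹) = χ 1 := by
  haveI : Fintype N := Fintype.ofFinite N
  have hs : s * x * s⁻¹ * (x : Γ)⁻¹ ∈ N :=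
    N.mul_mem (Subgroup.Normal.conj_mem inferInstance _ x.2 s) (N.inv_mem x.2)
  obtain ⟨θ, hcon⟩ := exists_constituent N (isCharacter_of_isIrr hχ) (irr_degree_ne_zero hχ)
  obtain ⟨e, he⟩ := exists_nat_classInner (isCharacter_restrict N (isCharacter_of_isIrr hχ))
    (isCharacter_of_isIrr θ.2)
  obtain ⟨a, ha0, ha⟩ := exists_nat_degree_irr θ.2
  have hdeg := clifford_degree N hχ θ.2 hcon
  rw [hd, he, ha] at hdeg
  have hdeg' : d = e * ((orbit N (θ : N → ℂ)).card * a) := by exact_mod_cast hdeg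
  have he0 : e ≠ 0 := by rintro rfl; exact hcon (by rw [he, Nat.cast_zero])
  have hθc := isClassFunction_of_isCharacter (isCharacter_of_isIrr θ.2)
  have hinv : conjBy N (θ : N → ℂ) s = θ := by
    have h1 : (inertia N (θ : N → ℂ)).index ∣ p ^ k := by
      refine (Subgroup.index_dvd_of_le (le_inertia N hθc)).trans ?_
      rw [Subgroup.index_eq_card, ← hord]
      have hgen : ∀ y : Γ ⧸ N, y ∈ Subgroup.zpowers (QuotientGroup.mk' N s) := by
        intro y
        obtain ⟨g, rfl⟩ := QuotientGroup.mk'_surjective N y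
        obtain ⟨n, hn, i, rfl⟩ := exists_eq_mul_zpow htop g
        refine Subgroup.mem_zpowers_iff.mpr ⟨i, ?_⟩
        rw [map_mul, map_zpow, show QuotientGroup.mk' N n = 1 from (QuotientGroup.eq_one_iff n).mpr hn, one_mul]
      rw [← orderOf_eq_card_of_forall_mem_zpowers hgen]
      exact orderOf_map_dvd _ s
    obtain ⟨j, -, hj⟩ := (Nat.dvd_prime_pow hp).mp h1
    rw [← card_orbit_eq_index] at hj
    rcases Nat.eq_zero_or_pos j with rfl | hjp
    · have h2 : conjBy N (θ : N → ℂ) s ∈ orbit N (θ : N → ℂ) := (mem_orbit N).mpr ⟨s, rfl⟩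
      obtain ⟨b, hb⟩ := Finset.card_eq_one.mp (by rw [hj, pow_zero] : (orbit N (θ : N → ℂ)).card = 1)
      have h3 := self_mem_orbit N (θ : N → ℂ)
      rw [hb, Finset.mem_singleton] at h2 h3
      rw [h2, h3]
    · exfalso
      have hle : (orbit N (θ : N → ℂ)).card ≤ d := by
        rw [hdeg']
        exact (Nat.le_mul_of_pos_right _ ha0).trans (Nat.le_mul_of_pos_left _ (Nat.pos_of_ne_zero he0))
      have := Nat.le_self_pow hjp.ne' p
      omega
  obtain ⟨η, hη⟩ := exists_canonical htop hcop θ.2 hinv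
  have had : a ≤ d := by
    rw [hdeg']
    refine le_trans (Nat.le_mul_of_pos_left a ?_) (Nat.le_mul_of_pos_left _ (Nat.pos_of_ne_zero he0))
    exact Finset.card_pos.mpr ⟨_, self_mem_orbit N _⟩
  let C : Subgroup Γ := N ⊓ Subgroup.centralizer {s}
  haveI : Fintype C := Fintype.ofFinite C
  have hC : ∀ c, c ∈ C ↔ c ∈ N ∧ c * s = s * c := fun c => by
    simp [C, Subgroup.mem_centralizer_singleton_iff, eq_comm]
  obtain ⟨β, ε, hε, hεv⟩ := exists_sign htop hcop hC θ.2 hη
  have hη1 : η 1 = (a : ℂ) := by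
    rw [← ha, ← hη.2.1 1, Subgroup.coe_one]
  -- the restriction of `η` to `C` is `β`
  obtain ⟨m, hm⟩ := exists_multiplicities (isCharacter_restrict C (isCharacter_of_isIrr hη.1))
  have hinner : ∀ γ : IrrCharacter C, classInner (fun c : C => η (c : Γ)) (γ : C → ℂ) = m γ := by
    intro γ
    rw [hm, classInner_sum_left]
    simp only [classInner_smul_left]
    rw [Finset.sum_eq_single γ (fun b _ hb => by
      rw [classInner_irr_ne b.2 γ.2 (fun e => hb (Subtype.ext e)), mul_zero]) (fun h => absurd (Finset.mem_univ γ) h),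
      classInner_irr_self γ.2, mul_one]
  choose g hg0 hg using fun γ : IrrCharacter C => exists_nat_degree_irr γ.2
  have hsum : a = ∑ γ : IrrCharacter C, m γ * g γ := by
    have h1 := congrFun hm 1
    simp only [Subgroup.coe_one, hη1, Finset.sum_apply, Pi.smul_apply, smul_eq_mul, hg] at h1
    exact_mod_cast h1
  have hle : ∀ γ, m γ ≤ a := fun γ => by
    rw [hsum]
    exact (Nat.le_mul_of_pos_right _ (hg0 γ)).trans
      (Finset.single_le_sum (f := fun γ => m γ * g γ) (fun _ _ => Nat.zero_le _) (Finset.mem_univ γ))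
  have hne : ∀ γ, γ ≠ β → m γ = 0 := by
    intro γ hγ
    have hz : classInner (fun c : C => η ((c : Γ) * s)) (γ : C → ℂ) = ((0 : ℤ) : ℂ) := by
      rw [show (fun c : C => η ((c : Γ) * s)) = (ε : ℂ) • (β : C → ℂ) from funext hεv, classInner_smul_left,
        classInner_irr_ne β.2 γ.2 (fun e => hγ (Subtype.ext e.symm)), mul_zero, Int.cast_zero]
    obtain ⟨M, hM, -, hMmod⟩ := multiplicity_of_sign hC (isCharacter_of_isIrr hη.1) γ hz
    obtain rfl : M = m γ := by exact_mod_cast hM.symm.trans (hinner γ)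
    have h1 : (p : ℤ) ∣ (m γ : ℤ) := Int.modEq_zero_iff_dvd.mp (hMmod p k hp hord)
    exact Nat.eq_zero_of_dvd_of_lt (by exact_mod_cast h1) (by have := hle γ; omega)
  have hz : classInner (fun c : C => η ((c : Γ) * s)) (β : C → ℂ) = (ε : ℂ) := by
    rw [show (fun c : C => η ((c : Γ) * s)) = (ε : ℂ) • (β : C → ℂ) from funext hεv, classInner_smul_left,
      classInner_irr_self β.2, mul_one]
  obtain ⟨M, hM, hM0, hMmod⟩ := multiplicity_of_sign hC (isCharacter_of_isIrr hη.1) β hz
  obtain rfl : M = m β := by exact_mod_cast hM.symm.trans (hinner β)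
  have hmod := hMmod p k hp hord
  have hb := hle β
  have hMne := hM0 (by rcases hε with rfl | rfl <;> norm_num)
  have hdvd : (p : ℤ) ∣ ε - (m β : ℤ) := hmod.dvd
  have hεm : ε = 1 ∧ m β = 1 := by
    have h0 : ε - (m β : ℤ) = 0 := by
      refine Int.eq_zero_of_abs_lt_dvd hdvd ?_
      rw [abs_lt]
      rcases hε with rfl | rfl <;> constructor <;> omega
    omega
  have hag : a = g β := by
    rw [hsum, Finset.sum_eq_single β (fun b _ hb' => by rw [hne b hb', zero_mul])
      (fun h => absurd (Finset.mem_univ β) h), hεm.2, one_mul]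
  have hηs : η s = η 1 := by
    have h1 := hεv 1
    rw [Subgroup.coe_one, one_mul, hεm.1, Int.cast_one, one_mul, hg, ← hag] at h1
    rw [h1, hη1]
  obtain ⟨K, hKn, hK, -⟩ := exists_kernel (isCharacter_of_isIrr hη.1)
  have hcK : s * x * s⁻¹ * (x : Γ)⁻¹ ∈ K := by
    have hsK : s ∈ K := (hK s).mpr hηs
    rw [mul_assoc, mul_assoc]
    refine K.mul_mem hsK ?_
    rw [← mul_assoc]
    exact hKn.conj_mem _ (K.inv_mem hsK) x
  have hθv : (θ : N → ℂ) ⟨_, hs⟩ = (θ : N → ℂ) 1 := by
    rw [← hη.2.1, ← hη.2.1, Subgroup.coe_one]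
    exact (hK _).mp hcK
  have hres := clifford_invariant N hχ θ.2
    (invariant_of_fixed htop hθc hinv) hcon
  have h1 := congrFun hres ⟨_, hs⟩
  have h2 := congrFun hres 1
  simp only [Pi.smul_apply, hθv] at h1 h2
  rw [Subgroup.coe_one] at h2
  rw [h1, h2]

include htop hcop hp hord in
/-- Such an element centralizes the `p'`-group. -/
theorem commute_of_faithful_small {n : ℕ} (ρ : Representation ℂ Γ (Fin n → ℂ))
    (hρ : Function.Injective ρ) (hn : n + 1 < p) (x : N) : s * x = x * s := by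
  obtain ⟨m, hm⟩ := exists_multiplicities (isCharacter_character ρ)
  have hc : ρ.character (s * x * s⁻¹ * (x : Γ)⁻¹) = ρ.character 1 := by
    rw [hm]
    simp only [Finset.sum_apply, Pi.smul_apply, smul_eq_mul]
    refine Finset.sum_congr rfl fun ψ _ => ?_
    by_cases hne : m ψ = 0
    · simp [hne]
    congr 1
    obtain ⟨d, -, hd⟩ := exists_nat_degree_irr ψ.2
    refine irr_commutator_eq_degree htop hcop hp hord ψ.2 hd ?_ x
    choose g _ hg using fun ξ : IrrCharacter Γ => exists_nat_degree_irr ξ.2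
    have h1 := congrFun hm 1
    simp only [Representation.char_one, Finset.sum_apply, Pi.smul_apply, smul_eq_mul, hg,
      Module.finrank_fin_fun] at h1
    have h2 : n = ∑ ξ : IrrCharacter Γ, m ξ * g ξ := by exact_mod_cast h1
    have h3 : m ψ * g ψ ≤ n := by
      rw [h2]
      exact Finset.single_le_sum (f := fun ξ => m ξ * g ξ) (fun _ _ => Nat.zero_le _) (Finset.mem_univ ψ)
    have h4 : g ψ = d := by exact_mod_cast (hg ψ).symm.trans hd
    have := (Nat.le_mul_of_pos_left (g ψ) (Nat.pos_of_ne_zero hne)).trans h3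
    omega
  rw [Representation.char_one] at hc
  have h1 : s * x * s⁻¹ * (x : Γ)⁻¹ = 1 :=
    hρ (by rw [(character_eq_finrank_iff ρ _).mp hc, map_one]; rfl)
  exact commutatorElement_eq_one_iff_mul_comm.mp (by rw [commutatorElement_def]; exact h1)

end CfsgLib.Char
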