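import Cfsg.Agent.Lib.Char.Clifford
import Cfsg.Agent.Lib.Char.Counting

/-!
# Frobenius groups given by a kernel and a fixed-point-free complement
-/

set_option autoImplicit false
set_option linter.unusedSectionVars false

namespace CfsgLib.Char

open Cfsg
open scoped CfsgLib.Char

variable {G : Type*} [Group G] [Finite G] (K H : Subgroup G) [hK : K.Normal]

theorem exists_mul_of_sup_eq_top (hKH' : K ⊔ H = ⊤) (x : G) :
    ∃ k ∈ K, ∃ h ∈ H, k * h = x := by
  have hx : x ∈ (↑(K ⊔ H) : Set G) := by rw [hKH']; exact Set.mem_univ x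
  rw [Subgroup.normal_mul] at hx
  exact Set.mem_mul.mp hx

/-- In a Frobenius group every element outside the kernel is conjugate, by a kernel element,
to an element of the complement. -/
theorem exists_conj_complement (hKH' : K ⊔ H = ⊤)
    (hfpf : ∀ h ∈ H, h ≠ 1 → ∀ k ∈ K, h * k = k * h → k = 1) {x : G} (hx : x ∉ K) :
    ∃ k ∈ K, ∃ h ∈ H, h ≠ 1 ∧ x = k⁻¹ * h * k := by
  obtain ⟨c, hc, h, hh, rfl⟩ := exists_mul_of_sup_eq_top K H hKH' x
  have h1 : h ≠ 1 := by rintro rfl; exact hx (by simpa using hc)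
  let f : K → K := fun k => ⟨(k : G)⁻¹ * h * k * h⁻¹, by
    have := hK.conj_mem (k : G) k.2 h
    simpa [mul_assoc] using K.mul_mem (K.inv_mem k.2) this⟩
  have finj : Function.Injective f := fun a b hab => by
    have e : (a : G)⁻¹ * h * a = (b : G)⁻¹ * h * b := by
      have := congrArg Subtype.val hab
      exact mul_right_cancel this
    have e2 : h * ((a : G) * (b : G)⁻¹) = ((a : G) * (b : G)⁻¹) * h := by
      calc h * ((a : G) * (b : G)⁻¹) = (a : G) * ((a : G)⁻¹ * h * a) * (b : G)⁻¹ := by group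
        _ = (a : G) * ((b : G)⁻¹ * h * b) * (b : G)⁻¹ := by rw [e]
        _ = _ := by group
    have := hfpf h hh h1 _ (K.mul_mem a.2 (K.inv_mem b.2)) e2
    exact Subtype.ext (mul_inv_eq_one.mp this)
  obtain ⟨k, hk⟩ := (Finite.surjective_of_injective finj) ⟨c, hc⟩
  refine ⟨k, k.2, h, hh, h1, ?_⟩
  have hk' : (k : G)⁻¹ * h * k * h⁻¹ = c := congrArg Subtype.val hk
  rw [← hk']; group

/-- The centralizer of a nonidentity kernel element lies in the kernel. -/
theorem mem_kernel_of_commute (hKH' : K ⊔ H = ⊤)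
    (hfpf : ∀ h ∈ H, h ≠ 1 → ∀ k ∈ K, h * k = k * h → k = 1) {k x : G} (hk : k ∈ K) (hk1 : k ≠ 1)
    (hcomm : x * k = k * x) : x ∈ K := by
  by_contra hx
  obtain ⟨c, hc, h, hh, h1, rfl⟩ := exists_conj_complement K H hKH' hfpf hx
  have e : h * (c * k * c⁻¹) = (c * k * c⁻¹) * h := by
    calc h * (c * k * c⁻¹) = c * (c⁻¹ * h * c * k) * c⁻¹ := by group
      _ = c * (k * (c⁻¹ * h * c)) * c⁻¹ := by rw [hcomm]
      _ = _ := by group
  exact hk1 (by simpa using hfpf h hh h1 _ (hK.conj_mem k hk c) e)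

/-- A nontrivial irreducible character of a normal subgroup containing the centralisers of its
nonidentity elements is only stabilised by the subgroup. -/
theorem inertia_eq_of_centralizer
    (hcent : ∀ k ∈ K, k ≠ 1 → ∀ x : G, x * k = k * x → x ∈ K)
    {τ : K → ℂ} (hτ : IsIrrCharacter K τ) (hτ1 : τ ≠ fun _ => 1) : inertia K τ = K := by
  classical
  refine le_antisymm (fun g hg => ?_)
    (le_inertia K (isClassFunction_of_isCharacter (isCharacter_of_isIrr hτ)))
  by_contra hgK
  let α : K ≃* K := (MulAut.conjNormal g : MulAut K)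
  let T : Equiv.Perm (ConjClasses K) :=
    { toFun := ConjClasses.map α.toMonoidHom
      invFun := ConjClasses.map α.symm.toMonoidHom
      left_inv := fun C => by
        obtain ⟨x, rfl⟩ := ConjClasses.exists_rep C
        exact congrArg ConjClasses.mk (α.symm_apply_apply x)
      right_inv := fun C => by
        obtain ⟨x, rfl⟩ := ConjClasses.exists_rep C
        exact congrArg ConjClasses.mk (α.apply_symm_apply x) }
  let σ : Equiv.Perm (IrrCharacter K) :=
    { toFun := fun χ => ⟨fun x => (χ : K → ℂ) (α.symm x), (isIrrCharacter_comp_equiv α.symm).mpr χ.2⟩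
      invFun := fun χ => ⟨fun x => (χ : K → ℂ) (α x), (isIrrCharacter_comp_equiv α).mpr χ.2⟩
      left_inv := fun χ => Subtype.ext (funext fun g => by simp)
      right_inv := fun χ => Subtype.ext (funext fun g => by simp) }
  have hperm := brauer_perm σ T fun χ x x' hx => by
    have : IsConj x' (α x) := ConjClasses.mk_eq_mk_iff_isConj.mp hx
    rw [eq_of_isConj (isClassFunction_irr (σ χ)) this]
    exact congrArg (χ : K → ℂ) (α.symm_apply_apply x)
  have hT : ∀ C : ConjClasses K, T C = C → C = ConjClasses.mk 1 := by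
    intro C hC
    obtain ⟨x, rfl⟩ := ConjClasses.exists_rep C
    by_contra hne
    have hx1 : x ≠ 1 := fun h => hne (by rw [h])
    obtain ⟨c, hc⟩ := isConj_iff.mp (ConjClasses.mk_eq_mk_iff_isConj.mp
      (show ConjClasses.mk (α x) = ConjClasses.mk x from hC))
    have hc' : (c : G) * (g * x * g⁻¹) * (c : G)⁻¹ = x := congrArg Subtype.val hc
    have hcomm : ((c : G) * g) * x = x * ((c : G) * g) := by
      conv_rhs => rw [← hc']
      group
    have := hcent x x.2 (fun h => hx1 (Subtype.ext h)) _ hcomm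
    exact hgK (by simpa using K.mul_mem (K.inv_mem c.2) this)
  have hsub : Subsingleton {C : ConjClasses K // T C = C} :=
    ⟨fun a b => Subtype.ext ((hT _ a.2).trans (hT _ b.2).symm)⟩
  have hle : Nat.card {χ : IrrCharacter K // σ χ = χ} ≤ 1 := by
    rw [hperm]; exact Finite.card_le_one_iff_subsingleton.mpr hsub
  have hsub' := Finite.card_le_one_iff_subsingleton.mp hle
  have h0 : σ ⟨fun _ => 1, isIrrCharacter_one⟩ = ⟨fun _ => 1, isIrrCharacter_one⟩ :=
    Subtype.ext rfl
  have hg' : σ ⟨τ, hτ⟩ = ⟨τ, hτ⟩ := by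
    refine Subtype.ext (funext fun x => ?_)
    show τ (α.symm x) = τ x
    have := congrFun (mem_inertia K |>.mp hg) (α.symm x)
    rw [conjBy_eq_comp] at this
    simpa [α] using this.symm
  exact hτ1 (congrArg (fun χ : {χ : IrrCharacter K // σ χ = χ} => ((χ : IrrCharacter K) : K → ℂ))
    (hsub'.elim ⟨⟨τ, hτ⟩, hg'⟩ ⟨_, h0⟩))

/-- A nontrivial irreducible character of a Frobenius kernel is only stabilised by the kernel. -/
theorem inertia_eq_kernel (hKH' : K ⊔ H = ⊤)
    (hfpf : ∀ h ∈ H, h ≠ 1 → ∀ k ∈ K, h * k = k * h → k = 1)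
    {τ : K → ℂ} (hτ : IsIrrCharacter K τ) (hτ1 : τ ≠ fun _ => 1) : inertia K τ = K :=
  inertia_eq_of_centralizer K (fun _ hk hk1 _ h => mem_kernel_of_commute K H hKH' hfpf hk hk1 h) hτ hτ1

/-- Induction from a normal subgroup containing the centralisers of its nonidentity elements. -/
theorem irreducible_induced_of_centralizer [Fintype G]
    (hC : ∀ k ∈ K, k ≠ 1 → ∀ x : G, x * k = k * x → x ∈ K)
    {τ : K → ℂ} (hτ : IsIrrCharacter K τ) (hτ1 : τ ≠ fun _ => 1) :
    IsIrrCharacter G (indFun K τ) := by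
  classical
  refine isIrr_of_norm_one (isCharacter_indFun K (isCharacter_of_isIrr hτ)) ?_
  rw [classInner_indFun_indFun K hτ hτ, if_pos (self_mem_orbit K τ),
    inertia_eq_of_centralizer K hC hτ hτ1, div_self (Nat.cast_ne_zero.mpr Nat.card_pos.ne')]

/-- Induction from a Frobenius kernel of a nontrivial irreducible character is irreducible. -/
theorem irreducible_induced_kernel [Fintype G] (hKH' : K ⊔ H = ⊤)
    (hfpf : ∀ h ∈ H, h ≠ 1 → ∀ k ∈ K, h * k = k * h → k = 1)
    {τ : K → ℂ} (hτ : IsIrrCharacter K τ) (hτ1 : τ ≠ fun _ => 1) :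
    IsIrrCharacter G (indFun K τ) := by
  classical
  refine isIrr_of_norm_one (isCharacter_indFun K (isCharacter_of_isIrr hτ)) ?_
  rw [classInner_indFun_indFun K hτ hτ, if_pos (self_mem_orbit K τ),
    inertia_eq_kernel K H hKH' hfpf hτ hτ1, div_self (Nat.cast_ne_zero.mpr Nat.card_pos.ne')]

end CfsgLib.Char
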