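import Cfsg.Agent.Lib.Char.AbelianTIBound
import Cfsg.Agent.Lib.Char.SmallDegreeAction
import Cfsg.Agent.S0185

/-!
# A group with a faithful representation of small degree has a normal Sylow `p`-subgroup
-/

set_option autoImplicit false
set_option linter.unusedSectionVars false
set_option linter.style.haveILetI false

namespace CfsgLib.Char

open Cfsg Module Representation
open scoped _root_.Classical
open scoped CfsgLib.Char
open scoped Pointwise

universe u

/-- An element in the kernel of all constituents is trivial. -/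
theorem eq_one_of_constituents {G : Type*} [Group G] [Fintype G] {n : ℕ}
    (ρ : Representation ℂ G (Fin n → ℂ)) (hρ : Function.Injective ρ) (g : G)
    (h : ∀ (ψ : G → ℂ) (d : ℕ), IsIrrCharacter G ψ → ψ 1 = d → 0 < d → d ≤ n → ψ g = ψ 1) : g = 1 := by
  obtain ⟨m, hm⟩ := exists_multiplicities (isCharacter_character ρ)
  choose f hf0 hf using fun ξ : IrrCharacter G => exists_nat_degree_irr ξ.2
  have h1 := congrFun hm 1
  simp only [Representation.char_one, Finset.sum_apply, Pi.smul_apply, smul_eq_mul, hf,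
    Module.finrank_fin_fun] at h1
  have h2 : n = ∑ ξ : IrrCharacter G, m ξ * f ξ := by exact_mod_cast h1
  have hc : ρ.character g = ρ.character 1 := by
    rw [hm]
    simp only [Finset.sum_apply, Pi.smul_apply, smul_eq_mul]
    refine Finset.sum_congr rfl fun ψ _ => ?_
    by_cases hne : m ψ = 0
    · simp [hne]
    congr 1
    refine h ψ (f ψ) ψ.2 (hf ψ) (hf0 ψ) ?_
    rw [h2]
    exact (Nat.le_mul_of_pos_left _ (Nat.pos_of_ne_zero hne)).trans
      (Finset.single_le_sum (f := fun ξ => m ξ * f ξ) (fun _ _ => Nat.zero_le _) (Finset.mem_univ ψ))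
  rw [Representation.char_one] at hc
  exact hρ (by rw [(character_eq_finrank_iff ρ g).mp hc, map_one]; rfl)

/-- Normality of all Sylow subgroups passes along an isomorphism. -/
theorem sylow_normal_of_equiv {p : ℕ} [Fact p.Prime] {A B : Type*} [Group A] [Group B] [Finite A]
    [Finite B] (e : A ≃* B) (h : ∀ Q : Sylow p B, (Q : Subgroup B).Normal) (Q : Sylow p A) :
    (Q : Subgroup A).Normal := by
  let Q' : Sylow p B := Sylow.ofCard ((Q : Subgroup A).map e.toMonoidHom) (by
    rw [Subgroup.card_map_of_injective e.injective, Q.card_eq_multiplicity, Nat.card_congr e.toEquiv])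
  have hn : ((Q : Subgroup A).map e.toMonoidHom).Normal := h Q'
  have := hn.comap e.toMonoidHom
  rwa [Subgroup.comap_map_eq_self_of_injective e.injective] at this

/-- The hypothesis on small subgroups. -/
def SmallHyp (p n : ℕ) (G : Type*) [Group G] : Prop :=
  (n + 1) ^ 2 ≤ p ∨
    (n + 1 < p ∧ ∀ K : Subgroup G, ¬ p ^ 2 ∣ Nat.card K → ∀ Q : Sylow p K, (Q : Subgroup K).Normal)

section Core

variable {p n : ℕ} [hp : Fact p.Prime] {G : Type u} [Group G] [Fintype G]
  (hsub : ∀ H : Subgroup G, H ≠ ⊤ → ∀ Q : Sylow p H, (Q : Subgroup H).Normal)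
  (hnp : n + 1 < p) (ρ : Representation ℂ G (Fin n → ℂ)) (hρ : Function.Injective ρ)

include hnp hρ in
theorem sylow_comm (P : Sylow p G) : ∀ a ∈ (P : Subgroup G), ∀ b ∈ (P : Subgroup G), a * b = b * a := by
  intro a ha b hb
  have h := Cfsg.Agent.S0185.result (ρ.comp (P : Subgroup G).subtype)
    (fun x y e => Subtype.ext (hρ e)) (fun q hq hqd => by
      obtain ⟨j, hj⟩ := IsPGroup.iff_card.mp P.isPGroup'
      have : q = p := (Nat.prime_dvd_prime_iff_eq hq hp.out).mp (hq.dvd_of_dvd_pow (hj ▸ hqd))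
      simp only [Module.finrank_fin_fun]
      omega) ⟨a, ha⟩ ⟨b, hb⟩
  exact congrArg Subtype.val h

include hsub in
/-- Two Sylow subgroups in one proper subgroup coincide. -/
theorem sylow_unique_of_le {H : Subgroup G} (hH : H ≠ ⊤) {Q R : Sylow p G}
    (hQ : (Q : Subgroup G) ≤ H) (hR : (R : Subgroup G) ≤ H) : Q = R := by
  haveI : Subsingleton (Sylow p H) := by
    haveI := hsub H hH default
    haveI := Sylow.unique_of_normal (default : Sylow p H) inferInstance
    infer_instance
  have h : Q.subtype hQ = R.subtype hR := Subsingleton.elim _ _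
  exact Sylow.subtype_injective h

include hsub in
/-- A normal subgroup containing a non-normal Sylow subgroup is everything. -/
theorem eq_top_of_sylow_le {P : Sylow p G} (hP : ¬ (P : Subgroup G).Normal) {M : Subgroup G}
    [M.Normal] (hPM : (P : Subgroup G) ≤ M) : M = ⊤ := by
  by_contra hM
  refine hP (Subgroup.normalizer_eq_top_iff.mp (eq_top_iff.mpr fun g _ => ?_))
  refine Sylow.smul_eq_iff_mem_normalizer.mp (sylow_unique_of_le hsub hM ?_ hPM)
  intro x hx
  rw [Sylow.coe_subgroup_smul] at hx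
  obtain ⟨y, hy, rfl⟩ := hx
  exact (‹M.Normal›).conj_mem y (hPM hy) g

include hsub hnp hρ in
/-- A counterexample is perfect. -/
theorem commutator_eq_top (P : Sylow p G) (hP : ¬ (P : Subgroup G).Normal) : commutator G = ⊤ := by
  by_contra hG
  obtain ⟨M, hM, hle⟩ := (eq_top_or_exists_le_coatom (commutator G)).resolve_left hG
  haveI hMn : M.Normal := Subgroup.Normal.of_commutator_le G hle
  have hPM : ¬ (P : Subgroup G) ≤ M := fun h => hM.1 (eq_top_of_sylow_le hsub hP h)
  obtain ⟨y, hyP, hyM⟩ := SetLike.not_le_iff_exists.mp hPM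
  have htop : M ⊔ Subgroup.zpowers y = ⊤ :=
    hM.2 _ (lt_of_le_of_ne le_sup_left fun e => hyM (e ▸ Subgroup.mem_sup_right (Subgroup.mem_zpowers y)))
  -- the Sylow subgroup of `M` is normal in `G`, hence central
  haveI : Fintype M := Fintype.ofFinite M
  let Q0 : Sylow p M := default
  haveI hQ0n : (Q0 : Subgroup M).Normal := hsub M hM.1 Q0
  haveI hQ0c : (Q0 : Subgroup M).Characteristic := Sylow.characteristic_of_normal Q0 hQ0n
  set Q1 : Subgroup G := (Q0 : Subgroup M).map M.subtype with hQ1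
  haveI hQ1n : Q1.Normal := ConjAct.normal_of_characteristic_of_normal
  have hQ1P : Q1 ≤ P := by
    obtain ⟨R, hR⟩ := (Q0.isPGroup'.map M.subtype).exists_le_sylow
    obtain ⟨g, rfl⟩ := MulAction.exists_smul_eq G P R
    intro x hx
    have h1 : g * x * g⁻¹ ∈ Q1 := hQ1n.conj_mem x hx g
    have h2 := hR h1
    rw [Sylow.coe_subgroup_smul] at h2
    obtain ⟨z, hz, e⟩ := h2
    have : z = x := by simpa [MulAut.conj_apply] using e
    exact this ▸ hz
  have hcentral : ∀ q ∈ Q1, ∀ g : G, q * g = g * q := by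
    intro q hq g
    have hPC : (P : Subgroup G) ≤ Subgroup.centralizer (Q1 : Set G) := fun x hx =>
      Subgroup.mem_centralizer_iff.mpr fun w hw => sylow_comm hnp ρ hρ P w (hQ1P hw) x hx
    haveI : (Subgroup.centralizer (Q1 : Set G)).Normal := inferInstance
    have h1 := eq_top_of_sylow_le hsub hP hPC
    exact Subgroup.mem_centralizer_iff.mp (h1 ▸ Subgroup.mem_top g) q hq
  -- the complement
  obtain ⟨K0, hK0⟩ := Subgroup.exists_right_complement'_of_coprime (N := (Q0 : Subgroup M)) Q0.card_coprime_index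
  have hcard : (Nat.card K0).Coprime (Nat.card (Q0 : Subgroup M)) := by
    rw [← hK0.symm.index_eq_card]; exact Q0.card_coprime_index.symm
  have hK0mem : ∀ x : M, x ∈ K0 ↔ x ^ Nat.card K0 = 1 := by
    intro x
    refine ⟨fun hx => congrArg Subtype.val (pow_card_eq_one' (x := (⟨x, hx⟩ : K0))), fun hx => ?_⟩
    obtain ⟨⟨q, k⟩, rfl : (q : M) * (k : M) = x⟩ := hK0.2 x
    have hc : Commute (q : M) (k : M) := Subtype.ext (hcentral _ ⟨q, q.2, rfl⟩ (k : M))
    rw [hc.mul_pow, show (k : M) ^ Nat.card K0 = 1 from congrArg Subtype.val (pow_card_eq_one' (x := k)),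
      mul_one] at hx
    have hq : (q : M) = 1 := by
      have h1 : orderOf (q : M) ∣ Nat.card K0 := orderOf_dvd_of_pow_eq_one hx
      have h2 : orderOf (q : M) ∣ Nat.card (Q0 : Subgroup M) := Subgroup.orderOf_dvd_natCard _ q.2
      exact orderOf_eq_one_iff.mp (Nat.eq_one_of_dvd_coprimes hcard h1 h2)
    rw [hq, one_mul]
    exact k.2
  set K : Subgroup G := K0.map M.subtype with hK
  haveI hKn : K.Normal := ⟨fun x hx g => by
    obtain ⟨k, hk, rfl⟩ := hx
    refine ⟨⟨g * k * g⁻¹, hMn.conj_mem _ k.2 g⟩, (hK0mem _).mpr (Subtype.ext ?_), rfl⟩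
    have := congrArg Subtype.val ((hK0mem k).mp hk)
    rw [Subgroup.coe_pow, Subgroup.coe_one] at this ⊢
    rw [conj_pow, this, mul_one, mul_inv_cancel]⟩
  -- `y` centralizes the complement
  obtain ⟨j, hj⟩ := (IsPGroup.iff_orderOf.mp P.isPGroup') ⟨y, hyP⟩
  rw [← Subgroup.orderOf_coe] at hj
  have hpK : ¬ p ∣ Nat.card K := by
    rw [hK, Subgroup.card_map_of_injective M.subtype_injective, ← hK0.symm.index_eq_card]
    exact Q0.not_dvd_index
  set Γ : Subgroup G := K ⊔ Subgroup.zpowers y with hΓ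
  haveI : Fintype Γ := Fintype.ofFinite Γ
  haveI : (K.subgroupOf Γ).Normal := hKn.subgroupOf Γ
  have hyΓ : y ∈ Γ := Subgroup.mem_sup_right (Subgroup.mem_zpowers y)
  have hcomm : ∀ k ∈ K, y * k = k * y := by
    intro k hk
    have h := commute_of_faithful_small (Γ := Γ) (N := K.subgroupOf Γ) (s := ⟨y, hyΓ⟩) (p := p) (k := j)
      (by
        refine Subgroup.map_injective Γ.subtype_injective ?_
        rw [Subgroup.map_sup, Subgroup.subgroupOf_map_subtype, MonoidHom.map_zpowers, ← MonoidHom.range_eq_map,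
          Subgroup.range_subtype, inf_eq_left.mpr le_sup_left]
        rfl)
      (by
        rw [Subgroup.orderOf_mk, Nat.card_congr (Subgroup.subgroupOfEquivOfLe le_sup_left).toEquiv, hj]
        exact ((Nat.Prime.coprime_iff_not_dvd hp.out).mpr hpK).symm.pow_right j)
      hp.out (by rw [Subgroup.orderOf_mk, hj]) (ρ.comp Γ.subtype) (fun a b e => Subtype.ext (hρ e)) hnp
      ⟨⟨k, Subgroup.mem_sup_left hk⟩, Subgroup.mem_subgroupOf.mpr hk⟩
    exact congrArg Subtype.val h
  have hyM' : ∀ m ∈ M, y * m = m * y := by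
    intro m hm
    obtain ⟨⟨q, k⟩, e⟩ := hK0.2 ⟨m, hm⟩
    have e' : ((q : M) : G) * ((k : M) : G) = m := congrArg Subtype.val e
    rw [← e', ← mul_assoc, ← hcentral ((q : M) : G) ⟨q, q.2, rfl⟩ y, mul_assoc, hcomm ((k : M) : G) ⟨k, k.2, rfl⟩, mul_assoc]
  have hyc : y ∈ Subgroup.center G := by
    refine Subgroup.mem_center_iff.mpr fun g => ?_
    have hle' : M ⊔ Subgroup.zpowers y ≤ Subgroup.centralizer {y} := sup_le
      (fun m hm => Subgroup.mem_centralizer_singleton_iff.mpr (hyM' m hm).symm)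
      (Subgroup.zpowers_le.mpr (Subgroup.mem_centralizer_singleton_iff.mpr rfl))
    exact Subgroup.mem_centralizer_singleton_iff.mp (hle' (htop ▸ Subgroup.mem_top g))
  refine hP ⟨fun x hx g => ?_⟩
  have hxc : x ∈ Subgroup.center G := by
    obtain ⟨m, hm, w, hw, rfl⟩ := Subgroup.mem_sup_of_normal_left.mp (htop ▸ Subgroup.mem_top x)
    have hwP : w ∈ (P : Subgroup G) := (Subgroup.zpowers_le.mpr hyP) hw
    refine Subgroup.mul_mem _ ?_ ((Subgroup.zpowers_le.mpr hyc) hw)
    have hmP : m ∈ (P : Subgroup G) := ((P : Subgroup G).mul_mem_cancel_right hwP).mp hx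
    have hmQ : m ∈ Q1 := by
      have hle2 : ((P : Subgroup G).subgroupOf M) ≤ (Q0 : Subgroup M) := by
        haveI := Sylow.unique_of_normal Q0 hQ0n
        obtain ⟨R, hR⟩ := (P.isPGroup'.comap_of_injective M.subtype M.subtype_injective).exists_le_sylow
        exact fun a ha => (Subsingleton.elim R Q0) ▸ hR ha
      exact ⟨⟨m, hm⟩, hle2 hmP, rfl⟩
    exact Subgroup.mem_center_iff.mpr fun g => (hcentral m hmQ g).symm
  rw [Subgroup.mem_center_iff.mp hxc g, mul_inv_cancel_right]
  exact hx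

include hsub hnp hρ in
theorem sylow_inf_center (P : Sylow p G) (hP : ¬ (P : Subgroup G).Normal) :
    (P : Subgroup G) ⊓ Subgroup.center G = ⊥ := by
  refine eq_bot_iff.mpr fun z hz => Subgroup.mem_bot.mpr (eq_one_of_constituents ρ hρ z ?_)
  intro ψ d hψ hd hd0 hdn
  obtain ⟨hzP, hzZ⟩ := hz
  obtain ⟨k, σ, hσ, rfl⟩ := hψ
  haveI := hσ
  let T : IntertwiningMap σ σ := ⟨σ z, fun h => by
    show σ z * σ h = σ h * σ z
    rw [← map_mul, ← map_mul, Subgroup.mem_center_iff.mp hzZ h]⟩
  obtain ⟨c, hc⟩ := (IsIrreducible.algebraMap_intertwiningMap_bijective_of_isAlgClosed (ρ := σ)).2 T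
  have hT : σ z = c • LinearMap.id := by
    rw [show σ z = T.toLinearMap from rfl, ← hc, Algebra.algebraMap_eq_smul_one]
    rfl
  have hdk : d = k := by
    rw [Representation.char_one, Module.finrank_fin_fun] at hd
    exact_mod_cast hd.symm
  subst hdk
  have hdet : c ^ d = 1 := by
    let D : G →* ℂ := LinearMap.det.comp σ
    have h1 : commutator G ≤ D.toHomUnits.ker := Abelianization.commutator_subset_ker _
    rw [commutator_eq_top hsub hnp ρ hρ P hP] at h1
    have h2 : D z = 1 := by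
      have := congrArg Units.val (MonoidHom.mem_ker.mp (h1 (Subgroup.mem_top z)))
      rwa [MonoidHom.coe_toHomUnits, Units.val_one] at this
    have h3 : LinearMap.det (σ z) = 1 := h2
    rwa [hT, LinearMap.det_smul, LinearMap.det_id, mul_one, Module.finrank_fin_fun] at h3
  obtain ⟨j, hj⟩ := IsPGroup.iff_orderOf.mp P.isPGroup' ⟨z, hzP⟩
  rw [← Subgroup.orderOf_coe] at hj
  have hcp : c ^ (p ^ j) = 1 := by
    have h1 : (σ z) ^ (p ^ j) = 1 := by rw [← map_pow, ← hj, pow_orderOf_eq_one, map_one]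
    rw [hT, smul_pow, ← Module.End.one_eq_id, one_pow] at h1
    have h2 := congrArg LinearMap.det h1
    have h3 := LinearMap.ext_iff.mp h1 (Pi.single (⟨0, hd0⟩ : Fin d) 1)
    have h4 := congrFun h3 ⟨0, hd0⟩
    simpa using h4
  have hc1 : c = 1 := by
    have hcop : Nat.Coprime d (p ^ j) := (Nat.Coprime.pow_right j ((hp.out.coprime_iff_not_dvd.mpr
      fun h => absurd (Nat.le_of_dvd hd0 h) (by omega)).symm))
    have := pow_gcd_eq_one.mpr ⟨hdet, hcp⟩
    rwa [hcop, pow_one] at this
  show LinearMap.trace ℂ _ (σ z) = LinearMap.trace ℂ _ (σ 1)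
  rw [hT, hc1, one_smul, map_one]
  rfl

include hsub hnp hρ in
theorem sylow_normal_step (P : Sylow p G) (hbig : (n + 1) ^ 2 ≤ Nat.card (P : Subgroup G)) :
    (P : Subgroup G).Normal := by
  by_contra hP
  have hperf := commutator_eq_top hsub hnp ρ hρ P hP
  have hZ := sylow_inf_center hsub hnp ρ hρ P hP
  have hab := sylow_comm hnp ρ hρ P
  have hone : MeetsOne (P : Subgroup G) := by
    intro g hg
    have key : ∀ a : G, ∀ x ∈ Subgroup.centralizer ({g} : Set G), x ∈ ((a • P : Sylow p G) : Subgroup G) →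
        x ≠ 1 → ∀ R : Sylow p G, x ∈ (R : Subgroup G) → R = a • P := by
      intro a x _ hxa hx1 R hxR
      have hne : Subgroup.centralizer ({x} : Set G) ≠ ⊤ := fun e => hx1 (by
        have hxZ : x ∈ Subgroup.center G := Subgroup.mem_center_iff.mpr fun w =>
          Subgroup.mem_centralizer_singleton_iff.mp (e ▸ Subgroup.mem_top w)
        rw [Sylow.coe_subgroup_smul] at hxa
        obtain ⟨w, hw, e1⟩ := hxa
        have e2 : a * w * a⁻¹ = x := e1
        have hwx : w = x := by
          rw [← mul_left_cancel (a := a) (b := w) (c := x)]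
          rw [Subgroup.mem_center_iff.mp hxZ a, ← e2, inv_mul_cancel_right]
        rw [← Subgroup.mem_bot, ← hZ]
        exact ⟨hwx ▸ hw, hxZ⟩)
      refine sylow_unique_of_le hsub hne ?_ ?_
      · exact fun w hw => Subgroup.mem_centralizer_singleton_iff.mpr (sylow_comm hnp ρ hρ R w hw x hxR)
      · exact fun w hw => Subgroup.mem_centralizer_singleton_iff.mpr (sylow_comm hnp ρ hρ _ w hw x hxa)
    intro a b ha hb
    obtain ⟨x, ⟨hxC, hxa⟩, hx1⟩ := (Subgroup.bot_or_exists_ne_one _).resolve_left ha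
    obtain ⟨x', ⟨hxC', hxb⟩, hx1'⟩ := (Subgroup.bot_or_exists_ne_one _).resolve_left hb
    have hne : Subgroup.centralizer ({g} : Set G) ≠ ⊤ := fun e => hg (Subgroup.mem_center_iff.mpr fun w =>
      Subgroup.mem_centralizer_singleton_iff.mp (e ▸ Subgroup.mem_top w))
    set C := Subgroup.centralizer ({g} : Set G)
    let Q0 : Sylow p C := default
    haveI := Sylow.unique_of_normal Q0 (hsub C hne Q0)
    have hin : ∀ (c : G) (w : G), w ∈ C → w ∈ ((c • P : Sylow p G) : Subgroup G) →
        w ∈ (Q0 : Subgroup C).map C.subtype := by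
      intro c w hwC hwP
      obtain ⟨S, hS⟩ := ((c • P).isPGroup'.comap_of_injective C.subtype C.subtype_injective).exists_le_sylow
      exact ⟨⟨w, hwC⟩, (Subsingleton.elim S Q0) ▸ hS hwP, rfl⟩
    obtain ⟨R, hR⟩ := (Q0.isPGroup'.map C.subtype).exists_le_sylow
    have e1 := key a x hxC hxa hx1 R (hR (hin a x hxC hxa))
    have e2 := key b x' hxC' hxb hx1' R (hR (hin b x' hxC' hxb))
    exact congrArg (fun S : Sylow p G => (S : Subgroup G)) (e1.symm.trans e2)
  obtain ⟨h₀, hh₀, hne₀⟩ : ∃ h ∈ (P : Subgroup G), h ≠ 1 := by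
    refine (Subgroup.bot_or_exists_ne_one _).resolve_left fun e => hP ?_
    rw [e]
    infer_instance
  obtain ⟨χ, d, hχ, hd, hd0, hdn, hne⟩ : ∃ (χ : G → ℂ) (d : ℕ), IsIrrCharacter G χ ∧ χ 1 = d ∧
      0 < d ∧ d ≤ n ∧ χ h₀ ≠ χ 1 := by
    by_contra hall
    push Not at hall
    exact hne₀ (eq_one_of_constituents ρ hρ h₀ fun ψ d h1 h2 h3 h4 => hall ψ d h1 h2 h3 h4)
  have hd1 : d ≠ 1 := by
    intro e
    refine hne ?_
    have h1 : χ 1 = 1 := by rw [hd, e, Nat.cast_one]
    have hχc := isCharacter_of_isIrr hχ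
    have h2 := Abelianization.commutator_subset_ker (linearHom hχc h1) (hperf ▸ Subgroup.mem_top h₀)
    rw [MonoidHom.mem_ker] at h2
    rw [h1, ← linearHom_apply hχc h1, h2]
    rfl
  haveI : Fintype (P : Subgroup G) := Fintype.ofFinite _
  have h := card_lt_succ_degree_sq (P : Subgroup G) hab hZ hone
    (fun M hMn hPM => haveI := hMn; eq_top_of_sylow_le hsub hP hPM) hχ ⟨h₀, hh₀, hne⟩ hd hd1
  have := Nat.pow_le_pow_left (Nat.add_le_add_right hdn 1) 2
  omega

end Core

/-- Feit–Thompson–Blichfeldt. -/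
theorem sylow_normal_of_small {p n : ℕ} [hp : Fact p.Prime] (m : ℕ) :
    ∀ (G : Type u) [Group G] [Finite G], Nat.card G = m → ∀ ρ : Representation ℂ G (Fin n → ℂ),
      Function.Injective ρ → SmallHyp p n G → ∀ P : Sylow p G, (P : Subgroup G).Normal := by
  induction m using Nat.strong_induction_on with
  | _ m ih => ?_
  intro G _ _ hm ρ hρ h P
  haveI : Fintype G := Fintype.ofFinite G
  have hnp : n + 1 < p := by
    rcases h with h | h
    · rcases Nat.eq_zero_or_pos n with rfl | hn
      · exact hp.out.one_lt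
      · nlinarith
    · exact h.1
  have hsub : ∀ H : Subgroup G, H ≠ ⊤ → ∀ Q : Sylow p H, (Q : Subgroup H).Normal := by
    intro H hH Q
    have hlt : Nat.card H < m := by
      refine hm ▸ lt_of_le_of_ne (Subgroup.card_le_card_group H) fun e => hH (H.eq_top_of_card_eq e)
    refine ih _ hlt H rfl (ρ.comp H.subtype) (fun a b e => Subtype.ext (hρ e)) ?_ Q
    refine h.imp id (And.imp_right fun h K hK R => ?_)
    have e := K.equivMapOfInjective H.subtype H.subtype_injective
    exact sylow_normal_of_equiv e (h _ (by rwa [← Nat.card_congr e.toEquiv])) R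
  by_contra hP
  refine hP (sylow_normal_step hsub hnp ρ hρ P ?_)
  have hpG : p ∣ Nat.card G := by
    by_contra hnd
    refine hP ?_
    obtain ⟨j, hj⟩ := IsPGroup.iff_card.mp P.isPGroup'
    have hj0 : j = 0 := by
      by_contra hj0
      exact hnd (((dvd_pow_self p hj0).trans hj.symm.dvd).trans (Subgroup.card_subgroup_dvd_card _))
    rw [Subgroup.eq_bot_of_card_eq (P : Subgroup G) (by rw [hj, hj0, pow_zero])]
    infer_instance
  rcases h with h | h
  · exact h.trans (Nat.le_of_dvd Nat.card_pos (P.dvd_card_of_dvd_card hpG))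
  · have hp2 : p ^ 2 ∣ Nat.card G := by
      by_contra hnd
      exact hP (sylow_normal_of_equiv Subgroup.topEquiv.symm (h.2 ⊤ (by rwa [Subgroup.card_top])) P)
    exact (Nat.pow_le_pow_left h.1.le 2).trans (Nat.le_of_dvd Nat.card_pos (P.pow_dvd_card_of_pow_dvd_card hp2))

end CfsgLib.Char
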