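import Cfsg.Prelude.Def_Characters
import Cfsg.Agent.Lib.Char.Eigen

/-!
# Ordinary characters: representations on arbitrary spaces, decomposition, sums and products

Vocabulary of `Def_Characters`: `IsCharacter`, `IsIrrCharacter`, `IrrCharacter`, `classInner`.
-/

set_option autoImplicit false

namespace CfsgLib.Char

open Module Representation
open scoped ComplexConjugate

universe u v

variable {G : Type*} [Group G]

section Equiv

variable {V W : Type*} [AddCommGroup V] [Module ℂ V] [AddCommGroup W] [Module ℂ W]

/-- An equivalence of representations transports subrepresentations. -/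
noncomputable def subrepOrderIso {ρ : Representation ℂ G V} {σ : Representation ℂ G W}
    (e : ρ.Equiv σ) : Subrepresentation ρ ≃o Subrepresentation σ where
  toFun A :=
    { toSubmodule := A.toSubmodule.map e.toLinearEquiv.toLinearMap
      apply_mem_toSubmodule := by
        rintro g _ ⟨v, hv, rfl⟩
        exact ⟨ρ g v, A.apply_mem_toSubmodule g hv, LinearMap.congr_fun (e.toIntertwiningMap.isIntertwining' g) v⟩ }
  invFun B :=
    { toSubmodule := B.toSubmodule.comap e.toLinearEquiv.toLinearMap
      apply_mem_toSubmodule := fun g v hv => by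
        rw [Submodule.mem_comap] at hv ⊢
        have h : e.toLinearEquiv.toLinearMap (ρ g v) = σ g (e.toLinearEquiv.toLinearMap v) :=
          LinearMap.congr_fun (e.toIntertwiningMap.isIntertwining' g) v
        rw [h]
        exact B.apply_mem_toSubmodule g hv }
  left_inv A := Subrepresentation.toSubmodule_injective
    (Submodule.comap_map_eq_of_injective e.toLinearEquiv.injective A.toSubmodule)
  right_inv B := Subrepresentation.toSubmodule_injective
    (Submodule.map_comap_eq_of_surjective e.toLinearEquiv.surjective B.toSubmodule)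
  map_rel_iff' {A B} := by
    constructor
    · intro h
      show A.toSubmodule ≤ B.toSubmodule
      exact (Submodule.map_le_map_iff_of_injective e.toLinearEquiv.injective _ _).mp h
    · exact fun h => Submodule.map_mono h

theorem irreducible_equiv {ρ : Representation ℂ G V} {σ : Representation ℂ G W} (e : ρ.Equiv σ)
    (h : ρ.IsIrreducible) : σ.IsIrreducible := by
  have := h
  exact (OrderIso.isSimpleOrder_iff (subrepOrderIso e)).mp this

theorem finrank_pos_of_irreducible [FiniteDimensional ℂ V] (ρ : Representation ℂ G V)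
    [hρ : ρ.IsIrreducible] : 0 < finrank ℂ V := by
  have : Nontrivial (Subrepresentation ρ) := IsSimpleOrder.toNontrivial
  by_contra hcon
  have : Subsingleton V := (Module.finrank_zero_iff (R := ℂ)).mp (by omega)
  have : Subsingleton (Subrepresentation ρ) := ⟨fun a b =>
    Subrepresentation.toSubmodule_injective (Subsingleton.elim _ _)⟩
  exact false_of_nontrivial_of_subsingleton (Subrepresentation ρ)

variable [FiniteDimensional ℂ V]

/-- A representation on any space is equivalent to one on a coordinate space. -/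
theorem exists_equiv_fin (ρ : Representation ℂ G V) :
    ∃ σ : Representation ℂ G (Fin (finrank ℂ V) → ℂ), Nonempty (ρ.Equiv σ) := by
  let e : V ≃ₗ[ℂ] (Fin (finrank ℂ V) → ℂ) := (Module.finBasis ℂ V).equivFun
  let σ : Representation ℂ G (Fin (finrank ℂ V) → ℂ) :=
    { toFun := fun g => e.toLinearMap ∘ₗ ρ g ∘ₗ e.symm.toLinearMap
      map_one' := LinearMap.ext fun w => by simp
      map_mul' := fun a b => LinearMap.ext fun w => by simp }
  refine ⟨σ, ⟨Representation.Equiv.mk e fun g => ?_⟩⟩
  refine LinearMap.ext fun v => ?_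
  simp [σ]

theorem isCharacter_character (ρ : Representation ℂ G V) : Cfsg.IsCharacter G ρ.character := by
  obtain ⟨σ, ⟨e⟩⟩ := exists_equiv_fin ρ
  exact ⟨_, σ, (char_iso e).symm⟩

theorem isIrrCharacter_character (ρ : Representation ℂ G V) [hρ : ρ.IsIrreducible] :
    Cfsg.IsIrrCharacter G ρ.character := by
  obtain ⟨σ, ⟨e⟩⟩ := exists_equiv_fin ρ
  exact ⟨_, σ, irreducible_equiv e hρ, (char_iso e).symm⟩

/-- The irreducible character of an irreducible representation. -/
noncomputable def irrOf (ρ : Representation ℂ G V) [ρ.IsIrreducible] : Cfsg.IrrCharacter G :=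
  ⟨ρ.character, isIrrCharacter_character ρ⟩

omit [FiniteDimensional ℂ V] in
theorem char_prod [FiniteDimensional ℂ V] [FiniteDimensional ℂ W] (ρ : Representation ℂ G V)
    (σ : Representation ℂ G W) : (ρ.prod σ).character = ρ.character + σ.character := by
  funext g
  exact LinearMap.trace_prodMap' (ρ g) (σ g)

/-- Splitting a representation along a pair of complementary subrepresentations. -/
theorem char_eq_add_of_isCompl (ρ : Representation ℂ G V) (A B : Subrepresentation ρ)
    (h : IsCompl A B) :
    ρ.character = A.toRepresentation.character + B.toRepresentation.character := by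
  have hc : IsCompl A.toSubmodule B.toSubmodule := by
    constructor
    · rw [disjoint_iff, ← Subrepresentation.toSubmodule_inf, h.inf_eq_bot]
      rfl
    · rw [codisjoint_iff, ← Subrepresentation.toSubmodule_sup, h.sup_eq_top]
      rfl
  rw [← char_prod]
  symm
  refine char_iso (Representation.Equiv.mk (A.toSubmodule.prodEquivOfIsCompl B.toSubmodule hc)
    fun g => ?_)
  refine LinearMap.ext fun p => ?_
  simp [Subrepresentation.toRepresentation, Submodule.coe_prodEquivOfIsCompl', map_add,
    Representation.prod]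

end Equiv

theorem exists_isCompl_subrep [Finite G] {V : Type*} [AddCommGroup V] [Module ℂ V]
    (ρ : Representation ℂ G V) (A : Subrepresentation ρ) : ∃ B, IsCompl A B :=
  exists_isCompl A

/-- Induction principle for representations: a property that holds for the zero space, holds for
irreducible representations and passes to a space split into two invariant pieces holds always. -/
theorem rep_induction [Finite G]
    (P : ∀ {V : Type u} [AddCommGroup V] [Module ℂ V], Representation ℂ G V → Prop)
    (zero : ∀ {V : Type u} [AddCommGroup V] [Module ℂ V] [Subsingleton V]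
      (ρ : Representation ℂ G V), P ρ)
    (irr : ∀ {V : Type u} [AddCommGroup V] [Module ℂ V] [FiniteDimensional ℂ V]
      (ρ : Representation ℂ G V), ρ.IsIrreducible → P ρ)
    (split : ∀ {V : Type u} [AddCommGroup V] [Module ℂ V] [FiniteDimensional ℂ V]
      (ρ : Representation ℂ G V) (A B : Subrepresentation ρ), IsCompl A B →
      P A.toRepresentation → P B.toRepresentation → P ρ) :
    ∀ {V : Type u} [AddCommGroup V] [Module ℂ V] [FiniteDimensional ℂ V]
      (ρ : Representation ℂ G V), P ρ := by
  intro V _ _ _ ρ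
  induction h : finrank ℂ V using Nat.strong_induction_on generalizing V with
  | _ n ih =>
    subst h
    rcases subsingleton_or_nontrivial V with hV | hV
    · exact zero ρ
    by_cases hirr : ρ.IsIrreducible
    · exact irr ρ hirr
    have : Nontrivial (Subrepresentation ρ) := by
      refine ⟨⊥, ⊤, fun hbt => ?_⟩
      exact bot_ne_top (α := Submodule ℂ V) (congrArg Subrepresentation.toSubmodule hbt)
    obtain ⟨A, hA0, hA1⟩ : ∃ A : Subrepresentation ρ, A ≠ ⊥ ∧ A ≠ ⊤ := by
      by_contra hno
      push Not at hno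
      exact hirr ⟨fun a => (em (a = ⊥)).imp_right (hno a)⟩
    obtain ⟨B, hB⟩ := exists_isCompl_subrep ρ A
    have hA1' : A.toSubmodule ≠ ⊤ := fun h =>
      hA1 (Subrepresentation.toSubmodule_injective h)
    have hB1' : B.toSubmodule ≠ ⊤ := fun h => by
      have hBtop : B = ⊤ := Subrepresentation.toSubmodule_injective h
      subst hBtop
      exact hA0 (eq_bot_of_isCompl_top hB)
    exact split ρ A B hB (ih _ (Submodule.finrank_lt hA1') A.toRepresentation rfl)
      (ih _ (Submodule.finrank_lt hB1') B.toRepresentation rfl)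

theorem isCharacter_zero : Cfsg.IsCharacter G (0 : G → ℂ) := by
  refine ⟨0, 1, funext fun g => ?_⟩
  show LinearMap.trace ℂ (Fin 0 → ℂ) _ = 0
  rw [Subsingleton.elim ((1 : Representation ℂ G (Fin 0 → ℂ)) g) 0, map_zero]

theorem isCharacter_add {φ ψ : G → ℂ} (hφ : Cfsg.IsCharacter G φ) (hψ : Cfsg.IsCharacter G ψ) :
    Cfsg.IsCharacter G (φ + ψ) := by
  obtain ⟨n, ρ, rfl⟩ := hφ
  obtain ⟨m, σ, rfl⟩ := hψ
  rw [← char_prod]
  exact isCharacter_character _

theorem isCharacter_mul {φ ψ : G → ℂ} (hφ : Cfsg.IsCharacter G φ) (hψ : Cfsg.IsCharacter G ψ) :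
    Cfsg.IsCharacter G (φ * ψ) := by
  obtain ⟨n, ρ, rfl⟩ := hφ
  obtain ⟨m, σ, rfl⟩ := hψ
  rw [← char_tensor]
  exact isCharacter_character _

theorem isCharacter_sum {ι : Type*} (s : Finset ι) (f : ι → G → ℂ)
    (h : ∀ i ∈ s, Cfsg.IsCharacter G (f i)) : Cfsg.IsCharacter G (∑ i ∈ s, f i) :=
  Finset.sum_induction f (Cfsg.IsCharacter G) (fun _ _ => isCharacter_add) isCharacter_zero h

theorem isCharacter_of_isIrr {χ : G → ℂ} (h : Cfsg.IsIrrCharacter G χ) : Cfsg.IsCharacter G χ := by
  obtain ⟨n, ρ, -, rfl⟩ := h
  exact ⟨n, ρ, rfl⟩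

theorem isCharacter_nsmul {φ : G → ℂ} (hφ : Cfsg.IsCharacter G φ) (n : ℕ) :
    Cfsg.IsCharacter G (n • φ) := by
  induction n with
  | zero => rw [zero_smul]; exact isCharacter_zero
  | succ n ih => rw [succ_nsmul]; exact isCharacter_add ih hφ

theorem isCharacter_natCast_smul {φ : G → ℂ} (hφ : Cfsg.IsCharacter G φ) (n : ℕ) :
    Cfsg.IsCharacter G ((n : ℂ) • φ) := by
  rw [Nat.cast_smul_eq_nsmul]; exact isCharacter_nsmul hφ n

theorem isClassFunction_character {V : Type*} [AddCommGroup V] [Module ℂ V]
    [FiniteDimensional ℂ V] (ρ : Representation ℂ G V) :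
    Cfsg.IsClassFunction G ρ.character :=
  fun g h => char_conj ρ g h

theorem isClassFunction_of_isCharacter {χ : G → ℂ} (hχ : Cfsg.IsCharacter G χ) :
    Cfsg.IsClassFunction G χ := by
  obtain ⟨n, ρ, rfl⟩ := hχ
  exact isClassFunction_character ρ

theorem isCharacter_conj [Finite G] {χ : G → ℂ} (hχ : Cfsg.IsCharacter G χ) :
    Cfsg.IsCharacter G (fun g => conj (χ g)) := by
  obtain ⟨n, ρ, rfl⟩ := hχ
  have h : (fun g => conj (ρ.character g)) = ρ.dual.character := by
    funext g
    rw [char_dual, char_value_inv]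
  rw [h]
  exact isCharacter_character _

/-- Restriction of a character along a homomorphism. -/
theorem isCharacter_comp {H : Type*} [Group H] (f : H →* G) {χ : G → ℂ}
    (hχ : Cfsg.IsCharacter G χ) : Cfsg.IsCharacter H (fun h => χ (f h)) := by
  obtain ⟨n, ρ, rfl⟩ := hχ
  exact ⟨n, ρ.comp f, rfl⟩

theorem isCharacter_restrict (H : Subgroup G) {χ : G → ℂ} (hχ : Cfsg.IsCharacter G χ) :
    Cfsg.IsCharacter H (fun h : H => χ h) :=
  isCharacter_comp H.subtype hχ

theorem isIrrCharacter_of_degree_one {χ : G → ℂ} (hχ : Cfsg.IsCharacter G χ) (h1 : χ 1 = 1) :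
    Cfsg.IsIrrCharacter G χ := by
  obtain ⟨n, ρ, rfl⟩ := hχ
  rw [Representation.char_one, Module.finrank_fin_fun] at h1
  have hn : n = 1 := by exact_mod_cast h1
  subst hn
  refine ⟨1, ρ, ?_, rfl⟩
  have : Nontrivial (Subrepresentation ρ) :=
    ⟨⊥, ⊤, fun hbt => bot_ne_top (α := Submodule ℂ (Fin 1 → ℂ))
      (congrArg Subrepresentation.toSubmodule hbt)⟩
  refine ⟨fun A => ?_⟩
  have hle : finrank ℂ A.toSubmodule ≤ 1 :=
    (Submodule.finrank_le _).trans (le_of_eq (Module.finrank_fin_fun ℂ))
  rcases Nat.le_one_iff_eq_zero_or_eq_one.mp hle with h | h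
  · exact Or.inl (Subrepresentation.toSubmodule_injective (Submodule.finrank_eq_zero.mp h))
  · exact Or.inr (Subrepresentation.toSubmodule_injective (Submodule.eq_top_of_finrank_eq
      (h.trans (Module.finrank_fin_fun ℂ).symm)))

/-- A homomorphism to `ℂˣ` as a linear character. -/
theorem isCharacter_monoidHom (f : G →* ℂˣ) : Cfsg.IsCharacter G (fun g => (f g : ℂ)) := by
  let ρ : Representation ℂ G ℂ :=
    { toFun := fun g => (f g : ℂ) • LinearMap.id
      map_one' := by simp; rfl
      map_mul' := fun a b => by ext; simp [mul_comm] }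
  have h : ρ.character = fun g => (f g : ℂ) := funext fun g => by
    show LinearMap.trace ℂ ℂ ((f g : ℂ) • LinearMap.id) = _
    rw [map_smul, LinearMap.trace_id]
    simp
  rw [← h]
  exact isCharacter_character ρ

theorem isIrrCharacter_monoidHom (f : G →* ℂˣ) :
    Cfsg.IsIrrCharacter G (fun g => (f g : ℂ)) :=
  isIrrCharacter_of_degree_one (isCharacter_monoidHom f) (by simp)

theorem isIrrCharacter_one : Cfsg.IsIrrCharacter G (fun _ => (1 : ℂ)) :=
  isIrrCharacter_monoidHom (1 : G →* ℂˣ)

theorem isCharacter_one : Cfsg.IsCharacter G (fun _ => (1 : ℂ)) :=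
  isCharacter_of_isIrr isIrrCharacter_one

end CfsgLib.Char
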