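import Cfsg.Agent.Lib.Char.TINilpotentCoherence
import Cfsg.Agent.Lib.Char.PiPart
import Cfsg.Agent.Lib.Char.Kernel

/-!
# A nilpotent self-centralising TI subgroup of a simple group is a group of prime power order

The fusion in `U` is induced by a fixed-point-free group `H` of order at least two.
-/

set_option autoImplicit false
set_option linter.unusedSectionVars false
set_option linter.style.haveILetI false

namespace CfsgLib.Char.TINilpotent

open Cfsg
open scoped ComplexConjugate CfsgLib.Char

/-- A finite nilpotent group is the product of its `p`-part and a part of order prime to `p`. -/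
theorem exists_decomp {U : Type*} [Group U] [Finite U] [Group.IsNilpotent U] (p : ℕ) [Fact p.Prime] :
    ∃ (A B : Subgroup U) (e : A × B ≃* U), IsPGroup p A ∧ (Nat.card B).Coprime p ∧
      ∀ x, e x = (x.1 : U) * (x.2 : U) := by
  obtain ⟨S⟩ : Nonempty (Sylow p U) := inferInstance
  have hSn : (S : Subgroup U).Normal :=
    Sylow.normal_of_normalizerCondition Group.normalizerCondition_of_isNilpotent S
  obtain ⟨B, hB⟩ := Subgroup.exists_right_complement'_of_coprime (N := (S : Subgroup U)) S.card_coprime_index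
  have hBc : Nat.card B = (S : Subgroup U).index := hB.symm.index_eq_card.symm
  have hcop : (Nat.card (S : Subgroup U)).Coprime (Nat.card B) := hBc ▸ S.card_coprime_index
  have hcomm : ∀ (x : (S : Subgroup U)) (y : B), Commute (x : U) (y : U) := fun x y =>
    PiPart.commute_of_coprime (by
      rw [Subgroup.orderOf_coe, Subgroup.orderOf_coe]
      exact Nat.Coprime.coprime_dvd_left (orderOf_dvd_natCard x)
        (hcop.coprime_dvd_right (orderOf_dvd_natCard y)))
  let f : ↥(S : Subgroup U) × B →* U :=
    (S : Subgroup U).subtype.noncommCoprod B.subtype fun x y => hcomm x y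
  refine ⟨S, B, MulEquiv.ofBijective f hB, S.2, ?_, fun x => rfl⟩
  rw [hBc, Nat.coprime_comm, Nat.Prime.coprime_iff_not_dvd Fact.out]
  exact S.not_dvd_index

theorem linear_count {A : Type*} [Group A] [Finite A] [Fintype (IrrCharacter A)] :
    (Finset.univ.filter fun α : IrrCharacter A => (α : A → ℂ) 1 = 1).card = (commutator A).index := by
  rw [← card_linear, Nat.card_eq_fintype_card, Fintype.card_subtype]

theorem linear_count_gt {A : Type*} [Group A] [Finite A] [Group.IsNilpotent A] [Nontrivial A] :
    1 < (commutator A).index :=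
  Subgroup.one_lt_index_of_ne_top (Group.IsSolvable.commutator_lt_top_of_nontrivial A).ne

variable {G : Type*} [Group G] [Fintype G] {U H : Subgroup G} [Fintype U] [Fintype H]

theorem deg_eq_one_iff {θ : IrrCharacter U} : deg θ = 1 ↔ (θ : U → ℂ) 1 = 1 := by
  rw [deg_cast, Nat.cast_eq_one]

/-- An irreducible character which is constant is trivial. -/
theorem eq_triv_of_constant {θ : IrrCharacter U} (h : ∀ u, (θ : U → ℂ) u = (θ : U → ℂ) 1) : θ = triv := by
  have h1 := classInner_irr_self θ.2
  simp only [classInner, h, deg_cast, Complex.conj_natCast, Finset.sum_const, Finset.card_univ,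
    nsmul_eq_mul, ← Nat.card_eq_fintype_card] at h1
  rw [inv_mul_cancel_left₀ (Nat.cast_ne_zero.mpr Nat.card_pos.ne'), ← Nat.cast_mul, Nat.cast_eq_one] at h1
  have hd := (Nat.eq_one_of_mul_eq_one_right h1 :)
  exact Subtype.ext (funext fun u => by rw [h, deg_cast, hd, Nat.cast_one]; rfl)

section Pairs

variable {A B : Subgroup U} [Fintype A] [Fintype B] (e : A × B ≃* U)

theorem exists_pair (α : IrrCharacter A) (β : IrrCharacter B) :
    IsIrrCharacter U (fun u => (α : A → ℂ) (e.symm u).1 * (β : B → ℂ) (e.symm u).2) :=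
  isIrrCharacter_comp_mulEquiv e.symm (φ := fun x => (α : A → ℂ) x.1 * (β : B → ℂ) x.2)
    ((isIrr_prod_iff _).mpr ⟨α, β, α.2, β.2, rfl⟩)

/-- The character of `U` given by characters of the factors. -/
noncomputable def pair (x : IrrCharacter A × IrrCharacter B) : IrrCharacter U := ⟨_, exists_pair e x.1 x.2⟩

theorem pair_apply (x : IrrCharacter A × IrrCharacter B) (a : A) (b : B) :
    (pair e x : U → ℂ) (e (a, b)) = (x.1 : A → ℂ) a * (x.2 : B → ℂ) b := by
  show (x.1 : A → ℂ) (e.symm (e (a, b))).1 * _ = _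
  simp

theorem pair_deg (x : IrrCharacter A × IrrCharacter B) : deg (pair e x) = deg x.1 * deg x.2 := by
  have h := pair_apply e x 1 1
  rw [show e ((1 : A), (1 : B)) = 1 from map_one e, deg_cast, deg_cast, deg_cast] at h
  exact_mod_cast h

theorem pair_surjective (θ : IrrCharacter U) : ∃ x, pair e x = θ := by
  obtain ⟨φ, ψ, hφ, hψ, h⟩ := (isIrr_prod_iff _).mp (isIrrCharacter_comp_mulEquiv e θ.2)
  refine ⟨(⟨φ, hφ⟩, ⟨ψ, hψ⟩), Subtype.ext (funext fun u => ?_)⟩
  obtain ⟨⟨a, b⟩, rfl⟩ := e.surjective u
  rw [pair_apply]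
  exact (congrFun h (a, b)).symm

theorem pair_injective : Function.Injective (pair e) := by
  classical
  rintro ⟨α, β⟩ ⟨α', β'⟩ h
  have key : ∀ a b, (α : A → ℂ) a * (β : B → ℂ) b = (α' : A → ℂ) a * (β' : B → ℂ) b := fun a b => by
    have h1 := pair_apply e (α, β) a b
    rw [h, pair_apply] at h1
    exact h1.symm
  have hα : α = α' := by
    by_contra hne
    have h1 := classInner_smul_left ((β : B → ℂ) 1) (α : A → ℂ) (α : A → ℂ)
    have e' : ((β : B → ℂ) 1) • (α : A → ℂ) = ((β' : B → ℂ) 1) • (α' : A → ℂ) := funext fun a => by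
      simp only [Pi.smul_apply, smul_eq_mul]
      linear_combination key a 1
    rw [e', classInner_smul_left, classInner_irr_ne α'.2 α.2 (fun x => hne (Subtype.ext x.symm)),
      classInner_irr_self α.2, mul_zero, mul_one] at h1
    exact irr_degree_ne_zero β.2 h1.symm
  subst hα
  exact Prod.ext rfl (Subtype.ext (funext fun b =>
    mul_left_cancel₀ (irr_degree_ne_zero α.2) (key 1 b)))

theorem pair_triv : pair e (triv, triv) = triv := Subtype.ext (funext fun u => mul_one 1)

/-- Constant on the elements with order dividing `n`. -/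
def TrivOn (n : ℕ) (θ : IrrCharacter U) : Prop :=
  ∀ u : U, orderOf u ∣ n → (θ : U → ℂ) u = (θ : U → ℂ) 1

theorem TrivOn.rot {n : ℕ} {θ : IrrCharacter U} (h : TrivOn n θ) (hS : Setting U H) (x : H) :
    TrivOn n (rot hS x θ) := fun u hu => by
  rw [rot_apply, rot_apply, map_one]
  exact h _ (by rwa [MulEquiv.orderOf_eq])

theorem pair_trivOn_left (hcop : (Nat.card A).Coprime (Nat.card B)) (x : IrrCharacter A × IrrCharacter B) :
    TrivOn (Nat.card A) (pair e x) ↔ x.1 = triv := by
  constructor
  · intro h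
    refine eq_triv_of_constant fun a => ?_
    have h1 := h (e (a, 1)) (by
      rw [MulEquiv.orderOf_eq, Prod.orderOf, orderOf_one, Nat.lcm_one_right]
      exact orderOf_dvd_natCard a)
    rw [pair_apply, ← map_one e] at h1
    have h2 := pair_apply e x 1 1
    rw [show ((1 : A), (1 : B)) = 1 from rfl] at h2
    rw [h2] at h1
    exact mul_right_cancel₀ (irr_degree_ne_zero x.2.2) h1
  · intro hx u hu
    obtain ⟨⟨a, b⟩, rfl⟩ := e.surjective u
    rw [MulEquiv.orderOf_eq, Prod.orderOf] at hu
    have hb : b = 1 := orderOf_eq_one_iff.mp (Nat.eq_one_of_dvd_coprimes hcop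
      ((Nat.dvd_lcm_right _ _).trans hu) (orderOf_dvd_natCard b))
    rw [← map_one e, show (1 : A × B) = (1, 1) from rfl, pair_apply, pair_apply, hb, hx]
    rfl

theorem pair_trivOn_right (hcop : (Nat.card A).Coprime (Nat.card B)) (x : IrrCharacter A × IrrCharacter B) :
    TrivOn (Nat.card B) (pair e x) ↔ x.2 = triv := by
  constructor
  · intro h
    refine eq_triv_of_constant fun b => ?_
    have h1 := h (e (1, b)) (by
      rw [MulEquiv.orderOf_eq, Prod.orderOf, orderOf_one, Nat.lcm_one_left]
      exact orderOf_dvd_natCard b)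
    rw [pair_apply, ← map_one e] at h1
    have h2 := pair_apply e x 1 1
    rw [show ((1 : A), (1 : B)) = 1 from rfl] at h2
    rw [h2] at h1
    exact mul_left_cancel₀ (irr_degree_ne_zero x.1.2) h1
  · intro hx u hu
    obtain ⟨⟨a, b⟩, rfl⟩ := e.surjective u
    rw [MulEquiv.orderOf_eq, Prod.orderOf] at hu
    have ha : a = 1 := orderOf_eq_one_iff.mp (Nat.eq_one_of_dvd_coprimes hcop.symm
      ((Nat.dvd_lcm_left _ _).trans hu) (orderOf_dvd_natCard a))
    rw [← map_one e, show (1 : A × B) = (1, 1) from rfl, pair_apply, pair_apply, ha, hx]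
    rfl

variable (hS : Setting U H) (hcop : (Nat.card A).Coprime (Nat.card B))
include e hS hcop

/-- Linear characters of the first factor come in free orbits. -/
theorem dvd_linear_left : Nat.card H ∣ (commutator A).index - 1 := by
  classical
  have h := dvd_card_invariant hS
    ((Finset.univ.filter fun α : IrrCharacter A => deg α = 1 ∧ α ≠ triv).image fun α => pair e (α, triv))
    (fun θ hθ => by
      obtain ⟨α, hα, rfl⟩ := Finset.mem_image.mp hθ
      rw [← pair_triv e]
      exact fun hh => (Finset.mem_filter.mp hα).2.2 (Prod.ext_iff.mp (pair_injective e hh)).1)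
    (fun θ hθ x => by
      obtain ⟨α, hα, rfl⟩ := Finset.mem_image.mp hθ
      rw [Finset.mem_filter] at hα
      obtain ⟨⟨α', β'⟩, hy⟩ := pair_surjective e (rot hS x (pair e (α, triv)))
      obtain rfl : β' = triv := (pair_trivOn_right e hcop (α', β')).mp
        (hy ▸ ((pair_trivOn_right e hcop (α, triv)).mpr rfl).rot hS x)
      refine Finset.mem_image.mpr ⟨α', Finset.mem_filter.mpr ⟨Finset.mem_univ _, ?_, fun hh => ?_⟩, hy⟩
      · have := congrArg deg hy
        rw [deg_rot, pair_deg, pair_deg, deg_triv, mul_one, mul_one] at this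
        rw [this, hα.2.1]
      · subst hh
        rw [pair_triv] at hy
        have := congrArg (TINilpotent.rot hS x⁻¹) hy
        rw [rot_triv, rot_rot, mul_inv_cancel, rot_one, ← pair_triv e] at this
        exact hα.2.2 (Prod.ext_iff.mp (pair_injective e this.symm)).1)
  rw [Finset.card_image_of_injective _ fun a b hh => (Prod.ext_iff.mp (pair_injective e hh)).1] at h
  convert h using 1
  rw [← linear_count, ← Finset.card_erase_of_mem (a := (triv : IrrCharacter A))
    (show (triv : IrrCharacter A) ∈ Finset.univ.filter fun α : IrrCharacter A => (α : A → ℂ) 1 = 1 from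
      Finset.mem_filter.mpr ⟨Finset.mem_univ _, rfl⟩)]
  congr 1
  ext α
  simp [deg_eq_one_iff, and_comm]

/-- The degrees below a given one outweigh `|H|` times twice the degree. -/
theorem weight {p : ℕ} [Fact p.Prime] (hA : IsPGroup p A) (hB : (Nat.card B).Coprime p)
    [Group.IsNilpotent B] [Nontrivial B] (hk : 2 ≤ Nat.card H)
    (hlin : Nat.card H * (2 * Nat.card H + 3) ≤
      ({φ : IrrCharacter U | φ ≠ triv ∧ deg φ = 1} : Set (IrrCharacter U)).ncard)
    (θ : IrrCharacter U) (hd : p ∣ deg θ) (T : Finset (IrrCharacter U))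
    (hT : ∀ φ, φ ∈ T ↔ φ ≠ triv ∧ deg φ < deg θ) :
    Nat.card H * (2 * deg θ + 2) ≤ ∑ φ ∈ T, deg φ * deg φ := by
  classical
  by_cases h2 : deg θ = 2
  · have hsub : ({φ : IrrCharacter U | φ ≠ triv ∧ deg φ = 1} : Set (IrrCharacter U)).ncard ≤ T.card := by
      rw [← Set.ncard_coe_finset]
      exact Set.ncard_le_ncard (fun φ hφ => by
        simp only [Finset.mem_coe, hT, h2]; exact ⟨hφ.1, by rw [hφ.2]; norm_num⟩) T.finite_toSet
    have h1 : T.card ≤ ∑ φ ∈ T, deg φ * deg φ := by
      rw [Finset.card_eq_sum_ones]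
      exact Finset.sum_le_sum fun φ _ => Nat.mul_pos (deg_pos φ) (deg_pos φ)
    rw [h2]
    nlinarith
  obtain ⟨⟨α, β⟩, rfl⟩ := pair_surjective e θ
  rw [pair_deg] at hd h2 hT ⊢
  simp only at hd h2 hT ⊢
  obtain ⟨m, hm⟩ := hA.exists_card_eq
  have hdegA : ∀ α' : IrrCharacter A, ∃ i, deg α' = p ^ i := fun α' => by
    obtain ⟨n, hn, -, hdvd⟩ := exists_degree_dvd_card α'.2
    rw [deg_cast, Nat.cast_inj] at hn
    rw [hm, ← hn] at hdvd
    obtain ⟨i, -, hi⟩ := (Nat.dvd_prime_pow Fact.out).mp hdvd
    exact ⟨i, hi⟩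
  have hb : ¬ p ∣ deg β := fun h => by
    obtain ⟨n, hn, -, hdvd⟩ := exists_degree_dvd_card β.2
    rw [deg_cast, Nat.cast_inj] at hn
    exact (Fact.out : p.Prime).one_lt.ne' (Nat.eq_one_of_dvd_coprimes hB ((h.trans (hn ▸ hdvd))) dvd_rfl)
  have ha2 : 2 ≤ deg α := (Fact.out : p.Prime).two_le.trans (Nat.le_of_dvd (deg_pos α)
    (((Fact.out : p.Prime).dvd_mul.mp hd).resolve_right hb))
  set a := deg α with ha
  set b := deg β with hb'
  have hbpos : 1 ≤ b := deg_pos β
  set X : Finset (IrrCharacter A) := Finset.univ.filter fun α' => deg α' < a with hX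
  have hXa : a * a ≤ ∑ α' ∈ X, deg α' * deg α' := by
    have hpos : 0 < ∑ α' ∈ X, deg α' * deg α' :=
      Finset.sum_pos' (fun _ _ => Nat.zero_le _) ⟨triv, by simp [hX, deg_triv]; omega, by simp [deg_triv]⟩
    have htot : ∑ α' : IrrCharacter A, deg α' * deg α' = Nat.card A := by
      have h := sum_sq_degree (G := A)
      simp only [deg_cast, sq] at h
      exact_mod_cast h
    have hdvd : a * a ∣ Nat.card A := by
      have hle : a * a ≤ Nat.card A :=
        htot ▸ Finset.single_le_sum (f := fun x => deg x * deg x) (fun _ _ => Nat.zero_le _) (Finset.mem_univ α)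
      obtain ⟨i, hi⟩ := hdegA α
      rw [← ha] at hi
      rw [hi, ← pow_add, hm] at hle ⊢
      exact pow_dvd_pow p ((Nat.pow_le_pow_iff_right (Fact.out : p.Prime).one_lt).mp hle)
    refine Nat.le_of_dvd hpos ?_
    rw [← htot, ← Finset.sum_filter_add_sum_filter_not Finset.univ (fun α' => deg α' < a)] at hdvd
    refine (Nat.dvd_add_iff_left (Finset.dvd_sum fun α' hα' => ?_)).mpr hdvd
    rw [Finset.mem_filter, not_lt] at hα'
    obtain ⟨i, hi⟩ := hdegA α
    obtain ⟨j, hj⟩ := hdegA α'
    rw [← ha] at hi
    rw [hi, hj] at hα' ⊢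
    exact mul_dvd_mul (pow_dvd_pow p ((Nat.pow_le_pow_iff_right (Fact.out : p.Prime).one_lt).mp hα'.2))
      (pow_dvd_pow p ((Nat.pow_le_pow_iff_right (Fact.out : p.Prime).one_lt).mp hα'.2))
  -- an orbit in the second factor
  obtain ⟨β₀, hβ₀, hβ₀b⟩ : ∃ β₀ : IrrCharacter B, β₀ ≠ triv ∧ deg β₀ = b := by
    by_cases h : β = triv
    · have hb1 : b = 1 := by rw [hb', h, deg_triv]
      by_contra hno
      push Not at hno
      have : (Finset.univ.filter fun β₀ : IrrCharacter B => (β₀ : B → ℂ) 1 = 1) ⊆ {triv} := by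
        intro β₀ hβ₀
        rw [Finset.mem_filter, ← deg_eq_one_iff] at hβ₀
        rw [Finset.mem_singleton]
        by_contra hne
        exact hno β₀ hne (hb1 ▸ hβ₀.2)
      have := Finset.card_le_card this
      rw [linear_count, Finset.card_singleton] at this
      have := linear_count_gt (A := B)
      omega
    · exact ⟨β, h, rfl⟩
  set Z : Finset (IrrCharacter B) := Finset.univ.filter fun β' => deg β' = b ∧ β' ≠ triv with hZ
  have hZk : Nat.card H ≤ Z.card := by
    have hne : pair e ((triv : IrrCharacter A), β₀) ≠ triv := fun h => hβ₀ (by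
      rw [← pair_triv e] at h; exact (Prod.ext_iff.mp (pair_injective e h)).2)
    rw [← card_orb hS hne]
    refine (Finset.card_le_card (fun φ hφ => ?_)).trans
      (Finset.card_image_le (f := fun β' => pair e ((triv : IrrCharacter A), β')))
    obtain ⟨x, rfl⟩ := mem_orb.mp hφ
    obtain ⟨⟨α', β'⟩, hy⟩ := pair_surjective e (rot hS x (pair e (triv, β₀)))
    obtain rfl : α' = triv := (pair_trivOn_left e hcop (α', β')).mp
      (hy ▸ ((pair_trivOn_left e hcop (triv, β₀)).mpr rfl).rot hS x)
    refine Finset.mem_image.mpr ⟨β', Finset.mem_filter.mpr ⟨Finset.mem_univ _, ?_, fun hh => ?_⟩, hy⟩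
    · have := congrArg deg hy
      rw [deg_rot, pair_deg, pair_deg, deg_triv, one_mul, one_mul] at this
      rw [this, hβ₀b]
    · subst hh
      rw [pair_triv] at hy
      refine hne ?_
      have := congrArg (TINilpotent.rot hS x⁻¹) hy
      rw [rot_triv, rot_rot, mul_inv_cancel, rot_one] at this
      exact this.symm
  set Y : Finset (IrrCharacter B) := insert triv Z with hY
  have hYb : Nat.card H * (b * b) + 1 ≤ ∑ β' ∈ Y, deg β' * deg β' := by
    rw [hY, Finset.sum_insert (by simp [hZ]), deg_triv, Finset.sum_congr rfl (fun β' hβ' => by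
      rw [(Finset.mem_filter.mp hβ').2.1] : ∀ β' ∈ Z, deg β' * deg β' = b * b), Finset.sum_const, smul_eq_mul]
    have := Nat.mul_le_mul_right (b * b) hZk
    omega
  have hmain : (∑ α' ∈ X, deg α' * deg α') * (∑ β' ∈ Y, deg β' * deg β') ≤
      (∑ φ ∈ T, deg φ * deg φ) + 1 := by
    rw [Finset.sum_mul_sum, ← Finset.sum_product']
    calc ∑ x ∈ X ×ˢ Y, deg x.1 * deg x.1 * (deg x.2 * deg x.2)
        = ∑ φ ∈ (X ×ˢ Y).image (pair e), deg φ * deg φ := by
          rw [Finset.sum_image fun x _ y _ h => pair_injective e h]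
          exact Finset.sum_congr rfl fun x _ => by rw [pair_deg]; ring
      _ ≤ ∑ φ ∈ insert triv T, deg φ * deg φ := Finset.sum_le_sum_of_subset fun φ hφ => by
          obtain ⟨⟨α', β'⟩, hx, rfl⟩ := Finset.mem_image.mp hφ
          rw [Finset.mem_insert, hT, pair_deg]
          refine (em _).imp_right fun h => ⟨h, ?_⟩
          simp only [Finset.mem_product, hX, hY, Finset.mem_filter, Finset.mem_univ, true_and,
            Finset.mem_insert] at hx
          have hb'' : deg β' ≤ b := by
            rcases hx.2 with rfl | h'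
            · rw [deg_triv]; exact hbpos
            · rw [(Finset.mem_filter.mp h').2.1]
          calc deg α' * deg β' ≤ deg α' * b := Nat.mul_le_mul_left _ hb''
            _ < a * b := Nat.mul_lt_mul_of_pos_right hx.1 hbpos
      _ = _ := by
          rw [Finset.sum_insert (by simp [hT]), deg_triv]; ring
  have h3 : 3 ≤ a * b := by
    have : 2 ≤ a * b := le_trans ha2 (Nat.le_mul_of_pos_right a hbpos)
    omega
  have hab : Nat.card H * (2 * (a * b) + 2) + 1 ≤ a * a * (Nat.card H * (b * b) + 1) := by
    have h4 : 2 * (a * b) + 2 ≤ a * b * (a * b) := by nlinarith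
    have h5 := Nat.mul_le_mul_left (Nat.card H) h4
    nlinarith
  have := Nat.mul_le_mul hXa hYb
  omega

end Pairs

/-- A nilpotent self-centralising TI subgroup of a finite simple group, with fusion induced by a
fixed-point-free group of order at least two, has prime power order. -/
theorem exists_isPGroup {G : Type*} [Group G] [Finite G] [IsSimpleGroup G] {U H : Subgroup G}
    (hS : Setting U H) [Group.IsNilpotent U] (hk : 2 ≤ Nat.card H) :
    ∃ p : ℕ, p.Prime ∧ IsPGroup p U := by
  classical
  haveI : Fintype G := Fintype.ofFinite G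
  haveI : Fintype U := Fintype.ofFinite U
  haveI : Fintype H := Fintype.ofFinite H
  haveI := U.nontrivial_iff_ne_bot.mpr hS.ne_bot
  by_contra hno
  push Not at hno
  obtain ⟨p, hp, hpd⟩ := Nat.exists_prime_and_dvd (Finite.one_lt_card (α := U)).ne'
  haveI := Fact.mk hp
  obtain ⟨A, B, e, hA, hB, -⟩ := exists_decomp (U := U) p
  haveI : Fintype A := Fintype.ofFinite A
  haveI : Fintype B := Fintype.ofFinite B
  have hcard : Nat.card A * Nat.card B = Nat.card U := by
    rw [← Nat.card_prod, Nat.card_congr e.toEquiv]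
  obtain ⟨m, hm⟩ := hA.exists_card_eq
  have hcop : (Nat.card A).Coprime (Nat.card B) := hm ▸ Nat.Coprime.pow_left m hB.symm
  haveI : Nontrivial A := Finite.one_lt_card_iff_nontrivial.mp <| by
    by_contra h
    have h1 : Nat.card A = 1 := by have := Nat.card_pos (α := A); omega
    rw [h1, one_mul] at hcard
    exact hp.one_lt.ne' (Nat.eq_one_of_dvd_coprimes hB (hcard ▸ hpd) dvd_rfl)
  haveI : Nontrivial B := Finite.one_lt_card_iff_nontrivial.mp <| by
    by_contra h
    have h1 : Nat.card B = 1 := by have := Nat.card_pos (α := B); omega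
    rw [h1, mul_one, hm] at hcard
    exact hno p hp (IsPGroup.of_card hcard.symm)
  haveI : Group.IsNilpotent A := inferInstance
  haveI : Group.IsNilpotent B := inferInstance
  set LA := (commutator A).index with hLA
  set LB := (commutator B).index with hLB
  obtain ⟨i, hi⟩ := dvd_linear_left e hS hcop
  obtain ⟨j, hj⟩ := dvd_linear_left ((MulEquiv.prodComm).trans e) hS hcop.symm
  have hA1 : 1 < LA := linear_count_gt
  have hB1 : 1 < LB := linear_count_gt
  have hne : LA ≠ LB := fun h => hA1.ne' (Nat.eq_one_of_dvd_coprimes hcop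
    (commutator A).index_dvd_card (by
      show LA ∣ Nat.card B
      rw [h]; exact (commutator B).index_dvd_card))
  have hlin : Nat.card H * (2 * Nat.card H + 3) ≤
      ({φ : IrrCharacter U | φ ≠ triv ∧ deg φ = 1} : Set (IrrCharacter U)).ncard := by
    have hsub : ((Finset.univ.filter fun α : IrrCharacter A => (α : A → ℂ) 1 = 1) ×ˢ
        (Finset.univ.filter fun β : IrrCharacter B => (β : B → ℂ) 1 = 1)).image (pair e) ⊆
        insert triv ({φ : IrrCharacter U | φ ≠ triv ∧ deg φ = 1} : Set (IrrCharacter U)).toFinset := by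
      intro φ hφ
      obtain ⟨⟨α, β⟩, hx, rfl⟩ := Finset.mem_image.mp hφ
      simp only [Finset.mem_product, Finset.mem_filter, Finset.mem_univ, true_and, ← deg_eq_one_iff] at hx
      rw [Finset.mem_insert, Set.mem_toFinset]
      exact (em _).imp_right fun h => ⟨h, by rw [pair_deg, hx.1, hx.2]⟩
    have := (Finset.card_le_card hsub).trans (Finset.card_insert_le _ _)
    rw [Finset.card_image_of_injective _ (pair_injective e), Finset.card_product, linear_count, linear_count,
      ← Set.ncard_eq_toFinset_card'] at this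
    rw [← hLA, ← hLB] at this
    have hi' : LA = Nat.card H * i + 1 := by omega
    have hj' : LB = Nat.card H * j + 1 := by omega
    have hi0 : 1 ≤ i := by rcases Nat.eq_zero_or_pos i with h | h <;> [(rw [h] at hi'; omega); exact h]
    have hj0 : 1 ≤ j := by rcases Nat.eq_zero_or_pos j with h | h <;> [(rw [h] at hj'; omega); exact h]
    have hij : 3 ≤ i + j := by
      by_contra h
      exact hne (by rw [hi', hj', show i = j by omega])
    have h2 : 2 ≤ i * j := by
      rcases Nat.lt_or_ge i 2 with h | h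
      · have : i = 1 := by omega
        subst this; omega
      · exact le_trans h (Nat.le_mul_of_pos_right i hj0)
    have h5 := Nat.mul_le_mul_left (Nat.card H * Nat.card H) h2
    have h6 := Nat.mul_le_mul_left (Nat.card H) hij
    rw [hi', hj'] at this
    nlinarith
  -- a linear character of the first factor
  obtain ⟨α₀, hα₀, hα₀1⟩ : ∃ α : IrrCharacter A, α ≠ triv ∧ deg α = 1 := by
    by_contra h
    push Not at h
    have hs : (Finset.univ.filter fun α : IrrCharacter A => (α : A → ℂ) 1 = 1) ⊆ {triv} := fun α hα => by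
      rw [Finset.mem_filter, ← deg_eq_one_iff] at hα
      rw [Finset.mem_singleton]
      by_contra hne'
      exact h α hne' hα.2
    have := Finset.card_le_card hs
    rw [linear_count, Finset.card_singleton] at this
    omega
  set t₀ := pair e (α₀, (triv : IrrCharacter B)) with ht₀
  have ht0 : t₀ ≠ triv := fun h => hα₀ (by
    rw [ht₀, ← pair_triv e] at h
    exact (Prod.ext_iff.mp (pair_injective e h)).1)
  obtain ⟨P, hP, hPall⟩ := exceptional hS ht0 (by rw [ht₀, pair_deg, hα₀1, deg_triv]) hlin
    fun θ hθ T hT => by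
      obtain ⟨r, hr, hrd⟩ := Nat.exists_prime_and_dvd hθ.ne'
      haveI := Fact.mk hr
      obtain ⟨A', B', e', hA', hB', -⟩ := exists_decomp (U := U) r
      haveI : Fintype A' := Fintype.ofFinite A'
      haveI : Fintype B' := Fintype.ofFinite B'
      have hcard' : Nat.card A' * Nat.card B' = Nat.card U := by
        rw [← Nat.card_prod, Nat.card_congr e'.toEquiv]
      haveI : Nontrivial B' := Finite.one_lt_card_iff_nontrivial.mp <| by
        by_contra h
        have h1 : Nat.card B' = 1 := by have := Nat.card_pos (α := B'); omega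
        obtain ⟨m', hm'⟩ := hA'.exists_card_eq
        rw [h1, mul_one, hm'] at hcard'
        exact hno r hr (IsPGroup.of_card hcard'.symm)
      haveI : Group.IsNilpotent B' := inferInstance
      obtain ⟨m', hm'⟩ := hA'.exists_card_eq
      exact weight e' hS (hm' ▸ Nat.Coprime.pow_left m' hB'.symm) hA' hB' hk hlin θ hrd T hT
  -- an element of the second factor lies in the kernel
  obtain ⟨b, hb⟩ := exists_ne (1 : B)
  set u₀ : U := e (1, b) with hu₀
  have hu₀1 : u₀ ≠ 1 := fun h => hb (Prod.ext_iff.mp (e.injective (h.trans (map_one e).symm))).2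
  have hu₀o : orderOf u₀ ∣ Nat.card B := by
    rw [hu₀, MulEquiv.orderOf_eq, Prod.orderOf, orderOf_one, Nat.lcm_one_left]
    exact orderOf_dvd_natCard b
  have hker : (P : G → ℂ) u₀ = (P : G → ℂ) 1 := by
    have hres := classFunction_expansion (G := U) (f := fun u : U => (P : G → ℂ) u)
      (fun a c => isClassFunction_irr P (a : G) (c : G))
    have hterm : ∀ ξ : IrrCharacter U, classInner (fun u : U => (P : G → ℂ) u) (ξ : U → ℂ) * (ξ : U → ℂ) u₀ =
        classInner (fun u : U => (P : G → ℂ) u) (ξ : U → ℂ) * (ξ : U → ℂ) 1 := by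
      intro ξ
      by_cases h : N ξ P = 0
      · rw [← N_cast, h, Int.cast_zero, zero_mul, zero_mul]
      · obtain ⟨x, rfl⟩ := hPall ξ h
        rw [(((pair_trivOn_right e hcop (α₀, triv)).mpr rfl).rot hS x) u₀ hu₀o]
    have e1 := congrFun hres u₀
    have e2 := congrFun hres 1
    simp only [Finset.sum_apply, Pi.smul_apply, smul_eq_mul] at e1 e2
    rw [Finset.sum_congr rfl fun ξ _ => hterm ξ, ← e2] at e1
    exact e1
  obtain ⟨K, hKn, hK, -⟩ := exists_kernel (isCharacter_of_isIrr P.2)
  have hKtop : K = ⊤ := by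
    rcases hKn.eq_bot_or_eq_top with h | h
    · exact absurd (Subtype.ext ((Subgroup.eq_bot_iff_forall _).mp h _ ((hK _).mpr hker))) hu₀1
    · exact h
  have hzero : (N t₀ P : ℂ) = 0 := by
    have h1 : (fun u : U => (P : G → ℂ) u) = ((P : G → ℂ) 1) • ((triv : IrrCharacter U) : U → ℂ) :=
      funext fun u => by rw [(hK _).mp (hKtop ▸ Subgroup.mem_top _)]; exact (mul_one _).symm
    rw [N_cast, h1, classInner_smul_left,
      classInner_irr_ne (triv : IrrCharacter U).2 t₀.2 (fun h => ht0 (Subtype.ext h.symm)), mul_zero]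
  rw [hP] at hzero
  norm_num at hzero

end CfsgLib.Char.TINilpotent
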