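import Cfsg.Agent.Lib.Char.ExtendChar
import Cfsg.Agent.Lib.Char.Induced
import Cfsg.Agent.Lib.Blocks.Inflate

/-!
# Restricting induced characters to a supplementary normal subgroup; a strict norm bound
-/

set_option autoImplicit false
set_option linter.unusedSectionVars false

namespace CfsgLib.Char

open Cfsg
open scoped ComplexConjugate CfsgLib.Char

variable {G : Type*} [Group G] [Fintype G]

/-- Mackey's formula for a normal supplement. -/
theorem indFun_restrict_of_sup_eq_top (K H : Subgroup G) [K.Normal] [Fintype K] [Fintype H]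
    (hKH : K ⊔ H = ⊤) {θ : H → ℂ} (hθ : IsClassFunction H θ) :
    (fun k : K => indFun H θ (k : G)) =
      indFun (H.subgroupOf K) (fun q : H.subgroupOf K => θ ⟨((q : K) : G), q.2⟩) := by
  classical
  funext k
  set Q := H.subgroupOf K with hQ
  set θQ : Q → ℂ := fun q => θ ⟨((q : K) : G), q.2⟩
  set F : G → ℂ := fun x => extendByZero H θ (x⁻¹ * (k : G) * x) with hF
  have hFinv : ∀ (x : G) (h : H), F (x * (h : G)) = F x := by
    intro x h
    simp only [hF]
    by_cases hm : x⁻¹ * (k : G) * x ∈ H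
    · have hm' : (x * (h : G))⁻¹ * (k : G) * (x * (h : G)) ∈ H := by
        rw [show (x * (h : G))⁻¹ * (k : G) * (x * (h : G)) = (h : G)⁻¹ * (x⁻¹ * (k : G) * x) * (h : G) by group]
        exact H.mul_mem (H.mul_mem (H.inv_mem h.2) hm) h.2
      rw [extendByZero_mem H θ hm, extendByZero_mem H θ hm', ← hθ ⟨_, hm⟩ h⁻¹]
      exact congrArg θ (Subtype.ext (by simp [mul_assoc]))
    · rw [extendByZero_notMem H θ hm, extendByZero_notMem]
      intro hm'
      refine hm ?_
      rw [show x⁻¹ * (k : G) * x = (h : G) * ((x * (h : G))⁻¹ * (k : G) * (x * (h : G))) * (h : G)⁻¹ by group]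
      exact H.mul_mem (H.mul_mem h.2 hm') (H.inv_mem h.2)
  have hfib : ∀ x : G, (Finset.univ.filter fun z : K × H => (z.1 : G) * (z.2 : G) = x).card = Nat.card Q := by
    intro x
    obtain ⟨k₀, hk₀, h₀, hh₀, rfl⟩ := Subgroup.mem_sup_of_normal_left.mp
      (hKH ▸ Subgroup.mem_top x : x ∈ K ⊔ H)
    rw [← Fintype.card_subtype, ← Nat.card_eq_fintype_card]
    refine Nat.card_congr
      { toFun := fun z => ⟨(⟨k₀, hk₀⟩ : K)⁻¹ * z.1.1, ?_⟩
        invFun := fun q => ⟨((⟨k₀, hk₀⟩ : K) * (q : K), ⟨((q : K) : G)⁻¹ * h₀, H.mul_mem (H.inv_mem q.2) hh₀⟩), ?_⟩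
        left_inv := fun z => ?_
        right_inv := fun q => Subtype.ext (inv_mul_cancel_left _ _) }
    · rw [hQ, Subgroup.mem_subgroupOf]
      show k₀⁻¹ * (z.1.1 : G) ∈ H
      have e : k₀⁻¹ * (z.1.1 : G) = h₀ * (z.1.2 : G)⁻¹ := by
        rw [eq_mul_inv_iff_mul_eq, mul_assoc, z.2, inv_mul_cancel_left]
      rw [e]
      exact H.mul_mem hh₀ (H.inv_mem z.1.2.2)
    · show k₀ * ((q : K) : G) * (((q : K) : G)⁻¹ * h₀) = k₀ * h₀
      group
    · refine Subtype.ext (Prod.ext (mul_inv_cancel_left _ _) (Subtype.ext ?_))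
      show (k₀⁻¹ * (z.1.1 : G))⁻¹ * h₀ = (z.1.2 : G)
      rw [mul_inv_rev, inv_inv, mul_assoc, inv_mul_eq_iff_eq_mul]
      exact z.2.symm
  have hsum : ∑ z : K × H, F ((z.1 : G) * (z.2 : G)) = (Nat.card Q : ℂ) * ∑ x : G, F x := by
    rw [← Finset.sum_fiberwise Finset.univ (fun z : K × H => (z.1 : G) * (z.2 : G)), Finset.mul_sum]
    refine Finset.sum_congr rfl fun x _ => ?_
    rw [Finset.sum_congr rfl (g := fun _ => F x) fun z hz => by rw [(Finset.mem_filter.mp hz).2],
      Finset.sum_const, hfib, nsmul_eq_mul]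
  rw [Fintype.sum_prod_type] at hsum
  simp only [hFinv, Finset.sum_const, Finset.card_univ, nsmul_eq_mul, ← Finset.mul_sum] at hsum
  have hext : ∀ x : K, extendByZero Q θQ (x⁻¹ * k * x) = F (x : G) := by
    intro x
    simp only [hF]
    by_cases hm : (x : G)⁻¹ * (k : G) * (x : G) ∈ H
    · rw [extendByZero_mem H θ hm, extendByZero_mem Q θQ (show x⁻¹ * k * x ∈ Q from hm)]
      rfl
    · rw [extendByZero_notMem H θ hm, extendByZero_notMem Q θQ (fun h => hm h)]
  simp only [indFun]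
  rw [Finset.sum_congr rfl fun x _ => hext x]
  show (Nat.card H : ℂ)⁻¹ * ∑ x : G, F x = _
  rw [← Nat.card_eq_fintype_card] at hsum
  have h1 : (Nat.card H : ℂ) ≠ 0 := Nat.cast_ne_zero.mpr Nat.card_pos.ne'
  have h2 : (Nat.card Q : ℂ) ≠ 0 := Nat.cast_ne_zero.mpr Nat.card_pos.ne'
  field_simp
  linear_combination -hsum

/-- The norm of a character induced from a subgroup that is not normal, with irreducible restriction
to a normal subgroup below it, is less than the index. -/
theorem classInner_indFun_self_lt (C Q : Subgroup G) [Fintype Q] [Fintype C] (hCQ : C ≤ Q)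
    [hC : C.Normal] (hQ : ¬ Q.Normal) {θ : Q → ℂ} (hθ : IsCharacter Q θ)
    (hθC : IsIrrCharacter C (fun c : C => θ ⟨(c : G), hCQ c.2⟩)) :
    (classInner (indFun Q θ) (indFun Q θ)).re < (Q.index : ℝ) := by
  classical
  set e := fun u : G => extendByZero Q θ u with he
  set D : G → Finset Q := fun x => Finset.univ.filter fun u : Q => x⁻¹ * (u : G) * x ∈ Q with hD
  have hnorm : ∀ x : G, ∑ u ∈ D x, Complex.normSq (θ u) = ((D x).card : ℝ) := by
    intro x
    set S : Subgroup Q := (Q.map (MulAut.conj x).toMonoidHom).subgroupOf Q with hS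
    have hSD : ∀ u : Q, u ∈ S ↔ x⁻¹ * (u : G) * x ∈ Q := fun u => by
      rw [hS, Subgroup.mem_subgroupOf, Subgroup.mem_map]
      refine ⟨?_, fun h => ⟨_, h, ?_⟩⟩
      · rintro ⟨w, hw, hwu⟩
        rw [← hwu]
        show x⁻¹ * (x * w * x⁻¹) * x ∈ Q
        rwa [show x⁻¹ * (x * w * x⁻¹) * x = w by group]
      · show x * (x⁻¹ * (u : G) * x) * x⁻¹ = u
        group
    haveI : Fintype S := Fintype.ofFinite S
    have hCS : C.subgroupOf Q ≤ S := fun u hu => by
      rw [hSD]
      have := hC.conj_mem _ hu x⁻¹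
      rw [inv_inv] at this
      exact hCQ this
    haveI : Fintype ((C.subgroupOf Q).subgroupOf S) := Fintype.ofFinite _
    have hirr : IsIrrCharacter S (fun s : S => θ s) := by
      refine isIrr_of_restrict ((C.subgroupOf Q).subgroupOf S) (isCharacter_restrict S hθ) ?_
      have h := CfsgLib.Blocks.isIrrCharacter_comp_of_surjective hθC
        ((Subgroup.subgroupOfEquivOfLe hCS).trans (Subgroup.subgroupOfEquivOfLe hCQ)).toMonoidHom
        (((Subgroup.subgroupOfEquivOfLe hCS).trans (Subgroup.subgroupOfEquivOfLe hCQ)).surjective)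
      exact h
    have h1 := classInner_irr_self hirr
    rw [classInner, inv_mul_eq_one₀ (Nat.cast_ne_zero.mpr Nat.card_pos.ne')] at h1
    have h2 : ∑ s : S, Complex.normSq (θ s) = (Nat.card S : ℝ) := by
      have h3 : ∑ s : S, θ s * conj (θ s) = (Nat.card S : ℂ) := h1.symm
      simp only [Complex.mul_conj] at h3
      exact_mod_cast h3
    rw [Finset.sum_subtype (p := fun u => u ∈ S) (D x) (fun u => by simp [hD, hSD])
      (fun u => Complex.normSq (θ u)), h2]
    rw [Nat.card_eq_fintype_card, Fintype.card_of_subtype (D x) (fun u => by simp [hD, hSD])]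
  have hterm : ∀ x : G, (∑ u : Q, e (x⁻¹ * (u : G) * x) * conj (θ u)).re ≤ ((D x).card : ℝ) := by
    intro x
    rw [Complex.re_sum]
    have hz : ∀ u ∈ (Finset.univ : Finset Q), u ∉ D x → (e (x⁻¹ * (u : G) * x) * conj (θ u)).re = 0 :=
      fun u _ hu => by
        rw [he]; simp only
        rw [extendByZero_notMem Q θ (fun h => hu (Finset.mem_filter.mpr ⟨Finset.mem_univ _, h⟩)),
          zero_mul, Complex.zero_re]
    rw [← Finset.sum_subset (Finset.subset_univ (D x)) hz]
    have hbound : ∀ u ∈ D x, (e (x⁻¹ * (u : G) * x) * conj (θ u)).re ≤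
        (Complex.normSq (e (x⁻¹ * (u : G) * x)) + Complex.normSq (θ u)) / 2 := fun u _ => by
      have := Complex.normSq_nonneg (e (x⁻¹ * (u : G) * x) - θ u)
      rw [Complex.normSq_sub] at this
      linarith
    refine (Finset.sum_le_sum hbound).trans (le_of_eq ?_)
    have h3 : ∑ u ∈ D x, Complex.normSq (e (x⁻¹ * (u : G) * x)) = ((D x).card : ℝ) := by
      have hbij : ∑ u ∈ D x, Complex.normSq (e (x⁻¹ * (u : G) * x)) = ∑ w ∈ D x⁻¹, Complex.normSq (θ w) := by
        refine Finset.sum_bij (fun u hu => (⟨x⁻¹ * (u : G) * x, (Finset.mem_filter.mp hu).2⟩ : Q)) ?_ ?_ ?_ ?_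
        · intro u _
          refine Finset.mem_filter.mpr ⟨Finset.mem_univ _, ?_⟩
          show x⁻¹⁻¹ * (x⁻¹ * (u : G) * x) * x⁻¹ ∈ Q
          rw [show x⁻¹⁻¹ * (x⁻¹ * (u : G) * x) * x⁻¹ = (u : G) by group]
          exact u.2
        · intro u _ v _ h
          exact Subtype.ext (mul_left_cancel (mul_right_cancel (congrArg Subtype.val h)))
        · intro w hw
          refine ⟨⟨x⁻¹⁻¹ * (w : G) * x⁻¹, (Finset.mem_filter.mp hw).2⟩, Finset.mem_filter.mpr
            ⟨Finset.mem_univ _, ?_⟩, Subtype.ext ?_⟩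
          · show x⁻¹ * (x⁻¹⁻¹ * (w : G) * x⁻¹) * x ∈ Q
            rw [show x⁻¹ * (x⁻¹⁻¹ * (w : G) * x⁻¹) * x = (w : G) by group]
            exact w.2
          · show x⁻¹ * (x⁻¹⁻¹ * (w : G) * x⁻¹) * x = (w : G)
            group
        · intro u hu
          simp only [he]
          rw [extendByZero_mem Q θ (Finset.mem_filter.mp hu).2]
      have hcard : (D x).card = (D x⁻¹).card := by
        refine Finset.card_bij (fun u hu => (⟨x⁻¹ * (u : G) * x, (Finset.mem_filter.mp hu).2⟩ : Q)) ?_ ?_ ?_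
        · intro u _
          refine Finset.mem_filter.mpr ⟨Finset.mem_univ _, ?_⟩
          show x⁻¹⁻¹ * (x⁻¹ * (u : G) * x) * x⁻¹ ∈ Q
          rw [show x⁻¹⁻¹ * (x⁻¹ * (u : G) * x) * x⁻¹ = (u : G) by group]
          exact u.2
        · intro u _ v _ h
          exact Subtype.ext (mul_left_cancel (mul_right_cancel (congrArg Subtype.val h)))
        · intro w hw
          refine ⟨⟨x⁻¹⁻¹ * (w : G) * x⁻¹, (Finset.mem_filter.mp hw).2⟩, Finset.mem_filter.mpr
            ⟨Finset.mem_univ _, ?_⟩, Subtype.ext ?_⟩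
          · show x⁻¹ * (x⁻¹⁻¹ * (w : G) * x⁻¹) * x ∈ Q
            rw [show x⁻¹ * (x⁻¹⁻¹ * (w : G) * x⁻¹) * x = (w : G) by group]
            exact w.2
          · show x⁻¹ * (x⁻¹⁻¹ * (w : G) * x⁻¹) * x = (w : G)
            group
      rw [hbij, hnorm x⁻¹, hcard]
    rw [← Finset.sum_div, Finset.sum_add_distrib, h3, hnorm x]
    ring
  rw [frobenius_reciprocity Q θ (isClassFunction_indFun Q θ), ← classInner_conj_symm, Complex.conj_re]
  simp only [classInner, indFun, Finset.mul_sum, Finset.sum_mul]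
  rw [Finset.sum_comm]
  rw [Complex.re_sum]
  have hterm' : ∀ x ∈ (Finset.univ : Finset G),
      (∑ u : Q, (Nat.card Q : ℂ)⁻¹ * ((Nat.card Q : ℂ)⁻¹ * extendByZero Q θ (x⁻¹ * (u : G) * x) * conj (θ u))).re =
      ((Nat.card Q : ℝ)⁻¹ * (Nat.card Q : ℝ)⁻¹) * (∑ u : Q, e (x⁻¹ * (u : G) * x) * conj (θ u)).re := by
    intro x _
    rw [← Complex.re_ofReal_mul]
    push_cast
    rw [Finset.mul_sum]
    congr 1
    exact Finset.sum_congr rfl fun u _ => by rw [he]; ring
  rw [Finset.sum_congr rfl hterm', ← Finset.mul_sum]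
  have hstrict : ∑ x : G, (∑ u : Q, e (x⁻¹ * (u : G) * x) * conj (θ u)).re < (Nat.card G : ℝ) * (Nat.card Q : ℝ) := by
    refine (Finset.sum_le_sum fun x _ => hterm x).trans_lt ?_
    rw [Nat.card_eq_fintype_card (α := G), ← Finset.card_univ, ← nsmul_eq_mul, ← Finset.sum_const]
    obtain ⟨x, u, hxu⟩ : ∃ (x : G) (u : Q), x⁻¹ * (u : G) * x ∉ Q := by
      by_contra hno
      push_neg at hno
      exact hQ ⟨fun u hu g => by simpa using hno g⁻¹ ⟨u, hu⟩⟩
    refine Finset.sum_lt_sum (fun y _ => ?_) ⟨x, Finset.mem_univ _, ?_⟩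
    · rw [Nat.card_eq_fintype_card]; exact_mod_cast Finset.card_le_univ _
    · rw [Nat.card_eq_fintype_card]
      exact_mod_cast Finset.card_lt_univ_of_notMem (x := u) (fun h => hxu (Finset.mem_filter.mp h).2)
  have hQ0 : (0 : ℝ) < Nat.card Q := by exact_mod_cast Nat.card_pos
  rw [← Q.card_mul_index, Nat.cast_mul] at hstrict
  refine lt_of_lt_of_eq (mul_lt_mul_of_pos_left hstrict (by positivity)) ?_
  field_simp

end CfsgLib.Char
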