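import Cfsg.Agent.Lib.Char.CyclicRamified

/-!
A fully ramified character induced from a normal subgroup: each Sylow subgroup of the factor
group has a complement.
-/

set_option autoImplicit false
set_option linter.style.haveILetI false

open Cfsg
open scoped CfsgLib.Char ComplexConjugate

namespace CfsgLib.Char.CyclicRamified

variable {H : Type*} [Group H] [Fintype H] {Z : Subgroup H} [Z.Normal] [Fintype Z]
  {χ : IrrCharacter H} {θ : IrrCharacter Z} {e : ℕ}

/-- A character inducing irreducibly is irreducible. -/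
theorem isIrr_of_indFun {K : Subgroup H} [Fintype K] {φ : K → ℂ} (hφ : IsCharacter K φ)
    (hind : indFun K φ = (χ : H → ℂ)) : IsIrrCharacter K φ := by
  classical
  obtain ⟨m, hm⟩ := exists_multiplicities hφ
  choose c hc using fun ψ ψ' : IrrCharacter K => exists_nat_classInner
    (isCharacter_indFun K (isCharacter_of_isIrr ψ.2)) (isCharacter_indFun K (isCharacter_of_isIrr ψ'.2))
  have hexp : indFun K φ = ∑ ψ : IrrCharacter K, (m ψ : ℂ) • indFun K (ψ : K → ℂ) := by
    rw [hm, indFun_sum]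
    exact Finset.sum_congr rfl fun ψ _ => indFun_smul _ _ _
  have h1 : ∑ ψ, ∑ ψ', m ψ * m ψ' * c ψ ψ' = 1 := by
    have h := classInner_irr_self χ.2
    rw [← hind, hexp, classInner_sum_left] at h
    simp only [classInner_smul_left, classInner_sum_right, classInner_smul_right, map_natCast, hc,
      Finset.mul_sum, ← mul_assoc] at h
    have h' : ((∑ ψ, ∑ ψ', m ψ * m ψ' * c ψ ψ' : ℕ) : ℂ) = 1 := by
      rw [← h]
      push_cast
      exact Finset.sum_congr rfl fun ψ _ => Finset.sum_congr rfl fun ψ' _ => by ring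
    exact_mod_cast h'
  have hdiag : ∀ ψ, 1 ≤ c ψ ψ := fun ψ => Nat.one_le_iff_ne_zero.mpr fun h0 => by
    have h2 := hc ψ ψ
    rw [h0, Nat.cast_zero] at h2
    have := congrFun (eq_zero_of_classInner_self h2) 1
    rw [indFun_one, Pi.zero_apply] at this
    exact mul_ne_zero (Nat.cast_ne_zero.mpr Subgroup.index_ne_zero_of_finite)
      (irr_degree_ne_zero ψ.2) this
  have hle : ∀ ψ, m ψ * m ψ ≤ ∑ ψ', m ψ * m ψ' * c ψ ψ' := fun ψ =>
    (Nat.le_mul_of_pos_right _ (hdiag ψ)).trans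
      (Finset.single_le_sum (f := fun ψ' => m ψ * m ψ' * c ψ ψ') (fun _ _ => Nat.zero_le _)
        (Finset.mem_univ ψ))
  have hsum : ∑ ψ, m ψ * m ψ ≤ 1 := h1 ▸ Finset.sum_le_sum fun ψ _ => hle ψ
  obtain ⟨ψ, hψ⟩ : ∃ ψ, m ψ ≠ 0 := by
    by_contra hno
    push Not at hno
    simp [hno] at h1
  have hψ1 : m ψ = 1 := by
    have h2 := (Finset.single_le_sum (f := fun ψ => m ψ * m ψ) (fun _ _ => Nat.zero_le _)
      (Finset.mem_univ ψ)).trans hsum
    have := Nat.pos_of_ne_zero hψ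
    nlinarith
  have hoth : ∀ ψ', ψ' ≠ ψ → m ψ' = 0 := fun ψ' hne => by
    have h2 := (Finset.sum_le_univ_sum_of_nonneg (s := {ψ, ψ'})
      (fun ψ : IrrCharacter K => Nat.zero_le (m ψ * m ψ))).trans hsum
    rw [Finset.sum_pair hne.symm, hψ1] at h2
    exact mul_self_eq_zero.mp (by omega)
  rw [hm, Finset.sum_eq_single ψ (fun ψ' _ hne => by simp [hoth ψ' hne]) (by simp), hψ1,
    Nat.cast_one, one_smul]
  exact ψ.2

/-- Conjugation keeps the multiplicity of `θ`. -/
theorem Ramified.inner_conj (h : Ramified Z χ θ e) (g : H) (a : Z → ℂ) :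
    classInner (fun z : Z => a ⟨g * z * g⁻¹, Subgroup.Normal.conj_mem inferInstance _ z.2 g⟩)
      (θ : Z → ℂ) = classInner a (θ : Z → ℂ) := by
  classical
  let cz : Z ≃* Z :=
    { toFun := fun z => ⟨g * z * g⁻¹, Subgroup.Normal.conj_mem inferInstance _ z.2 g⟩
      invFun := fun z => ⟨g⁻¹ * z * g, by
        simpa using Subgroup.Normal.conj_mem inferInstance _ z.2 g⁻¹⟩
      left_inv := fun z => Subtype.ext (by simp [mul_assoc])
      right_inv := fun z => Subtype.ext (by simp [mul_assoc])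
      map_mul' := fun a b => Subtype.ext (by simp) }
  conv_lhs => rw [show (θ : Z → ℂ) = fun z => (θ : Z → ℂ) (cz z) from (h.inv g).symm]
  exact classInner_comp_equiv cz a (θ : Z → ℂ)

/-- The orbit on `T` is regular. -/
theorem Ramified.regular_of_induced (h : Ramified Z χ θ e) (K : Subgroup H) [K.Normal] [Fintype K]
    (hZK : Z ≤ K) {φ : K → ℂ} (hφ : IsIrrCharacter K φ) (hind : indFun K φ = (χ : H → ℂ))
    {p : ℕ} [Fact p.Prime] {S : Subgroup H} [Fintype ↥(S ⊓ K)] (hZS : Z ≤ S) {k : ℕ}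
    (hk : Z.relIndex S = p ^ k) (hp : ¬ p ∣ S.index)
    (hSn : S ≤ Subgroup.normalizer ((S ⊓ K : Subgroup H) : Set H))
    {f : ↥(S ⊓ K) → ℂ} (hf : IsIrrCharacter _ f)
    (hfo : classInner (fun z : Z => f ⟨z, le_inf hZS hZK z.2⟩) (θ : Z → ℂ) ≠ 0)
    {s : H} (hs : s ∈ S) (hfix : act _ f s = f) : s ∈ K := by
  classical
  have hZT : Z ≤ (S ⊓ K : Subgroup H) := le_inf hZS hZK
  haveI := Subgroup.normal_subgroupOf_of_le_normalizer hSn
  -- the restriction of `φ` to `Z`
  obtain ⟨fn, hfn⟩ := exists_nat_classInner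
    (isCharacter_comp (Subgroup.inclusion hZK) (isCharacter_of_isIrr hφ)) (isCharacter_of_isIrr θ.2)
  have hfn' : classInner (fun z : Z => φ ⟨z, hZK z.2⟩) (θ : Z → ℂ) = fn := hfn
  have he_eq : e = K.index * fn := by
    have h1 : classInner (fun z : Z => (χ : H → ℂ) z) (θ : Z → ℂ) = e := by
      rw [show (fun z : Z => (χ : H → ℂ) z) = (e : ℂ) • (θ : Z → ℂ) from funext h.2,
        classInner_smul_left, classInner_irr_self θ.2, mul_one]
    have h2 : (fun z : Z => (χ : H → ℂ) z) = (Nat.card K : ℂ)⁻¹ • ∑ x : H, fun z : Z =>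
        (fun w : Z => φ ⟨w, hZK w.2⟩) ⟨x * z * x⁻¹, Subgroup.Normal.conj_mem inferInstance _ z.2 x⟩ := by
      funext z
      rw [← hind, indFun_apply_of_normal K φ ⟨z, hZK z.2⟩]
      simp [Finset.sum_apply]
    rw [h2, classInner_smul_left, classInner_sum_left,
      Finset.sum_congr rfl fun x _ => h.inner_conj x (fun w : Z => φ ⟨w, hZK w.2⟩), Finset.sum_const, Finset.card_univ,
      ← Nat.card_eq_fintype_card, nsmul_eq_mul, hfn', ← K.card_mul_index] at h1
    push_cast at h1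
    rw [← mul_assoc, ← mul_assoc, inv_mul_cancel₀ (Nat.cast_ne_zero.mpr Nat.card_pos.ne'),
      one_mul] at h1
    exact_mod_cast h1.symm
  have he0 : e ≠ 0 := fun h0 => by
    have := h.1
    rw [h0] at this
    exact Subgroup.index_ne_zero_of_finite this.symm
  choose b hb using fun ψ : IrrCharacter (S ⊓ K : Subgroup H) => exists_nat_classInner
    (isCharacter_comp (Subgroup.inclusion hZT) (isCharacter_of_isIrr ψ.2))
    (isCharacter_of_isIrr θ.2)
  have hb' : ∀ ψ : IrrCharacter (S ⊓ K : Subgroup H),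
      classInner (fun z : Z => (ψ : (S ⊓ K : Subgroup H) → ℂ) ⟨z, hZT z.2⟩) (θ : Z → ℂ) = b ψ := hb
  set f' : IrrCharacter (S ⊓ K : Subgroup H) := ⟨f, hf⟩
  have hbf : b f' ≠ 0 := fun h0 => hfo (by
    have := hb' f'
    rw [h0, Nat.cast_zero] at this
    exact this)
  set Ov := Finset.univ.filter fun ψ : IrrCharacter (S ⊓ K : Subgroup H) => b ψ ≠ 0 with hOv
  -- all of them are conjugate to `f`
  obtain ⟨φ0, -, htrans, -⟩ := h.orbit_structure hZT inf_le_left hSn hk hp
  have hconj : ∀ ψ ∈ Ov, ∃ u ∈ S, act (S ⊓ K : Subgroup H) f u = (ψ : (S ⊓ K : Subgroup H) → ℂ) := by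
    intro ψ hψ
    obtain ⟨a, ha, hae⟩ := htrans f hf hfo
    obtain ⟨c, hc, hce⟩ := htrans ψ ψ.2 (by
      rw [hb']
      exact Nat.cast_ne_zero.mpr (Finset.mem_filter.mp hψ).2)
    refine ⟨a⁻¹ * c, mul_mem (inv_mem ha) hc, ?_⟩
    rw [← hae, ← act_mul (S ⊓ K : Subgroup H) φ0 (hSn ha) (mul_mem (inv_mem (hSn ha)) (hSn hc)), mul_inv_cancel_left,
      hce]
  have hbconst : ∀ ψ ∈ Ov, b ψ = b f' := by
    intro ψ hψ
    obtain ⟨u, hu, hue⟩ := hconj ψ hψ
    have h1 : classInner (fun z : Z => (ψ : (S ⊓ K : Subgroup H) → ℂ) ⟨z, hZT z.2⟩) (θ : Z → ℂ) =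
        classInner (fun z : Z => f ⟨z, hZT z.2⟩) (θ : Z → ℂ) := by
      rw [← h.inner_conj u (fun z : Z => f ⟨z, hZT z.2⟩)]
      congr 1
      funext z
      rw [← hue, act_apply (S ⊓ K : Subgroup H) f (hSn hu)]
    rw [hb'] at h1
    exact_mod_cast h1.trans (hb' f')
  -- the multiplicity divides that of `φ`
  have hgf : b f' ∣ fn := by
    choose a ha using fun ψ : IrrCharacter (S ⊓ K : Subgroup H) => exists_nat_classInner
      (isCharacter_comp (Subgroup.inclusion (inf_le_right : (S ⊓ K : Subgroup H) ≤ K)) (isCharacter_of_isIrr hφ))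
      (isCharacter_of_isIrr ψ.2)
    have hcl : IsClassFunction (S ⊓ K : Subgroup H) (fun t : (S ⊓ K : Subgroup H) => φ ⟨t, inf_le_right (b := K) t.2⟩) :=
      isClassFunction_comp (Subgroup.inclusion (inf_le_right : (S ⊓ K : Subgroup H) ≤ K))
        (isClassFunction_of_isCharacter (isCharacter_of_isIrr hφ))
    have ha' : ∀ ψ : IrrCharacter (S ⊓ K : Subgroup H),
        classInner (fun t : (S ⊓ K : Subgroup H) => φ ⟨t, inf_le_right (b := K) t.2⟩) (ψ : (S ⊓ K : Subgroup H) → ℂ) = a ψ := ha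
    have h1 : (fn : ℂ) = ((∑ ψ : IrrCharacter (S ⊓ K : Subgroup H), a ψ * b ψ : ℕ) : ℂ) := by
      rw [← hfn', show (fun z : Z => φ ⟨z, hZK z.2⟩) =
        fun z : Z => (fun t : (S ⊓ K : Subgroup H) => φ ⟨t, inf_le_right (b := K) t.2⟩) ⟨z, hZT z.2⟩ from rfl,
        classFunction_expansion hcl]
      rw [show (fun z : Z => (∑ ψ : IrrCharacter (S ⊓ K : Subgroup H), classInner (fun t : (S ⊓ K : Subgroup H) =>
          φ ⟨t, inf_le_right (b := K) t.2⟩) (ψ : (S ⊓ K : Subgroup H) → ℂ) • (ψ : (S ⊓ K : Subgroup H) → ℂ)) ⟨z, hZT z.2⟩) =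
          ∑ ψ : IrrCharacter (S ⊓ K : Subgroup H), (a ψ : ℂ) • fun z : Z => (ψ : (S ⊓ K : Subgroup H) → ℂ) ⟨z, hZT z.2⟩ from
        funext fun z => by simp [Finset.sum_apply, ha'], classInner_sum_left]
      push_cast
      exact Finset.sum_congr rfl fun ψ _ => by rw [classInner_smul_left, hb']
    rw [Nat.cast_injective h1]
    refine Finset.dvd_sum fun ψ _ => ?_
    by_cases hψ : b ψ = 0
    · simp [hψ]
    · rw [hbconst ψ (Finset.mem_filter.mpr ⟨Finset.mem_univ _, hψ⟩)]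
      exact dvd_mul_left _ _
  -- the norm of the induced character of `(S ⊓ K : Subgroup H)`
  have hnorm : Ov.card * (b f' * b f') = Z.relIndex (S ⊓ K : Subgroup H) := by
    letI : Fintype ↥(Z.subgroupOf (S ⊓ K : Subgroup H)) := Fintype.ofFinite _
    have hθ' : IsIrrCharacter (Z.subgroupOf (S ⊓ K : Subgroup H)) (lift (S ⊓ K : Subgroup H) (θ : Z → ℂ)) :=
      (isIrrCharacter_comp_equiv (Subgroup.subgroupOfEquivOfLe hZT)).mpr θ.2
    have hinv : ∀ g : (S ⊓ K : Subgroup H), conjBy (Z.subgroupOf (S ⊓ K : Subgroup H)) (lift (S ⊓ K : Subgroup H) (θ : Z → ℂ)) g = lift (S ⊓ K : Subgroup H) (θ : Z → ℂ) :=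
      fun g => funext fun z => congrFun (h.inv (g : H)) ⟨((z : (S ⊓ K : Subgroup H)) : H), z.2⟩
    have hn := classInner_indFun_self_of_invariant (Z.subgroupOf (S ⊓ K : Subgroup H)) hθ' hinv
    obtain ⟨m, hm⟩ := exists_multiplicities
      (isCharacter_indFun (Z.subgroupOf (S ⊓ K : Subgroup H)) (isCharacter_of_isIrr hθ'))
    have hmb : ∀ ω : IrrCharacter (S ⊓ K : Subgroup H), m ω = b ω := by
      intro ω
      have h1 : classInner (fun z : ↥(Z.subgroupOf (S ⊓ K : Subgroup H)) => (ω : (S ⊓ K : Subgroup H) → ℂ) z) (lift (S ⊓ K : Subgroup H) θ) = m ω := by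
        rw [← frobenius_reciprocity' (Z.subgroupOf (S ⊓ K : Subgroup H)) (lift (S ⊓ K : Subgroup H) (θ : Z → ℂ)) (isClassFunction_irr ω),
          ← classInner_conj_symm, hm, classInner_sum_smul_irr, Complex.conj_natCast]
      have h2 : classInner (fun z : ↥(Z.subgroupOf (S ⊓ K : Subgroup H)) => (ω : (S ⊓ K : Subgroup H) → ℂ) z) (lift (S ⊓ K : Subgroup H) θ) = b ω :=
        (classInner_lift hZT (fun z : Z => (ω : (S ⊓ K : Subgroup H) → ℂ) ⟨z, hZT z.2⟩) (θ : Z → ℂ)).trans (hb' ω)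
      exact_mod_cast h1.symm.trans h2
    rw [hm, classInner_sum_smul_sum_smul] at hn
    simp only [map_natCast, hmb] at hn
    have h1 : ∑ ω, b ω * b ω = Z.relIndex (S ⊓ K : Subgroup H) := by exact_mod_cast hn
    rw [← h1, ← Finset.sum_subset (Finset.subset_univ Ov) fun ψ _ hψ => by
      simp only [hOv, Finset.mem_filter, Finset.mem_univ, true_and, not_not] at hψ
      simp [hψ]]
    rw [Finset.sum_congr rfl fun ψ hψ => by rw [hbconst ψ hψ], Finset.sum_const, smul_eq_mul]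
  -- arithmetic
  set u := (S ⊓ K : Subgroup H).relIndex S
  have huw : u * Z.relIndex (S ⊓ K : Subgroup H) = p ^ k := by
    rw [← hk, mul_comm, Subgroup.relIndex_mul_relIndex Z (S ⊓ K : Subgroup H) S hZT inf_le_left]
  have hut : u ∣ K.index := by
    show (S ⊓ K : Subgroup H).relIndex S ∣ K.index
    rw [Subgroup.inf_relIndex_left]
    exact Subgroup.relIndex_dvd_index_of_normal K S
  have hu : u ∣ Ov.card := by
    obtain ⟨t', ht'⟩ := hut
    obtain ⟨f1, hf1⟩ := hgf
    have hidx : Z.index = p ^ k * S.index := by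
      rw [← hk]; exact (Subgroup.relIndex_mul_index hZS).symm
    have hsq : e * e = Z.index := by rw [← sq]; exact h.1
    rw [he_eq, ht', hf1, hidx, ← huw, ← hnorm] at hsq
    have hu0 : u ≠ 0 := fun h0 => by
      rw [h0, zero_mul] at huw
      exact pow_ne_zero _ (Fact.out : p.Prime).ne_zero huw.symm
    have h2 : Ov.card * S.index = u * (t' * t' * (f1 * f1)) := by
      refine Nat.eq_of_mul_eq_mul_left (Nat.pos_of_ne_zero (mul_ne_zero hu0
        (mul_ne_zero hbf hbf))) ?_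
      calc u * (b f' * b f') * (Ov.card * S.index)
          = u * (Ov.card * (b f' * b f')) * S.index := by ring
        _ = u * t' * (b f' * f1) * (u * t' * (b f' * f1)) := hsq.symm
        _ = u * (b f' * b f') * (u * (t' * t' * (f1 * f1))) := by ring
    have hcop : u.Coprime S.index :=
      Nat.Coprime.coprime_dvd_left (huw ▸ dvd_mul_right u _)
        ((((Fact.out : p.Prime).coprime_iff_not_dvd).mpr hp).pow_left k)
    exact hcop.dvd_of_dvd_mul_right ⟨_, h2⟩
  -- the orbit map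
  have hTfix : ∀ t : H, t ∈ (S ⊓ K : Subgroup H) → act (S ⊓ K : Subgroup H) f t = f := fun t ht => funext fun w => by
    rw [act_apply (S ⊓ K : Subgroup H) _ (Subgroup.le_normalizer ht)]
    exact isClassFunction_irr f' w ⟨t, ht⟩
  let F : S ⧸ (S ⊓ K : Subgroup H).subgroupOf S → Ov := Quotient.lift
    (fun w : S => (⟨⟨act (S ⊓ K : Subgroup H) f (w : H)⁻¹, (h.act_over hZT hf hfo (inv_mem (hSn w.2))).1⟩, by
      simp only [hOv, Finset.mem_filter, Finset.mem_univ, true_and]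
      intro h0
      refine (h.act_over hZT hf hfo (inv_mem (hSn w.2))).2 ?_
      have h1 := hb' ⟨act (S ⊓ K : Subgroup H) f (w : H)⁻¹, (h.act_over hZT hf hfo (inv_mem (hSn w.2))).1⟩
      rw [h0, Nat.cast_zero] at h1
      exact h1⟩ : Ov))
    (fun x y hxy => by
      have h1 : x⁻¹ * y ∈ (S ⊓ K : Subgroup H).subgroupOf S := QuotientGroup.leftRel_apply.mp hxy
      rw [Subgroup.mem_subgroupOf] at h1
      refine Subtype.ext (Subtype.ext ?_)
      show act (S ⊓ K : Subgroup H) f (x : H)⁻¹ = act (S ⊓ K : Subgroup H) f (y : H)⁻¹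
      have h2 : ((x : H)⁻¹ * y) ∈ S ⊓ K := h1
      rw [show ((y : H))⁻¹ = ((x : H)⁻¹ * y)⁻¹ * (x : H)⁻¹ by group,
        act_mul (S ⊓ K : Subgroup H) f (inv_mem (Subgroup.le_normalizer h2)) (inv_mem (hSn x.2)),
        hTfix _ (inv_mem h2)])
  have hsurj : Function.Surjective F := by
    rintro ⟨ψ, hψ⟩
    obtain ⟨w, hw, hwe⟩ := hconj ψ hψ
    exact ⟨((⟨w⁻¹, inv_mem hw⟩ : S) : S ⧸ (S ⊓ K : Subgroup H).subgroupOf S), Subtype.ext (Subtype.ext (by
      show act (S ⊓ K : Subgroup H) f (w⁻¹)⁻¹ = _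
      rw [inv_inv, hwe]))⟩
  have hinj : Function.Injective F := by
    refine ((Nat.bijective_iff_surjective_and_card _).mpr ⟨hsurj, le_antisymm ?_ ?_⟩).1
    · rw [Nat.card_eq_finsetCard, ← Subgroup.index_eq_card]
      exact Nat.le_of_dvd (Finset.card_pos.mpr ⟨f', Finset.mem_filter.mpr ⟨Finset.mem_univ _, hbf⟩⟩) hu
    · exact Nat.card_le_card_of_surjective F hsurj
  have h1 : F ((⟨s⁻¹, inv_mem hs⟩ : S) : S ⧸ (S ⊓ K : Subgroup H).subgroupOf S) = F ((1 : S) : S ⧸ (S ⊓ K : Subgroup H).subgroupOf S) := by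
    refine Subtype.ext (Subtype.ext ?_)
    show act (S ⊓ K : Subgroup H) f (s⁻¹)⁻¹ = act (S ⊓ K : Subgroup H) f (1 : H)⁻¹
    rw [inv_inv, inv_one, act_one, hfix]
  have h2 : (⟨s⁻¹, inv_mem hs⟩ : S)⁻¹ * 1 ∈ (S ⊓ K : Subgroup H).subgroupOf S := QuotientGroup.eq.mp (hinj h1)
  rw [mul_one, Subgroup.mem_subgroupOf] at h2
  have h3 : s⁻¹⁻¹ ∈ (S ⊓ K : Subgroup H) := h2
  rw [inv_inv] at h3
  exact h3.2

/-- Every Sylow subgroup of the factor group has a complement. -/
theorem Ramified.complement_of_induced (h : Ramified Z χ θ e) (K : Subgroup H) [K.Normal]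
    [Fintype K] (hZK : Z ≤ K) {φ : K → ℂ} (hφ : IsIrrCharacter K φ)
    (hind : indFun K φ = (χ : H → ℂ)) (p : ℕ) [Fact p.Prime] :
    ∃ M : Subgroup (H ⧸ K), M.index = p ^ (Nat.card (H ⧸ K)).factorization p := by
  classical
  let q : H →* H ⧸ Z := QuotientGroup.mk' Z
  have hqs : Function.Surjective q := QuotientGroup.mk'_surjective Z
  let r : H ⧸ Z →* H ⧸ K := QuotientGroup.map Z K (MonoidHom.id H) hZK
  have hrs : Function.Surjective r := fun y => by
    obtain ⟨g, rfl⟩ := QuotientGroup.mk'_surjective K y; exact ⟨q g, rfl⟩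
  obtain ⟨S0⟩ := (inferInstance : Nonempty (Sylow p (H ⧸ Z)))
  set S := (S0 : Subgroup (H ⧸ Z)).comap q with hSdef
  have hZS : Z ≤ S := fun z hz => by
    show q z ∈ (S0 : Subgroup (H ⧸ Z))
    rw [show q z = 1 from (QuotientGroup.eq_one_iff z).mpr hz]; exact one_mem _
  obtain ⟨k, hk⟩ := S0.2.exists_card_eq
  have hk' : Z.relIndex S = p ^ k := by
    rw [← hk, hSdef]
    have := Subgroup.relIndex_comap (f := q) (⊥ : Subgroup (H ⧸ Z)) S
    rw [MonoidHom.comap_bot, QuotientGroup.ker_mk', Subgroup.map_comap_eq_self_of_surjective hqs,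
      Subgroup.relIndex_bot_left] at this
    exact this
  have hpS : ¬ p ∣ S.index := by
    rw [hSdef, Subgroup.index_comap_of_surjective _ hqs]; exact S0.not_dvd_index
  have hSn : S ≤ Subgroup.normalizer ((S ⊓ K : Subgroup H) : Set H) := by
    intro s hs
    rw [Subgroup.mem_normalizer_iff]
    intro t
    constructor
    · rintro ⟨h1, h2⟩
      exact ⟨S.mul_mem (S.mul_mem hs h1) (S.inv_mem hs), Subgroup.Normal.conj_mem ‹_› t h2 s⟩
    · rintro ⟨h1, h2⟩
      have h3 := mul_mem (mul_mem (inv_mem hs) h1) hs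
      have h4 := Subgroup.Normal.conj_mem ‹_› _ h2 s⁻¹
      rw [inv_inv, show s⁻¹ * (s * t * s⁻¹) * s = t by group] at h4
      rw [show s⁻¹ * (s * t * s⁻¹) * s = t by group] at h3
      exact ⟨h3, h4⟩
  haveI : Fintype ↥(S ⊓ K) := Fintype.ofFinite _
  obtain ⟨M, hM⟩ := h.exists_complement_aux K hZK S0 fun f hf hfo s hs hfix =>
    h.regular_of_induced K hZK hφ hind hZS hk' hpS hSn hf (hfo _) hs hfix
  refine ⟨M, ?_⟩
  rw [hM.symm.index_eq_card]
  have hmap : S.map (QuotientGroup.mk' K) = ((S0.mapSurjective hrs : Sylow p (H ⧸ K)) : Subgroup _) := by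
    rw [Sylow.coe_mapSurjective, hSdef]
    ext y
    constructor
    · rintro ⟨g, hg, rfl⟩; exact ⟨q g, hg, rfl⟩
    · rintro ⟨w, hw, rfl⟩
      obtain ⟨g, rfl⟩ := hqs w
      exact ⟨g, hw, rfl⟩
  rw [hmap]
  exact (S0.mapSurjective hrs).card_eq_multiplicity

end CfsgLib.Char.CyclicRamified
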