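import Cfsg.Agent.Lib.Char.Counting
import Cfsg.Agent.Lib.Char.Gallagher

/-!
# Solomon's induction theorem for quasi-elementary subgroups
-/

set_option autoImplicit false

namespace CfsgLib.Char

open Cfsg
open scoped ComplexConjugate

variable {G : Type*} [Group G] [Fintype G]

/-- `indFun` commutes with multiplication by a class function. -/
theorem indFun_mul_restrict (H : Subgroup G) (θ : H → ℂ) {χ : G → ℂ} (hχ : IsClassFunction G χ) :
    indFun H (θ * fun h : H => χ h) = indFun H θ * χ := by
  funext g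
  simp only [indFun, Pi.mul_apply]
  rw [mul_assoc, Finset.sum_mul]
  congr 1
  refine Finset.sum_congr rfl fun x _ => ?_
  have hc : χ (x⁻¹ * g * x) = χ g := by simpa using hχ g x⁻¹
  by_cases hx : x⁻¹ * g * x ∈ H
  · rw [extendByZero_mem H _ hx, extendByZero_mem H _ hx, Pi.mul_apply]
    show _ * χ (x⁻¹ * g * x) = _
    rw [hc]
  · rw [extendByZero_notMem H _ hx, extendByZero_notMem H _ hx, zero_mul]

theorem classFunction_ext {f f' : G → ℂ} (hf : IsClassFunction G f) (hf' : IsClassFunction G f')
    (h : ∀ χ : IrrCharacter G, classInner f (χ : G → ℂ) = classInner f' (χ : G → ℂ)) : f = f' := by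
  rw [classFunction_expansion hf, classFunction_expansion hf']
  exact Finset.sum_congr rfl fun χ _ => by rw [h]

/-- Transitivity of induction in the form used for subgroups of a subgroup. -/
theorem indFun_map (T : Subgroup G) [Fintype T] (E : Subgroup T) (φ : E → ℂ) :
    indFun T (indFun E φ) = indFun (E.map T.subtype)
      (fun x => φ ((E.equivMapOfInjective T.subtype T.subtype_injective).symm x)) := by
  classical
  refine classFunction_ext (isClassFunction_indFun _ _) (isClassFunction_indFun _ _) fun χ => ?_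
  have hc := isClassFunction_irr χ
  rw [frobenius_reciprocity T _ hc, frobenius_reciprocity E φ (isClassFunction_restrict T hc),
    frobenius_reciprocity (E.map T.subtype) _ hc]
  refine (classInner_comp_equiv (E.equivMapOfInjective T.subtype T.subtype_injective).symm φ
    (fun e : E => (χ : G → ℂ) ((e : T) : G))).symm.trans ?_
  congr 1
  funext x
  exact congrArg (χ : G → ℂ) (congrArg Subtype.val
    ((E.equivMapOfInjective T.subtype T.subtype_injective).apply_symm_apply x))

/-- The permutation character on an orbit decomposition. -/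
theorem isPerm_sum_indFun (X : Type*) [MulAction G X] [Finite X] :
    ∃ a : Subgroup G → ℕ,
      (fun g : G => (Nat.card (MulAction.fixedBy X g) : ℂ)) =
        ∑ U : Subgroup G, (a U : ℂ) • indFun U (fun _ => 1) := by
  classical
  have : Fintype X := Fintype.ofFinite X
  refine ⟨fun U => Nat.card {ω : MulAction.orbitRel.Quotient G X //
    MulAction.stabilizer G ω.out = U}, ?_⟩
  have h1 : ∀ ω : MulAction.orbitRel.Quotient G X,
      indFun (MulAction.stabilizer G ω.out) (fun _ => 1) =
        fun g : G => (Nat.card (MulAction.fixedBy (MulAction.orbit G ω.out) g) : ℂ) := by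
    intro ω
    have hst : MulAction.stabilizer G (⟨ω.out, MulAction.mem_orbit_self _⟩ :
        MulAction.orbit G ω.out) = MulAction.stabilizer G ω.out := by
      ext g; simp [MulAction.mem_stabilizer_iff, Subtype.ext_iff]
    rw [perm_eq_indFun (MulAction.orbit G ω.out) ⟨ω.out, MulAction.mem_orbit_self _⟩]
    congr 1 <;> rw [hst]
  funext g
  have hL : (Nat.card (MulAction.fixedBy X g) : ℂ) = ∑ ω : MulAction.orbitRel.Quotient G X,
      indFun (MulAction.stabilizer G ω.out) (fun _ => 1) g := by
    simp only [h1]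
    rw [← Nat.cast_sum]
    congr 1
    rw [← Nat.card_sigma]
    refine Nat.card_congr ?_
    refine
      { toFun := fun x => ⟨Quotient.mk'' x.1,
          ⟨⟨x.1, MulAction.orbitRel_apply.mp (Quotient.exact (Quotient.out_eq _).symm)⟩,
            Subtype.ext x.2⟩⟩
        invFun := fun s => ⟨s.2.1.1, congrArg Subtype.val s.2.2⟩
        left_inv := fun x => rfl
        right_inv := ?_ }
    rintro ⟨ω, ⟨⟨y, hy⟩, hyfix⟩⟩
    have e : (Quotient.mk'' y : MulAction.orbitRel.Quotient G X) = ω := by
      rw [← Quotient.out_eq ω]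
      exact Quotient.sound (MulAction.orbitRel_apply.mpr hy)
    subst e
    rfl
  rw [hL, ← Finset.sum_fiberwise Finset.univ
    (fun ω : MulAction.orbitRel.Quotient G X => MulAction.stabilizer G ω.out), Finset.sum_apply]
  refine Finset.sum_congr rfl fun U _ => ?_
  rw [Finset.sum_congr rfl (g := fun _ => indFun U (fun _ => 1) g) fun ω hω => ?_,
    Finset.sum_const, Pi.smul_apply, smul_eq_mul, nsmul_eq_mul]
  · simp only [Nat.card_eq_fintype_card, Fintype.card_subtype]
  have hω' := (Finset.mem_filter.mp hω).2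
  subst hω'
  rfl

/-- Products of permutation characters. -/
theorem perm_mul (H K : Subgroup G) :
    ∃ a : Subgroup G → ℕ, (∀ U, a U ≠ 0 → U ≤ H) ∧
      indFun H (fun _ => (1 : ℂ)) * indFun K (fun _ => 1) =
        ∑ U : Subgroup G, (a U : ℂ) • indFun U (fun _ => 1) := by
  classical
  have hK : (fun g : G => (Nat.card (MulAction.fixedBy (G ⧸ K) g) : ℂ)) = indFun K (fun _ => 1) := by
    rw [perm_eq_indFun (G ⧸ K) ((1 : G) : G ⧸ K)]
    congr 1 <;> rw [MulAction.stabilizer_quotient]
  obtain ⟨b, hb⟩ := isPerm_sum_indFun (G := H) (G ⧸ K)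
  refine ⟨fun U => if U ≤ H then b (U.subgroupOf H) else 0, fun U hU => ?_, ?_⟩
  · by_contra h; simp [h] at hU
  have hres : (fun h : H => indFun K (fun _ => (1 : ℂ)) h) =
      fun h : H => (Nat.card (MulAction.fixedBy (G ⧸ K) h) : ℂ) := by
    funext h; rw [← hK]; rfl
  have h1 : ((fun _ => (1 : ℂ)) * fun h : H => indFun K (fun _ => (1 : ℂ)) h) =
      fun h : H => indFun K (fun _ => (1 : ℂ)) h := funext fun h => one_mul _
  rw [← indFun_mul_restrict H _ (isClassFunction_indFun K _), h1, hres, hb, indFun_sum]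
  simp only [indFun_smul]
  rw [← Finset.sum_subset (Finset.subset_univ (Finset.univ.filter fun U : Subgroup G => U ≤ H))
    (fun U _ hU => by
      have hU' : ¬ U ≤ H := by simpa using hU
      simp [hU'])]
  refine Finset.sum_bij (fun V _ => V.map H.subtype)
    (fun V _ => Finset.mem_filter.mpr ⟨Finset.mem_univ _, Subgroup.map_subtype_le V⟩)
    (fun V _ W _ h => Subgroup.map_injective H.subtype_injective h)
    (fun U hU => ⟨U.subgroupOf H, Finset.mem_univ _,
      Subgroup.map_subgroupOf_eq_of_le (Finset.mem_filter.mp hU).2⟩)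
    (fun V _ => ?_)
  rw [if_pos (Subgroup.map_subtype_le V), indFun_map H V, Subgroup.subgroupOf,
    Subgroup.comap_map_eq_self_of_injective H.subtype_injective]

/-- `p`-quasi-elementary subgroups. -/
def IsQuasiEl (p : ℕ) (H : Subgroup G) : Prop :=
  ∃ C : Subgroup G, C ≤ H ∧ H ≤ Subgroup.normalizer (C : Set G) ∧ IsCyclic C ∧
    Nat.Coprime (Nat.card C) p ∧ ∃ k : ℕ, C.relIndex H = p ^ k

theorem isQuasiEl_mono {p : ℕ} (hp : p.Prime) {U H : Subgroup G} (hUH : U ≤ H)
    (h : IsQuasiEl p H) : IsQuasiEl p U := by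
  obtain ⟨C, hCH, hHN, hcyc, hcop, k, hk⟩ := h
  refine ⟨C ⊓ U, inf_le_right, ?_, ?_, ?_, ?_⟩
  · intro u hu
    rw [Subgroup.mem_normalizer_iff]
    intro y
    have h1 := Subgroup.mem_normalizer_iff.mp (hHN (hUH hu)) y
    constructor
    · rintro ⟨hy, hyU⟩
      exact ⟨h1.mp hy, U.mul_mem (U.mul_mem hu hyU) (U.inv_mem hu)⟩
    · rintro ⟨hy, hyU⟩
      refine ⟨h1.mpr hy, ?_⟩
      have := U.mul_mem (U.mul_mem (U.inv_mem hu) hyU) hu
      simpa [mul_assoc] using this
  · exact isCyclic_of_injective (Subgroup.inclusion (inf_le_left : C ⊓ U ≤ C))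
      (Subgroup.inclusion_injective _)
  · exact hcop.coprime_dvd_left (Subgroup.card_dvd_of_le inf_le_left)
  · have : (C.subgroupOf H).Normal := (Subgroup.normal_subgroupOf_iff_le_normalizer hCH).mpr hHN
    have h2 : C.relIndex U ∣ p ^ k := by
      rw [← hk, ← Subgroup.inf_relIndex_right C U]
      have := Subgroup.relIndex_dvd_index_of_normal (C.subgroupOf H) (U.subgroupOf H)
      rw [Subgroup.relIndex_subgroupOf hUH] at this
      rwa [Subgroup.inf_relIndex_right]
    rw [Subgroup.inf_relIndex_right]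
    obtain ⟨i, -, hi⟩ := (Nat.dvd_prime_pow hp).mp h2
    exact ⟨i, hi⟩

omit [Fintype G] in
theorem mem_of_coprime_of_relIndex [Finite G] {C H : Subgroup G}
    (hHN : H ≤ Subgroup.normalizer (C : Set G)) {y : G} (hy : y ∈ H)
    {p k : ℕ} (hk : C.relIndex H = p ^ k) (hcop : Nat.Coprime (orderOf y) p) (hCH : C ≤ H) :
    y ∈ C := by
  have : (C.subgroupOf H).Normal := (Subgroup.normal_subgroupOf_iff_le_normalizer hCH).mpr hHN
  have h1 : (y : G) ^ p ^ k ∈ C := by
    have := (C.subgroupOf H).pow_index_mem ⟨y, hy⟩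
    rw [show (C.subgroupOf H).index = p ^ k from hk] at this
    simpa [Subgroup.mem_subgroupOf] using this
  obtain ⟨m, hm⟩ := exists_pow_eq_self_of_coprime (hcop.pow_right k).symm
  rw [← hm]
  exact C.pow_mem h1 m

theorem quasiEl_not_dvd (x : G) (p : ℕ) (hp : p.Prime) :
    ∃ H : Subgroup G, IsQuasiEl p H ∧
      ∃ n : ℕ, indFun H (fun _ => (1 : ℂ)) x = (n : ℂ) ∧ ¬ p ∣ n := by
  classical
  have := Fact.mk hp
  set o := orderOf x with ho
  have ho0 : o ≠ 0 := (orderOf_pos x).ne'
  set pa := p ^ o.factorization p with hpa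
  set y := x ^ pa with hy
  set C := Subgroup.zpowers y with hC
  have hpad : pa ∣ o := Nat.ordProj_dvd o p
  have hoy : orderOf y = o / pa := by
    rw [hy, orderOf_pow_of_dvd (pow_ne_zero _ hp.ne_zero) hpad]
  have hcopy : Nat.Coprime (orderOf y) p := by
    rw [hoy]; exact (Nat.coprime_ordCompl hp ho0).symm
  have hCcard : Nat.card C = orderOf y := Nat.card_zpowers y
  set Nr := Subgroup.normalizer (C : Set G) with hNr
  have hCN : C ≤ Nr := Subgroup.le_normalizer
  have hxN : x ∈ Nr := by
    refine Subgroup.centralizer_le_normalizer _ (Subgroup.mem_centralizer_iff.mpr fun z hz => ?_)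
    obtain ⟨i, rfl⟩ := hz
    show y ^ i * x = x * y ^ i
    rw [hy, ← zpow_natCast x pa, ← zpow_mul]
    exact (Commute.zpow_self x _).eq
  have hnormC : (C.subgroupOf Nr).Normal :=
    (Subgroup.normal_subgroupOf_iff_le_normalizer hCN).mpr le_rfl
  set f := QuotientGroup.mk' (C.subgroupOf Nr) with hf
  have hxp : IsPGroup p (Subgroup.zpowers (f ⟨x, hxN⟩)) := by
    have h1 : f ⟨x, hxN⟩ ^ pa = 1 := by
      rw [← map_pow, hf, QuotientGroup.mk'_apply, QuotientGroup.eq_one_iff, Subgroup.mem_subgroupOf]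
      exact Subgroup.mem_zpowers y
    obtain ⟨i, -, hi⟩ := (Nat.dvd_prime_pow hp).mp (orderOf_dvd_of_pow_eq_one h1)
    exact IsPGroup.of_card (n := i) (by rw [Nat.card_zpowers, hi])
  obtain ⟨Q, hQ⟩ := hxp.exists_le_sylow
  set H' := (Q : Subgroup _).comap f with hH'
  set H := H'.map Nr.subtype with hH
  have hxH : x ∈ H := ⟨⟨x, hxN⟩, hQ (Subgroup.mem_zpowers _), rfl⟩
  have hCH : C ≤ H := fun c hc => ⟨⟨c, hCN hc⟩, by
    show f ⟨c, hCN hc⟩ ∈ (Q : Subgroup _)
    rw [show f ⟨c, hCN hc⟩ = 1 from (QuotientGroup.eq_one_iff _).mpr hc]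
    exact one_mem _, rfl⟩
  have hHN : H ≤ Nr := Subgroup.map_subtype_le H'
  obtain ⟨k, hk⟩ : ∃ k, C.relIndex H = p ^ k := by
    obtain ⟨k, hk⟩ := IsPGroup.iff_card.mp Q.isPGroup'
    refine ⟨k, ?_⟩
    rw [← hk]
    have h1 : C.relIndex H = (C.subgroupOf Nr).relIndex H' := by
      rw [← Subgroup.relIndex_subgroupOf hHN]
      congr 1
      rw [Subgroup.subgroupOf, hH, Subgroup.comap_map_eq_self_of_injective Nr.subtype_injective]
    rw [h1, hH']
    have hker : (⊥ : Subgroup _).comap f = C.subgroupOf Nr := by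
      rw [MonoidHom.comap_bot]; exact QuotientGroup.ker_mk' _
    have h2 := Subgroup.relIndex_comap ⊥ f ((Q : Subgroup _).comap f)
    rw [hker, Subgroup.map_comap_eq_self_of_surjective (QuotientGroup.mk'_surjective _),
      Subgroup.relIndex_bot_left] at h2
    exact h2
  have hqe : IsQuasiEl p H :=
    ⟨C, hCH, hHN, inferInstance, by rw [hCcard]; exact hcopy, k, hk⟩
  refine ⟨H, hqe, Nat.card (MulAction.fixedBy (G ⧸ H) x), ?_, ?_⟩
  · have hst : MulAction.stabilizer G ((1 : G) : G ⧸ H) = H := MulAction.stabilizer_quotient H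
    have := congrFun (perm_eq_indFun (G ⧸ H) ((1 : G) : G ⧸ H)) x
    rw [hst] at this
    exact this.symm
  -- the fixed cosets lie in `N(C)`
  have hfix : ∀ g : G, x • (g : G ⧸ H) = (g : G ⧸ H) → g ∈ Nr := by
    intro g hg
    have h1 : g⁻¹ * x * g ∈ H := by
      rw [MulAction.Quotient.smul_coe, smul_eq_mul, eq_comm, QuotientGroup.eq] at hg
      rwa [mul_assoc]
    have h2 : g⁻¹ * y * g ∈ C := by
      refine mem_of_coprime_of_relIndex hHN ?_ hk ?_ hCH
      · have : g⁻¹ * y * g = (g⁻¹ * x * g) ^ pa := by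
          rw [hy]
          conv_rhs => rw [show g⁻¹ * x * g = g⁻¹ * x * g⁻¹⁻¹ by rw [inv_inv]]
          rw [conj_pow, inv_inv]
        rw [this]
        exact H.pow_mem h1 _
      · have : orderOf (g⁻¹ * y * g) = orderOf y :=
          MulEquiv.orderOf_eq (MulAut.conj g⁻¹) y |> fun h => by simpa [MulAut.conj_apply] using h
        rwa [this]
    have hmap : C.map (MulAut.conj g⁻¹).toMonoidHom = C := by
      refine Subgroup.eq_of_le_of_card_ge ?_ ?_
      · rw [hC, MonoidHom.map_zpowers, Subgroup.zpowers_le]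
        simpa [MulAut.conj_apply] using h2
      · rw [Subgroup.card_map_of_injective (MulAut.conj g⁻¹).injective]
    have hgi : g⁻¹ ∈ Nr := by
      rw [hNr, Subgroup.mem_normalizer_iff]
      intro z
      constructor
      · intro hz
        have := Subgroup.mem_map_of_mem (MulAut.conj g⁻¹).toMonoidHom hz
        rw [hmap] at this
        simpa [MulAut.conj_apply] using this
      · intro hz
        rw [← hmap, Subgroup.mem_map] at hz
        obtain ⟨w, hw, e⟩ := hz
        simp [MulAut.conj_apply] at e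
        exact e ▸ hw
    simpa using inv_mem hgi
  have h3 : ¬ p ∣ (H.subgroupOf Nr).index := by
    rw [Subgroup.subgroupOf, hH, Subgroup.comap_map_eq_self_of_injective Nr.subtype_injective, hH',
      Subgroup.index_comap_of_surjective _ (QuotientGroup.mk'_surjective _)]
    exact Q.not_dvd_index
  -- `⟨x⟩` acts on `Nr ⧸ H` through a `p`-group
  let Y := Nr ⧸ H.subgroupOf Nr
  have hyfix : ∀ q : Y, (⟨x, hxN⟩ : Nr) ^ pa • q = q := by
    intro q
    obtain ⟨n, rfl⟩ := QuotientGroup.mk_surjective q
    rw [MulAction.Quotient.smul_coe, smul_eq_mul, eq_comm, QuotientGroup.eq, Subgroup.mem_subgroupOf]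
    refine hCH ?_
    have := (Subgroup.mem_normalizer_iff.mp (inv_mem n.2) y).mp (Subgroup.mem_zpowers y)
    simpa [mul_assoc] using this
  set σ : Equiv.Perm Y := MulAction.toPermHom Nr Y ⟨x, hxN⟩ with hσ
  have hσp : IsPGroup p (Subgroup.zpowers σ) := by
    have h1 : σ ^ pa = 1 := by
      rw [hσ, ← map_pow]; exact Equiv.ext fun q => hyfix q
    obtain ⟨i, -, hi⟩ := (Nat.dvd_prime_pow hp).mp (orderOf_dvd_of_pow_eq_one h1)
    exact IsPGroup.of_card (n := i) (by rw [Nat.card_zpowers, hi])
  have hmod := hσp.card_modEq_card_fixedPoints (α := Y)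
  have hfp : Nat.card (MulAction.fixedPoints (Subgroup.zpowers σ) Y) =
      Nat.card (MulAction.fixedBy (G ⧸ H) x) := by
    let ι : Y → G ⧸ H := fun q => Quotient.liftOn' q (fun n => ((n : G) : G ⧸ H)) fun a b h => by
      rw [QuotientGroup.eq]
      exact Subgroup.mem_subgroupOf.mp ((QuotientGroup.leftRel_apply (s := H.subgroupOf Nr)).mp h)
    have hι : Function.Injective ι := by
      intro a b
      induction a using Quotient.inductionOn'
      induction b using Quotient.inductionOn'
      intro h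
      rename_i a b
      change ((a : G) : G ⧸ H) = ((b : G) : G ⧸ H) at h
      exact Quotient.sound'
        (QuotientGroup.leftRel_apply.mpr (Subgroup.mem_subgroupOf.mpr (QuotientGroup.eq.mp h)))
    have hιx : ∀ q, ι (σ q) = x • ι q := fun q => by
      induction q using Quotient.inductionOn'
      rfl
    have hfp' : ∀ q : Y, q ∈ MulAction.fixedPoints (Subgroup.zpowers σ) Y ↔ σ q = q := by
      intro q
      constructor
      · intro h; exact h ⟨σ, Subgroup.mem_zpowers σ⟩
      · rintro h ⟨τ, i, rfl⟩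
        exact Equiv.Perm.zpow_apply_eq_self_of_apply_eq_self h i
    refine Nat.card_eq_of_bijective (fun q => ⟨ι q.1, by
      show x • ι q.1 = ι q.1
      rw [← hιx, (hfp' q.1).mp q.2]⟩) ⟨fun a b h => Subtype.ext (hι (congrArg Subtype.val h)), ?_⟩
    rintro ⟨z, hz⟩
    obtain ⟨g, rfl⟩ := QuotientGroup.mk_surjective z
    refine ⟨⟨QuotientGroup.mk ⟨g, hfix g hz⟩, (hfp' _).mpr (hι ?_)⟩, rfl⟩
    rw [hιx]
    exact hz
  intro hdvd
  exact h3 ((hmod.dvd_iff dvd_rfl).mpr (hfp ▸ hdvd))

/-- `ℤ`-combinations of permutation characters of quasi-elementary subgroups. -/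
def qeSpan (p : ℕ) : AddSubgroup (G → ℂ) :=
  AddSubgroup.closure {f | ∃ H : Subgroup G, IsQuasiEl p H ∧ f = indFun H (fun _ => 1)}

theorem qeSpan_mul {p : ℕ} (hp : p.Prime) {f g : G → ℂ} (hf : f ∈ qeSpan p) (hg : g ∈ qeSpan p) :
    f * g ∈ qeSpan (G := G) p := by
  classical
  induction hf using AddSubgroup.closure_induction with
  | mem f hf =>
    obtain ⟨H, hH, rfl⟩ := hf
    induction hg using AddSubgroup.closure_induction with
    | mem g hg =>
      obtain ⟨K, -, rfl⟩ := hg
      obtain ⟨a, ha, e⟩ := perm_mul H K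
      rw [e]
      refine AddSubgroup.sum_mem _ fun U _ => ?_
      rw [Nat.cast_smul_eq_nsmul]
      by_cases h0 : a U = 0
      · rw [h0, zero_nsmul]; exact zero_mem _
      · exact nsmul_mem (show indFun U (fun _ => (1 : ℂ)) ∈ qeSpan (G := G) p from
          AddSubgroup.subset_closure ⟨U, isQuasiEl_mono hp (ha U h0) hH, rfl⟩) _
    | zero => rw [mul_zero]; exact zero_mem _
    | add _ _ _ _ h1 h2 => rw [mul_add]; exact add_mem h1 h2
    | neg _ _ h => rw [mul_neg]; exact neg_mem h
  | zero => rw [zero_mul]; exact zero_mem _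
  | add _ _ _ _ h1 h2 => rw [add_mul]; exact add_mem h1 h2
  | neg _ _ h => rw [neg_mul]; exact neg_mem h

/-- **Solomon**: some integer prime to `p` is a combination of quasi-elementary permutation
characters. -/
theorem solomon (p : ℕ) (hp : p.Prime) :
    ∃ m : ℤ, ¬ (p : ℤ) ∣ m ∧ (fun _ : G => (m : ℂ)) ∈ qeSpan p := by
  classical
  have := Fact.mk hp
  have hint : ∀ f ∈ qeSpan (G := G) p, ∀ x, ∃ n : ℤ, f x = n := by
    intro f hf x
    induction hf using AddSubgroup.closure_induction with
    | mem f hf =>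
      obtain ⟨H, -, rfl⟩ := hf
      have := congrFun (perm_eq_indFun (G ⧸ H) ((1 : G) : G ⧸ H)) x
      rw [MulAction.stabilizer_quotient] at this
      exact ⟨(Nat.card (MulAction.fixedBy (G ⧸ H) x) : ℕ), by rw [← this]; simp⟩
    | zero => exact ⟨0, by simp⟩
    | add f g _ _ h1 h2 =>
      obtain ⟨a, ha⟩ := h1; obtain ⟨b, hb⟩ := h2
      exact ⟨a + b, by simp [ha, hb]⟩
    | neg f _ h1 => obtain ⟨a, ha⟩ := h1; exact ⟨-a, by simp [ha]⟩
  choose H hH n hn hpn using fun x : G => quasiEl_not_dvd x p hp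
  have hg : ∀ x, indFun (H x) (fun _ => 1) ∈ qeSpan (G := G) p := fun x =>
    AddSubgroup.subset_closure ⟨H x, hH x, rfl⟩
  -- an element of the span all of whose values are prime to `p`
  have key : ∀ s : Finset G, ∃ F ∈ qeSpan (G := G) p, ∀ x ∈ s, ∀ a : ℤ, F x = a → ¬ (p : ℤ) ∣ a := by
    intro s
    induction s using Finset.induction with
    | empty => exact ⟨0, zero_mem _, by simp⟩
    | @insert x s hx ih =>
      obtain ⟨F, hF, hFs⟩ := ih
      obtain ⟨a, ha⟩ := hint F hF x
      by_cases hpa : (p : ℤ) ∣ a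
      · set g := indFun (H x) (fun _ => (1 : ℂ)) with hgd
        have hpow : ∀ k, g ^ (k + 1) ∈ qeSpan (G := G) p := fun k => by
          induction k with
          | zero => rw [pow_one]; exact hg x
          | succ k ihk => rw [pow_succ]; exact qeSpan_mul hp ihk (hg x)
        obtain ⟨q, hq⟩ : ∃ q, p - 1 = q + 1 := ⟨p - 2, by have := hp.two_le; omega⟩
        -- mod `p`, `e = g ^ (p - 1)` is one at `x` and zero or one elsewhere
        refine ⟨F + g ^ (p - 1) - F * g ^ (p - 1), ?_, ?_⟩
        · rw [hq]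
          exact sub_mem (add_mem hF (hpow q)) (qeSpan_mul hp hF (hpow q))
        intro z hz b hb
        obtain ⟨c, hc⟩ := hint g (hg x) z
        obtain ⟨d, hd⟩ := hint F hF z
        simp only [Pi.sub_apply, Pi.add_apply, Pi.mul_apply, Pi.pow_apply, hc, hd] at hb
        have hb' : d + c ^ (p - 1) - d * c ^ (p - 1) = b := by exact_mod_cast hb
        rw [← ZMod.intCast_zmod_eq_zero_iff_dvd, ← hb']
        push_cast
        by_cases hc0 : (c : ZMod p) = 0
        · rw [hc0, zero_pow (by omega)]
          simp only [add_zero, mul_zero, sub_zero]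
          rw [ZMod.intCast_zmod_eq_zero_iff_dvd]
          rcases Finset.mem_insert.mp hz with rfl | hz'
          · exfalso
            rw [hgd, hn, ← Int.cast_natCast, Int.cast_inj] at hc
            rw [← hc, ZMod.intCast_zmod_eq_zero_iff_dvd] at hc0
            exact hpn _ (Int.natCast_dvd_natCast.mp hc0)
          · exact hFs z hz' d hd
        · rw [ZMod.pow_card_sub_one_eq_one hc0]
          simp
      · refine ⟨F, hF, fun z hz b hb => ?_⟩
        rcases Finset.mem_insert.mp hz with rfl | hz'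
        · rw [ha, Int.cast_inj] at hb; rwa [← hb]
        · exact hFs z hz' b hb
  obtain ⟨F, hF, hFall⟩ := key Finset.univ
  choose c hc using hint F hF
  have key2 : ∀ s : Finset G,
      ∏ x ∈ s, ((fun _ => (c x : ℂ)) - F) - (fun _ => ((∏ x ∈ s, c x : ℤ) : ℂ)) ∈
        qeSpan (G := G) p := by
    intro s
    induction s using Finset.induction with
    | empty => simp only [Finset.prod_empty, Int.cast_one]; rw [show (1 : G → ℂ) - (fun _ => 1) = 0 from sub_self _]; exact zero_mem _
    | @insert x s hx ih =>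
      rw [Finset.prod_insert hx, Finset.prod_insert hx]
      set P := ∏ x ∈ s, ((fun _ => (c x : ℂ)) - F) with hP
      set C := ∏ x ∈ s, c x with hC
      have : ((fun _ => (c x : ℂ)) - F) * P - (fun _ : G => ((c x * C : ℤ) : ℂ)) =
          c x • (P - fun _ => (C : ℂ)) - C • F - F * (P - fun _ => (C : ℂ)) := by
        funext z
        simp only [Pi.sub_apply, Pi.mul_apply, zsmul_eq_mul, Pi.intCast_apply]
        push_cast; ring
      rw [this]
      exact sub_mem (sub_mem (zsmul_mem ih _) (zsmul_mem hF _)) (qeSpan_mul hp hF ih)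
  refine ⟨∏ x, c x, ?_, ?_⟩
  · rw [← ZMod.intCast_zmod_eq_zero_iff_dvd, Int.cast_prod, Finset.prod_eq_zero_iff]
    rintro ⟨x, -, hx⟩
    exact hFall x (Finset.mem_univ x) (c x) (hc x) ((ZMod.intCast_zmod_eq_zero_iff_dvd _ _).mp hx)
  · have h := key2 Finset.univ
    have h0 : ∏ x : G, ((fun _ => (c x : ℂ)) - F) = 0 := funext fun z => by
      rw [Finset.prod_apply]
      exact Finset.prod_eq_zero (Finset.mem_univ z) (by simp [hc z])
    rw [h0, zero_sub] at h
    simpa using neg_mem h

end CfsgLib.Char
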