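import Cfsg.Agent.Lib.Char.Clifford
import Cfsg.Agent.Lib.Char.InducedRestrict
import Cfsg.Agent.Lib.Char.RamifiedInduced
import Cfsg.Agent.Lib.Char.ExtendChar
import Cfsg.Agent.Lib.Char.Solomon
import Cfsg.Agent.Lib.Char.Artin
import Cfsg.Agent.Lib.Char.Monomial
import Cfsg.Agent.Lib.Char.Eigen
import Cfsg.Agent.Lib.Blocks.Inflate
import Cfsg.Agent.Lib.Transfer.AbelianSylow

/-!
# Characters restricting irreducibly to a solvable normal subgroup with abelian Sylow subgroups
are monomial
-/

set_option autoImplicit false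
set_option linter.unusedSectionVars false

namespace CfsgLib.Char.AGroupMonomial

open Cfsg Module
open scoped ComplexConjugate CfsgLib.Char commutatorElement

universe u

/-- All Sylow subgroups are abelian. -/
def AbSylow (N : Type*) [Group N] : Prop :=
  ∀ (p : ℕ) [Fact p.Prime] (P : Sylow p N), ∀ a ∈ P, ∀ b ∈ P, a * b = b * a

theorem AbSylow.of_injective {M N : Type*} [Group M] [Group N] (h : AbSylow N) (f : M →* N)
    (hf : Function.Injective f) : AbSylow M := by
  intro p _ P a ha b hb
  obtain ⟨Q, hQ⟩ := (P.2.map f).exists_le_sylow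
  refine hf ?_
  rw [map_mul, map_mul]
  exact h p Q _ (hQ (Subgroup.mem_map_of_mem f ha)) _ (hQ (Subgroup.mem_map_of_mem f hb))

theorem AbSylow.of_surjective {M N : Type*} [Group M] [Group N] [Finite M] (h : AbSylow M)
    (f : M →* N) (hf : Function.Surjective f) : AbSylow N := by
  intro p _ Q a ha b hb
  obtain ⟨P, rfl⟩ := Sylow.mapSurjective_surjective hf p Q
  obtain ⟨a', ha', rfl⟩ := ha
  obtain ⟨b', hb', rfl⟩ := hb
  rw [← map_mul, ← map_mul, h p P a' ha' b' hb']

/-- A central element of the derived group is trivial. -/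
theorem AbSylow.eq_one_of_central {Q : Type*} [Group Q] [Finite Q] (h : AbSylow Q) {x : Q}
    (hx : x ∈ commutator Q) (hc : x ∈ Subgroup.center Q) : x = 1 := by
  by_contra hne
  have hn1 : orderOf x ≠ 1 := fun e => hne (orderOf_eq_one_iff.mp e)
  have hp := Nat.minFac_prime hn1
  set p := (orderOf x).minFac with hpdef
  haveI := Fact.mk hp
  set y := x ^ (orderOf x / p) with hy
  have hord : orderOf y = p := orderOf_pow_orderOf_div (orderOf_pos x).ne' (Nat.minFac_dvd _)
  have hz : IsPGroup p (Subgroup.zpowers y) :=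
    IsPGroup.of_card (n := 1) (by rw [Nat.card_zpowers, hord, pow_one])
  obtain ⟨P, hP⟩ := hz.exists_le_sylow
  have hyP : y ∈ (P : Subgroup Q) := hP (Subgroup.mem_zpowers y)
  have hab : IsMulCommutative (P : Subgroup Q) :=
    ⟨⟨fun a b => Subtype.ext (h p P a a.2 b b.2)⟩⟩
  have h1 := CfsgLib.Transfer.eq_one_of_abelian_sylow P hab hyP
    (fun n _ => Subgroup.mem_center_iff.mp (Subgroup.pow_mem _ hc _) n) (Subgroup.pow_mem _ hx _)
  rw [h1, orderOf_one] at hord
  exact hp.one_lt.ne hord

/-- Induction commutes with inflation. -/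
theorem indFun_comap {G Q : Type*} [Group G] [Group Q] [Fintype G] [Fintype Q] (f : G →* Q)
    (hf : Function.Surjective f) (U : Subgroup Q) (φ : U → ℂ) :
    indFun (U.comap f) (fun x : U.comap f => φ ⟨f x, x.2⟩) = indFun U φ ∘ f := by
  classical
  funext g
  simp only [indFun, Function.comp_apply]
  have hext : ∀ y, extendByZero (U.comap f) (fun x : U.comap f => φ ⟨f x, x.2⟩) y =
      extendByZero U φ (f y) := by
    intro y
    by_cases hy : f y ∈ U
    · rw [extendByZero_mem _ _ (show y ∈ U.comap f from hy), extendByZero_mem _ _ hy]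
    · rw [extendByZero_notMem _ _ (show y ∉ U.comap f from hy), extendByZero_notMem _ _ hy]
  have hfib : ∀ y : Q, (Finset.univ.filter fun x => f x = y).card = Nat.card f.ker := by
    intro y
    obtain ⟨x0, rfl⟩ := hf y
    rw [← Fintype.card_subtype, ← Nat.card_eq_fintype_card]
    refine Nat.card_congr (Equiv.subtypeEquiv (Equiv.mulRight x0⁻¹) fun x => ?_)
    simp [MonoidHom.mem_ker, mul_inv_eq_one]
  have hsum : ∑ x : G, extendByZero (U.comap f) (fun x : U.comap f => φ ⟨f x, x.2⟩) (x⁻¹ * g * x) =
      (Nat.card f.ker : ℂ) * ∑ y : Q, extendByZero U φ (y⁻¹ * f g * y) := by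
    rw [← Finset.sum_fiberwise Finset.univ f, Finset.mul_sum]
    refine Finset.sum_congr rfl fun y _ => ?_
    rw [← hfib y, ← nsmul_eq_mul, ← Finset.sum_const]
    refine Finset.sum_congr rfl fun x hx => ?_
    rw [hext, map_mul, map_mul, map_inv, (Finset.mem_filter.mp hx).2]
  have hc : Nat.card (U.comap f) = Nat.card U * Nat.card f.ker := by
    have h1 := (U.comap f).card_mul_index
    rw [U.index_comap_of_surjective hf, ← f.ker.card_mul_index, Subgroup.index_ker,
      f.range_eq_top.mpr hf, Subgroup.card_top, ← U.card_mul_index, ← mul_assoc,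
      mul_comm (Nat.card f.ker)] at h1
    exact Nat.eq_of_mul_eq_mul_right (Nat.pos_of_ne_zero Subgroup.index_ne_zero_of_finite) h1
  have hk : (Nat.card f.ker : ℂ) ≠ 0 := Nat.cast_ne_zero.mpr Nat.card_pos.ne'
  rw [hsum, hc, Nat.cast_mul, mul_inv, mul_assoc, ← mul_assoc _ (Nat.card f.ker : ℂ),
    inv_mul_cancel₀ hk, one_mul]

theorem isIrr_of_comp_surjective {G Q : Type*} [Group G] [Group Q] [Finite G] {η : Q → ℂ}
    (hη : IsCharacter Q η) (f : G →* Q) (hf : Function.Surjective f)
    (h : IsIrrCharacter G (fun x => η (f x))) : IsIrrCharacter Q η := by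
  obtain ⟨k, σ, rfl⟩ := hη
  obtain ⟨l, τ, hτ, e⟩ := h
  obtain ⟨i⟩ := equiv_of_character_eq τ (σ.comp f : Representation ℂ G (Fin k → ℂ)) e
  exact ⟨k, σ, (CfsgLib.Blocks.isIrreducible_comp_of_surjective σ f hf).mp
    (irreducible_equiv i hτ), rfl⟩

theorem aux : ∀ (n : ℕ) (G : Type u) [Group G] [Fintype G] (N : Subgroup G) [N.Normal],
    Nat.card G = n → Group.IsSolvable N → AbSylow N → ∀ χ : G → ℂ, IsIrrCharacter G χ →
      IsIrrCharacter N (fun x : N => χ x) →
      ∃ (U : Subgroup G) (lam : U →* ℂˣ), χ = indFun U (fun h => (lam h : ℂ)) := by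
  classical
  intro n
  induction n using Nat.strong_induction_on with
  | _ n ih => ?_
  intro G _ _ N hN hn hsolv hab χ hχ hχN
  haveI : Fintype N := Fintype.ofFinite N
  have hcl := isClassFunction_of_isCharacter (isCharacter_of_isIrr hχ)
  by_cases hcomm : ∀ a b : N, a * b = b * a
  · have h1 : χ 1 = 1 := degree_one_of_comm hcomm ⟨_, hχN⟩
    exact ⟨⊤, (linearHom (isCharacter_of_isIrr hχ) h1).comp (⊤ : Subgroup G).subtype,
      (indFun_top hcl).symm⟩
  obtain ⟨k, hk⟩ : ∃ k, derivedSeries N k = ⊥ := hsolv.solvable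
  have hP : ∃ k, derivedSeries N k = ⊥ := ⟨k, hk⟩
  have hm := Nat.find_spec hP
  obtain ⟨j, hj⟩ : ∃ j, Nat.find hP = j + 2 := by
    rcases hf : Nat.find hP with _ | _ | j
    · exfalso
      rw [hf, derivedSeries_zero] at hm
      exact hcomm fun a b => by
        rw [show a = 1 from (Subgroup.mem_bot.mp (hm ▸ Subgroup.mem_top a)), one_mul, mul_one]
    · exfalso
      rw [hf, derivedSeries_one] at hm
      refine hcomm fun a b => ?_
      have : ⁅a, b⁆ ∈ commutator N := Subgroup.commutator_mem_commutator
        (Subgroup.mem_top a) (Subgroup.mem_top b)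
      rw [hm, Subgroup.mem_bot, commutatorElement_eq_one_iff_mul_comm] at this
      exact this
    · exact ⟨j, rfl⟩
  rw [hj] at hm
  set A0 := derivedSeries N (j + 1) with hA0
  haveI : A0.Characteristic := derivedSeries_characteristic N (j + 1)
  have hA0bot : A0 ≠ ⊥ := Nat.find_min hP (by omega)
  have hA0comm : A0 ≤ commutator N := by
    rw [← derivedSeries_one]; exact derivedSeries_antitone N (by omega)
  have hA0ab : ∀ a ∈ A0, ∀ b ∈ A0, a * b = b * a := by
    intro a ha b hb
    rw [← commutatorElement_eq_one_iff_mul_comm, ← Subgroup.mem_bot, ← hm, derivedSeries_succ]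
    exact Subgroup.commutator_mem_commutator ha hb
  set A := A0.map N.subtype with hA
  haveI : A.Normal := ConjAct.normal_of_characteristic_of_normal
  haveI : Fintype A := Fintype.ofFinite A
  have hAN : A ≤ N := Subgroup.map_subtype_le A0
  have hAab : ∀ a b : A, a * b = b * a := by
    rintro ⟨_, a, ha, rfl⟩ ⟨_, b, hb, rfl⟩
    exact Subtype.ext (show N.subtype a * N.subtype b = N.subtype b * N.subtype a by
      rw [← map_mul, ← map_mul, hA0ab a ha b hb])
  obtain ⟨θ, hθ⟩ := exists_constituent A (isCharacter_of_isIrr hχ) (irr_degree_ne_zero hχ)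
  have hθ1 : (θ : A → ℂ) 1 = 1 := degree_one_of_comm hAab θ
  by_cases hT : inertia A (θ : A → ℂ) = ⊤
  · -- scalars in the derived group act trivially
    obtain ⟨d, ρ, hρ, rfl⟩ := hχ
    have hres := clifford_invariant A ⟨d, ρ, hρ, rfl⟩ θ.2
      (fun g => (mem_inertia A).mp (hT ▸ Subgroup.mem_top g)) hθ
    have hsc : ∀ a : A, ∃ ω : ℂ, ρ a = ω • (LinearMap.id : (Fin d → ℂ) →ₗ[ℂ] _) := by
      intro a
      have h1 := congrFun hres 1
      have hx := congrFun hres a
      simp only [Pi.smul_apply, smul_eq_mul, hθ1, mul_one, Subgroup.coe_one] at h1 hx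
      rw [← h1, Representation.char_one] at hx
      have hn1 : ‖(θ : A → ℂ) a‖ = 1 := by
        rw [← linearHom_apply (isCharacter_of_isIrr θ.2) hθ1]
        refine Complex.norm_eq_one_of_pow_eq_one (n := orderOf a) ?_ (orderOf_pos _).ne'
        rw [← Units.val_pow_eq_pow_val, ← map_pow, pow_orderOf_eq_one, map_one, Units.val_one]
      exact (norm_character_eq_iff ρ a).mp
        (by rw [hx, norm_mul, hn1, mul_one, Complex.norm_natCast])
    let f : N →* (Module.End ℂ (Fin d → ℂ))ˣ :=
      ((ρ : G →* Module.End ℂ (Fin d → ℂ)).comp N.subtype).toHomUnits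
    have hone : ∀ a ∈ A, ρ a = 1 := by
      rintro _ ⟨a, ha, rfl⟩
      have h1 : f.rangeRestrict a = 1 := by
        refine (hab.of_surjective f.rangeRestrict f.rangeRestrict_surjective).eq_one_of_central
          ?_ ?_
        · have h2 := map_derivedSeries_le_derivedSeries f.rangeRestrict 1
            (Subgroup.mem_map_of_mem f.rangeRestrict (derivedSeries_one N ▸ hA0comm ha))
          rwa [derivedSeries_one] at h2
        · rw [Subgroup.mem_center_iff]
          rintro ⟨_, b, rfl⟩
          obtain ⟨ω, hω⟩ := hsc ⟨_, a, ha, rfl⟩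
          refine Subtype.ext (Units.ext ?_)
          show ρ (b : G) * ρ (a : G) = ρ (a : G) * ρ (b : G)
          rw [show ρ (a : G) = ω • (1 : Module.End ℂ (Fin d → ℂ)) from hω]
          simp
      exact congrArg (fun z : f.range => ((z : (Module.End ℂ (Fin d → ℂ))ˣ) :
        Module.End ℂ (Fin d → ℂ))) h1
    haveI := hρ
    obtain ⟨η, hη⟩ := CfsgLib.Blocks.exists_inflate_eq A ρ hone
    haveI : Fintype (G ⧸ A) := Fintype.ofFinite _
    let π := QuotientGroup.mk' A
    have hπ : Function.Surjective π := QuotientGroup.mk'_surjective A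
    haveI : (N.map π).Normal := Subgroup.Normal.map inferInstance π hπ
    haveI := hsolv
    have hs : Group.IsSolvable (N.map π) := solvable_of_surjective (π.subgroupMap_surjective N)
    have hab' : AbSylow (N.map π) := hab.of_surjective _ (π.subgroupMap_surjective N)
    have hlt : Nat.card (G ⧸ A) < n := by
      rw [← hn, A.card_eq_card_quotient_mul_card_subgroup]
      refine lt_mul_of_one_lt_right Nat.card_pos ((Subgroup.one_lt_card_iff_ne_bot A).mpr fun e => ?_)
      exact hA0bot ((Subgroup.map_eq_bot_iff_of_injective _ N.subtype_injective).mp e)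
    have hη' : IsIrrCharacter (N.map π) (fun x : N.map π => (η : G ⧸ A → ℂ) x) := by
      refine isIrr_of_comp_surjective
        (isCharacter_comp (N.map π).subtype (isCharacter_of_isIrr η.2)) (π.subgroupMap N)
        (π.subgroupMap_surjective N) ?_
      have : (fun x : N => ρ.character x) = fun x : N => (η : G ⧸ A → ℂ) (π x) :=
        funext fun x => congrFun hη x
      exact this ▸ hχN
    obtain ⟨U, lam, hlam⟩ := ih _ hlt (G ⧸ A) (N.map π) rfl hs hab' η η.2 hη'
    refine ⟨U.comap π, lam.comp ((π.comp (U.comap π).subtype).codRestrict U fun x => x.2), ?_⟩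
    rw [hη, hlam]
    exact (indFun_comap π hπ U _).symm
  · -- reduce to the inertia group
    set T := inertia A (θ : A → ℂ) with hTdef
    haveI : Fintype T := Fintype.ofFinite _
    have hAT : A ≤ T := le_inertia A (isClassFunction_irr θ)
    obtain ⟨ψ, hψ, hind, -⟩ := clifford_correspondence_surjective A T θ.2
      (fun g => mem_inertia A) hAT hχ hθ
    have hψc := isCharacter_of_isIrr hψ
    have hsup : N ⊔ T = ⊤ := by
      set M := N ⊔ T with hM
      haveI : Fintype M := Fintype.ofFinite _
      let e : T.subgroupOf M →* T :=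
        (M.subtype.comp (T.subgroupOf M).subtype).codRestrict T fun x => x.2
      haveI : Fintype (T.subgroupOf M) := Fintype.ofFinite _
      set φ := indFun (T.subgroupOf M) (fun x => ψ ⟨(x : M), Subgroup.mem_subgroupOf.mp x.2⟩)
      have hφc : IsCharacter M φ := isCharacter_indFun _ (isCharacter_comp e hψc)
      have hφ : indFun M φ = χ := (indFun_trans T M le_sup_right ψ).trans hind
      have hMi : IsIrrCharacter M (fun x : M => χ x) := by
        refine isIrr_of_restrict (N.subgroupOf M) (isCharacter_restrict M (isCharacter_of_isIrr hχ)) ?_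
        exact (isIrrCharacter_comp_equiv (Subgroup.subgroupOfEquivOfLe (le_sup_left : N ≤ M))).mpr hχN
      have hφi : IsIrrCharacter M φ :=
        CyclicRamified.isIrr_of_indFun (χ := ⟨χ, hχ⟩) hφc hφ
      have h1 : classInner (fun x : M => χ x) φ = 1 := by
        rw [← frobenius_reciprocity' M φ hcl, hφ, classInner_irr_self hχ]
      have h2 : (fun x : M => χ x) = φ := by
        by_contra hne
        rw [classInner_irr hMi hφi, if_neg hne] at h1
        exact zero_ne_one h1
      have h3 : χ 1 = (M.index : ℂ) * χ 1 := by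
        have := indFun_one M φ
        rw [hφ, ← h2] at this
        simpa using this
      have h4 : (M.index : ℂ) = 1 :=
        mul_right_cancel₀ (irr_degree_ne_zero hχ) (by rw [one_mul]; exact h3.symm)
      exact Subgroup.index_eq_one.mp (by exact_mod_cast h4)
    haveI : Fintype (T.subgroupOf N) := Fintype.ofFinite _
    let e : T.subgroupOf N →* T :=
      (N.subtype.comp (T.subgroupOf N).subtype).codRestrict T fun x => x.2
    have hψN : IsIrrCharacter (T.subgroupOf N) (fun x => ψ (e x)) := by
      refine CyclicRamified.isIrr_of_indFun (χ := ⟨_, hχN⟩) (isCharacter_comp e hψc) ?_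
      have := indFun_restrict_of_sup_eq_top N T hsup (isClassFunction_of_isCharacter hψc)
      rw [hind] at this
      exact this.symm
    let sw : N.subgroupOf T ≃* T.subgroupOf N :=
      { toFun := fun x => ⟨⟨((x : T) : G), x.2⟩, (x : T).2⟩
        invFun := fun x => ⟨⟨((x : N) : G), x.2⟩, (x : N).2⟩
        left_inv := fun x => rfl
        right_inv := fun x => rfl
        map_mul' := fun x y => rfl }
    haveI : (N.subgroupOf T).Normal := Subgroup.normal_subgroupOf
    let f : N.subgroupOf T →* N := (T.subgroupOf N).subtype.comp sw.toMonoidHom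
    have hf : Function.Injective f := Subtype.val_injective.comp sw.injective
    haveI := hsolv
    have hlt : Nat.card T < n := hn ▸ lt_of_le_of_ne (Subgroup.card_le_card_group _)
      fun e => hT (Subgroup.eq_top_of_card_eq _ e)
    obtain ⟨U, lam, hlam⟩ := ih _ hlt T (N.subgroupOf T) rfl (solvable_of_solvable_injective hf)
      (hab.of_injective f hf) ψ hψ ((isIrrCharacter_comp_equiv sw).mpr hψN)
    refine ⟨U.map T.subtype,
      lam.comp (U.equivMapOfInjective _ T.subtype_injective).symm.toMonoidHom, ?_⟩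
    rw [← hind, hlam, indFun_map]
    rfl

theorem monomial {G : Type*} [Group G] [Fintype G] (N : Subgroup G) [N.Normal]
    (hsolv : Group.IsSolvable N) (hab : AbSylow N) {χ : G → ℂ} (hχ : IsIrrCharacter G χ)
    (hN : IsIrrCharacter N (fun x : N => χ x)) :
    ∃ (U : Subgroup G) (lam : U →* ℂˣ), χ = indFun U (fun h => (lam h : ℂ)) :=
  aux _ G N rfl hsolv hab χ hχ hN

end CfsgLib.Char.AGroupMonomial
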