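import Cfsg.Agent.Lib.Char.Central
import Cfsg.Agent.Lib.Char.Orth
import Cfsg.Agent.Lib.Char.Artin
import Mathlib.LinearAlgebra.PID

/-!
# The degree bound of Feit and Thompson for an abelian subgroup meeting few centralizers
-/

set_option autoImplicit false
set_option linter.unusedSectionVars false
set_option linter.style.haveILetI false

namespace CfsgLib.Char

open Cfsg Module Representation
open scoped ComplexConjugate
open scoped _root_.Classical

variable {G : Type*} [Group G] [Fintype G]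

/-- The elements centralizing a non-trivial element of `H`. -/
noncomputable def meetSet (H : Subgroup G) : Finset G :=
  Finset.univ.filter fun g => ∃ h ∈ H, h ≠ 1 ∧ Commute g h

/-- No non-central element centralizes elements of two different conjugates of `H`. -/
def MeetsOne (H : Subgroup G) : Prop :=
  ∀ g : G, g ∉ Subgroup.center G → ∀ a b : G,
    Subgroup.centralizer ({g} : Set G) ⊓ H.map (MulAut.conj a).toMonoidHom ≠ ⊥ →
    Subgroup.centralizer ({g} : Set G) ⊓ H.map (MulAut.conj b).toMonoidHom ≠ ⊥ →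
      H.map (MulAut.conj a).toMonoidHom = H.map (MulAut.conj b).toMonoidHom

theorem norm_value_center_mul {k : ℕ} (ρ : Representation ℂ G (Fin k → ℂ)) [ρ.IsIrreducible] {z : G}
    (hz : z ∈ Subgroup.center G) (g : G) : ‖ρ.character (z * g)‖ = ‖ρ.character g‖ := by
  let T : IntertwiningMap ρ ρ := ⟨ρ z, fun h => by
    show ρ z * ρ h = ρ h * ρ z
    rw [← map_mul, ← map_mul, Subgroup.mem_center_iff.mp hz h]⟩
  obtain ⟨c, hc⟩ := (IsIrreducible.algebraMap_intertwiningMap_bijective_of_isAlgClosed (ρ := ρ)).2 T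
  have hT : ρ z = c • LinearMap.id := by
    rw [show ρ z = T.toLinearMap from rfl, ← hc, Algebra.algebraMap_eq_smul_one]
    rfl
  have hval : ∀ x : G, ρ.character (z * x) = c * ρ.character x := fun x => by
    show LinearMap.trace ℂ _ (ρ (z * x)) = c * LinearMap.trace ℂ _ (ρ x)
    rw [map_mul, hT, smul_mul_assoc, map_smul, smul_eq_mul]
    rfl
  have hpow : ∀ n : ℕ, ρ.character (z ^ n) = c ^ n * ρ.character 1 := fun n => by
    induction n with
    | zero => simp
    | succ n ih => rw [pow_succ', hval, ih, pow_succ']; ring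
  have h1 := hpow (orderOf z)
  rw [pow_orderOf_eq_one] at h1
  have hd : ρ.character 1 ≠ 0 := by
    rw [Representation.char_one]
    exact Nat.cast_ne_zero.mpr (finrank_pos_of_irreducible ρ).ne'
  have hcn : c ^ orderOf z = 1 := by
    have h2 := congrArg (fun t => t / ρ.character 1) h1
    simp only [div_self hd, mul_div_cancel_right₀ _ hd] at h2
    exact h2.symm
  rw [hval, norm_mul, Complex.norm_eq_one_of_pow_eq_one hcn (orderOf_pos z).ne', one_mul]

/-- `d ^ 2 > |H| m ^ 2`, with `m` the multiplicity of the trivial character. -/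
theorem card_mul_sq_lt_degree_sq (H : Subgroup G) [Fintype H] (hab : ∀ a ∈ H, ∀ b ∈ H, a * b = b * a)
    (hZ : H ⊓ Subgroup.center G = ⊥) (hone : MeetsOne H) {χ : G → ℂ} (hχ : IsIrrCharacter G χ)
    (hker : ∃ h ∈ H, χ h ≠ χ 1) :
    ∃ d m : ℕ, χ 1 = d ∧ classInner (fun h : H => χ h) (fun _ => 1) = m ∧ 0 < d ∧
      Nat.card H * m ^ 2 < d ^ 2 := by
  obtain ⟨k, ρ, hρ, rfl⟩ := hχ
  haveI := hρ
  set χ := ρ.character with hχdef
  set d := finrank ℂ (Fin k → ℂ) with hd
  have hd1 : χ 1 = (d : ℂ) := Representation.char_one ρ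
  have hd0 : 0 < d := finrank_pos_of_irreducible ρ
  obtain ⟨h₀, hh₀, hχh₀⟩ := hker
  have hh₀1 : h₀ ≠ 1 := fun e => hχh₀ (e ▸ rfl)
  set N := Subgroup.normalizer (H : Set G) with hN
  set T := meetSet H with hT
  have hmemT : ∀ {g : G}, g ∈ T ↔ ∃ h ∈ H, h ≠ 1 ∧ Commute g h := fun {g} => by simp [hT, meetSet]
  set Zc : Finset G := Finset.univ.filter (fun g => g ∈ Subgroup.center G) with hZc
  have hmemZ : ∀ {g : G}, g ∈ Zc ↔ g ∈ Subgroup.center G := fun {g} => by simp [hZc]
  have hZT : Zc ⊆ T := fun z hz => hmemT.mpr ⟨h₀, hh₀, hh₀1,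
    (Subgroup.mem_center_iff.mp (hmemZ.mp hz) h₀).symm⟩
  have hmeet : ∀ (a h g : G), h ∈ H → h ≠ 1 → Commute g (a * h * a⁻¹) →
      Subgroup.centralizer ({g} : Set G) ⊓ H.map (MulAut.conj a).toMonoidHom ≠ ⊥ := by
    intro a h g hh hh1 hc e
    have hm : a * h * a⁻¹ ∈ Subgroup.centralizer ({g} : Set G) ⊓ H.map (MulAut.conj a).toMonoidHom :=
      ⟨Subgroup.mem_centralizer_singleton_iff.mpr hc.symm.eq, ⟨h, hh, rfl⟩⟩
    rw [e, Subgroup.mem_bot] at hm
    exact hh1 (by simpa [mul_assoc] using congrArg (fun t => a⁻¹ * t * a) hm)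
  have hmapN : ∀ a : G, H.map (MulAut.conj a).toMonoidHom = H → a ∈ N := fun a e => by
    refine Subgroup.mem_normalizer_fintype fun n hn => ?_
    rw [SetLike.mem_coe] at hn ⊢
    rw [← e]
    exact ⟨n, hn, rfl⟩
  have hTN : ∀ g ∈ T, g ∈ N := by
    intro g hg
    obtain ⟨h, hh, hh1, hc⟩ := hmemT.mp hg
    have hhZ : h ∉ Subgroup.center G := fun hz => hh1 (Subgroup.mem_bot.mp (hZ ▸ ⟨hh, hz⟩))
    refine hmapN g ?_
    have h1 := hone h hhZ g 1 (hmeet g h h hh hh1 (by
      rw [show g * h * g⁻¹ = h by rw [hc.eq, mul_inv_cancel_right]]))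
      (hmeet 1 h h hh hh1 (by simp))
    rw [h1]
    ext x
    simp [Subgroup.mem_map]
  -- off `T` the character is constant on the cosets of `H`
  have hconst : ∀ n ∈ N, n ∉ T → ∀ h ∈ H, χ (n * h) = χ n := by
    intro n hn hnT h hh
    let f : H → H := fun x => ⟨n⁻¹ * (x : G) * n * (x : G)⁻¹,
      H.mul_mem ((Subgroup.mem_normalizer_iff''.mp hn _).mp x.2) (H.inv_mem x.2)⟩
    have hf : Function.Injective f := by
      intro x y e
      have e' : n⁻¹ * (x : G) * n * (x : G)⁻¹ = n⁻¹ * (y : G) * n * (y : G)⁻¹ := congrArg Subtype.val e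
      by_contra hxy
      refine hnT (hmemT.mpr ⟨(y : G)⁻¹ * x, H.mul_mem (H.inv_mem y.2) x.2, fun e1 => hxy (Subtype.ext ?_), ?_⟩)
      · exact (inv_mul_eq_one.mp e1).symm
      · have hxy' := hab _ x.2 _ y.2
        show n * ((y : G)⁻¹ * x) = (y : G)⁻¹ * x * n
        have e2 : (x : G) * n * (x : G)⁻¹ = (y : G) * n * (y : G)⁻¹ := by
          have := congrArg (fun t => n * t) e'
          simpa [mul_assoc] using this
        calc n * ((y : G)⁻¹ * x) = (y : G)⁻¹ * ((y : G) * n * (y : G)⁻¹) * x := by group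
          _ = (y : G)⁻¹ * ((x : G) * n * (x : G)⁻¹) * x := by rw [e2]
          _ = _ := by group
    obtain ⟨x, hx⟩ := (Finite.injective_iff_surjective.mp hf) ⟨h, hh⟩
    have e : n⁻¹ * (x : G) * n * (x : G)⁻¹ = h := congrArg Subtype.val hx
    rw [← e, show n * (n⁻¹ * (x : G) * n * (x : G)⁻¹) = (x : G) * n * (x : G)⁻¹ by group]
    exact ρ.char_conj n x
  -- the average over `H`
  set c : ℂ := (Nat.card H : ℂ)⁻¹ with hc
  have hc0 : (Nat.card H : ℂ) ≠ 0 := Nat.cast_ne_zero.mpr Nat.card_pos.ne'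
  set E : Module.End ℂ (Fin k → ℂ) := c • ∑ h : H, ρ (h : G) with hE
  have hEfix : ∀ h : H, ρ (h : G) * E = E := fun h => by
    rw [hE, mul_smul_comm, Finset.mul_sum]
    congr 1
    exact Fintype.sum_equiv (Equiv.mulLeft h) _ _ fun x => by simp [← map_mul]
  have hEcomm : ∀ n ∈ N, ρ n * E = E * ρ n := fun n hn => by
    rw [hE, mul_smul_comm, smul_mul_assoc, Finset.mul_sum, Finset.sum_mul]
    congr 1
    refine Fintype.sum_equiv
      ({ toFun := fun w : H => ⟨n * (w : G) * n⁻¹, (Subgroup.mem_normalizer_iff.mp hn w).mp w.2⟩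
         invFun := fun w : H => ⟨n⁻¹ * (w : G) * n, (Subgroup.mem_normalizer_iff''.mp hn w).mp w.2⟩
         left_inv := fun w => Subtype.ext (by simp [mul_assoc])
         right_inv := fun w => Subtype.ext (by simp [mul_assoc]) } : H ≃ H) _ _ fun w => ?_
    simp [← map_mul, mul_assoc]
  let W : Submodule ℂ (Fin k → ℂ) :=
    { carrier := {v | ∀ h : H, ρ (h : G) v = v}
      add_mem' := fun hv hw h => by rw [map_add, hv h, hw h]
      zero_mem' := fun h => map_zero _
      smul_mem' := fun a v hv h => by rw [map_smul, hv h] }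
  have hEW : ∀ v, E v ∈ W := fun v h => LinearMap.congr_fun (hEfix h) v
  have hWE : ∀ v ∈ W, E v = v := fun v hv => by
    rw [hE, LinearMap.smul_apply, LinearMap.sum_apply, Finset.sum_congr rfl (g := fun _ => v) fun h _ => hv h,
      Finset.sum_const, Finset.card_univ, ← Nat.card_eq_fintype_card, ← Nat.cast_smul_eq_nsmul ℂ, smul_smul, hc,
      inv_mul_cancel₀ hc0, one_smul]
  have hNW : ∀ n : N, ∀ v ∈ W, ρ (n : G) v ∈ W := fun n v hv h => by
    have h1 : (n : G)⁻¹ * (h : G) * n ∈ H := (Subgroup.mem_normalizer_iff''.mp n.2 _).mp h.2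
    calc ρ (h : G) (ρ (n : G) v) = ρ ((h : G) * n) v := by rw [map_mul]; rfl
      _ = ρ ((n : G) * ((n : G)⁻¹ * h * n)) v := by group
      _ = ρ (n : G) (ρ ((n : G)⁻¹ * h * n) v) := by rw [map_mul]; rfl
      _ = ρ (n : G) v := by rw [hv ⟨_, h1⟩]
  let σ : Representation ℂ N W :=
    { toFun := fun n => (ρ (n : G)).restrict (hNW n)
      map_one' := by ext v; simp
      map_mul' := fun a b => by ext v; simp }
  set φ : G → ℂ := fun g => c * ∑ h : H, χ (g * h) with hφ
  have hφσ : ∀ n : N, φ n = σ.character n := by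
    intro n
    have h1 : φ n = LinearMap.trace ℂ _ (ρ (n : G) * E) := by
      rw [hE, mul_smul_comm, map_smul, smul_eq_mul, Finset.mul_sum, map_sum, hφ]
      simp only [← map_mul]
      rfl
    rw [h1, ← LinearMap.trace_restrict_eq_of_forall_mem W (ρ (n : G) * E) (fun v => hNW n _ (hEW v))]
    refine congrArg (LinearMap.trace ℂ W) (LinearMap.ext fun v => Subtype.ext ?_)
    show (ρ (n : G)) (E v) = ρ (n : G) v
    rw [hWE v v.2]
  haveI : Fintype N := Fintype.ofFinite _
  have hχN : IsCharacter N (fun n : N => χ n) := isCharacter_restrict N ⟨k, ρ, rfl⟩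
  have hφN : IsCharacter N (fun n : N => φ n) := by
    rw [show (fun n : N => φ n) = σ.character from funext hφσ]
    exact isCharacter_character σ
  obtain ⟨A, hA⟩ := exists_nat_classInner hχN hχN
  obtain ⟨B, hB⟩ := exists_nat_classInner hφN hφN
  obtain ⟨m, hm⟩ := exists_nat_classInner (isCharacter_restrict H (⟨k, ρ, rfl⟩ : IsCharacter G χ))
    (isCharacter_one (G := H))
  have hφ1 : ∀ x ∈ Subgroup.center G, ∀ h ∈ H, ‖φ (x * h)‖ = m := by
    intro x hx h hh
    have h1 : φ 1 = (m : ℂ) := by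
      rw [← hm, hφ, classInner]; simp [hc]
    have h2 : φ (x * h) = φ x := by
      simp only [hφ]
      congr 1
      exact Fintype.sum_equiv (Equiv.mulLeft (⟨h, hh⟩ : H)) _ _ fun w => by simp [mul_assoc]
    rw [h2]
    let Tz : IntertwiningMap ρ ρ := ⟨ρ x, fun g => by
      show ρ x * ρ g = ρ g * ρ x
      rw [← map_mul, ← map_mul, Subgroup.mem_center_iff.mp hx g]⟩
    obtain ⟨a, ha⟩ := (IsIrreducible.algebraMap_intertwiningMap_bijective_of_isAlgClosed (ρ := ρ)).2 Tz
    have hT' : ρ x = a • LinearMap.id := by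
      rw [show ρ x = Tz.toLinearMap from rfl, ← ha, Algebra.algebraMap_eq_smul_one]
      rfl
    have hval : ∀ g : G, χ (x * g) = a * χ g := fun g => by
      show LinearMap.trace ℂ _ (ρ (x * g)) = a * LinearMap.trace ℂ _ (ρ g)
      rw [map_mul, hT', smul_mul_assoc, map_smul, smul_eq_mul]
      rfl
    have hna : ‖a‖ = 1 := by
      have h3 := norm_value_center_mul ρ hx 1
      rw [← hχdef, hval, norm_mul, hd1, Complex.norm_natCast] at h3
      exact mul_right_cancel₀ (Nat.cast_ne_zero.mpr hd0.ne') (h3.trans (one_mul _).symm)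
    rw [show φ x = a * φ 1 by simp only [hφ, hval, ← Finset.mul_sum, one_mul]; ring, norm_mul, hna, h1,
      one_mul, Complex.norm_natCast]
  -- norms on `N`
  have hsumN : ∀ f : G → ℂ, ∑ n : N, ‖f n‖ ^ 2 = ∑ g ∈ T, ‖f g‖ ^ 2 +
      ∑ g ∈ (Finset.univ.filter fun g => g ∈ N ∧ g ∉ T), ‖f g‖ ^ 2 := fun f => by
    rw [← Finset.sum_subtype (Finset.univ.filter fun g => g ∈ N) (fun x => by simp) (fun g => ‖f g‖ ^ 2),
      ← Finset.sum_filter_add_sum_filter_not _ (fun g => g ∈ T), Finset.filter_filter, Finset.filter_filter]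
    congr 1
    exact Finset.sum_congr (by ext g; simp; exact fun h => hTN g h) fun _ _ => rfl
  have hoff : ∀ g ∈ (Finset.univ.filter fun g => g ∈ N ∧ g ∉ T), ‖φ g‖ ^ 2 = ‖χ g‖ ^ 2 := fun g hg => by
    obtain ⟨hgN, hgT⟩ := (Finset.mem_filter.mp hg).2
    simp only [hφ]
    rw [Finset.sum_congr rfl (g := fun _ => χ g) (fun (h : H) _ => hconst g hgN hgT (h : G) h.2), Finset.sum_const,
      Finset.card_univ, ← Nat.card_eq_fintype_card, nsmul_eq_mul, ← mul_assoc, hc, inv_mul_cancel₀ hc0, one_mul]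
  have horth : ∑ n : N, φ n * conj (χ n - φ n) = 0 := by
    have hswap : ∀ h : H, ∑ n : N, φ n * conj (χ ((n : G) * h)) = ∑ n : N, φ n * conj (χ n) := fun h => by
      have hhN : (h : G) ∈ N := Subgroup.le_normalizer h.2
      refine Fintype.sum_equiv (Equiv.mulRight (⟨h, hhN⟩ : N)) _ _ fun n => ?_
      have : φ ((n : G) * h) = φ n := by
        simp only [hφ]
        congr 1
        exact Fintype.sum_equiv (Equiv.mulLeft h) _ _ fun w => by simp [mul_assoc]
      simp [this]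
    have : ∑ n : N, φ n * conj (φ n) = ∑ n : N, φ n * conj (χ n) := by
      conv_lhs => arg 2; ext n; arg 2; rw [hφ]
      simp only [map_mul, map_sum, Finset.mul_sum]
      rw [Finset.sum_comm, Finset.sum_congr rfl (g := fun _ : H => conj c * ∑ n : N, φ n * conj (χ n))
        fun h _ => by
          rw [← hswap h, Finset.mul_sum]
          exact Finset.sum_congr rfl fun n _ => by simp only [hφ]; ring,
        Finset.sum_const, Finset.card_univ, ← Nat.card_eq_fintype_card, nsmul_eq_mul, hc, map_inv₀,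
        Complex.conj_natCast, ← mul_assoc, mul_inv_cancel₀ hc0, one_mul]
    simp only [map_sub, mul_sub, Finset.sum_sub_distrib, this, sub_self]
  have hAB : B < A := by
    have hpos : (0 : ℝ) < ∑ n : N, ‖χ n - φ n‖ ^ 2 := by
      refine Finset.sum_pos' (fun n _ => by positivity) ?_
      by_contra hall
      push Not at hall
      refine hχh₀ ?_
      have hz : ∀ n : N, χ n = φ n := fun n => by
        have h1 := hall n (Finset.mem_univ n)
        have h2 : ‖χ n - φ n‖ = 0 := by nlinarith [norm_nonneg (χ n - φ n)]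
        exact sub_eq_zero.mp (norm_eq_zero.mp h2)
      have h1 := hz ⟨h₀, Subgroup.le_normalizer hh₀⟩
      have h2 := hz 1
      simp only [hφ, Subgroup.coe_one] at h1 h2
      rw [h1, h2]
      congr 1
      exact Fintype.sum_equiv (Equiv.mulLeft (⟨h₀, hh₀⟩ : H)) _ _ fun w => by simp
    have key : (∑ n : N, ‖χ n‖ ^ 2 : ℝ) = ∑ n : N, ‖φ n‖ ^ 2 + ∑ n : N, ‖χ n - φ n‖ ^ 2 := by
      have hre := congrArg Complex.re horth
      rw [Complex.re_sum, Complex.zero_re] at hre
      rw [← Finset.sum_add_distrib, ← sub_eq_zero, ← Finset.sum_sub_distrib]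
      calc ∑ n : N, (‖χ n‖ ^ 2 - (‖φ n‖ ^ 2 + ‖χ n - φ n‖ ^ 2))
          = ∑ n : N, 2 * (φ n * conj (χ n - φ n)).re := by
            refine Finset.sum_congr rfl fun n _ => ?_
            generalize χ (n : G) = x
            generalize φ (n : G) = y
            rw [Complex.sq_norm, Complex.sq_norm, Complex.sq_norm, Complex.normSq_apply, Complex.normSq_apply,
              Complex.normSq_apply, Complex.mul_re, Complex.conj_re, Complex.conj_im, Complex.sub_re, Complex.sub_im]
            ring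
        _ = 0 := by rw [← Finset.mul_sum, hre, mul_zero]
    rw [classInner_self_eq] at hA hB
    have hA' : ((Nat.card N : ℝ)⁻¹ * ∑ n : N, ‖χ n‖ ^ 2) = (A : ℝ) := by exact_mod_cast hA
    have hB' : ((Nat.card N : ℝ)⁻¹ * ∑ n : N, ‖φ n‖ ^ 2) = (B : ℝ) := by exact_mod_cast hB
    have hlt : (B : ℝ) < A := by
      rw [← hA', ← hB', key, mul_add]
      have : (0 : ℝ) < (Nat.card N : ℝ)⁻¹ := inv_pos.mpr (Nat.cast_pos.mpr Nat.card_pos)
      nlinarith
    exact_mod_cast hlt
  have hTsum : (Nat.card N : ℝ) + (Zc.card : ℝ) * (Nat.card H) * m ^ 2 ≤ ∑ g ∈ T, ‖χ g‖ ^ 2 := by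
    have hdiff : ∑ g ∈ T, ‖χ g‖ ^ 2 - ∑ g ∈ T, ‖φ g‖ ^ 2 = (Nat.card N : ℝ) * ((A : ℝ) - B) := by
      have hN0 : (Nat.card N : ℝ) ≠ 0 := Nat.cast_ne_zero.mpr Nat.card_pos.ne'
      rw [classInner_self_eq] at hA hB
      have hA' : ((Nat.card N : ℝ)⁻¹ * ∑ n : N, ‖χ n‖ ^ 2) = (A : ℝ) := by exact_mod_cast hA
      have hB' : ((Nat.card N : ℝ)⁻¹ * ∑ n : N, ‖φ n‖ ^ 2) = (B : ℝ) := by exact_mod_cast hB
      rw [← hA', ← hB', ← mul_sub, ← mul_assoc, mul_inv_cancel₀ hN0, one_mul, hsumN χ, hsumN φ,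
        Finset.sum_congr rfl hoff]
      ring
    have hge : (Nat.card N : ℝ) ≤ (Nat.card N : ℝ) * ((A : ℝ) - B) := by
      have h1 : (1 : ℝ) ≤ (A : ℝ) - B := by
        have : (B : ℝ) + 1 ≤ A := by exact_mod_cast hAB
        linarith
      nlinarith [(Nat.cast_nonneg (Nat.card N) : (0 : ℝ) ≤ _)]
    have hsub : ((Zc ×ˢ (Finset.univ : Finset H)).image fun p => p.1 * (p.2 : G)) ⊆ T := by
      intro g hg
      obtain ⟨⟨z, h⟩, hp, rfl⟩ := Finset.mem_image.mp hg
      refine hmemT.mpr ⟨h₀, hh₀, hh₀1, Commute.mul_left ?_ (hab _ h.2 _ hh₀)⟩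
      exact (Subgroup.mem_center_iff.mp (hmemZ.mp (Finset.mem_product.mp hp).1) h₀).symm
    have hinj : Set.InjOn (fun p : G × H => p.1 * (p.2 : G)) ↑(Zc ×ˢ (Finset.univ : Finset H)) := by
      rintro ⟨z, h⟩ h1 ⟨z', h'⟩ h2 (e : z * (h : G) = z' * h')
      have hz := hmemZ.mp (Finset.mem_product.mp h1).1
      have hz' := hmemZ.mp (Finset.mem_product.mp h2).1
      have hm' : (h : G) * (h' : G)⁻¹ ∈ H ⊓ Subgroup.center G :=
        ⟨H.mul_mem h.2 (H.inv_mem h'.2), by
          rw [show (h : G) * (h' : G)⁻¹ = z⁻¹ * z' by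
            rw [mul_inv_eq_iff_eq_mul, mul_assoc, eq_inv_mul_iff_mul_eq, e]]
          exact Subgroup.mul_mem _ (Subgroup.inv_mem _ hz) hz'⟩
      rw [hZ, Subgroup.mem_bot, mul_inv_eq_one] at hm'
      obtain rfl := Subtype.ext hm'
      simpa using e
    have h2 : (Zc.card : ℝ) * (Nat.card H) * m ^ 2 ≤ ∑ g ∈ T, ‖φ g‖ ^ 2 := by
      refine le_trans (le_of_eq ?_) (Finset.sum_le_sum_of_subset_of_nonneg hsub fun g _ _ => by positivity)
      rw [Finset.sum_image hinj, Finset.sum_congr rfl (g := fun _ => (m : ℝ) ^ 2) fun p hp => by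
        rw [hφ1 p.1 (hmemZ.mp (Finset.mem_product.mp hp).1) _ p.2.2], Finset.sum_const, Finset.card_product,
        Finset.card_univ, Nat.card_eq_fintype_card, nsmul_eq_mul, Nat.cast_mul]
    linarith
  -- the translates of `T`
  have hZsum : ∀ z ∈ Zc, ‖χ z‖ ^ 2 = (d : ℝ) ^ 2 := fun z hz => by
    have h := norm_value_center_mul ρ (hmemZ.mp hz) 1
    rw [mul_one] at h
    rw [show χ z = ρ.character z from rfl, h, ← hχdef, hd1, Complex.norm_natCast]
  set S := T \ Zc with hS
  set F : (G ⧸ N) × G → G := fun p => Quotient.out p.1 * p.2 * (Quotient.out p.1)⁻¹ with hF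
  have hFinj : Set.InjOn F ↑((Finset.univ : Finset (G ⧸ N)) ×ˢ S) := by
    rintro ⟨q, g⟩ hp ⟨q', g'⟩ hp' (e : q.out * g * q.out⁻¹ = q'.out * g' * q'.out⁻¹)
    obtain ⟨hgT, hgZ⟩ := Finset.mem_sdiff.mp (Finset.mem_product.mp hp).2
    obtain ⟨hgT', -⟩ := Finset.mem_sdiff.mp (Finset.mem_product.mp hp').2
    obtain ⟨h, hh, hh1, hcg⟩ := hmemT.mp hgT
    obtain ⟨h', hh', hh1', hcg'⟩ := hmemT.mp hgT'
    have hne : q.out * g * q.out⁻¹ ∉ Subgroup.center G := fun hz => hgZ (hmemZ.mpr (by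
      have := Subgroup.mem_center_iff.mp hz
      refine Subgroup.mem_center_iff.mpr fun x => ?_
      have h2 := this (q.out * x * q.out⁻¹)
      exact mul_left_cancel (a := q.out) (by simpa [← mul_assoc] using h2)))
    have hmap := hone _ hne q.out q'.out
      (hmeet q.out h _ hh hh1 (by
        show q.out * g * q.out⁻¹ * (q.out * h * q.out⁻¹) = q.out * h * q.out⁻¹ * (q.out * g * q.out⁻¹)
        calc _ = q.out * (g * h) * q.out⁻¹ := by group
          _ = _ := by rw [hcg.eq]; group))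
      (hmeet q'.out h' _ hh' hh1' (by
        rw [e]
        show q'.out * g' * q'.out⁻¹ * (q'.out * h' * q'.out⁻¹) = q'.out * h' * q'.out⁻¹ * (q'.out * g' * q'.out⁻¹)
        calc _ = q'.out * (g' * h') * q'.out⁻¹ := by group
          _ = _ := by rw [hcg'.eq]; group))
    have hqN : q.out⁻¹ * q'.out ∈ N := hmapN _ (by
      have h3 := congrArg (fun K : Subgroup G => K.map (MulAut.conj q.out⁻¹).toMonoidHom) hmap.symm
      simp only [Subgroup.map_map] at h3
      convert h3 using 2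
      · ext x; simp [mul_assoc]
      · conv_lhs => rw [← Subgroup.map_id H]
        congr 1
        ext x; simp [mul_assoc])
    have hq : q = q' := by
      rw [← QuotientGroup.out_eq' q, ← QuotientGroup.out_eq' q', QuotientGroup.eq]
      exact hqN
    subst hq
    simpa using e
  have hsq : ∑ g : G, ‖χ g‖ ^ 2 = (Nat.card G : ℝ) := by
    have h := classInner_irr_self (G := G) (φ := χ) ⟨k, ρ, hρ, rfl⟩
    rw [classInner_self_eq] at h
    have h' : (Nat.card G : ℝ)⁻¹ * ∑ g, ‖χ g‖ ^ 2 = 1 := by exact_mod_cast h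
    rw [inv_mul_eq_one₀ (Nat.cast_ne_zero.mpr Nat.card_pos.ne')] at h'
    exact h'.symm
  have hval : ∀ p : (G ⧸ N) × G, χ (F p) = χ p.2 := fun p => ρ.char_conj p.2 _
  have htot : (Zc.card : ℝ) * (d : ℝ) ^ 2 + (N.index : ℝ) * ∑ g ∈ S, ‖χ g‖ ^ 2 ≤ (Nat.card G : ℝ) := by
    rw [← hsq, ← Finset.sum_sdiff (Finset.subset_univ Zc), add_comm,
      Finset.sum_congr (s₁ := Zc) rfl hZsum, Finset.sum_const, nsmul_eq_mul]
    refine add_le_add ?_ le_rfl
    refine le_trans (le_of_eq ?_) (Finset.sum_le_sum_of_subset_of_nonneg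
      (s := ((Finset.univ : Finset (G ⧸ N)) ×ˢ S).image F) (fun x hx => ?_) fun g _ _ => by positivity)
    · rw [Finset.sum_image hFinj, Finset.sum_product, Finset.sum_congr rfl (g := fun _ => ∑ g ∈ S, ‖χ g‖ ^ 2)
        fun q _ => Finset.sum_congr rfl fun g _ => by rw [hval], Finset.sum_const, Finset.card_univ,
        nsmul_eq_mul, ← Nat.card_eq_fintype_card, ← Subgroup.index_eq_card]
    · obtain ⟨⟨q, g⟩, hp, rfl⟩ := Finset.mem_image.mp hx
      obtain ⟨-, hgZ⟩ := Finset.mem_sdiff.mp (Finset.mem_product.mp hp).2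
      refine Finset.mem_sdiff.mpr ⟨Finset.mem_univ _, fun hz => hgZ (hmemZ.mpr ?_)⟩
      refine Subgroup.mem_center_iff.mpr fun x => ?_
      have h2 := Subgroup.mem_center_iff.mp (hmemZ.mp hz) (q.out * x * q.out⁻¹)
      exact mul_left_cancel (a := q.out) (by simpa [hF, ← mul_assoc] using h2)
  have hS' : ∑ g ∈ S, ‖χ g‖ ^ 2 = ∑ g ∈ T, ‖χ g‖ ^ 2 - (Zc.card : ℝ) * (d : ℝ) ^ 2 := by
    rw [← Finset.sum_sdiff hZT, Finset.sum_congr (s₁ := Zc) rfl hZsum, Finset.sum_const, nsmul_eq_mul]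
    ring
  refine ⟨d, m, hd1, hm, hd0, ?_⟩
  by_contra hle
  push Not at hle
  have hle' : (d : ℝ) ^ 2 ≤ (Nat.card H : ℝ) * (m : ℝ) ^ 2 := by exact_mod_cast hle
  have hZ0 : (0 : ℝ) < Zc.card := by
    exact_mod_cast Finset.card_pos.mpr ⟨1, hmemZ.mpr (one_mem _)⟩
  have hidx : (N.index : ℝ) * Nat.card N = Nat.card G := by
    rw [← N.card_mul_index]; push_cast; ring
  have hi : (0 : ℝ) ≤ N.index := Nat.cast_nonneg _
  rw [hS'] at htot
  have hd' : (0 : ℝ) < (d : ℝ) ^ 2 := by positivity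
  nlinarith [mul_le_mul_of_nonneg_left hTsum hi, mul_le_mul_of_nonneg_left hle' (mul_nonneg hi hZ0.le),
    mul_pos hZ0 hd']

/-- `(d + 1) ^ 2 > |H|` when `H` lies in no proper normal subgroup. -/
theorem card_lt_succ_degree_sq (H : Subgroup G) [Fintype H] (hab : ∀ a ∈ H, ∀ b ∈ H, a * b = b * a)
    (hZ : H ⊓ Subgroup.center G = ⊥) (hone : MeetsOne H)
    (hgen : ∀ M : Subgroup G, M.Normal → H ≤ M → M = ⊤) {χ : G → ℂ} (hχ : IsIrrCharacter G χ)
    (hker : ∃ h ∈ H, χ h ≠ χ 1) {d : ℕ} (hd : χ 1 = d) (hd1 : d ≠ 1) : Nat.card H < (d + 1) ^ 2 := by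
  obtain ⟨d', m, hd', hm, hd0, hlt⟩ := card_mul_sq_lt_degree_sq H hab hZ hone hχ hker
  have hdd : d' = d := by rw [hd] at hd'; exact_mod_cast hd'.symm
  rw [hdd] at hd0
  by_contra hge
  push Not at hge
  have hχc := isCharacter_of_isIrr hχ
  set f : G → ℂ := χ * fun g => conj (χ g) with hf
  have hfc : IsCharacter G f := isCharacter_mul hχc (isCharacter_conj hχc)
  obtain ⟨a, ha⟩ := exists_multiplicities hfc
  set T₀ : IrrCharacter G := ⟨fun _ => 1, isIrrCharacter_of_degree_one (isCharacter_one (G := G)) rfl⟩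
  have haT : a T₀ = 1 := by
    have h1 : classInner f (T₀ : G → ℂ) = classInner χ χ := by simp [hf, classInner, T₀]
    rw [classInner_irr_self hχ] at h1
    rw [ha, classInner_sum_smul_irr] at h1
    exact_mod_cast h1
  -- the trivial constituents of the restrictions
  have hm : ∀ ξ : IrrCharacter G, ∃ e : ℕ, classInner (fun h : H => (ξ : G → ℂ) h) (fun _ => 1) = e :=
    fun ξ => exists_nat_classInner (isCharacter_restrict H (isCharacter_of_isIrr ξ.2)) (isCharacter_one (G := H))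
  choose e he using hm
  choose deg hdeg using fun ξ : IrrCharacter G => exists_nat_degree (isCharacter_of_isIrr ξ.2)
  have hle : ∀ ξ : IrrCharacter G, ξ ≠ T₀ → (d + 1) * e ξ < deg ξ := by
    intro ξ hξ
    have hkerξ : ∃ h ∈ H, (ξ : G → ℂ) h ≠ (ξ : G → ℂ) 1 := by
      by_contra hall
      push Not at hall
      obtain ⟨n, σ, hσ, hσe⟩ := ξ.2
      have htriv : ∀ h ∈ H, σ h = 1 := fun h hh => by
        have h1 : ‖σ.character h‖ = (finrank ℂ (Fin n → ℂ) : ℝ) := by
          rw [hσe, hall h hh, ← hσe, Representation.char_one, Complex.norm_natCast]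
        obtain ⟨w, hw⟩ := (norm_character_eq_iff σ h).mp h1
        have h2 : σ.character h = w * (finrank ℂ (Fin n → ℂ) : ℂ) := by
          show LinearMap.trace ℂ _ (σ h) = _
          rw [hw, map_smul, LinearMap.trace_id, smul_eq_mul]
        have h3 : σ.character h = (finrank ℂ (Fin n → ℂ) : ℂ) := by
          rw [hσe, hall h hh, ← hσe, Representation.char_one]
        have hw1 : w = 1 := by
          haveI := hσ
          have hn0 : (finrank ℂ (Fin n → ℂ) : ℂ) ≠ 0 :=
            Nat.cast_ne_zero.mpr (finrank_pos_of_irreducible σ).ne'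
          exact mul_right_cancel₀ hn0 (by rw [← h2, h3, one_mul])
        rw [hw, hw1, one_smul]; rfl
      have htop : σ.ker = ⊤ := hgen _ (MonoidHom.normal_ker σ) fun h hh => htriv h hh
      refine hξ (Subtype.ext ?_)
      have hall' : ∀ g, σ g = 1 := fun g => (MonoidHom.mem_ker (f := σ)).mp (htop ▸ Subgroup.mem_top g)
      have hconst : ∀ g, (ξ : G → ℂ) g = (ξ : G → ℂ) 1 := fun g => by
        rw [← hσe]
        show LinearMap.trace ℂ _ (σ g) = LinearMap.trace ℂ _ (σ 1)
        rw [hall' g, map_one σ]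
      have h1 := classInner_irr_self ξ.2
      rw [classInner, Finset.sum_congr rfl (g := fun _ => (ξ : G → ℂ) 1 * conj ((ξ : G → ℂ) 1))
        (fun g _ => by rw [hconst g]), Finset.sum_const, Finset.card_univ, ← Nat.card_eq_fintype_card,
        nsmul_eq_mul, ← mul_assoc, inv_mul_cancel₀ (Nat.cast_ne_zero.mpr Nat.card_pos.ne'), one_mul,
        hdeg ξ, Complex.conj_natCast] at h1
      have h2 : deg ξ = 1 := Nat.eq_one_of_mul_eq_one_right (by exact_mod_cast h1)
      funext g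
      rw [hconst g, hdeg ξ, h2, Nat.cast_one]
    obtain ⟨x, y, hx, hy, -, hxy⟩ := card_mul_sq_lt_degree_sq H hab hZ hone ξ.2 hkerξ
    have hx' : x = deg ξ := by rw [hdeg ξ] at hx; exact_mod_cast hx.symm
    have hy' : y = e ξ := by rw [he ξ] at hy; exact_mod_cast hy.symm
    rw [hx', hy'] at hxy
    by_contra hcon
    push Not at hcon
    have h1 : ((d + 1) * e ξ) ^ 2 ≤ Nat.card H * e ξ ^ 2 := by
      rw [mul_pow]; exact Nat.mul_le_mul_right _ hge
    have h2 := Nat.pow_le_pow_left hcon 2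
    omega
  have hsum1 : ∑ ξ : IrrCharacter G, a ξ * deg ξ = d * d := by
    have h1 := congrFun ha 1
    simp only [Finset.sum_apply, Pi.smul_apply, smul_eq_mul, hdeg, hf, Pi.mul_apply, hd, Complex.conj_natCast] at h1
    exact_mod_cast h1.symm
  have hsum2 : d ≤ ∑ ξ : IrrCharacter G, a ξ * e ξ := by
    obtain ⟨b, hb⟩ := exists_multiplicities (isCharacter_restrict H hχc)
    have h1 : classInner (fun h : H => f h) (fun _ => 1) = classInner (fun h : H => χ h) (fun h : H => χ h) := by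
      simp [hf, classInner]
    have h2 : classInner (fun h : H => f h) (fun _ => 1) = ((∑ ξ : IrrCharacter G, a ξ * e ξ : ℕ) : ℂ) := by
      have : (fun h : H => f h) = ∑ ξ : IrrCharacter G, (a ξ : ℂ) • fun h : H => (ξ : G → ℂ) h := by
        funext h
        rw [ha]; simp
      rw [this, classInner_sum_left]
      push_cast
      exact Finset.sum_congr rfl fun ξ _ => by rw [classInner_smul_left, he]
    rw [h2, hb, classInner_sum_smul_sum_smul] at h1
    simp only [Complex.conj_natCast] at h1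
    have h3 : ∑ ξ : IrrCharacter G, a ξ * e ξ = ∑ ψ : IrrCharacter H, b ψ * b ψ := by exact_mod_cast h1
    have h4 : ∑ ψ : IrrCharacter H, b ψ = d := by
      have h5 := congrFun hb 1
      simp only [Finset.sum_apply, Pi.smul_apply, smul_eq_mul, Subgroup.coe_one, hd,
        degree_one_of_comm (G := H) (fun x y => Subtype.ext (hab _ x.2 _ y.2)), mul_one] at h5
      exact_mod_cast h5.symm
    rw [h3, ← h4]
    exact Finset.sum_le_sum fun ψ _ => Nat.le_mul_self _
  have heT : e T₀ = 1 := by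
    have h1 := he T₀
    have h2 : classInner (fun _ : H => (1 : ℂ)) (fun _ => 1) = 1 := by
      simp [classInner]
    rw [h2] at h1
    exact_mod_cast h1.symm
  have hdT : deg T₀ = 1 := by
    have h1 := hdeg T₀
    simp [T₀] at h1
    exact_mod_cast h1.symm
  rw [← Finset.add_sum_erase _ _ (Finset.mem_univ T₀), haT, hdT, one_mul] at hsum1
  rw [← Finset.add_sum_erase _ _ (Finset.mem_univ T₀), haT, heT, one_mul] at hsum2
  have hkey : (d + 1) * ∑ ξ ∈ Finset.univ.erase T₀, a ξ * e ξ ≤ ∑ ξ ∈ Finset.univ.erase T₀, a ξ * deg ξ := by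
    rw [Finset.mul_sum]
    refine Finset.sum_le_sum fun ξ hξ => ?_
    rw [mul_left_comm]
    exact Nat.mul_le_mul_left _ (hle ξ (Finset.ne_of_mem_erase hξ)).le
  by_cases hstrict : ∀ ξ ∈ Finset.univ.erase T₀, a ξ * e ξ = 0
  · rw [Finset.sum_eq_zero hstrict] at hsum2
    omega
  push Not at hstrict
  obtain ⟨ξ₀, hξ₀, hne⟩ := hstrict
  have hpos : 0 < a ξ₀ := Nat.pos_of_ne_zero fun h => hne (by rw [h, zero_mul])
  have hkey' : (d + 1) * ∑ ξ ∈ Finset.univ.erase T₀, a ξ * e ξ < ∑ ξ ∈ Finset.univ.erase T₀, a ξ * deg ξ := by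
    rw [Finset.mul_sum]
    refine Finset.sum_lt_sum (fun ξ hξ => ?_) ⟨ξ₀, hξ₀, ?_⟩
    · rw [mul_left_comm]
      exact Nat.mul_le_mul_left _ (hle ξ (Finset.ne_of_mem_erase hξ)).le
    · rw [mul_left_comm]
      exact Nat.mul_lt_mul_of_pos_left (hle ξ₀ (Finset.ne_of_mem_erase hξ₀)) hpos
  nlinarith

end CfsgLib.Char
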