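import Cfsg.Agent.Lib.Char.Indicator
import Mathlib.LinearAlgebra.PID

/-!
# The alternating square of a character
-/

set_option autoImplicit false
set_option linter.unusedSectionVars false

namespace CfsgLib.Char

open Cfsg CfsgLib.FSCount Module

variable {G : Type*} [Group G] [Fintype G]

/-- The alternating square of a character is a character. -/
theorem isCharacter_altSquare {χ : G → ℂ} (hχ : IsCharacter G χ) :
    IsCharacter G fun g => (χ g * χ g - χ (g * g)) / 2 := by
  obtain ⟨n, ρ, rfl⟩ := hχ
  set σ := congr ρ with hσ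
  set τ := flipMap n with hτ
  have hτσ : ∀ g, τ * σ g = σ g * τ := by
    intro g
    ext1 X
    show (LinearMap.toMatrix' (ρ g) * X * (LinearMap.toMatrix' (ρ g)).transpose).transpose =
      LinearMap.toMatrix' (ρ g) * X.transpose * (LinearMap.toMatrix' (ρ g)).transpose
    simp [Matrix.transpose_mul, Matrix.mul_assoc]
  have hττ : τ * τ = 1 := by ext1 X; rfl
  set Q : Module.End ℂ (Matrix (Fin n) (Fin n) ℂ) := (2 : ℂ)⁻¹ • (1 - τ) with hQ
  have hQQ : Q * Q = Q := by
    show ((2 : ℂ)⁻¹ • (1 - τ)) * ((2 : ℂ)⁻¹ • (1 - τ)) = _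
    rw [smul_mul_assoc, mul_smul_comm, smul_smul, sub_mul, one_mul, mul_sub, mul_one, hττ]
    module
  have hQσ : ∀ g, σ g * Q = Q * σ g := fun g => by
    rw [hQ, mul_smul_comm, smul_mul_assoc, mul_sub, sub_mul, mul_one, one_mul, hτσ]
  let W : Subrepresentation σ :=
    { toSubmodule := LinearMap.range Q
      apply_mem_toSubmodule := by
        rintro g _ ⟨X, rfl⟩
        exact ⟨σ g X, (LinearMap.congr_fun (hQσ g) X).symm⟩ }
  have hc := isCharacter_character W.toRepresentation
  have he : W.toRepresentation.character = fun g => (ρ.character g * ρ.character g - ρ.character (g * g)) / 2 := by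
    funext g
    have hmem : ∀ X, (σ g * Q) X ∈ W.toSubmodule := fun X => ⟨σ g X, (LinearMap.congr_fun (hQσ g) X).symm⟩
    have h1 : W.toRepresentation g = (σ g * Q).restrict fun X _ => hmem X := by
      refine LinearMap.ext fun X => Subtype.ext ?_
      obtain ⟨Y, hY⟩ := X.2
      show σ g (X : Matrix (Fin n) (Fin n) ℂ) = σ g (Q (X : Matrix (Fin n) (Fin n) ℂ))
      rw [← hY, ← Module.End.mul_apply Q Q, hQQ]
    show LinearMap.trace ℂ _ (W.toRepresentation g) = _
    rw [h1, LinearMap.trace_restrict_eq_of_forall_mem _ _ hmem, hQ, mul_smul_comm, map_smul, mul_sub, mul_one,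
      map_sub, ← hτσ, hσ, trace_congr, hτ, trace_flip_congr, smul_eq_mul]
    ring
  exact he ▸ hc

end CfsgLib.Char
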