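import Cfsg.Agent.Lib.Char.Clifford
import Cfsg.Agent.Lib.Char.Kernel
import Cfsg.Agent.Lib.Char.Counting
import Cfsg.Agent.Lib.Char.Eigen
import Cfsg.Agent.Lib.Blocks.Idempotent
import Cfsg.Agent.Lib.Char.Extraspecial
import Cfsg.Prelude.Def_Blocks
import Cfsg.Prelude.Def_Solvable
import Cfsg.Agent.Lib.Signalizer.Setup

/-!
# The theorems of Broline and Garrison
-/

set_option autoImplicit false
set_option linter.unusedSectionVars false
set_option linter.style.haveILetI false

namespace CfsgLib.Char.Broline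

open Cfsg CfsgLib
open scoped ComplexConjugate CfsgLib.Char
open scoped _root_.Classical

universe u

variable {G : Type u} [Group G] [Fintype G]

/-- Constituents of a character share the kernel. -/
theorem constituent_value_eq {H : Type*} [Group H] [Fintype H] {φ : H → ℂ} (hφ : IsCharacter H φ)
    {x : H} (hx : φ x = φ 1) {θ : H → ℂ} (hθ : IsIrrCharacter H θ) (hne : classInner φ θ ≠ 0) :
    θ x = θ 1 := by
  obtain ⟨m, rfl⟩ := exists_multiplicities hφ
  have hne' := hne
  rw [classInner_sum_smul_irr (fun ξ => (m ξ : ℂ)) ⟨θ, hθ⟩, Nat.cast_ne_zero] at hne'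
  simp only [Finset.sum_apply, Pi.smul_apply, smul_eq_mul] at hx
  have hre : ∀ ξ : IrrCharacter H, ∀ y : H, ((ξ : H → ℂ) y).re ≤ ((ξ : H → ℂ) 1).re := fun ξ y => by
    obtain ⟨n, ρ, -, hρ⟩ := ξ.2
    rw [← hρ, Representation.char_one, Complex.natCast_re]
    exact (Complex.re_le_norm _).trans (norm_character_le ρ y)
  have hsum : ∑ ξ : IrrCharacter H, (m ξ : ℝ) * (((ξ : H → ℂ) 1).re - ((ξ : H → ℂ) x).re) = 0 := by
    have h1 := congrArg Complex.re hx
    simp only [Complex.re_sum, Complex.mul_re, Complex.natCast_re, Complex.natCast_im, zero_mul, sub_zero] at h1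
    simp only [mul_sub, Finset.sum_sub_distrib]
    linarith
  have h0 := (Finset.sum_eq_zero_iff_of_nonneg fun ξ _ =>
    mul_nonneg (Nat.cast_nonneg _) (sub_nonneg.mpr (hre ξ x))).mp hsum ⟨θ, hθ⟩ (Finset.mem_univ _)
  have hre' : (θ 1).re = (θ x).re :=
    sub_eq_zero.mp ((mul_eq_zero.mp h0).resolve_left (Nat.cast_ne_zero.mpr hne'))
  obtain ⟨n, ρ, -, rfl⟩ := hθ
  have h1 : (ρ.character 1).re = (Module.finrank ℂ (Fin n → ℂ) : ℝ) := by
    rw [Representation.char_one, Complex.natCast_re]
  have h2 : ‖ρ.character x‖ = (Module.finrank ℂ (Fin n → ℂ) : ℝ) :=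
    le_antisymm (norm_character_le ρ x) (by rw [← h1, hre']; exact Complex.re_le_norm _)
  have h3 : (ρ.character x).im = 0 := by
    have e := Complex.sq_norm (ρ.character x)
    rw [Complex.normSq_apply, h2, ← h1, hre'] at e
    nlinarith
  rw [Representation.char_one]
  refine Complex.ext ?_ ?_
  · rw [Complex.natCast_re, ← hre', h1]
  · rw [h3, Complex.natCast_im]

variable {χ : G → ℂ} {K M : Subgroup G} [K.Normal]

/-- Restriction to a supplement of the kernel is irreducible. -/
theorem isIrr_restrict [Fintype M] (hχ : IsIrrCharacter G χ) (hKc : ∀ k ∈ K, ∀ g, χ (k * g) = χ g)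
    (hKM : K ⊔ M = ⊤) : IsIrrCharacter M (fun m : M => χ m) := by
  refine isIrr_of_norm_one (isCharacter_restrict M (isCharacter_of_isIrr hχ)) ?_
  haveI : Fintype K := Fintype.ofFinite K
  have hcov : ∀ g : G, ∃ k ∈ K, ∃ m ∈ M, k * m = g := fun g =>
    Subgroup.mem_sup_of_normal_left.mp (hKM ▸ Subgroup.mem_top g)
  have hfib : ∀ g : G, (Finset.univ.filter fun p : K × M => (p.1 : G) * p.2 = g).card =
      Nat.card (K ⊓ M : Subgroup G) := by
    intro g
    obtain ⟨k, hk, m, hm, rfl⟩ := hcov g
    rw [← Fintype.card_subtype, ← Nat.card_eq_fintype_card]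
    refine Nat.card_congr ⟨fun p => ⟨k⁻¹ * (p.1.1 : G), ?_⟩,
      fun x => ⟨(⟨k * x, K.mul_mem hk x.2.1⟩, ⟨(x : G)⁻¹ * m, M.mul_mem (M.inv_mem x.2.2) hm⟩),
        by simp [mul_assoc]⟩, ?_, ?_⟩
    · refine ⟨K.mul_mem (K.inv_mem hk) p.1.1.2, ?_⟩
      have e : k⁻¹ * (p.1.1 : G) = m * (p.1.2 : G)⁻¹ := by
        rw [eq_mul_inv_iff_mul_eq, mul_assoc, p.2, inv_mul_cancel_left]
      rw [e]; exact M.mul_mem hm (M.inv_mem p.1.2.2)
    · rintro ⟨⟨a, b⟩, e⟩
      refine Subtype.ext (Prod.ext (Subtype.ext (by simp)) (Subtype.ext ?_))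
      show (k⁻¹ * (a : G))⁻¹ * m = b
      rw [mul_inv_rev, inv_inv, mul_assoc, ← e, inv_mul_cancel_left]
    · intro x; exact Subtype.ext (by simp)
  have h1 : ∑ p : K × M, χ ((p.1 : G) * p.2) * conj (χ ((p.1 : G) * p.2)) =
      (Nat.card (K ⊓ M : Subgroup G) : ℂ) * ∑ g : G, χ g * conj (χ g) := by
    rw [← Finset.sum_fiberwise (g := fun p : K × M => (p.1 : G) * p.2), Finset.mul_sum]
    refine Finset.sum_congr rfl fun g _ => ?_
    rw [Finset.sum_congr rfl (g := fun _ => χ g * conj (χ g)) fun p hp => by rw [(Finset.mem_filter.mp hp).2],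
      Finset.sum_const, hfib, nsmul_eq_mul]
  have h2 : ∑ p : K × M, χ ((p.1 : G) * p.2) * conj (χ ((p.1 : G) * p.2)) =
      (Nat.card K : ℂ) * ∑ m : M, χ m * conj (χ m) := by
    rw [Fintype.sum_prod_type, Finset.sum_congr rfl (g := fun _ => ∑ m : M, χ m * conj (χ m)) fun k _ =>
      Finset.sum_congr rfl fun m _ => by rw [hKc k k.2], Finset.sum_const, Finset.card_univ,
      ← Nat.card_eq_fintype_card, nsmul_eq_mul]
  have hnorm := classInner_irr_self hχ
  rw [classInner, inv_mul_eq_one₀ (Nat.cast_ne_zero.mpr Nat.card_pos.ne')] at hnorm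
  rw [h1, ← hnorm] at h2
  have hcard : (Nat.card (K ⊓ M : Subgroup G) : ℂ) * Nat.card G = (Nat.card K : ℂ) * Nat.card M := by
    have h3 : Fintype.card (K × M) = Nat.card (K ⊓ M : Subgroup G) * Nat.card G := by
      rw [← Finset.card_univ, Finset.card_eq_sum_card_fiberwise (f := fun p : K × M => (p.1 : G) * p.2)
        (t := Finset.univ) (fun _ _ => Finset.mem_univ _), Finset.sum_congr rfl fun g _ => hfib g,
        Finset.sum_const, Finset.card_univ, smul_eq_mul, Nat.card_eq_fintype_card (α := G), mul_comm]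
    rw [Fintype.card_prod, ← Nat.card_eq_fintype_card, ← Nat.card_eq_fintype_card] at h3
    exact_mod_cast h3.symm
  rw [hcard] at h2
  rw [classInner, inv_mul_eq_one₀ (Nat.cast_ne_zero.mpr Nat.card_pos.ne')]
  exact mul_left_cancel₀ (Nat.cast_ne_zero.mpr Nat.card_pos.ne') h2

/-- A larger character with smaller kernel, or all values of `χ` on `M` concentrate in the core. -/
theorem larger_or_core (hχ : IsIrrCharacter G χ) (hK : ∀ g, g ∈ K ↔ χ g = χ 1)
    (hKc : ∀ k ∈ K, ∀ g, χ (k * g) = χ g) (hM : IsCoatom M) (hKM : K ⊔ M = ⊤) :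
    (∃ ψ : IrrCharacter G, charDegree χ < charDegree (ψ : G → ℂ) ∧
        ∃ L : Subgroup G, (∀ g, g ∈ L ↔ (ψ : G → ℂ) g = (ψ : G → ℂ) 1) ∧ L < K) ∨
      ∀ m ∈ M, χ m ≠ 0 → m ∈ M.normalCore := by
  haveI : Fintype M := Fintype.ofFinite M
  have hθ := isIrr_restrict hχ hKc hKM
  have hθc := isCharacter_of_isIrr hθ
  obtain ⟨d, hd0, hd⟩ := exists_nat_degree_irr hχ
  obtain ⟨c, hc⟩ := exists_multiplicities (isCharacter_indFun M hθc)
  have hrec : ∀ ψ : IrrCharacter G,
      classInner (fun m : M => (ψ : G → ℂ) m) (fun m : M => χ m) = (c ψ : ℂ) := by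
    intro ψ
    rw [← frobenius_reciprocity' M (fun m : M => χ m) (isClassFunction_of_isCharacter (isCharacter_of_isIrr ψ.2)),
      ← classInner_conj_symm, hc, classInner_sum_smul_irr, map_natCast]
  choose g hg0 hg using fun ψ : IrrCharacter G => exists_nat_degree_irr ψ.2
  have key : ∀ ψ : IrrCharacter G, c ψ ≠ 0 → d ≤ g ψ ∧
      (g ψ = d → (c ψ = 1 ∧ ∀ m : M, (ψ : G → ℂ) m = χ m)) := by
    intro ψ hψ
    obtain ⟨e, he⟩ := exists_multiplicities (isCharacter_restrict M (isCharacter_of_isIrr ψ.2))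
    choose f hf0 hf using fun ξ : IrrCharacter M => exists_nat_degree_irr ξ.2
    have he0 : e ⟨_, hθ⟩ = c ψ := by
      have h := hrec ψ
      rw [he, classInner_sum_smul_irr (fun ξ => (e ξ : ℂ)) ⟨_, hθ⟩] at h
      exact_mod_cast h
    have hdeg := congrFun he 1
    simp only [Subgroup.coe_one, hg ψ, Finset.sum_apply, Pi.smul_apply, smul_eq_mul, hf] at hdeg
    have hdeg' : g ψ = ∑ ξ : IrrCharacter M, e ξ * f ξ := by exact_mod_cast hdeg
    have hfd : f ⟨_, hθ⟩ = d := by
      have h := hf ⟨_, hθ⟩
      simp only [Subgroup.coe_one, hd] at h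
      exact_mod_cast h.symm
    rw [← Finset.add_sum_erase _ _ (Finset.mem_univ (⟨_, hθ⟩ : IrrCharacter M)), he0, hfd] at hdeg'
    have h1 : d ≤ c ψ * d := Nat.le_mul_of_pos_left _ (Nat.pos_of_ne_zero hψ)
    refine ⟨hdeg' ▸ h1.trans (Nat.le_add_right _ _), fun hgd => ?_⟩
    have hc1 : c ψ = 1 := by
      by_contra hne
      have : 2 ≤ c ψ := by omega
      nlinarith [Nat.zero_le (∑ ξ ∈ Finset.univ.erase (⟨_, hθ⟩ : IrrCharacter M), e ξ * f ξ)]
    refine ⟨hc1, fun m => ?_⟩
    rw [hgd, hc1, one_mul] at hdeg'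
    have hrest := Finset.sum_eq_zero_iff.mp (by omega :
      ∑ ξ ∈ Finset.univ.erase (⟨_, hθ⟩ : IrrCharacter M), e ξ * f ξ = 0)
    have hm := congrFun he m
    simp only [Finset.sum_apply, Pi.smul_apply, smul_eq_mul] at hm
    rw [hm, Finset.sum_eq_single (⟨_, hθ⟩ : IrrCharacter M) (fun ξ hξ hne => by
      have := hrest ξ (Finset.mem_erase.mpr ⟨hne, hξ⟩)
      rw [(Nat.mul_eq_zero.mp this).resolve_right (hf0 ξ).ne', Nat.cast_zero, zero_mul])
      (fun h => absurd (Finset.mem_univ _) h), he0, hc1, Nat.cast_one, one_mul]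
  by_cases hbig : ∃ ψ : IrrCharacter G, c ψ ≠ 0 ∧ d < g ψ
  · obtain ⟨ψ, hψ, hlt⟩ := hbig
    left
    refine ⟨ψ, by rwa [Extraspecial.charDegree_eq hd, Extraspecial.charDegree_eq (hg ψ)], ?_⟩
    obtain ⟨L, hLn, hL, hLc⟩ := exists_kernel (isCharacter_of_isIrr ψ.2)
    refine ⟨L, hL, ?_⟩
    haveI := hLn
    have hLM : L ≤ M := by
      by_contra hnot
      have hsup : L ⊔ M = ⊤ := hM.2 _ (lt_of_le_of_ne le_sup_right fun e => hnot (e ▸ le_sup_left))
      have hirr := isIrr_restrict ψ.2 hLc hsup
      have h1 := hrec ψ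
      rw [classInner_irr hirr hθ] at h1
      split_ifs at h1 with e
      · have e1 := congrFun e 1
        simp only [Subgroup.coe_one, hg ψ, hd] at e1
        have : g ψ = d := by exact_mod_cast e1
        omega
      · exact hψ (by exact_mod_cast h1.symm)
    refine lt_of_le_of_ne (fun l hl => ?_) fun e => hM.1 (by
      rw [← hKM]
      exact (sup_eq_right.mpr (e ▸ hLM)).symm)
    have hne : classInner (fun m : M => (ψ : G → ℂ) m) (fun m : M => χ m) ≠ 0 := by
      rw [hrec]; exact Nat.cast_ne_zero.mpr hψ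
    have := constituent_value_eq (isCharacter_restrict M (isCharacter_of_isIrr ψ.2))
      (x := (⟨l, hLM hl⟩ : M)) ((hL l).mp hl) hθ hne
    exact (hK l).mpr this
  · right
    push Not at hbig
    intro m hm hne
    have hsumdeg : (∑ ψ : IrrCharacter G, c ψ * g ψ : ℕ) = M.index * d := by
      have h := congrFun hc 1
      simp only [indFun, inv_mul_cancel_left, mul_one, inv_mul_cancel, Finset.sum_apply, Pi.smul_apply,
        smul_eq_mul, hg, Finset.sum_const, Finset.card_univ, nsmul_eq_mul] at h
      rw [← Subgroup.coe_one M, extendByZero_coe, Subgroup.coe_one, hd, ← Nat.card_eq_fintype_card,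
        ← M.card_mul_index] at h
      push_cast at h
      rw [mul_assoc (Nat.card M : ℂ), inv_mul_cancel_left₀ (Nat.cast_ne_zero.mpr Nat.card_pos.ne')] at h
      exact_mod_cast h.symm
    have hgd : ∀ ψ, c ψ ≠ 0 → g ψ = d := fun ψ hψ => le_antisymm (hbig ψ hψ) (key ψ hψ).1
    have hval : indFun M (fun m : M => χ m) m = (M.index : ℂ) * χ m := by
      have h := congrFun hc m
      simp only [Finset.sum_apply, Pi.smul_apply, smul_eq_mul] at h
      have hcnt : (∑ ψ : IrrCharacter G, c ψ : ℕ) = M.index := by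
        refine Nat.eq_of_mul_eq_mul_right hd0 ?_
        rw [← hsumdeg, Finset.sum_mul]
        refine Finset.sum_congr rfl fun ψ _ => ?_
        by_cases hψ : c ψ = 0
        · simp [hψ]
        · rw [hgd ψ hψ]
      rw [h, ← hcnt, Nat.cast_sum, Finset.sum_mul]
      refine Finset.sum_congr rfl fun ψ _ => ?_
      by_cases hψ : c ψ = 0
      · simp [hψ]
      · rw [((key ψ hψ).2 (hgd ψ hψ)).2 ⟨m, hm⟩]
    simp only [indFun] at hval
    rw [Finset.sum_congr rfl (g := fun x : G => if x⁻¹ * m * x ∈ M then χ m else 0) fun x _ => by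
      split_ifs with hx
      · rw [show x⁻¹ * m * x = ((⟨_, hx⟩ : M) : G) from rfl, extendByZero_coe]
        have := isClassFunction_of_isCharacter (isCharacter_of_isIrr hχ) m x⁻¹
        rw [inv_inv] at this
        exact this
      · exact extendByZero_notMem M _ hx, ← Finset.sum_filter, Finset.sum_const, nsmul_eq_mul, ← mul_assoc] at hval
    have hcnt := mul_right_cancel₀ hne hval
    rw [inv_mul_eq_iff_eq_mul₀ (Nat.cast_ne_zero.mpr Nat.card_pos.ne')] at hcnt
    have hcnt' : (Finset.univ.filter fun x : G => x⁻¹ * m * x ∈ M).card = Nat.card G := by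
      rw [← M.card_mul_index]; exact_mod_cast hcnt
    rw [Nat.card_eq_fintype_card] at hcnt'
    intro x
    have hx := (Finset.eq_univ_of_card _ hcnt').symm ▸ Finset.mem_univ x⁻¹
    simpa using (Finset.mem_filter.mp hx).2

/-- A Sylow subgroup in a normal subgroup of `M` is normalized by something outside `M`. -/
theorem false_of_frattini {p : ℕ} [Fact p.Prime] {D Q : Subgroup G} [D.Normal] (hQD : Q ≤ D)
    (hDM : D ≤ M) (hQ : IsPGroup p Q) (hidx : ¬ p ∣ Q.relIndex D)
    (hNM : Subgroup.normalizer (Q : Set G) ≤ M) (hM : M ≠ ⊤) : False := by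
  let S : Sylow p D := (hQ.comap_of_injective D.subtype D.subtype_injective).toSylow hidx
  have h := Sylow.normalizer_sup_eq_top S
  rw [show ((S : Subgroup D).map D.subtype) = Q by
    rw [show (S : Subgroup D) = Q.subgroupOf D from rfl]; exact (Subgroup.subgroupOf_map_subtype Q D).trans (inf_eq_left.mpr hQD)] at h
  exact hM (eq_top_iff.mpr (h ▸ sup_le hNM hDM))

theorem broline (χ : IrrCharacter G) (K : Subgroup G) [K.Normal]
    (hK : ∀ g : G, g ∈ K ↔ (χ : G → ℂ) g = (χ : G → ℂ) 1)
    (h : ¬ K ≤ fittingSubgroup G ∨ (K = fittingSubgroup G ∧ Group.IsSolvable (G ⧸ K) ∧ K ≠ ⊤)) :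
    ∃ ψ : IrrCharacter G, charDegree (χ : G → ℂ) < charDegree (ψ : G → ℂ) ∧
      ∃ L : Subgroup G, (∀ g : G, g ∈ L ↔ (ψ : G → ℂ) g = (ψ : G → ℂ) 1) ∧ L < K := by
  obtain ⟨K', -, hK', hKc⟩ := exists_kernel (isCharacter_of_isIrr χ.2)
  obtain rfl : K = K' := Subgroup.ext fun g => (hK g).trans (hK' g).symm
  have hne : ∀ k ∈ K, (χ : G → ℂ) k ≠ 0 := fun k hk => (hK k).mp hk ▸ irr_degree_ne_zero χ.2
  have hsyl : ∀ H : Subgroup G, H.Normal → ¬ Group.IsNilpotent H →
      ∃ (p : ℕ) (_ : Fact p.Prime) (P : Sylow p H), ¬ (P : Subgroup H).Normal := by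
    intro H _ hH
    by_contra hall
    push Not at hall
    exact hH (((Group.isNilpotent_of_finite_tfae (G := H)).out 3 0 rfl rfl).mp fun p hp P => hall p hp P)
  have hcoat : ∀ {p : ℕ} [Fact p.Prime] (H : Subgroup G), H.Normal → ∀ P : Sylow p H,
      ¬ (P : Subgroup H).Normal → ∃ M : Subgroup G, IsCoatom M ∧
        Subgroup.normalizer (((P : Subgroup H).map H.subtype : Subgroup G) : Set G) ≤ M := by
    intro p _ H _ P hP
    refine (eq_top_or_exists_le_coatom _).resolve_left fun e => hP ?_
    have hn : ((P : Subgroup H).map H.subtype).Normal := Subgroup.normalizer_eq_top_iff.mp e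
    have := hn.comap H.subtype
    rwa [Subgroup.comap_map_eq_self_of_injective H.subtype_injective] at this
  rcases h with h | ⟨hKF, hsolv, hKtop⟩
  · -- the kernel is not nilpotent
    obtain ⟨p, hp, P, hP⟩ := hsyl K inferInstance fun hnil => h (Fitting.le_fittingSubgroup inferInstance hnil)
    haveI := hp
    obtain ⟨M, hM, hNM⟩ := hcoat K inferInstance P hP
    have hKM : K ⊔ M = ⊤ := eq_top_iff.mpr ((Sylow.normalizer_sup_eq_top P).ge.trans
      (sup_le (hNM.trans le_sup_right) le_sup_left))
    refine (larger_or_core χ.2 hK hKc hM hKM).resolve_right fun hcore => ?_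
    haveI := M.normalCore_normal
    haveI : (M.normalCore ⊓ K).Normal := Subgroup.normal_inf_normal _ _
    refine false_of_frattini (p := p) (Q := (P : Subgroup K).map K.subtype) (D := M.normalCore ⊓ K)
      (le_inf ?_ (Subgroup.map_subtype_le _)) (inf_le_left.trans M.normalCore_le) (P.isPGroup'.map _) ?_ hNM hM.1
    · exact fun x hx => hcore x (hNM (Subgroup.le_normalizer hx)) (hne x (Subgroup.map_subtype_le _ hx))
    · intro hd
      refine P.not_dvd_index ?_
      have e : ((P : Subgroup K).map K.subtype).relIndex K = (P : Subgroup K).index := by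
        rw [Subgroup.relIndex, Subgroup.subgroupOf, Subgroup.comap_map_eq_self_of_injective K.subtype_injective]
      rw [← e, ← Subgroup.relIndex_mul_relIndex _ _ K (le_inf (fun x hx =>
        hcore x (hNM (Subgroup.le_normalizer hx)) (hne x (Subgroup.map_subtype_le _ hx)))
          (Subgroup.map_subtype_le _)) inf_le_right]
      exact hd.trans (dvd_mul_right _ _)
  · -- the kernel is the Fitting subgroup
    have hlt : K < ⊤ := lt_top_iff_ne_top.mpr hKtop
    obtain ⟨L, ⟨hLn, hKL⟩, hmin⟩ := Set.Finite.exists_minimal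
      (Set.toFinite {L : Subgroup G | L.Normal ∧ K < L}) ⟨⊤, inferInstance, hlt⟩
    haveI := hLn
    have hmin' : ∀ N : Subgroup G, N.Normal → K ≤ N → N ≤ L → N = K ∨ N = L := fun N hN h1 h2 =>
      h1.lt_or_eq.elim (fun h => Or.inr (le_antisymm h2 (hmin ⟨hN, h⟩ h2))) (fun h => Or.inl h.symm)
    -- the quotient is elementary abelian
    have hcomm : ⁅L, L⁆ ≤ K := by
      rcases hmin' (K ⊔ ⁅L, L⁆) inferInstance le_sup_left (sup_le hKL.le (Subgroup.commutator_le_self L)) with e | e
      · exact e ▸ le_sup_right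
      exfalso
      set π := QuotientGroup.mk' K
      have hπ : ⁅L.map π, L.map π⁆ = L.map π := by
        rw [← Subgroup.map_commutator]
        conv_rhs => rw [← e, Subgroup.map_sup,
          show K.map π = ⊥ from (Subgroup.map_eq_bot_iff K).mpr (QuotientGroup.ker_mk' K).ge, bot_sup_eq]
      obtain ⟨n, hn⟩ := hsolv.solvable
      have hle : ∀ i : ℕ, L.map π ≤ derivedSeries (G ⧸ K) i := by
        intro i
        induction i with
        | zero => exact le_top
        | succ i ih => rw [← hπ, derivedSeries_succ]; exact Subgroup.commutator_mono ih ih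
      have hb := hle n
      rw [hn, le_bot_iff, Subgroup.map_eq_bot_iff, QuotientGroup.ker_mk'] at hb
      exact hKL.2 hb
    obtain ⟨q, hq, hqd⟩ := Nat.exists_prime_and_dvd (n := (K.subgroupOf L).index)
      (fun e => hKL.2 (Subgroup.relIndex_eq_one.mp e))
    haveI := Fact.mk hq
    haveI : (K.subgroupOf L).Normal := Subgroup.Normal.subgroupOf inferInstance L
    set π := QuotientGroup.mk' (K.subgroupOf L) with hπdef
    have hab : ∀ a b : L, π a * π b = π b * π a := fun a b => by
      rw [← commutatorElement_eq_one_iff_mul_comm, ← map_commutatorElement]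
      refine (QuotientGroup.eq_one_iff _).mpr ?_
      exact Subgroup.mem_subgroupOf.mpr (hcomm (Subgroup.commutator_mem_commutator a.2 b.2))
    let T : Subgroup G :=
      { carrier := {x | ∃ hx : x ∈ L, π ⟨x, hx⟩ ^ q = 1}
        one_mem' := ⟨L.one_mem, by rw [show (⟨1, L.one_mem⟩ : L) = 1 from rfl, map_one, one_pow]⟩
        mul_mem' := by
          rintro a b ⟨ha, ha'⟩ ⟨hb, hb'⟩
          exact ⟨L.mul_mem ha hb, by
            rw [show (⟨a * b, L.mul_mem ha hb⟩ : L) = ⟨a, ha⟩ * ⟨b, hb⟩ from rfl, map_mul,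
              (show Commute (π ⟨a, ha⟩) (π ⟨b, hb⟩) from hab _ _).mul_pow, ha', hb', one_mul]⟩
        inv_mem' := by
          rintro a ⟨ha, ha'⟩
          exact ⟨L.inv_mem ha, by
            rw [show (⟨a⁻¹, L.inv_mem ha⟩ : L) = (⟨a, ha⟩ : L)⁻¹ from rfl, map_inv, inv_pow, ha', inv_one]⟩ }
    have hTn : T.Normal := ⟨fun x hx g => by
      obtain ⟨hxL, hxq⟩ := hx
      refine ⟨hLn.conj_mem x hxL g, ?_⟩
      rw [← map_pow, hπdef, QuotientGroup.mk'_apply, QuotientGroup.eq_one_iff, Subgroup.mem_subgroupOf] at hxq ⊢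
      rw [Subgroup.coe_pow] at hxq ⊢
      rw [conj_pow]
      exact (‹K.Normal›).conj_mem _ hxq g⟩
    have hT : T = L := by
      refine (hmin' T hTn (fun k hk => ⟨hKL.le hk, ?_⟩) (fun x hx => hx.1)).resolve_left fun e => ?_
      · rw [show π ⟨k, hKL.le hk⟩ = 1 from (QuotientGroup.eq_one_iff _).mpr (Subgroup.mem_subgroupOf.mpr hk), one_pow]
      · obtain ⟨y, hy⟩ := exists_prime_orderOf_dvd_card' (G := L ⧸ K.subgroupOf L) q
          (by rwa [← Subgroup.index_eq_card])
        obtain ⟨y, rfl⟩ := QuotientGroup.mk'_surjective (K.subgroupOf L) y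
        have hyT : (y : G) ∈ T := ⟨y.2, by rw [← hy]; exact pow_orderOf_eq_one _⟩
        rw [e] at hyT
        rw [show QuotientGroup.mk' (K.subgroupOf L) y = 1 from (QuotientGroup.eq_one_iff y).mpr (Subgroup.mem_subgroupOf.mpr hyT), orderOf_one] at hy
        exact hq.one_lt.ne hy
    have hLq : IsPGroup q (L ⧸ K.subgroupOf L) := fun y => by
      obtain ⟨y, rfl⟩ := QuotientGroup.mk'_surjective (K.subgroupOf L) y
      obtain ⟨h1, h2⟩ : (y : G) ∈ T := hT.symm ▸ y.2
      exact ⟨1, by rw [pow_one]; exact h2⟩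
    have hLnil : ¬ Group.IsNilpotent L := fun hnil =>
      hKL.2 (hKF ▸ Fitting.le_fittingSubgroup inferInstance hnil)
    obtain ⟨p, hp, P, hP⟩ := hsyl L inferInstance hLnil
    haveI := hp
    obtain ⟨M, hM, hNM⟩ := hcoat L inferInstance P hP
    set Q := (P : Subgroup L).map L.subtype with hQ
    have hQL : Q ≤ L := Subgroup.map_subtype_le _
    have hQidx : Q.relIndex L = (P : Subgroup L).index := by
      rw [hQ, Subgroup.relIndex, Subgroup.subgroupOf, Subgroup.comap_map_eq_self_of_injective L.subtype_injective]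
    have hKQ : L ≤ K ⊔ Q := by
      by_cases hpq : p = q
      · subst hpq
        rw [← Subgroup.relIndex_eq_one]
        obtain ⟨a, ha⟩ := IsPGroup.iff_card.mp hLq
        have h1 : (K ⊔ Q).relIndex L ∣ p ^ a := by
          rw [← ha, ← Subgroup.index_eq_card]
          exact Subgroup.relIndex_dvd_of_le_left L le_sup_left
        have h2 : (K ⊔ Q).relIndex L ∣ (P : Subgroup L).index :=
          hQidx ▸ Subgroup.relIndex_dvd_of_le_left L le_sup_right
        exact Nat.eq_one_of_dvd_coprimes
          ((hp.out.coprime_iff_not_dvd.mpr P.not_dvd_index).pow_left a) h1 h2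
      · exfalso
        -- otherwise the Sylow subgroup lies in the nilpotent kernel
        have hQK : Q ≤ K := by
          rintro _ ⟨x, hx, rfl⟩
          obtain ⟨a, ha⟩ := IsPGroup.iff_orderOf.mp P.isPGroup' ⟨x, hx⟩
          obtain ⟨b, hb⟩ := IsPGroup.iff_orderOf.mp hLq (π x)
          rw [← Subgroup.orderOf_coe] at ha
          have h1 : orderOf (π x) ∣ p ^ a := ha ▸ orderOf_map_dvd π x
          have h2 : π x = 1 := orderOf_eq_one_iff.mp (Nat.eq_one_of_dvd_coprimes
            (((Nat.coprime_primes hp.out hq).mpr hpq).pow a b) h1 hb.dvd)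
          exact Subgroup.mem_subgroupOf.mp ((QuotientGroup.eq_one_iff x).mp h2)
        haveI hKnil : Group.IsNilpotent K := hKF ▸ Fitting.fittingSubgroup_isNilpotent
        have hidx : ¬ p ∣ (Q.subgroupOf K).index := fun hd => P.not_dvd_index (by
          rw [← hQidx, ← Subgroup.relIndex_mul_relIndex Q K L hQK hKL.le]
          exact hd.trans (dvd_mul_right _ _))
        let S : Sylow p K := ((P.isPGroup'.map L.subtype).comap_of_injective K.subtype K.subtype_injective).toSylow hidx
        have hSn : (S : Subgroup K).Normal := inferInstance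
        haveI := Sylow.characteristic_of_normal S hSn
        have hn : ((S : Subgroup K).map K.subtype).Normal := ConjAct.normal_of_characteristic_of_normal
        rw [show ((S : Subgroup K).map K.subtype) = Q by
          rw [show (S : Subgroup K) = Q.subgroupOf K from rfl]; exact (Subgroup.subgroupOf_map_subtype Q K).trans (inf_eq_left.mpr hQK)] at hn
        exact hM.1 (eq_top_iff.mpr ((Subgroup.normalizer_eq_top_iff.mpr hn).ge.trans hNM))
    have hQM : Q ≤ M := Subgroup.le_normalizer.trans hNM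
    have hKM : K ⊔ M = ⊤ := eq_top_iff.mpr ((Sylow.normalizer_sup_eq_top P).ge.trans
      (sup_le (hNM.trans le_sup_right) (hKQ.trans (sup_le_sup_left hQM K))))
    refine (larger_or_core χ.2 hK hKc hM hKM).resolve_right fun hcore => ?_
    haveI := M.normalCore_normal
    haveI : (M.normalCore ⊓ L).Normal := Subgroup.normal_inf_normal _ _
    rcases hmin' (K ⊔ (M.normalCore ⊓ L)) inferInstance le_sup_left (sup_le hKL.le inf_le_right) with e | e
    · -- the character vanishes on `L` outside `K`
      haveI : Fintype L := Fintype.ofFinite L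
      have hvan : ∀ l ∈ L, l ∉ K → (χ : G → ℂ) l = 0 := by
        intro l hl hlK
        obtain ⟨k, hk, m, hm, rfl⟩ := Subgroup.mem_sup_of_normal_left.mp (hKM ▸ Subgroup.mem_top l)
        by_contra hne'
        rw [hKc k hk] at hne'
        refine hlK (K.mul_mem hk (e ▸ Subgroup.mem_sup_right ⟨hcore m hm hne', ?_⟩))
        exact (L.mul_mem_cancel_left (hKL.le hk)).mp hl
      have htriv : classInner (fun l : L => (χ : G → ℂ) l) (fun _ => (1 : ℂ)) ≠ 0 := by
        simp only [classInner, map_one, mul_one]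
        refine mul_ne_zero (inv_ne_zero (Nat.cast_ne_zero.mpr Nat.card_pos.ne')) ?_
        rw [Finset.sum_congr rfl (g := fun l : L => if (l : G) ∈ K then (χ : G → ℂ) 1 else 0) fun l _ => by
          split_ifs with hlK
          · exact (hK _).mp hlK
          · exact hvan l l.2 hlK, ← Finset.sum_filter, Finset.sum_const, nsmul_eq_mul]
        refine mul_ne_zero (Nat.cast_ne_zero.mpr (Finset.card_ne_zero.mpr ⟨1, ?_⟩)) (irr_degree_ne_zero χ.2)
        simp
      have hone : IsIrrCharacter L (fun _ => (1 : ℂ)) := (Blocks.trivIrr L).2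
      have hres := clifford_invariant L χ.2 hone (fun g => rfl) htriv
      refine hKL.2 fun l hl => (hK l).mpr ?_
      have e1 := congrFun hres ⟨l, hl⟩
      have e2 := congrFun hres 1
      simp only [Pi.smul_apply, Subgroup.coe_one] at e1 e2
      rw [e1, e2]
    · refine false_of_frattini (p := p) (Q := Q) (D := M.normalCore ⊓ L) (le_inf (fun x hx => ?_) hQL)
        (inf_le_left.trans M.normalCore_le) (P.isPGroup'.map _) ?_ hNM hM.1
      · obtain ⟨k, hk, c, hc, rfl⟩ := Subgroup.mem_sup_of_normal_left.mp (e.symm ▸ hQL hx)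
        have hcM := M.normalCore_le hc.1
        have hkM : k ∈ M := (M.mul_mem_cancel_right hcM).mp (hQM hx)
        exact M.normalCore.mul_mem (hcore k hkM (hne k hk)) hc.1
      · intro hd
        refine P.not_dvd_index ?_
        rw [← hQidx, ← Subgroup.relIndex_mul_relIndex Q (M.normalCore ⊓ L) L (le_inf (fun x hx => by
          obtain ⟨k, hk, c, hc, rfl⟩ := Subgroup.mem_sup_of_normal_left.mp (e.symm ▸ hQL hx)
          have hcM := M.normalCore_le hc.1
          have hkM : k ∈ M := (M.mul_mem_cancel_right hcM).mp (hQM hx)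
          exact M.normalCore.mul_mem (hcore k hkM (hne k hk)) hc.1) hQL) inf_le_right]
        exact hd.trans (dvd_mul_right _ _)

/-- The degree set. -/
noncomputable def degs (G : Type u) [Group G] [Finite G] : Finset ℕ :=
  haveI : Fintype G := Fintype.ofFinite G
  Finset.univ.image fun χ : IrrCharacter G => charDegree (χ : G → ℂ)

/-- Garrison: at most as many nilpotent layers as degrees. -/
theorem garrison (n : ℕ) : ∀ (G : Type u) [Group G] [Finite G], Group.IsSolvable G → (degs G).card ≤ n →
    ∃ N : Fin (n + 1) → Subgroup G, N 0 = ⊥ ∧ N (Fin.last n) = ⊤ ∧ Monotone N ∧ (∀ i, (N i).Normal) ∧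
      ∀ i : Fin n, ∀ _h : ((N i.castSucc).subgroupOf (N i.succ)).Normal,
        Group.IsNilpotent (↥(N i.succ) ⧸ (N i.castSucc).subgroupOf (N i.succ)) := by
  induction n with
  | zero =>
    intro G _ _ _ hdeg
    haveI : Fintype G := Fintype.ofFinite G
    exfalso
    have : charDegree (Blocks.trivIrr G : G → ℂ) ∈ degs G := Finset.mem_image_of_mem _ (Finset.mem_univ _)
    rw [Finset.card_eq_zero.mp (Nat.le_zero.mp hdeg)] at this
    exact absurd this (Finset.notMem_empty _)
  | succ n ih =>
    intro G _ _ hsolv hdeg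
    haveI : Fintype G := Fintype.ofFinite G
    set F := fittingSubgroup G with hF
    haveI hFnil : Group.IsNilpotent F := Fitting.fittingSubgroup_isNilpotent
    haveI hFn : F.Normal := Fitting.fittingSubgroup_normal
    by_cases hFtop : F = ⊤
    · refine ⟨fun i => if i = 0 then ⊥ else ⊤, by simp, by simp [Fin.last], ?_, ?_, ?_⟩
      · intro i j hij
        by_cases hi : i = 0
        · simp [hi]
        · have hj : j ≠ 0 := fun e => hi (Fin.le_zero_iff.mp (e ▸ hij))
          simp [hi, hj]
      · intro i; dsimp only; split_ifs <;> infer_instance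
      · intro i _
        have hnil : Group.IsNilpotent (⊤ : Subgroup G) := hFtop ▸ hFnil
        haveI : Group.IsNilpotent ↥((fun i : Fin (n + 1 + 1) => if i = 0 then (⊥ : Subgroup G) else ⊤) i.succ) := by
          simp only [Fin.succ_ne_zero, if_false]; exact hnil
        exact Group.nilpotent_quotient_of_nilpotent _
    haveI : Group.IsSolvable (G ⧸ F) := inferInstance
    have hsub : (degs (G ⧸ F)).card ≤ n := by
      haveI : Fintype (G ⧸ F) := Fintype.ofFinite _
      have hne : (degs G).Nonempty := ⟨_, Finset.mem_image_of_mem _ (Finset.mem_univ (Blocks.trivIrr G))⟩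
      set b := (degs G).max' hne
      have hsub' : degs (G ⧸ F) ⊆ (degs G).erase b := by
        intro d hd
        obtain ⟨θ, -, rfl⟩ := Finset.mem_image.mp hd
        let χ : IrrCharacter G := ⟨_, Blocks.isIrrCharacter_comp_of_surjective θ.2 (QuotientGroup.mk' F)
          (QuotientGroup.mk'_surjective F)⟩
        have hdχ : charDegree (χ : G → ℂ) = charDegree (θ : G ⧸ F → ℂ) := by
          simp only [χ, charDegree, Function.comp_apply, map_one]
        refine Finset.mem_erase.mpr ⟨fun e => ?_, hdχ ▸ Finset.mem_image_of_mem _ (Finset.mem_univ χ)⟩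
        obtain ⟨K, hKn, hK, -⟩ := exists_kernel (isCharacter_of_isIrr χ.2)
        haveI := hKn
        have hFK : F ≤ K := fun x hx => (hK x).mpr (by
          show (θ : G ⧸ F → ℂ) (QuotientGroup.mk' F x) = (θ : G ⧸ F → ℂ) (QuotientGroup.mk' F 1)
          rw [map_one, show QuotientGroup.mk' F x = 1 from (QuotientGroup.eq_one_iff x).mpr hx])
        have hcase : ¬ K ≤ fittingSubgroup G ∨ (K = fittingSubgroup G ∧ Group.IsSolvable (G ⧸ K) ∧ K ≠ ⊤) := by
          by_cases hKF : K ≤ fittingSubgroup G
          · exact Or.inr ⟨le_antisymm hKF hFK, inferInstance, fun e => hFtop (le_antisymm le_top (e ▸ hKF))⟩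
          · exact Or.inl hKF
        obtain ⟨ψ, hψ, -⟩ := broline χ K hK hcase
        rw [hdχ, e] at hψ
        exact not_lt.mpr (Finset.le_max' _ _ (Finset.mem_image_of_mem _ (Finset.mem_univ ψ))) hψ
      have h1 := Finset.card_le_card hsub'
      rw [Finset.card_erase_of_mem ((degs G).max'_mem hne)] at h1
      omega
    obtain ⟨N, h0, hlast, hmono, hnorm, hnil⟩ := ih (G ⧸ F) inferInstance hsub
    set π := QuotientGroup.mk' F
    refine ⟨Fin.cases ⊥ fun i => (N i).comap π, rfl, ?_, ?_, ?_, ?_⟩
    · rw [← Fin.succ_last]; simp only [Fin.cases_succ]; rw [hlast, Subgroup.comap_top]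
    · intro i j hij
      induction i using Fin.cases with
      | zero => exact bot_le
      | succ i =>
        induction j using Fin.cases with
        | zero => exact absurd hij (by simp [Fin.le_iff_val_le_val])
        | succ j => simp only [Fin.cases_succ]; exact Subgroup.comap_mono (hmono (Fin.succ_le_succ_iff.mp hij))
    · intro i
      induction i using Fin.cases with
      | zero => exact (inferInstance : (⊥ : Subgroup G).Normal)
      | succ i => simp only [Fin.cases_succ]; exact (hnorm i).comap π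
    · intro i
      induction i using Fin.cases with
      | zero =>
        simp only [Fin.castSucc_zero, Fin.cases_zero, Fin.cases_succ]
        intro _
        haveI : Group.IsNilpotent ((N 0).comap π) := by
          rw [h0, MonoidHom.comap_bot, QuotientGroup.ker_mk']; exact hFnil
        exact Group.nilpotent_quotient_of_nilpotent _
      | succ i =>
        simp only [Fin.castSucc_succ, Fin.cases_succ]
        intro hn'
        haveI : (((N i.castSucc).comap π).subgroupOf ((N i.succ).comap π)).Normal := ((hnorm i.castSucc).comap π).subgroupOf _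
        haveI hnA : ((N i.castSucc).subgroupOf (N i.succ)).Normal := (hnorm i.castSucc).subgroupOf _
        haveI := hnil i hnA
        let f : ((N i.succ).comap π) →* N i.succ := (π.comp ((N i.succ).comap π).subtype).codRestrict (N i.succ) fun a => a.2
        let g : (↥((N i.succ).comap π) ⧸ ((N i.castSucc).comap π).subgroupOf ((N i.succ).comap π)) →*
            (↥(N i.succ) ⧸ (N i.castSucc).subgroupOf (N i.succ)) :=
          QuotientGroup.map _ _ f (fun a ha => ha)
        refine @Subgroup.isNilpotent_of_ker_le_center _ (QuotientGroup.Quotient.group _) _ _ g ?_ inferInstance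
        intro y hy
        obtain ⟨y, rfl⟩ := QuotientGroup.mk'_surjective _ y
        have hy' : f y ∈ (N i.castSucc).subgroupOf (N i.succ) := (QuotientGroup.eq_one_iff _).mp hy
        rw [show QuotientGroup.mk' (((N i.castSucc).comap π).subgroupOf ((N i.succ).comap π)) y = 1 from
          (QuotientGroup.eq_one_iff y).mpr hy']
        exact Subgroup.one_mem _

end CfsgLib.Char.Broline
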