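import Cfsg.Agent.Lib.Char.ExtendChar
import Cfsg.Agent.Lib.Char.Twist

/-!
# The canonical extension for a cyclic coprime action

`N` is normal in `Γ = N⟨s⟩` with `orderOf s` prime to `|N|`. An invariant irreducible character of
`N` has exactly one extension whose determinant is `1` at `s`; this condition is the coprimality
of the determinantal order, and it makes the extension invariant under Galois twists fixing `N`.
-/

set_option autoImplicit false
set_option linter.unusedSectionVars false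

namespace CfsgLib.Char

open Cfsg
open scoped ComplexConjugate CfsgLib.Char

section PowerSums

/-- Families of `m`-th roots of unity with equal power sums have equal products. -/
theorem prod_eq_of_power_sums {ι κ : Type*} [Fintype ι] [Fintype κ] {m : ℕ} (hm : m ≠ 0)
    (μ : ι → ℂ) (ν : κ → ℂ) (hμ : ∀ i, μ i ^ m = 1) (hν : ∀ i, ν i ^ m = 1)
    (h : ∀ k : ℕ, ∑ i, μ i ^ k = ∑ i, ν i ^ k) : ∏ i, μ i = ∏ i, ν i := by
  classical
  have hmc : (m : ℂ) ≠ 0 := Nat.cast_ne_zero.mpr hm
  have key : ∀ z w : ℂ, z ^ m = 1 → w ^ m = 1 →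
      ∑ k ∈ Finset.range m, (w * z⁻¹) ^ k = if w = z then (m : ℂ) else 0 := by
    intro z w hz hw
    have hz0 : z ≠ 0 := fun e => by rw [e, zero_pow hm] at hz; exact zero_ne_one hz
    split_ifs with he
    · rw [he, mul_inv_cancel₀ hz0]; simp
    · rw [geom_sum_eq (fun e => he (by
        have := congrArg (· * z) e
        simpa [hz0] using this)), mul_pow, inv_pow, hz, hw]
      simp
  have cnt : ∀ z : ℂ, z ^ m = 1 →
      (Finset.univ.filter fun i => μ i = z).card = (Finset.univ.filter fun i => ν i = z).card := by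
    intro z hz
    have e1 : ∑ k ∈ Finset.range m, (∑ i, μ i ^ k) * z⁻¹ ^ k =
        (Finset.univ.filter fun i => μ i = z).card * (m : ℂ) := by
      simp only [Finset.sum_mul, ← mul_pow]
      rw [Finset.sum_comm, Finset.sum_congr rfl fun i _ => key z (μ i) hz (hμ i),
        ← Finset.sum_filter, Finset.sum_const, nsmul_eq_mul]
    have e2 : ∑ k ∈ Finset.range m, (∑ i, ν i ^ k) * z⁻¹ ^ k =
        (Finset.univ.filter fun i => ν i = z).card * (m : ℂ) := by
      simp only [Finset.sum_mul, ← mul_pow]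
      rw [Finset.sum_comm, Finset.sum_congr rfl fun i _ => key z (ν i) hz (hν i),
        ← Finset.sum_filter, Finset.sum_const, nsmul_eq_mul]
    simp only [h] at e1
    exact_mod_cast mul_right_cancel₀ hmc (e1.symm.trans e2)
  set T := Finset.univ.image μ ∪ Finset.univ.image ν with hT
  have hTm : ∀ z ∈ T, z ^ m = 1 := by
    intro z hz
    rcases Finset.mem_union.mp hz with h1 | h1 <;>
      · obtain ⟨i, -, rfl⟩ := Finset.mem_image.mp h1
        first | exact hμ i | exact hν i
  rw [← Finset.prod_fiberwise_of_maps_to (t := T) (g := μ)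
      (fun i hi => Finset.mem_union_left _ (Finset.mem_image_of_mem _ hi)),
    ← Finset.prod_fiberwise_of_maps_to (t := T) (g := ν)
      (fun i hi => Finset.mem_union_right _ (Finset.mem_image_of_mem _ hi))]
  refine Finset.prod_congr rfl fun z hz => ?_
  rw [Finset.prod_congr rfl (g := fun _ => z) (fun i hi => (Finset.mem_filter.mp hi).2),
    Finset.prod_congr rfl (s₁ := Finset.univ.filter fun i => ν i = z) (g := fun _ => z)
      (fun i hi => (Finset.mem_filter.mp hi).2), Finset.prod_const, Finset.prod_const,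
    cnt z (hTm z hz)]

variable {G : Type*} [Group G] [Finite G]

/-- Determinants commute with twisting by power maps of exponent prime to the order. -/
theorem detChar_pow {χ : G → ℂ} (hχ : IsCharacter G χ) {k : ℕ} (hk : k.Coprime (Nat.card G))
    (g : G) : detChar (fun x => χ (x ^ k)) g = detChar χ g ^ k := by
  classical
  obtain ⟨d', σ', hσ'⟩ := isCharacter_pow hk hχ
  obtain ⟨d, σ, rfl⟩ := hχ
  rw [← hσ', detChar_character, detChar_character]
  obtain ⟨b, μ, h1, h2⟩ := exists_eigenBasis σ g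
  obtain ⟨b', ν, h1', h2'⟩ := exists_eigenBasis σ' g
  have hdet : ∀ {n : ℕ} (τ : Representation ℂ G (Fin n → ℂ))
      (b : Module.Basis (Fin (Module.finrank ℂ (Fin n → ℂ))) ℂ (Fin n → ℂ))
      (μ : Fin (Module.finrank ℂ (Fin n → ℂ)) → ℂ), (∀ (i) (k : ℕ), τ (g ^ k) (b i) = μ i ^ k • b i) →
      (detHom τ g : ℂ) = ∏ i, μ i := by
    intro n τ b μ h
    rw [detHom_apply, ← LinearMap.det_toMatrix b]
    have e : LinearMap.toMatrix b b (τ g) = Matrix.diagonal μ := by
      ext i j
      rw [LinearMap.toMatrix_apply, ← pow_one g, h j 1]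
      by_cases hij : i = j
      · subst hij; simp
      · simp [Ne.symm hij, hij]
    rw [e, Matrix.det_diagonal]
  dsimp only
  rw [hdet σ' b' ν h2', hdet σ b μ h2, ← Finset.prod_pow]
  refine prod_eq_of_power_sums (orderOf_pos g).ne' ν (fun i => μ i ^ k) h1'
    (fun i => by rw [← pow_mul, mul_comm, pow_mul, h1, one_pow]) fun l => ?_
  have e1 : σ'.character (g ^ l) = ∑ i, ν i ^ l := trace_eq_sum_of_diag b' _ _ fun i => h2' i l
  have e2 : σ.character ((g ^ l) ^ k) = ∑ i, (μ i ^ k) ^ l := by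
    rw [← pow_mul]
    refine (trace_eq_sum_of_diag b _ _ fun i => h2 i (l * k)).trans ?_
    exact Finset.sum_congr rfl fun i _ => by rw [← pow_mul, mul_comm]
  rw [← e1, ← e2, congrFun hσ']

end PowerSums

namespace Canonical

variable {Γ : Type*} [Group Γ] [Fintype Γ] {N : Subgroup Γ} [hN : N.Normal] {s : Γ}
  (htop : N ⊔ Subgroup.zpowers s = ⊤) (hcop : (Nat.card N).Coprime (orderOf s))

include htop in
theorem exists_eq_mul_zpow (g : Γ) : ∃ n ∈ N, ∃ i : ℤ, g = n * s ^ i := by
  have hg : g ∈ N ⊔ Subgroup.zpowers s := htop ▸ Subgroup.mem_top g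
  obtain ⟨n, hn, y, hy, e⟩ := Subgroup.mem_sup_of_normal_left.mp hg
  obtain ⟨i, rfl⟩ := Subgroup.mem_zpowers_iff.mp hy
  exact ⟨n, hn, i, e.symm⟩

/-- The invariance of a character of `N` only has to be tested at `s`. -/
theorem invariant_of_fixed (htop : N ⊔ Subgroup.zpowers s = ⊤) {θ : N → ℂ}
    (hθ : IsClassFunction N θ) (h : conjBy N θ s = θ) (g : Γ) : conjBy N θ g = θ := by
  have hle : N ⊔ Subgroup.zpowers s ≤ inertia N θ :=
    sup_le (le_inertia N hθ) (Subgroup.zpowers_le.mpr h)
  rw [htop] at hle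
  exact hle (Subgroup.mem_top g)

include htop in
/-- A linear character with trivial restriction to `N` is determined at `s`. -/
theorem hom_eq_one {β : Γ →* ℂˣ} (hβ : ∀ n : N, β n = 1) (hs : β s = 1) : β = 1 :=
  MonoidHom.ext fun g => by
    obtain ⟨n, hn, i, rfl⟩ := exists_eq_mul_zpow htop g
    rw [map_mul, map_zpow, hs, hβ ⟨n, hn⟩, one_zpow, one_mul, MonoidHom.one_apply]

include htop hcop in
theorem exists_hom {z : ℂˣ} (hz : z ^ orderOf s = 1) :
    ∃ β : Γ →* ℂˣ, (∀ n : N, β n = 1) ∧ β s = z := by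
  set q := QuotientGroup.mk' N with hq
  have hgen : ∀ x : Γ ⧸ N, x ∈ Subgroup.zpowers (q s) := by
    intro x
    obtain ⟨g, rfl⟩ := QuotientGroup.mk'_surjective N x
    obtain ⟨n, hn, i, rfl⟩ := exists_eq_mul_zpow htop g
    refine Subgroup.mem_zpowers_iff.mpr ⟨i, ?_⟩
    rw [map_mul, map_zpow, show QuotientGroup.mk' N n = 1 from (QuotientGroup.eq_one_iff n).mpr hn,
      one_mul]
  have hord : orderOf s ∣ orderOf (q s) := by
    have h1 : s ^ orderOf (q s) ∈ N := by
      rw [← QuotientGroup.eq_one_iff, QuotientGroup.mk_pow]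
      exact pow_orderOf_eq_one (q s)
    rw [orderOf_dvd_iff_pow_eq_one, ← orderOf_eq_one_iff]
    refine Nat.eq_one_of_dvd_coprimes hcop (Subgroup.orderOf_dvd_natCard _ h1) ?_
    exact orderOf_pow_dvd _
  refine ⟨(monoidHomOfForallMemZpowers hgen (g' := z)
    ((orderOf_dvd_of_pow_eq_one hz).trans hord)).comp q, fun n => ?_, ?_⟩
  · rw [MonoidHom.comp_apply, show q (n : Γ) = 1 from (QuotientGroup.eq_one_iff (n : Γ)).mpr n.2,
      map_one]
  · rw [MonoidHom.comp_apply, monoidHomOfForallMemZpowers_apply_gen]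

/-- An extension with determinant `1` at the generator. -/
def IsCanonical (N : Subgroup Γ) (s : Γ) (θ : N → ℂ) (η : Γ → ℂ) : Prop :=
  IsIrrCharacter Γ η ∧ (∀ n : N, η n = θ n) ∧ detChar η s = 1

variable {θ : N → ℂ}

omit [Fintype Γ] hN in
theorem det_pow_eq_one [Finite Γ] {η : Γ → ℂ} (hη : IsCharacter Γ η) :
    detChar η s ^ orderOf s = 1 := by
  obtain ⟨f, hf⟩ := exists_det_hom hη
  rw [hf]
  have := congrArg Units.val (show f s ^ orderOf s = 1 by rw [← map_pow, pow_orderOf_eq_one, map_one])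
  simpa using this

include htop hcop in
theorem exists_canonical (hθ : IsIrrCharacter N θ) (hinv : conjBy N θ s = θ) :
    ∃ η, IsCanonical N s θ η := by
  haveI := Fintype.ofFinite N
  have hinv' := invariant_of_fixed htop (isClassFunction_of_isCharacter (isCharacter_of_isIrr hθ)) hinv
  have hcyc : IsCyclic (Γ ⧸ N) := ⟨⟨QuotientGroup.mk' N s, fun x => by
    obtain ⟨g, rfl⟩ := QuotientGroup.mk'_surjective N x
    obtain ⟨n, hn, i, rfl⟩ := exists_eq_mul_zpow htop g
    refine Subgroup.mem_zpowers_iff.mpr ⟨i, ?_⟩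
    rw [map_mul, map_zpow, QuotientGroup.mk'_apply N n, (QuotientGroup.eq_one_iff n).mpr hn,
      one_mul]⟩⟩
  obtain ⟨η, hη, hext⟩ := extends_of_cyclic N hθ hinv' hcyc
  obtain ⟨d, hd, hd0, hdvd⟩ := exists_degree_dvd_card hθ
  have hdm : d.Coprime (orderOf s) := hcop.coprime_dvd_left hdvd
  have hη' := isCharacter_of_isIrr hη
  obtain ⟨f, hf⟩ := exists_det_hom hη'
  have hfs : f s ^ orderOf s = 1 := by rw [← map_pow, pow_orderOf_eq_one, map_one]
  obtain ⟨e, he⟩ := exists_pow_eq_self_of_coprime (x := f s)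
    (hdm.coprime_dvd_right (orderOf_dvd_of_pow_eq_one hfs))
  obtain ⟨β, hβN, hβs⟩ := exists_hom htop hcop (z := (f s ^ e)⁻¹) (by
    rw [inv_pow, ← pow_mul, mul_comm, pow_mul, hfs, one_pow, inv_one])
  refine ⟨fun g => (β g : ℂ) * η g, ?_, fun n => ?_, ?_⟩
  · refine isIrr_of_restrict N (isCharacter_mul (isCharacter_monoidHom β) hη') ?_
    rw [show (fun n : N => ((β n : ℂˣ) : ℂ) * η n) = θ from
      funext fun n => by simp [hβN n, hext n]]
    exact hθ
  · simp [hβN n, hext n]
  · have h1 : η 1 = (d : ℂ) := (hext 1).trans hd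
    rw [detChar_linear_mul hη' β d h1, hf]
    simp only [hβs]
    have h2 : ((f s ^ e)⁻¹) ^ d * f s = 1 := by
      rw [inv_pow, ← pow_mul, mul_comm e, pow_mul, he, inv_mul_cancel]
    simpa using congrArg Units.val h2

include htop hcop in
theorem canonical_unique (hθ : IsIrrCharacter N θ) {η η' : Γ → ℂ} (h : IsCanonical N s θ η)
    (h' : IsCanonical N s θ η') : η' = η := by
  obtain ⟨d, hd, hd0, hdvd⟩ := exists_degree_dvd_card hθ
  obtain ⟨β, hβN, rfl⟩ := extensions_differ N hθ h.1 h'.1 h.2.1 h'.2.1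
  have e := h'.2.2
  rw [detChar_linear_mul (isCharacter_of_isIrr h.1) β d ((h.2.1 1).trans hd)] at e
  simp only [h.2.2, mul_one] at e
  have e1 : β s ^ d = 1 := Units.ext (by simpa using e)
  have e2 : β s ^ orderOf s = 1 := by rw [← map_pow, pow_orderOf_eq_one, map_one]
  have hs : β s = 1 := by
    have := pow_gcd_eq_one.mpr ⟨e1, e2⟩
    rwa [Nat.coprime_iff_gcd_eq_one.mp (hcop.coprime_dvd_left hdvd), pow_one] at this
  rw [hom_eq_one htop hβN hs]
  funext g
  simp

include htop hcop in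
theorem detOrder_coprime_iff {η : Γ → ℂ} (hη : IsCharacter Γ η) :
    (detOrder η).Coprime (orderOf s) ↔ detChar η s = 1 := by
  obtain ⟨f, hf⟩ := exists_det_hom hη
  rw [detOrder, hf, orderOf_hom]
  constructor
  · intro h
    have e1 : f s ^ orderOf f = 1 := by
      rw [← MonoidHom.pow_apply, pow_orderOf_eq_one, MonoidHom.one_apply]
    have e2 : f s ^ orderOf s = 1 := by rw [← map_pow, pow_orderOf_eq_one, map_one]
    have := pow_gcd_eq_one.mpr ⟨e1, e2⟩
    rw [Nat.coprime_iff_gcd_eq_one.mp h, pow_one] at this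
    simp [this]
  · intro h
    refine hcop.coprime_dvd_left ?_
    rw [orderOf_dvd_iff_pow_eq_one]
    refine hom_eq_one htop (fun n => ?_) ?_
    · rw [MonoidHom.pow_apply, ← map_pow, ← SubgroupClass.coe_pow, pow_card_eq_one']
      simp
    · rw [MonoidHom.pow_apply, Units.ext (show (f s : ℂ) = ((1 : ℂˣ) : ℂ) by simpa using h), one_pow]

include htop hcop in
/-- Twists fixing `N` fix the canonical extension. -/
theorem canonical_pow (hθ : IsIrrCharacter N θ) {η : Γ → ℂ} (h : IsCanonical N s θ η) {k : ℕ}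
    (hk : k.Coprime (Nat.card Γ)) (hk1 : k ≡ 1 [MOD Nat.card N]) (g : Γ) : η (g ^ k) = η g := by
  refine congrFun (canonical_unique htop hcop hθ h
    ⟨isIrrCharacter_pow hk h.1, fun n => ?_, ?_⟩) g
  · rw [pow_eq_self_of_modEq_one (Subgroup.orderOf_dvd_natCard N n.2) hk1, h.2.1]
  · rw [detChar_pow (isCharacter_of_isIrr h.1) hk, h.2.2, one_pow]

include htop hcop in
/-- The canonical extension takes the same values on all generators. -/
theorem canonical_coset (hθ : IsIrrCharacter N θ) {η : Γ → ℂ} (h : IsCanonical N s θ η) {c : Γ}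
    (hc : c ∈ N) (hcs : c * s = s * c) {k : ℕ} (hk : k.Coprime (orderOf s)) :
    η (c * s ^ k) = η (c * s) := by
  obtain ⟨k', hk'1, hk'2, hk'3⟩ := exists_coprime_exponent (m := orderOf s) (n := Nat.card N)
    (Nat.card_pos (α := Γ)).ne' hcop.symm
    (hcop.symm.mul_dvd_of_dvd_of_dvd (orderOf_dvd_natCard s) N.card_subgroup_dvd_card) hk
  rw [← canonical_pow htop hcop hθ h hk'1 hk'3 (c * s), Commute.mul_pow hcs,
    pow_eq_self_of_modEq_one (Subgroup.orderOf_dvd_natCard N hc) hk'3,
    pow_eq_pow_iff_modEq.mpr hk'2]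

end Canonical

end CfsgLib.Char
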