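import Cfsg.Agent.Lib.Char.Central
import Cfsg.Agent.Lib.Char.Kernel
import Cfsg.Agent.Lib.Char.ClassProd
import Cfsg.Prelude.Def_OddOrderLocal

/-!
# A congruence for characters constant on a central subgroup of a TI Sylow subgroup
-/

set_option autoImplicit false

namespace CfsgLib.Char.CentralTI

open Cfsg
open scoped ComplexConjugate CfsgLib.Char

/-- An invariant sum over a set where every point is fixed or regular. -/
theorem sum_sub_fixed {Q α : Type*} [Group Q] [Finite Q] [Fintype α] [MulAction Q α]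
    [DecidablePred fun a : α => ∀ q : Q, q • a = a] (f : α → ℂ)
    (hf : ∀ a, IsIntegral ℤ (f a)) (hinv : ∀ (q : Q) a, f (q • a) = f a)
    (hfree : ∀ a : α, (∀ q : Q, q • a = a) ∨ MulAction.stabilizer Q a = ⊥) :
    ∃ r : ℂ, IsIntegral ℤ r ∧
      ∑ a, f a = (∑ a ∈ Finset.univ.filter (fun a : α => ∀ q : Q, q • a = a), f a) + (Nat.card Q : ℂ) * r := by
  classical
  set B := Finset.univ.filter (fun a : α => ¬ ∀ q : Q, q • a = a) with hB
  haveI : Fintype (MulAction.orbitRel.Quotient Q α) := Fintype.ofFinite _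
  refine ⟨∑ o ∈ B.image (Quotient.mk (MulAction.orbitRel Q α)), f o.out,
    IsIntegral.sum _ fun o _ => hf _, ?_⟩
  rw [← Finset.sum_filter_add_sum_filter_not Finset.univ (fun a : α => ∀ q : Q, q • a = a) f, ← hB,
    Finset.mul_sum]
  congr 1
  rw [← Finset.sum_fiberwise_of_maps_to (g := Quotient.mk (MulAction.orbitRel Q α))
    (t := B.image (Quotient.mk (MulAction.orbitRel Q α))) (fun a ha => Finset.mem_image_of_mem _ ha)]
  refine Finset.sum_congr rfl fun o ho => ?_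
  obtain ⟨b, hb, rfl⟩ := Finset.mem_image.mp ho
  have hbst : MulAction.stabilizer Q b = ⊥ := (hfree b).resolve_left (Finset.mem_filter.mp hb).2
  have hout : ∃ q : Q, (Quotient.mk (MulAction.orbitRel Q α) b).out = q • b := by
    obtain ⟨q, hq⟩ := MulAction.orbitRel_apply.mp (Quotient.mk_out (s := MulAction.orbitRel Q α) b)
    exact ⟨q, hq.symm⟩
  obtain ⟨q₀, hq₀⟩ := hout
  have hfib : B.filter (fun a => Quotient.mk (MulAction.orbitRel Q α) a =
      Quotient.mk (MulAction.orbitRel Q α) b) = Finset.univ.filter fun a => a ∈ MulAction.orbit Q b := by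
    ext a
    simp only [Finset.mem_filter, Finset.mem_univ, true_and, hB, Quotient.eq, MulAction.orbitRel_apply]
    refine ⟨And.right, fun ha => ⟨fun hfix => ?_, ha⟩⟩
    obtain ⟨q, rfl⟩ := ha
    refine (Finset.mem_filter.mp hb).2 fun r => ?_
    have h1 := hfix q⁻¹
    simp only [inv_smul_smul] at h1
    calc r • b = r • (q • b) := congrArg _ h1
      _ = q • b := hfix r
      _ = b := h1.symm
  rw [hfib, Finset.sum_congr rfl (g := fun _ => f b) (fun a ha => by
      obtain ⟨q, rfl⟩ := (Finset.mem_filter.mp ha).2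
      exact hinv q b), Finset.sum_const, nsmul_eq_mul, hq₀, hinv]
  congr 2
  rw [← Fintype.card_subtype, ← Nat.card_eq_fintype_card]
  have h := Nat.card_congr (MulAction.orbitEquivQuotientStabilizer Q b)
  rw [show Nat.card {a // a ∈ MulAction.orbit Q b} = Nat.card (MulAction.orbit Q b) from rfl, h, hbst]
  exact Nat.card_congr QuotientGroup.quotientBot.toEquiv

section

variable {G : Type*} [Group G] [Fintype G] (p : ℕ) [Fact p.Prime] (P : Sylow p G)
  (hTI : IsTISubset ((P : Subgroup G) : Set G)) (Z : Subgroup G) (hZP : Z ≤ P)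
  (hZn : ∀ x ∈ Subgroup.normalizer ((P : Subgroup G) : Set G), ∀ z ∈ Z, x * z * x⁻¹ ∈ Z)
  (hZc : ∀ z ∈ Z, ∀ y ∈ (P : Subgroup G), z * y = y * z)

include hTI hZP hZn hZc

open Classical in
theorem class_product_congr {ψ : G → ℂ} (hψ : IsIrrCharacter G ψ) {a b : G} (ha : a ∈ Z) (ha1 : a ≠ 1)
    (hb : b ∈ Z) (hb1 : b ≠ 1) :
    ∃ r : ℂ, IsIntegral ℤ r ∧
      omega ψ a * omega ψ b * ψ 1 =
        (∑ u ∈ Finset.univ.filter (fun u => IsConj u a ∧ u ∈ Z),
          ∑ v ∈ Finset.univ.filter (fun v => IsConj v b ∧ v ∈ Z), ψ (u * v)) +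
          (Nat.card (P : Subgroup G) : ℂ) * r := by
  obtain ⟨n, ρ, hρ, rfl⟩ := hψ
  haveI := hρ
  have hnorm : ∀ g : G, ∀ x ∈ (P : Subgroup G), x ≠ 1 → g * x * g⁻¹ ∈ (P : Subgroup G) →
      g ∈ Subgroup.normalizer ((P : Subgroup G) : Set G) := fun g x hx hx1 hgx => by
    by_contra hg
    exact hx1 (hTI g hg x hx hgx)
  -- commuting with an element of `P`
  have hin : ∀ (z : G), z ∈ Z → z ≠ 1 → ∀ (q u : G), q ∈ (P : Subgroup G) → q ≠ 1 → IsConj u z →
      q * u = u * q → u ∈ Z := by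
    intro z hz hz1 q u hq hq1 hu hc
    have huN : u ∈ Subgroup.normalizer ((P : Subgroup G) : Set G) :=
      hnorm u q hq hq1 (by rw [← hc, mul_inv_cancel_right]; exact hq)
    obtain ⟨g, hg⟩ := isConj_iff.mp hu.symm
    have huP : u ∈ (P : Subgroup G) := by
      obtain ⟨k, hk⟩ := P.2 ⟨z, hZP hz⟩
      have hzpu : IsPGroup p (Subgroup.zpowers u) := by
        intro x
        refine ⟨k, Subtype.ext ?_⟩
        obtain ⟨i, hi⟩ := Subgroup.mem_zpowers_iff.mp x.2
        have hu' : u ^ p ^ k = 1 := by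
          rw [← hg, conj_pow, show z ^ p ^ k = 1 from congrArg Subtype.val hk, mul_one, mul_inv_cancel]
        rw [Subgroup.coe_pow, Subgroup.coe_one, ← hi, ← zpow_natCast, ← zpow_mul, mul_comm, zpow_mul,
          zpow_natCast, hu', one_zpow]
      have hmem : u ∈ Subgroup.zpowers u ⊓ Subgroup.normalizer ((P : Subgroup G) : Set G) :=
        Subgroup.mem_inf.mpr ⟨Subgroup.mem_zpowers u, huN⟩
      have hmem : u ∈ Subgroup.zpowers u ⊓ (P : Subgroup G) := hzpu.inf_normalizer_sylow P ▸ hmem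
      exact (Subgroup.mem_inf.mp hmem).2
    rw [← hg] at huP ⊢
    exact hZn g (hnorm g z (hZP hz) hz1 huP) z hz
  let Q : Subgroup G := P
  let S : Type _ := {x : G × G // IsConj x.1 a ∧ IsConj x.2 b}
  have hconj : ∀ (g x y : G), IsConj x y → IsConj (g * x * g⁻¹) y := fun g x y h =>
    (isConj_iff.mpr ⟨g, rfl⟩ : IsConj x (g * x * g⁻¹)).symm.trans h
  letI : MulAction Q S :=
    { smul := fun q x => ⟨((q : G) * x.1.1 * (q : G)⁻¹, (q : G) * x.1.2 * (q : G)⁻¹),
        hconj _ _ _ x.2.1, hconj _ _ _ x.2.2⟩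
      one_smul := fun x => Subtype.ext (Prod.ext
        (show (1 : G) * x.1.1 * (1 : G)⁻¹ = x.1.1 by group) (show (1 : G) * x.1.2 * (1 : G)⁻¹ = x.1.2 by group))
      mul_smul := fun q r x => Subtype.ext (Prod.ext
        (show (q * r : G) * x.1.1 * (q * r : G)⁻¹ = q * (r * x.1.1 * (r : G)⁻¹) * (q : G)⁻¹ by group)
        (show (q * r : G) * x.1.2 * (q * r : G)⁻¹ = q * (r * x.1.2 * (r : G)⁻¹) * (q : G)⁻¹ by group)) }
  have hfix_of_Z : ∀ x : S, x.1.1 ∈ Z → x.1.2 ∈ Z → ∀ q : Q, q • x = x := by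
    intro x h1 h2 q
    refine Subtype.ext (Prod.ext ?_ ?_)
    · show (q : G) * x.1.1 * (q : G)⁻¹ = x.1.1
      rw [← hZc _ h1 _ q.2, mul_inv_cancel_right]
    · show (q : G) * x.1.2 * (q : G)⁻¹ = x.1.2
      rw [← hZc _ h2 _ q.2, mul_inv_cancel_right]
  have hZ_of_fix : ∀ (x : S) (q : Q), q ≠ 1 → q • x = x → x.1.1 ∈ Z ∧ x.1.2 ∈ Z := by
    intro x q hq hx
    have h1 : (q : G) * x.1.1 * (q : G)⁻¹ = x.1.1 := congrArg (fun y : S => y.1.1) hx
    have h2 : (q : G) * x.1.2 * (q : G)⁻¹ = x.1.2 := congrArg (fun y : S => y.1.2) hx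
    have hq1 : (q : G) ≠ 1 := fun e => hq (Subtype.ext e)
    exact ⟨hin a ha ha1 q _ q.2 hq1 x.2.1 (mul_inv_eq_iff_eq_mul.mp h1),
      hin b hb hb1 q _ q.2 hq1 x.2.2 (mul_inv_eq_iff_eq_mul.mp h2)⟩
  have hfree : ∀ x : S, (∀ q : Q, q • x = x) ∨ MulAction.stabilizer Q x = ⊥ := by
    intro x
    by_cases h : MulAction.stabilizer Q x = ⊥
    · exact Or.inr h
    · left
      obtain ⟨q, hq, hq1⟩ := (Subgroup.ne_bot_iff_exists_ne_one.mp h).elim fun q hq =>
        (⟨q.1, q.2, fun e => hq (Subtype.ext e)⟩ : ∃ q : Q, q ∈ MulAction.stabilizer Q x ∧ q ≠ 1)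
      obtain ⟨h1, h2⟩ := hZ_of_fix x q hq1 hq
      exact hfix_of_Z x h1 h2
  have hinv : ∀ (q : Q) (x : S), ρ.character ((q • x).1.1 * (q • x).1.2) = ρ.character (x.1.1 * x.1.2) := by
    intro q x
    show ρ.character ((q : G) * x.1.1 * (q : G)⁻¹ * ((q : G) * x.1.2 * (q : G)⁻¹)) = _
    rw [show (q : G) * x.1.1 * (q : G)⁻¹ * ((q : G) * x.1.2 * (q : G)⁻¹) =
      (q : G) * (x.1.1 * x.1.2) * (q : G)⁻¹ by group, isClassFunction_character ρ]
  obtain ⟨r, hr, hsum⟩ := sum_sub_fixed (Q := Q) (fun x : S => ρ.character (x.1.1 * x.1.2))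
    (fun x => isIntegral_character ρ _) hinv hfree
  refine ⟨r, hr, ?_⟩
  by_cases hP1 : Q = ⊥
  · exact absurd (Subgroup.mem_bot.mp (hP1 ▸ hZP ha)) ha1
  rw [← sum_char_mul ρ a b]
  have hA : ∑ x ∈ Finset.univ.filter (fun x => IsConj x a), ∑ y ∈ Finset.univ.filter (fun y => IsConj y b),
      ρ.character (x * y) = ∑ x : S, ρ.character (x.1.1 * x.1.2) := by
    rw [← Finset.sum_product']
    refine Finset.sum_subtype _ (fun x => ?_) fun x : G × G => ρ.character (x.1 * x.2)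
    simp
  rw [hA, hsum]
  congr 1
  rw [← Finset.sum_product']
  refine Finset.sum_bij (fun (x : S) _ => x.1) (fun x hx => ?_) (fun x _ y _ e => Subtype.ext e)
    (fun y hy => ?_) fun x _ => rfl
  · obtain ⟨q, hq1⟩ := (Subgroup.ne_bot_iff_exists_ne_one.mp hP1)
    obtain ⟨h1, h2⟩ := hZ_of_fix x q hq1 ((Finset.mem_filter.mp hx).2 q)
    simp only [Finset.mem_product, Finset.mem_filter, Finset.mem_univ, true_and]
    exact ⟨⟨x.2.1, h1⟩, x.2.2, h2⟩
  · simp only [Finset.mem_product, Finset.mem_filter, Finset.mem_univ, true_and] at hy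
    exact ⟨⟨y, hy.1.1, hy.2.1⟩, Finset.mem_filter.mpr ⟨Finset.mem_univ _,
      hfix_of_Z _ hy.1.2 hy.2.2⟩, rfl⟩

theorem congruence (hodd : Odd (Nat.card (Subgroup.normalizer ((P : Subgroup G) : Set G))))
    {ψ : G → ℂ} (hψ : IsIrrCharacter G ψ)
    (hconst : ∀ z ∈ Z, ∀ z' ∈ Z, z ≠ 1 → z' ≠ 1 → ψ z = ψ z') {z : G} (hz : z ∈ Z) (hz1 : z ≠ 1) :
    ∃ m d : ℤ, ψ z = m ∧ ψ 1 = d ∧ (Nat.card (P : Subgroup G) : ℤ) ∣ d - m := by
  classical
  haveI : Fintype Z := Fintype.ofFinite Z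
  obtain ⟨d, hd, -, -⟩ := exists_degree_dvd_card hψ
  set c := ψ z with hc
  have hval : ∀ w ∈ Z, w ≠ 1 → ψ w = c := fun w hw hw1 => hconst w hw z hz hw1 hz1
  -- integrality of the value
  have hcint : ∃ m : ℤ, c = m := by
    obtain ⟨a, ha⟩ := exists_multiplicities (isCharacter_restrict Z (isCharacter_of_isIrr hψ))
    let one : IrrCharacter Z := ⟨fun _ => 1, isIrrCharacter_one⟩
    have h1 : classInner (fun w : Z => ψ w) (one : Z → ℂ) = a one := by
      rw [ha, classInner_sum_smul_irr]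
    have h2 : ∑ w : Z, ψ w = (a one : ℂ) * Nat.card Z := by
      rw [← h1]
      simp only [classInner, one, map_one, mul_one]
      field_simp
    rw [← Finset.add_sum_erase _ _ (Finset.mem_univ (1 : Z)), Finset.sum_congr rfl (g := fun _ => c)
      (fun w hw => hval _ w.2 fun e => (Finset.mem_erase.mp hw).1 (Subtype.ext e)), Finset.sum_const,
      Finset.card_erase_of_mem (Finset.mem_univ _), Finset.card_univ, ← Nat.card_eq_fintype_card,
      nsmul_eq_mul, OneMemClass.coe_one, hd] at h2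
    have hN : 1 < Nat.card Z := Finite.one_lt_card_iff_nontrivial.mpr ⟨⟨⟨z, hz⟩, 1, fun e => hz1 (congrArg Subtype.val e)⟩⟩
    have hN' : ((Nat.card Z - 1 : ℕ) : ℂ) ≠ 0 := Nat.cast_ne_zero.mpr (by omega)
    have hq : c = (((((a one : ℕ) : ℚ) * Nat.card Z - d) / ((Nat.card Z - 1 : ℕ) : ℚ) : ℚ) : ℂ) := by
      push_cast
      rw [eq_div_iff hN']
      linear_combination h2
    obtain ⟨m, hm⟩ := exists_int_of_isIntegral_rat (q := ((((a one : ℕ) : ℚ) * Nat.card Z - d) / ((Nat.card Z - 1 : ℕ) : ℚ)))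
      (by rw [← hq]; obtain ⟨n, ρ, hρ, rfl⟩ := hψ; exact isIntegral_character ρ z)
    exact ⟨m, by rw [hq, hm]; push_cast; rfl⟩
  obtain ⟨m, hm⟩ := hcint
  refine ⟨m, d, hm, by rw [hd]; norm_num, ?_⟩
  obtain ⟨r₁, hr₁, e₁⟩ := class_product_congr p P hTI Z hZP hZn hZc hψ hz hz1 hz hz1
  obtain ⟨r₂, hr₂, e₂⟩ := class_product_congr p P hTI Z hZP hZn hZc hψ hz hz1 (inv_mem hz) (inv_ne_one.mpr hz1)
  have hom : omega ψ z⁻¹ = omega ψ z := by
    have e : Subgroup.centralizer ({z⁻¹} : Set G) = Subgroup.centralizer ({z} : Set G) := by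
      ext g
      simp only [Subgroup.mem_centralizer_singleton_iff]
      exact Commute.inv_right_iff
    rw [omega, omega, e, hval _ (inv_mem hz) (inv_ne_one.mpr hz1), ← hc]
  rw [hom] at e₂
  set s := Finset.univ.filter (fun u => IsConj u z ∧ u ∈ Z) with hs
  set t := Finset.univ.filter (fun v => IsConj v z⁻¹ ∧ v ∈ Z) with ht
  have hmemt : ∀ v, v ∈ t ↔ v⁻¹ ∈ s := by
    intro v
    simp only [hs, ht, Finset.mem_filter, Finset.mem_univ, true_and]
    refine and_congr ⟨fun h => ?_, fun h => ?_⟩ (inv_mem_iff (H := Z)).symm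
    · obtain ⟨g, hg⟩ := isConj_iff.mp h
      exact isConj_iff.mpr ⟨g, by rw [← inv_inv z, ← hg]; group⟩
    · obtain ⟨g, hg⟩ := isConj_iff.mp h
      exact isConj_iff.mpr ⟨g, by rw [← hg]; group⟩
  have hne : ∀ u ∈ s, u ≠ 1 := by
    intro u hu e
    rw [e, hs, Finset.mem_filter] at hu
    exact hz1 (isConj_one_left.mp hu.2.1.symm)
  have hnoreal : ∀ u ∈ s, u⁻¹ ∉ s := by
    intro u hu hu'
    obtain ⟨huc, huZ⟩ : IsConj u z ∧ u ∈ Z := by simpa [hs] using hu
    obtain ⟨hu'c, -⟩ : IsConj u⁻¹ z ∧ u⁻¹ ∈ Z := by simpa [hs] using hu'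
    obtain ⟨g, hg⟩ := isConj_iff.mp (huc.trans hu'c.symm)
    have hgN : g ∈ Subgroup.normalizer ((P : Subgroup G) : Set G) := by
      by_contra hgn
      exact hne u hu (hTI g hgn u (hZP huZ) (by rw [hg]; exact inv_mem (hZP huZ)))
    obtain ⟨k, hk⟩ := hodd
    have hgpow : g ^ (2 * k + 1) = 1 := by
      have := pow_card_eq_one' (x := (⟨g, hgN⟩ : Subgroup.normalizer ((P : Subgroup G) : Set G)))
      rw [hk] at this
      simpa using congrArg Subtype.val this
    have h2 : ∀ j : ℕ, g ^ (2 * j) * u * (g ^ (2 * j))⁻¹ = u := by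
      intro j
      induction j with
      | zero => simp
      | succ j ih =>
        rw [show g ^ (2 * (j + 1)) = g * (g * g ^ (2 * j)) by
          rw [show 2 * (j + 1) = 2 * j + 1 + 1 by ring, pow_succ', pow_succ']]
        calc g * (g * g ^ (2 * j)) * u * (g * (g * g ^ (2 * j)))⁻¹
            = g * (g * (g ^ (2 * j) * u * (g ^ (2 * j))⁻¹) * g⁻¹) * g⁻¹ := by group
          _ = g * u⁻¹ * g⁻¹ := by rw [ih, hg]
          _ = (g * u * g⁻¹)⁻¹ := by group
          _ = u := by rw [hg, inv_inv]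
    have hgeq : g ^ (2 * k) = g⁻¹ := eq_inv_of_mul_eq_one_left (by rw [← pow_succ]; exact hgpow)
    have h3 := h2 k
    rw [hgeq, inv_inv] at h3
    have h4 : g * u * g⁻¹ = u := by
      conv_lhs => rw [← h3]
      group
    have hsq : u * u = 1 := by
      nth_rewrite 1 [← h4]
      rw [hg, inv_mul_cancel]
    have hou : orderOf u ∣ 2 := orderOf_dvd_of_pow_eq_one (by rw [pow_two]; exact hsq)
    rcases (Nat.dvd_prime Nat.prime_two).mp hou with h | h
    · exact hne u hu (orderOf_eq_one_iff.mp h)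
    · have hdvd : orderOf (⟨u, Subgroup.le_normalizer (hZP huZ)⟩ : Subgroup.normalizer ((P : Subgroup G) : Set G)) ∣
          Nat.card (Subgroup.normalizer ((P : Subgroup G) : Set G)) := orderOf_dvd_natCard _
      rw [← Subgroup.orderOf_coe, h, hk] at hdvd
      omega
  have hin : ∀ u ∈ s, ∀ v ∈ s, ψ (u * v) = c := fun u hu v hv => by
    refine hval _ (mul_mem (Finset.mem_filter.mp hu).2.2 (Finset.mem_filter.mp hv).2.2) fun e => ?_
    exact hnoreal u hu (by rw [inv_eq_of_mul_eq_one_right e]; exact hv)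
  have hsum1 : ∑ u ∈ s, ∑ v ∈ s, ψ (u * v) = (s.card : ℂ) * ((s.card : ℂ) * c) := by
    rw [Finset.sum_congr rfl (fun u hu => Finset.sum_congr rfl (hin u hu)), Finset.sum_const,
      Finset.sum_const, nsmul_eq_mul, nsmul_eq_mul]
  have hsum2 : ∑ u ∈ s, ∑ v ∈ t, ψ (u * v) = (s.card : ℂ) * ((ψ 1 - c) + (s.card : ℂ) * c) := by
    have htc : t.card = s.card := by
      refine Finset.card_bij (fun v _ => v⁻¹) (fun v hv => (hmemt v).mp hv)
        (fun _ _ _ _ e => inv_injective e) fun u hu => ⟨u⁻¹, (hmemt _).mpr (by rwa [inv_inv]), inv_inv u⟩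
    rw [Finset.sum_congr rfl (g := fun _ => (ψ 1 - c) + (s.card : ℂ) * c) (fun u hu => ?_),
      Finset.sum_const, nsmul_eq_mul]
    have hut : u⁻¹ ∈ t := (hmemt _).mpr (by rwa [inv_inv])
    rw [← Finset.add_sum_erase _ _ hut, Finset.sum_congr rfl (g := fun _ => c) (fun v hv => ?_),
      Finset.sum_const, nsmul_eq_mul, Finset.card_erase_of_mem hut, htc, mul_inv_cancel]
    · have : 1 ≤ s.card := Finset.card_pos.mpr ⟨u, hu⟩
      push_cast [Nat.cast_sub this]; ring
    · obtain ⟨hvne, hvt⟩ := Finset.mem_erase.mp hv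
      refine hval _ (mul_mem (Finset.mem_filter.mp hu).2.2 (Finset.mem_filter.mp hvt).2.2) fun e => hvne ?_
      exact (inv_eq_of_mul_eq_one_right e).symm
  rw [hsum1] at e₁
  rw [hsum2] at e₂
  -- the number of conjugates inside `Z` is prime to `p`
  have hscard : ¬ p ∣ s.card := by
    set N := Subgroup.normalizer ((P : Subgroup G) : Set G)
    have hcard : s.card = (Subgroup.centralizer ({(⟨z, Subgroup.le_normalizer (hZP hz)⟩ : N)} : Set N)).index := by
      rw [← card_isConj_eq_index, Nat.card_eq_fintype_card, Fintype.card_subtype]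
      symm
      refine Finset.card_bij (fun u _ => (u : G)) (fun u hu => ?_) (fun _ _ _ _ e => Subtype.ext e)
        (fun v hv => ?_)
      · obtain ⟨g, hg⟩ := isConj_iff.mp (Finset.mem_filter.mp hu).2.symm
        subst hg
        simp only [hs, Finset.mem_filter, Finset.mem_univ, true_and, Subgroup.coe_mul, Subgroup.coe_inv]
        exact ⟨(isConj_iff.mpr ⟨(g : G), rfl⟩ : IsConj z _).symm, hZn _ g.2 z hz⟩
      · obtain ⟨hvc, hvZ⟩ : IsConj v z ∧ v ∈ Z := by simpa [hs] using hv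
        obtain ⟨g, hg⟩ := isConj_iff.mp hvc.symm
        have hgN : g ∈ N := by
          by_contra hgn
          exact hz1 (hTI g hgn z (hZP hz) (by rw [hg]; exact hZP hvZ))
        exact ⟨⟨v, Subgroup.le_normalizer (hZP hvZ)⟩, Finset.mem_filter.mpr ⟨Finset.mem_univ _,
          (isConj_iff.mpr ⟨⟨g, hgN⟩, Subtype.ext hg⟩ :
            IsConj (⟨z, Subgroup.le_normalizer (hZP hz)⟩ : N) _).symm⟩, rfl⟩
    rw [hcard]
    intro hdvd
    have hle : (P : Subgroup G).subgroupOf N ≤ Subgroup.centralizer ({(⟨z, Subgroup.le_normalizer (hZP hz)⟩ : N)} : Set N) := by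
      intro y hy
      rw [Subgroup.mem_centralizer_singleton_iff]
      exact Subtype.ext (hZc z hz _ hy).symm
    have h1 := hdvd.trans (Subgroup.index_dvd_of_le hle)
    exact P.not_dvd_index (h1.trans (Subgroup.relIndex_dvd_index_of_le Subgroup.le_normalizer))
  have hkey : (Nat.card (P : Subgroup G) : ℂ) * (r₁ - r₂) = (((s.card : ℤ) * (d - m) : ℤ) : ℂ) := by
    push_cast
    linear_combination e₂ - e₁ + (s.card : ℂ) * hd - (s.card : ℂ) * hm
  have hNP : (Nat.card (P : Subgroup G) : ℂ) ≠ 0 := Nat.cast_ne_zero.mpr Nat.card_pos.ne'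
  obtain ⟨l, hl⟩ := exists_int_of_isIntegral_rat
    (q := ((((s.card : ℤ) * (d - m) : ℤ) : ℚ) / (Nat.card (P : Subgroup G) : ℚ))) (by
      have e : r₁ - r₂ = (((((s.card : ℤ) * (d - m) : ℤ) : ℚ) / (Nat.card (P : Subgroup G) : ℚ) : ℚ) : ℂ) := by
        push_cast at hkey ⊢
        rw [eq_div_iff hNP]
        linear_combination hkey
      rw [← e]; exact hr₁.sub hr₂)
  have hl' : (s.card : ℤ) * (d - m) = (Nat.card (P : Subgroup G) : ℤ) * l := by
    rw [div_eq_iff (Nat.cast_ne_zero.mpr Nat.card_pos.ne')] at hl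
    have : (((s.card : ℤ) * (d - m) : ℤ) : ℚ) = ((l * (Nat.card (P : Subgroup G) : ℤ) : ℤ) : ℚ) := by
      rw [hl]; push_cast; rfl
    rw [Int.cast_injective this]; ring
  obtain ⟨k, hk⟩ := P.2.exists_card_eq
  refine IsCoprime.dvd_of_dvd_mul_left ?_ ⟨l, hl'⟩
  rw [Nat.isCoprime_iff_coprime, hk]
  exact ((Fact.out : p.Prime).coprime_iff_not_dvd.mpr hscard).pow_left k

end

end CfsgLib.Char.CentralTI
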