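import Cfsg.Agent.Lib.Char.Counting
import Cfsg.Agent.Lib.Char.Induced
import Cfsg.Prelude.Def_Blocks

/-!
# Embedding solvable groups into groups of central type

A finite solvable group embeds in a group `W` carrying a translation invariant family `L` of
`ZMod m`-valued functions of size `m * #W`, all whose non-constant members have vanishing
exponential sum; the semidirect product of `L` by `W` is then of central type.
-/

set_option autoImplicit false
set_option linter.style.haveILetI false

open scoped Classical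

namespace CfsgLib.CentralType

open Finset

universe u

variable {m : ℕ} [NeZero m]

theorem addChar_sum {ι A R : Type*} [AddCommMonoid A] [CommMonoid R] (ψ : AddChar A R)
    (f : ι → A) (s : Finset ι) : ψ (∑ i ∈ s, f i) = ∏ i ∈ s, ψ (f i) := by
  induction s using Finset.induction with
  | empty => simp
  | insert a t ha ih => rw [Finset.sum_insert ha, Finset.prod_insert ha, AddChar.map_add_eq_mul, ih]

/-- A translation invariant family of functions on `W` of central type. -/
structure Model (m : ℕ) [NeZero m] (W : Type u) [Group W] [Fintype W] where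
  /-- the functions -/
  L : AddSubgroup (W → ZMod m)
  card_L : Nat.card L = m * Nat.card W
  const_mem : ∀ c : ZMod m, (fun _ => c) ∈ L
  shift_mem : ∀ (g : W), ∀ φ ∈ L, (fun x => φ (g * x)) ∈ L
  sum_zero : ∀ φ ∈ L, (∃ x, φ x ≠ φ 1) → ∑ x, ZMod.stdAddChar (φ x) = 0
  separating : ∀ g : W, (∀ φ ∈ L, φ g = φ 1) → g = 1

/-- The model of the trivial group. -/
def trivialModel (m : ℕ) [NeZero m] : Model m PUnit.{u + 1} where
  L := ⊤
  card_L := by
    rw [Nat.card_congr AddSubgroup.topEquiv.toEquiv, Nat.card_fun, Nat.card_zmod]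
    simp
  const_mem _ := AddSubgroup.mem_top _
  shift_mem _ _ _ := AddSubgroup.mem_top _
  sum_zero φ _ := fun ⟨x, hx⟩ => absurd (congrArg φ (Subsingleton.elim x 1)) hx
  separating g _ := Subsingleton.elim g 1

section Wreath

variable {W Q : Type u} [Group W] [Fintype W] [Group Q] [Fintype Q]

/-- The functions vanishing at the identity. -/
def Model.L₀ (M : Model m W) : AddSubgroup (W → ZMod m) where
  carrier := {φ | φ ∈ M.L ∧ φ 1 = 0}
  zero_mem' := ⟨zero_mem _, rfl⟩
  add_mem' {a b} ha hb := ⟨add_mem ha.1 hb.1, by rw [Pi.add_apply, ha.2, hb.2, add_zero]⟩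
  neg_mem' {a} ha := ⟨neg_mem ha.1, by rw [Pi.neg_apply, ha.2, neg_zero]⟩

theorem Model.norm_mem (M : Model m W) {φ : W → ZMod m} (hφ : φ ∈ M.L) :
    (φ - fun _ => φ 1) ∈ M.L₀ :=
  ⟨sub_mem hφ (M.const_mem _), by simp⟩

theorem Model.card_L₀ (M : Model m W) : Nat.card M.L₀ = Nat.card W := by
  have e : M.L ≃ ZMod m × M.L₀ :=
    { toFun := fun φ => (φ.1 1, ⟨φ.1 - fun _ => φ.1 1, M.norm_mem φ.2⟩)
      invFun := fun x => ⟨x.2.1 + fun _ => x.1, add_mem x.2.2.1 (M.const_mem _)⟩
      left_inv := fun φ => Subtype.ext (sub_add_cancel _ _)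
      right_inv := fun ⟨c, φ, h, h1⟩ => by
        refine Prod.ext ?_ (Subtype.ext ?_)
        · simp [h1]
        · funext x
          simp [h1] }
  have h := Nat.card_congr e
  rw [M.card_L, Nat.card_prod, Nat.card_zmod] at h
  exact (Nat.eq_of_mul_eq_mul_left (Nat.pos_of_ne_zero (NeZero.ne m)) h).symm

variable {p : ℕ} [Fact p.Prime] (M : Model m W) (e : Q ≃* Multiplicative (ZMod p))
  (κ : ZMod p →+ ZMod m)

/-- The functions on the wreath product. -/
noncomputable def wreathFun : ZMod m × (Q → M.L₀) × ZMod p →+ (W ≀ᵣ Q → ZMod m) where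
  toFun x := fun w =>
    x.1 + ∑ q, (x.2.1 q : W → ZMod m) (w.left q) + κ (x.2.2 * (e w.right).toAdd)
  map_zero' := by funext w; simp
  map_add' x y := by
    funext w
    simp [Finset.sum_add_distrib, add_mul]
    abel

theorem wreathFun_apply (x : ZMod m × (Q → M.L₀) × ZMod p) (w : W ≀ᵣ Q) : wreathFun M e κ x w =
    x.1 + ∑ q, (x.2.1 q : W → ZMod m) (w.left q) + κ (x.2.2 * (e w.right).toAdd) := rfl

/-- A function of the shape appearing in `wreathFun`, without normalisation. -/
theorem mem_range_of_shape (c : ZMod m) (ψ : Q → W → ZMod m) (hψ : ∀ q, ψ q ∈ M.L) (k : ZMod p) :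
    (fun w : W ≀ᵣ Q => c + ∑ q, ψ q (w.left q) + κ (k * (e w.right).toAdd)) ∈
      (wreathFun M e κ).range := by
  refine ⟨(c + ∑ q, ψ q 1, fun q => ⟨ψ q - fun _ => ψ q 1, M.norm_mem (hψ q)⟩, k), ?_⟩
  funext w
  rw [wreathFun_apply]
  simp [Finset.sum_sub_distrib]

theorem wreathFun_single (x : ZMod m × (Q → M.L₀) × ZMod p) (q : Q) (y : W) :
    wreathFun M e κ x ⟨Pi.mulSingle q y, 1⟩ = x.1 + (x.2.1 q : W → ZMod m) y := by
  rw [wreathFun_apply, Finset.sum_eq_single q]
  · simp
  · intro r _ hr
    show (x.2.1 r : W → ZMod m) ((Pi.mulSingle q y : Q → W) r) = 0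
    rw [Pi.mulSingle_eq_of_ne hr]
    exact (x.2.1 r).2.2
  · simp

theorem wreathFun_right (x : ZMod m × (Q → M.L₀) × ZMod p) (r : Q) :
    wreathFun M e κ x ⟨1, r⟩ = x.1 + κ (x.2.2 * (e r).toAdd) := by
  rw [wreathFun_apply]
  show x.1 + ∑ q, (x.2.1 q : W → ZMod m) ((1 : Q → W) q) + _ = _
  simp only [Pi.one_apply]
  rw [Finset.sum_eq_zero fun q _ => (x.2.1 q).2.2, add_zero]

theorem wreathFun_injective (hκ : Function.Injective κ) :
    Function.Injective (wreathFun M e κ) := by
  rw [injective_iff_map_eq_zero]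
  intro x hx
  have hc : x.1 = 0 := by
    have h := congrFun hx ⟨1, 1⟩
    rw [wreathFun_right] at h
    simpa using h
  refine Prod.ext hc (Prod.ext (funext fun q => Subtype.ext (funext fun y => ?_)) ?_)
  · have h := congrFun hx ⟨Pi.mulSingle q y, 1⟩
    rw [wreathFun_single, hc, zero_add] at h
    exact h
  · have h := congrFun hx ⟨1, e.symm (Multiplicative.ofAdd 1)⟩
    rw [wreathFun_right, hc, zero_add] at h
    simp only [MulEquiv.apply_symm_apply, toAdd_ofAdd, mul_one, Pi.zero_apply] at h
    exact hκ (h.trans (map_zero κ).symm)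

/-- The model on the wreath product. -/
noncomputable def wreathModel (hκ : Function.Injective κ) [Fintype (W ≀ᵣ Q)] :
    Model m (W ≀ᵣ Q) where
  L := (wreathFun M e κ).range
  card_L := by
    rw [← Nat.card_congr (AddMonoidHom.ofInjective (wreathFun_injective M e κ hκ)).toEquiv, Nat.card_prod,
      Nat.card_prod, Nat.card_fun, M.card_L₀, Nat.card_zmod, Nat.card_zmod,
      RegularWreathProduct.card, show Nat.card Q = p by
        rw [Nat.card_congr e.toEquiv]
        exact Nat.card_zmod p]
  const_mem c := ⟨(c, 0, 0), by funext w; simp [wreathFun_apply]⟩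
  shift_mem g f hf := by
    obtain ⟨x, rfl⟩ := hf
    have h := mem_range_of_shape M e κ (x.1 + κ (x.2.2 * (e g.right).toAdd))
      (fun q => fun y => (x.2.1 (g.right * q) : W → ZMod m) (g.left (g.right * q) * y))
      (fun q => M.shift_mem _ _ (x.2.1 _).2.1) x.2.2
    convert h using 1
    funext w
    rw [wreathFun_apply]
    have hsum : ∑ q, (x.2.1 q : W → ZMod m) ((g * w).left q) =
        ∑ q, (x.2.1 (g.right * q) : W → ZMod m) (g.left (g.right * q) * w.left q) := by
      refine (Fintype.sum_equiv (Equiv.mulLeft g.right) _ _ fun q => ?_).symm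
      simp
    rw [hsum, RegularWreathProduct.mul_right, map_mul e, toAdd_mul, mul_add, map_add]
    abel
  sum_zero f hf := by
    obtain ⟨x, rfl⟩ := hf
    rintro ⟨w₀, hw₀⟩
    rw [← Fintype.sum_equiv (RegularWreathProduct.equivProd W Q).symm
      (fun v => ZMod.stdAddChar (wreathFun M e κ x ((RegularWreathProduct.equivProd W Q).symm v)))
      _ (fun v => rfl), Fintype.sum_prod_type]
    have hfac : ∀ (a : Q → W) (r : Q),
        ZMod.stdAddChar (wreathFun M e κ x ((RegularWreathProduct.equivProd W Q).symm (a, r))) =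
          ZMod.stdAddChar x.1 * (∏ q, ZMod.stdAddChar ((x.2.1 q : W → ZMod m) (a q))) *
            ZMod.stdAddChar (κ (x.2.2 * (e r).toAdd)) := fun a r => by
      show ZMod.stdAddChar (x.1 + ∑ q, (x.2.1 q : W → ZMod m) (a q) +
        κ (x.2.2 * (e r).toAdd)) = _
      rw [AddChar.map_add_eq_mul, AddChar.map_add_eq_mul, addChar_sum]
    simp only [hfac, ← Finset.mul_sum, ← Finset.sum_mul]
    rw [show ∑ a : Q → W, ∏ q, ZMod.stdAddChar ((x.2.1 q : W → ZMod m) (a q)) =
      ∏ q, ∑ y, ZMod.stdAddChar ((x.2.1 q : W → ZMod m) y) from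
      (Fintype.prod_sum (fun q y => ZMod.stdAddChar ((x.2.1 q : W → ZMod m) y))).symm]
    by_cases hk : x.2.2 = 0
    · obtain ⟨q, y, hy⟩ : ∃ q, ∃ y, (x.2.1 q : W → ZMod m) y ≠ 0 := by
        by_contra hall
        push Not at hall
        exact hw₀ (by simp [wreathFun_apply, hall, hk])
      rw [Finset.prod_eq_zero (Finset.mem_univ q)
        (M.sum_zero _ (x.2.1 q).2.1 ⟨y, by rwa [(x.2.1 q).2.2]⟩)]
      simp
    · have hsum : ∑ r : Q, ZMod.stdAddChar (κ (x.2.2 * (e r).toAdd)) = 0 := by
        let χ : AddChar (ZMod p) ℂ :=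
          ZMod.stdAddChar.compAddMonoidHom (κ.comp (AddMonoidHom.mulLeft x.2.2))
        rw [Fintype.sum_equiv (e.toEquiv.trans Multiplicative.toAdd)
          (fun r => ZMod.stdAddChar (κ (x.2.2 * (e r).toAdd))) (fun j => χ j) (fun r => rfl)]
        rw [AddChar.sum_eq_zero_iff_ne_zero]
        intro hχ
        have h1 : χ 1 = 1 := by rw [hχ]; rfl
        change ZMod.stdAddChar (κ (x.2.2 * 1)) = 1 at h1
        rw [mul_one, ← AddChar.map_zero_eq_one (ZMod.stdAddChar (N := m)),
          ZMod.injective_stdAddChar.eq_iff] at h1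
        exact hk (hκ (h1.trans (map_zero κ).symm))
      rw [hsum, mul_zero]
  separating g hg := by
    have hr : g.right = 1 := by
      have h := hg _ (mem_range_of_shape M e κ 0 0 (fun _ => zero_mem _) 1)
      simp only [Pi.zero_apply, Finset.sum_const_zero, zero_add, one_mul,
        RegularWreathProduct.one_right, map_one, toAdd_one, map_zero] at h
      have h' : (e g.right).toAdd = 0 := hκ (h.trans (map_zero κ).symm)
      exact e.injective (by rw [map_one]; exact Multiplicative.toAdd.injective (h'.trans toAdd_one.symm))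
    refine RegularWreathProduct.ext (funext fun q => M.separating _ fun φ hφ => ?_) hr
    have h := hg _ (mem_range_of_shape M e κ 0 (Pi.single q φ) (fun r => by
      rcases eq_or_ne r q with rfl | hne
      · rwa [Pi.single_eq_same]
      · rw [Pi.single_eq_of_ne hne]; exact zero_mem _) 0)
    simp only [zero_mul, map_zero, add_zero, zero_add, RegularWreathProduct.one_left] at h
    rw [Finset.sum_eq_single q, Finset.sum_eq_single q, Pi.single_eq_same] at h
    · simpa using h
    all_goals first
      | (intro r _ hne; rw [Pi.single_eq_of_ne hne]; rfl)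
      | simp

end Wreath

/-- A normal subgroup of prime index in a solvable group. -/
theorem exists_normal_prime_index (G : Type u) [Group G] [Finite G] [Group.IsSolvable G]
    [Nontrivial G] : ∃ N : Subgroup G, N.Normal ∧ N.index.Prime := by
  obtain ⟨M, hM, hle⟩ := (eq_top_or_exists_le_coatom (commutator G)).resolve_left
    (IsSolvable.commutator_lt_top_of_nontrivial (G := G)).ne
  have hMn : M.Normal := ⟨fun n hn g => by
    have h : g * n * g⁻¹ * n⁻¹ ∈ M :=
      hle (Subgroup.commutator_mem_commutator (Subgroup.mem_top g) (Subgroup.mem_top n))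
    have := M.mul_mem h hn
    rwa [inv_mul_cancel_right] at this⟩
  refine ⟨M, hMn, ?_⟩
  have hne : Nat.card (G ⧸ M) ≠ 1 := fun h => hM.1 (Subgroup.index_eq_one.mp h)
  obtain ⟨p, hp, hpd⟩ := Nat.exists_prime_and_dvd hne
  haveI := Fact.mk hp
  obtain ⟨y, hy⟩ := exists_prime_orderOf_dvd_card' p hpd
  obtain ⟨g, rfl⟩ := QuotientGroup.mk_surjective y
  have htop : M ⊔ Subgroup.zpowers g = ⊤ := by
    refine hM.2 _ (lt_of_le_of_ne le_sup_left fun e => ?_)
    have hg : g ∈ M := e ▸ Subgroup.mem_sup_right (Subgroup.mem_zpowers g)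
    rw [(QuotientGroup.eq_one_iff g).mpr hg, orderOf_one] at hy
    exact hp.one_lt.ne hy
  have hgen : Subgroup.zpowers (g : G ⧸ M) = ⊤ := by
    rw [← Subgroup.map_top_of_surjective _ (QuotientGroup.mk'_surjective M), ← htop,
      Subgroup.map_sup, QuotientGroup.map_mk'_self, bot_sup_eq, MonoidHom.map_zpowers]
    rfl
  have : M.index = p := by
    rw [Subgroup.index, ← hy, ← Nat.card_zpowers, hgen, Subgroup.card_top]
  rw [this]
  exact hp

/-- The Kaloujnine–Krasner embedding. -/
noncomputable def kk {G : Type u} [Group G] (N : Subgroup G) [N.Normal] :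
    G →* N ≀ᵣ (G ⧸ N) :=
  MonoidHom.mk' (fun g => ⟨fun x => ⟨x.out⁻¹ * g * ((g : G ⧸ N)⁻¹ * x).out, by
      rw [← QuotientGroup.eq_one_iff]
      simp only [QuotientGroup.mk_mul, QuotientGroup.mk_inv, QuotientGroup.out_eq']
      group⟩, (g : G ⧸ N)⟩) fun g h => by
    refine RegularWreathProduct.ext (funext fun x => Subtype.ext ?_) rfl
    simp only [RegularWreathProduct.mul_left, Pi.mul_apply, Subgroup.coe_mul, QuotientGroup.mk_mul]
    rw [mul_inv_rev, mul_assoc (h : G ⧸ N)⁻¹]
    group

theorem kk_injective {G : Type u} [Group G] (N : Subgroup G) [N.Normal] :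
    Function.Injective (kk N) := by
  rw [injective_iff_map_eq_one]
  intro g hg
  have hr : (g : G ⧸ N) = 1 := congrArg RegularWreathProduct.right hg
  have hl := congrArg Subtype.val (congrFun (congrArg RegularWreathProduct.left hg) 1)
  change (1 : G ⧸ N).out⁻¹ * g * ((g : G ⧸ N)⁻¹ * 1).out = 1 at hl
  rw [hr, inv_one, one_mul] at hl
  calc g = (1 : G ⧸ N).out * ((1 : G ⧸ N).out⁻¹ * g * (1 : G ⧸ N).out) * (1 : G ⧸ N).out⁻¹ := by group
    _ = 1 := by rw [hl]; group

theorem dvd_card_wreath {W Q : Type u} [Group W] [Group Q] [Finite W] [Finite Q] {q : ℕ}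
    (hq : q.Prime) : q ∣ Nat.card (W ≀ᵣ Q) ↔ q ∣ Nat.card W ∨ q ∣ Nat.card Q := by
  rw [RegularWreathProduct.card, hq.dvd_mul]
  exact or_congr_left ⟨hq.dvd_of_dvd_pow, fun h => dvd_pow h Nat.card_pos.ne'⟩

/-- Every solvable group embeds in a group with a model, involving the same primes. -/
theorem exists_model (m : ℕ) [NeZero m] : ∀ (n : ℕ) (G : Type u) [Group G] [Finite G],
    Group.IsSolvable G → Nat.card G = n → (∀ q : ℕ, q.Prime → q ∣ Nat.card G → q ∣ m) →
    ∃ (W : Type u) (_ : Group W) (_ : Fintype W), Nonempty (Model m W) ∧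
      (∃ f : G →* W, Function.Injective f) ∧
      ∀ q : ℕ, q.Prime → (q ∣ Nat.card W ↔ q ∣ Nat.card G) := by
  intro n
  induction n using Nat.strong_induction_on with
  | _ n ih =>
    intro G _ _ hsol hn hm
    haveI := hsol
    rcases subsingleton_or_nontrivial G with hs | hnt
    · refine ⟨PUnit.{u + 1}, inferInstance, inferInstance, ⟨trivialModel m⟩,
        ⟨1, Function.injective_of_subsingleton _⟩, fun q hq => ?_⟩
      rw [Nat.card_unique, Nat.card_of_subsingleton (1 : G)]
    obtain ⟨N, hN, hp⟩ := exists_normal_prime_index G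
    haveI := hN
    haveI := Fact.mk hp
    have hcard : Nat.card N * N.index = Nat.card G := N.card_mul_index
    have hlt : Nat.card N < n := by
      rw [← hn, ← hcard]
      exact lt_mul_of_one_lt_right Nat.card_pos hp.one_lt
    have hNdvd : Nat.card N ∣ Nat.card G := ⟨_, hcard.symm⟩
    obtain ⟨W, iW, iF, ⟨M⟩, ⟨f, hf⟩, hprimes⟩ :=
      ih _ hlt N inferInstance rfl fun q hq h => hm q hq (h.trans hNdvd)
    letI := iW
    letI := iF
    haveI : Fintype (G ⧸ N) := Fintype.ofFinite _
    letI : Fintype (W ≀ᵣ (G ⧸ N)) := Fintype.ofEquiv _ (RegularWreathProduct.equivProd W (G ⧸ N)).symm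
    have hQcard : Nat.card (G ⧸ N) = N.index := rfl
    haveI : IsCyclic (G ⧸ N) := isCyclic_of_prime_card hQcard
    let e : (G ⧸ N) ≃* Multiplicative (ZMod N.index) :=
      ((zmodCyclicMulEquiv (inferInstance : IsCyclic (G ⧸ N))).symm.trans
        (MulEquiv.refl _))
    obtain ⟨t, ht⟩ := hm _ hp ⟨_, hcard.symm.trans (mul_comm _ _)⟩
    let κ : ZMod N.index →+ ZMod m := ZMod.lift N.index ⟨(zmultiplesHom (ZMod m)) (t : ZMod m), by
      show (N.index : ℤ) • (t : ZMod m) = 0
      rw [zsmul_eq_mul, Int.cast_natCast, ← Nat.cast_mul, ← ht, ZMod.natCast_self]⟩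
    have hκ : Function.Injective κ := by
      refine (ZMod.lift_injective _).mpr fun k hk => ?_
      change k • (t : ZMod m) = 0 at hk
      rw [zsmul_eq_mul, ← Int.cast_natCast, ← Int.cast_mul, ZMod.intCast_zmod_eq_zero_iff_dvd] at hk
      rw [ZMod.intCast_zmod_eq_zero_iff_dvd]
      rw [ht, Nat.cast_mul] at hk
      exact Int.dvd_of_mul_dvd_mul_right (by
        intro h0
        rw [Int.natCast_eq_zero] at h0
        exact NeZero.ne m (by rw [ht, h0, mul_zero])) hk
    refine ⟨W ≀ᵣ (G ⧸ N), inferInstance, inferInstance, ⟨wreathModel M e κ hκ⟩, ?_, fun q hq => ?_⟩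
    · refine ⟨(MonoidHom.mk' (fun w : N ≀ᵣ (G ⧸ N) =>
        (⟨fun x => f (w.left x), w.right⟩ : W ≀ᵣ (G ⧸ N))) fun a b => ?_).comp (kk N), ?_⟩
      · exact RegularWreathProduct.ext (funext fun x => map_mul f _ _) rfl
      · intro a b hab'
        have hab : (⟨fun x => f ((kk N a).left x), (kk N a).right⟩ : W ≀ᵣ (G ⧸ N)) =
          ⟨fun x => f ((kk N b).left x), (kk N b).right⟩ := hab'
        have h1 := congrArg RegularWreathProduct.left hab
        have h2 := congrArg RegularWreathProduct.right hab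
        dsimp only at h1 h2
        refine kk_injective N (RegularWreathProduct.ext (funext fun x => hf ?_) h2)
        exact congrFun h1 x
    · rw [dvd_card_wreath hq, hprimes q hq, hQcard, ← hq.dvd_mul, hcard]

section CentralGroup

variable {W : Type u} [Group W] [Fintype W] (M : Model m W)

/-- Left translation on the functions of a model. -/
def Model.act : W →* MulAut (Multiplicative M.L) :=
  MonoidHom.mk'
    (fun g =>
      { toFun := fun φ => Multiplicative.ofAdd
          ⟨fun x => (φ.toAdd : W → ZMod m) (g⁻¹ * x), M.shift_mem _ _ φ.toAdd.2⟩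
        invFun := fun φ => Multiplicative.ofAdd
          ⟨fun x => (φ.toAdd : W → ZMod m) (g * x), M.shift_mem _ _ φ.toAdd.2⟩
        left_inv := fun φ => Multiplicative.toAdd.injective (Subtype.ext (funext fun x => by simp))
        right_inv := fun φ => Multiplicative.toAdd.injective (Subtype.ext (funext fun x => by simp))
        map_mul' := fun φ ψ => Multiplicative.toAdd.injective (Subtype.ext (funext fun x => rfl)) })
    fun g h => MulEquiv.ext fun φ => Multiplicative.toAdd.injective (Subtype.ext (funext fun x => by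
      simp [mul_assoc]))

theorem Model.act_apply (g : W) (φ : Multiplicative M.L) (x : W) :
    ((M.act g φ).toAdd : W → ZMod m) x = (φ.toAdd : W → ZMod m) (g⁻¹ * x) := rfl

/-- The group of central type attached to a model. -/
abbrev Model.Grp := Multiplicative M.L ⋊[M.act] W

instance Model.finite_grp : Finite M.Grp :=
  Finite.of_equiv _ SemidirectProduct.equivProd.symm

theorem Model.mem_center_iff (h : M.Grp) : h ∈ Subgroup.center M.Grp ↔
    h.right = 1 ∧ ∀ x, (h.left.toAdd : W → ZMod m) x = (h.left.toAdd : W → ZMod m) 1 := by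
  constructor
  · intro hh
    have h1 : h.right = 1 := by
      refine inv_eq_one.mp (M.separating _ fun φ hφ => ?_)
      have e := congrArg SemidirectProduct.left
        (Subgroup.mem_center_iff.mp hh (SemidirectProduct.inl (Multiplicative.ofAdd ⟨φ, hφ⟩)))
      simp only [SemidirectProduct.mul_left, SemidirectProduct.left_inl,
        SemidirectProduct.right_inl, map_one, MulAut.one_apply] at e
      rw [mul_comm h.left] at e
      have e' := congrArg (fun z : Multiplicative M.L => (z.toAdd : W → ZMod m) 1)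
        (mul_right_cancel e)
      simp only [M.act_apply, mul_one, toAdd_ofAdd] at e'
      exact e'.symm
    refine ⟨h1, fun x => ?_⟩
    have e := congrArg SemidirectProduct.left
      (Subgroup.mem_center_iff.mp hh (SemidirectProduct.inr x⁻¹))
    simp only [SemidirectProduct.mul_left, SemidirectProduct.left_inr,
      SemidirectProduct.right_inr, one_mul, map_one, mul_one] at e
    have e' := congrArg (fun z : Multiplicative M.L => (z.toAdd : W → ZMod m) 1) e
    rw [M.act_apply, inv_inv, mul_one] at e'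
    exact e'
  · rintro ⟨h1, h2⟩
    rw [Subgroup.mem_center_iff]
    intro g
    refine SemidirectProduct.ext ?_ (by simp [h1])
    rw [SemidirectProduct.mul_left, SemidirectProduct.mul_left, h1, map_one, MulAut.one_apply,
      mul_comm h.left]
    congr 1
    refine Multiplicative.toAdd.injective (Subtype.ext (funext fun x => ?_))
    rw [M.act_apply, h2, h2 x]

/-- The constants form the centre. -/
noncomputable def Model.centerEquiv : ZMod m ≃ Subgroup.center M.Grp :=
  Equiv.ofBijective
    (fun c => ⟨SemidirectProduct.inl (Multiplicative.ofAdd ⟨fun _ => c, M.const_mem c⟩),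
      (M.mem_center_iff _).mpr ⟨rfl, fun _ => rfl⟩⟩)
    ⟨fun c d h => congrArg (fun z : Subgroup.center M.Grp =>
        ((z : M.Grp).left.toAdd : W → ZMod m) 1) h,
      fun ⟨h, hh⟩ => by
        obtain ⟨h1, h2⟩ := (M.mem_center_iff h).mp hh
        exact ⟨(h.left.toAdd : W → ZMod m) 1, Subtype.ext (SemidirectProduct.ext
          (Multiplicative.toAdd.injective (Subtype.ext (funext fun x => (h2 x).symm))) h1.symm)⟩⟩

theorem Model.card_center : Nat.card (Subgroup.center M.Grp) = m := by
  rw [← Nat.card_congr M.centerEquiv, Nat.card_zmod]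

theorem Model.card_grp : Nat.card M.Grp = m * Nat.card W * Nat.card W := by
  rw [SemidirectProduct.card]
  exact congrArg (· * Nat.card W) M.card_L

theorem Model.index_center : (Subgroup.center M.Grp).index = Nat.card W ^ 2 := by
  have h := (Subgroup.center M.Grp).card_mul_index
  rw [M.card_center, M.card_grp, mul_assoc] at h
  rw [Nat.eq_of_mul_eq_mul_left (Nat.pos_of_ne_zero (NeZero.ne m)) h, sq]

theorem Model.inr_injective_mod {G : Type u} [Group G] (f : G →* W) (hf : Function.Injective f) :
    ∃ j : G →* M.Grp ⧸ Subgroup.center M.Grp, Function.Injective j := by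
  refine ⟨((QuotientGroup.mk' _).comp SemidirectProduct.inr).comp f, ?_⟩
  rw [injective_iff_map_eq_one]
  intro g hg
  have h := ((M.mem_center_iff _).mp ((QuotientGroup.eq_one_iff _).mp hg)).1
  exact hf (h.trans (map_one f).symm)

/-- The fully ramified character. -/
noncomputable def Model.chr (h : M.Grp) : ℂ :=
  if h.right = 1 then ∑ x, ZMod.stdAddChar ((h.left.toAdd : W → ZMod m) x) else 0

theorem Model.chr_center {h : M.Grp} (hh : h ∈ Subgroup.center M.Grp) :
    M.chr h = (Nat.card W : ℂ) * ZMod.stdAddChar ((h.left.toAdd : W → ZMod m) 1) := by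
  obtain ⟨h1, h2⟩ := (M.mem_center_iff h).mp hh
  rw [Model.chr, if_pos h1, Finset.sum_congr rfl fun x _ => by rw [h2 x], Finset.sum_const,
    Finset.card_univ, nsmul_eq_mul, Nat.card_eq_fintype_card]

theorem Model.chr_off {h : M.Grp} (hh : h ∉ Subgroup.center M.Grp) : M.chr h = 0 := by
  rw [Model.chr]
  split_ifs with h1
  · refine M.sum_zero _ h.left.toAdd.2 ?_
    by_contra hall
    push Not at hall
    exact hh ((M.mem_center_iff h).mpr ⟨h1, hall⟩)
  · rfl

theorem Model.chr_one : M.chr 1 = (Nat.card W : ℂ) := by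
  rw [M.chr_center (one_mem _)]
  simp

/-- The linear character of the translations. -/
noncomputable def Model.lam :
    (SemidirectProduct.inl : Multiplicative M.L →* M.Grp).range →* ℂˣ :=
  MonoidHom.toHomUnits
    { toFun := fun h => ZMod.stdAddChar ((h.1.left.toAdd : W → ZMod m) 1)
      map_one' := by simp
      map_mul' := fun a b => by
        obtain ⟨φ, hφ⟩ := a.2
        simp only [Subgroup.coe_mul, SemidirectProduct.mul_left, ← hφ, SemidirectProduct.right_inl,
          map_one, MulAut.one_apply, toAdd_mul, AddSubgroup.coe_add, Pi.add_apply,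
          AddChar.map_add_eq_mul] }

theorem Model.isCharacter_chr : Cfsg.IsCharacter M.Grp M.chr := by
  haveI : Fintype M.Grp := Fintype.ofFinite _
  have h := CfsgLib.Char.isCharacter_indFun _ (CfsgLib.Char.isCharacter_monoidHom M.lam)
  convert h using 1
  funext k
  set A := (SemidirectProduct.inl : Multiplicative M.L →* M.Grp).range with hA
  have hmem : ∀ z : M.Grp, z ∈ A ↔ z.right = 1 := fun z => by
    refine ⟨?_, fun hz => ⟨z.left, SemidirectProduct.ext rfl hz.symm⟩⟩
    rintro ⟨φ, rfl⟩
    rfl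
  rw [Cfsg.indFun]
  have hterm : ∀ z : M.Grp, Cfsg.extendByZero A (fun g => ((M.lam g : ℂˣ) : ℂ)) (z⁻¹ * k * z) =
      if k.right = 1 then ZMod.stdAddChar ((k.left.toAdd : W → ZMod m) z.right) else 0 := by
    intro z
    by_cases hk : k.right = 1
    · have hin : z⁻¹ * k * z ∈ A := by rw [hmem]; simp [hk]
      rw [if_pos hk, Cfsg.extendByZero,
        show z⁻¹ * k * z = ((⟨_, hin⟩ : A) : M.Grp) from rfl,
        Subtype.val_injective.extend_apply]
      show ZMod.stdAddChar (((z⁻¹ * k * z).left.toAdd : W → ZMod m) 1) = _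
      congr 1
      simp [SemidirectProduct.mul_left, hk]
      rw [← MulAut.inv_def, ← map_inv, M.act_apply, inv_inv, mul_one]
    · rw [if_neg hk, Cfsg.extendByZero]
      refine Function.extend_apply' _ _ _ ?_
      rintro ⟨a, ha⟩
      have h2 := (hmem _).mp a.2
      rw [ha] at h2
      apply hk
      simp only [SemidirectProduct.mul_right, SemidirectProduct.inv_right] at h2
      calc k.right = z.right * (z.right⁻¹ * k.right * z.right) * z.right⁻¹ := by group
        _ = 1 := by rw [h2]; group
  show M.chr k = (Nat.card A : ℂ)⁻¹ * ∑ z : M.Grp, Cfsg.extendByZero A (fun g => ((M.lam g : ℂˣ) : ℂ)) (z⁻¹ * k * z)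
  rw [Finset.sum_congr rfl fun z _ => hterm z]
  rw [Model.chr]
  split_ifs with hk
  · rw [← Fintype.sum_equiv SemidirectProduct.equivProd.symm
      (fun v : Multiplicative M.L × W => ZMod.stdAddChar ((k.left.toAdd : W → ZMod m) v.2)) _
      (fun v => rfl), Fintype.sum_prod_type]
    simp only []
    rw [Finset.sum_const, Finset.card_univ,
      ← Nat.card_eq_fintype_card, nsmul_eq_mul, ← mul_assoc,
      show Nat.card A = Nat.card (Multiplicative M.L) from Nat.card_congr
        (MonoidHom.ofInjective SemidirectProduct.inl_injective).symm.toEquiv,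
      inv_mul_cancel₀ (Nat.cast_ne_zero.mpr Nat.card_pos.ne'), one_mul]
  · simp

theorem Model.isIrr_chr : Cfsg.IsIrrCharacter M.Grp M.chr := by
  haveI : Fintype M.Grp := Fintype.ofFinite _
  refine CfsgLib.Char.isIrr_of_norm_one M.isCharacter_chr ?_
  rw [Cfsg.classInner]
  have hterm : ∀ h : M.Grp, M.chr h * starRingEnd ℂ (M.chr h) =
      if h ∈ Subgroup.center M.Grp then (Nat.card W : ℂ) * Nat.card W else 0 := by
    intro h
    split_ifs with hh
    · rw [M.chr_center hh, map_mul, Complex.conj_natCast, mul_mul_mul_comm, Complex.mul_conj,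
        Complex.normSq_eq_norm_sq, AddChar.norm_apply]
      simp
    · rw [M.chr_off hh, zero_mul]
  rw [Finset.sum_congr rfl fun h _ => hterm h, ← Finset.sum_filter, Finset.sum_const, nsmul_eq_mul,
    ← Fintype.card_subtype, ← Nat.card_eq_fintype_card,
    show Nat.card {x : M.Grp // x ∈ Subgroup.center M.Grp} = m from M.card_center, M.card_grp]
  have hm : (m : ℂ) ≠ 0 := Nat.cast_ne_zero.mpr (NeZero.ne m)
  have hW : (Nat.card W : ℂ) ≠ 0 := Nat.cast_ne_zero.mpr Nat.card_pos.ne'
  push_cast
  field_simp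

theorem Model.chr_faithful (h : M.Grp) (hh : M.chr h = M.chr 1) : h = 1 := by
  have hW : (Nat.card W : ℂ) ≠ 0 := Nat.cast_ne_zero.mpr Nat.card_pos.ne'
  have hc : h ∈ Subgroup.center M.Grp := by
    by_contra hc
    rw [M.chr_off hc, M.chr_one] at hh
    exact hW hh.symm
  rw [M.chr_center hc, M.chr_one, mul_eq_left₀ hW,
    ← AddChar.map_zero_eq_one (ZMod.stdAddChar (N := m)), ZMod.injective_stdAddChar.eq_iff] at hh
  obtain ⟨h1, h2⟩ := (M.mem_center_iff h).mp hc
  exact SemidirectProduct.ext
    (Multiplicative.toAdd.injective (Subtype.ext (funext fun x => (h2 x).trans hh))) h1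

end CentralGroup

/-- Every finite solvable group is involved in a group of central type. -/
theorem exists_central_type {G : Type u} [Group G] [Finite G] (hsolv : Group.IsSolvable G) :
    ∃ (H : Type u) (_ : Group H) (_ : Finite H) (χ : Cfsg.IrrCharacter H),
      (∀ h : H, (χ : H → ℂ) h = (χ : H → ℂ) 1 → h = 1) ∧
      (Cfsg.charDegree (χ : H → ℂ)) ^ 2 = (Subgroup.center H).index ∧
      (∃ f : G →* H ⧸ Subgroup.center H, Function.Injective f) ∧
      (∀ q : ℕ, q.Prime → ((q ∣ Nat.card H ↔ q ∣ Nat.card G) ∧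
        (q ∣ Nat.card (Subgroup.center H) ↔ q ∣ Nat.card G))) ∧
      Squarefree (Nat.card (Subgroup.center H)) := by
  classical
  set m := ∏ q ∈ (Nat.card G).primeFactors, q with hm
  have hprime : ∀ q ∈ (Nat.card G).primeFactors, q.Prime := fun q hq => Nat.prime_of_mem_primeFactors hq
  haveI : NeZero m := ⟨Finset.prod_ne_zero_iff.mpr fun q hq => (hprime q hq).ne_zero⟩
  have hdvd : ∀ q : ℕ, q.Prime → (q ∣ m ↔ q ∣ Nat.card G) := by
    intro q hq
    rw [hm, (Nat.prime_iff.mp hq).dvd_finset_prod_iff]
    constructor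
    · rintro ⟨r, hr, hqr⟩
      rw [(Nat.prime_dvd_prime_iff_eq hq (hprime r hr)).mp hqr]
      exact Nat.dvd_of_mem_primeFactors hr
    · intro h
      exact ⟨q, Nat.mem_primeFactors.mpr ⟨hq, h, Nat.card_pos.ne'⟩, dvd_rfl⟩
  obtain ⟨W, iW, iF, ⟨M⟩, ⟨f, hf⟩, hprimes⟩ :=
    exists_model m _ G hsolv rfl fun q hq h => (hdvd q hq).mpr h
  letI := iW
  letI := iF
  refine ⟨M.Grp, inferInstance, inferInstance, ⟨M.chr, M.isIrr_chr⟩, M.chr_faithful, ?_,
    M.inr_injective_mod f hf, fun q hq => ⟨?_, ?_⟩, ?_⟩
  · rw [M.index_center, Cfsg.charDegree]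
    show ⌊(M.chr 1).re⌋₊ ^ 2 = _
    rw [M.chr_one, Complex.natCast_re, Nat.floor_natCast]
  · rw [M.card_grp, hq.dvd_mul, hq.dvd_mul, hprimes q hq, hdvd q hq, or_self, or_self]
  · rw [M.card_center, hdvd q hq]
  · rw [M.card_center, hm]
    refine Finset.squarefree_prod_of_pairwise_isCoprime (fun a ha b hb hab => ?_)
      (fun q hq => (hprime q hq).squarefree)
    exact Nat.coprime_iff_isRelPrime.mp
      ((Nat.coprime_primes (hprime a ha) (hprime b hb)).mpr hab)

end CfsgLib.CentralType
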