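import Cfsg.Agent.Lib.Char.Kernel
import Cfsg.Agent.Lib.Char.MeanValue
import Cfsg.Agent.Lib.Char.TICoherent
import Cfsg.Agent.Lib.Blocks.Inflate

/-!
# Codegrees
-/

set_option autoImplicit false

namespace CfsgLib.Char.Codegree

open Cfsg
open scoped ComplexConjugate CfsgLib.Char

variable {G : Type*} [Group G] [Finite G]

/-- The degree, kernel and codegree of an irreducible character. -/
theorem exists_codegree (χ : IrrCharacter G) :
    ∃ (K : Subgroup G) (d c : ℕ), K.Normal ∧ (∀ g, g ∈ K ↔ (χ : G → ℂ) g = (χ : G → ℂ) 1) ∧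
      (χ : G → ℂ) 1 = d ∧ charDegree (χ : G → ℂ) = d ∧ 0 < d ∧ d * d ≤ K.index ∧ K.index = d * c ∧
      Nat.card G / (Nat.card {g : G // (χ : G → ℂ) g = (χ : G → ℂ) 1} * charDegree (χ : G → ℂ)) = c := by
  classical
  obtain ⟨K, hK, hmem, -⟩ := exists_kernel (isCharacter_of_isIrr χ.2)
  obtain ⟨η, hη⟩ := Blocks.exists_inflate_eq_of_ker K χ fun u hu => (hmem u).mp hu
  obtain ⟨d, hd, hd0, q, hq⟩ := exists_degree_dvd_card η.2
  have hχ1 : (χ : G → ℂ) 1 = d := by
    rw [hη]; exact hd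
  have hcd : charDegree (χ : G → ℂ) = d := by
    simp [charDegree, hχ1]
  haveI : Fintype (G ⧸ K) := Fintype.ofFinite _
  have hle : d * d ≤ K.index := by
    have h := sum_degree_mul_irr (G := G ⧸ K) 1
    rw [if_pos rfl] at h
    choose e he using fun ψ : IrrCharacter (G ⧸ K) => exists_nat_degree_irr ψ.2
    have h2 : ((∑ ψ : IrrCharacter (G ⧸ K), e ψ * e ψ : ℕ) : ℂ) = (K.index : ℂ) := by
      rw [Subgroup.index_eq_card, ← h, Nat.cast_sum]
      exact Finset.sum_congr rfl fun ψ _ => by rw [(he ψ).2, Nat.cast_mul]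
    rw [← Nat.cast_injective h2]
    refine le_of_eq_of_le ?_ (Finset.single_le_sum (f := fun ψ => e ψ * e ψ)
      (fun _ _ => Nat.zero_le _) (Finset.mem_univ η))
    have : (e η : ℂ) = d := (he η).2.symm.trans hd
    rw [Nat.cast_injective this]
  refine ⟨K, d, q, hK, hmem, hχ1, hcd, hd0, hle, by rw [Subgroup.index_eq_card, hq], ?_⟩
  have hker : Nat.card {g : G // (χ : G → ℂ) g = (χ : G → ℂ) 1} = Nat.card K :=
    Nat.card_congr (Equiv.subtypeEquivRight fun g => (hmem g).symm)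
  rw [hker, hcd, ← K.card_mul_index, Subgroup.index_eq_card, hq, ← mul_assoc]
  exact Nat.mul_div_cancel_left _ (Nat.mul_pos Nat.card_pos hd0)

/-- Each prime divisor of the group order divides a codegree. -/
theorem exists_prime_dvd_codegree (p : ℕ) (hp : p.Prime) (hdvd : p ∣ Nat.card G) :
    ∃ χ : IrrCharacter G, p ∣
      Nat.card G / (Nat.card {g : G // (χ : G → ℂ) g = (χ : G → ℂ) 1} * charDegree (χ : G → ℂ)) := by
  classical
  by_contra h
  push_neg at h
  haveI := Fact.mk hp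
  haveI : Fintype G := Fintype.ofFinite G
  obtain ⟨P⟩ : Nonempty (Sylow p G) := inferInstance
  set M := Subgroup.normalClosure ((P : Subgroup G) : Set G) with hM
  have hPM : (P : Subgroup G) ≤ M := Subgroup.subset_normalClosure
  have hMidx : ¬ p ∣ M.index := fun hd => P.not_dvd_index (hd.trans (Subgroup.index_dvd_of_le hPM))
  have hdeg : ∀ χ : IrrCharacter G, ∃ n : ℕ, (χ : G → ℂ) 1 * (χ : G → ℂ) 1 -
      (if (∃ k : G, k ∈ M ∧ (χ : G → ℂ) k ≠ (χ : G → ℂ) 1) then 0
        else (χ : G → ℂ) 1 * (χ : G → ℂ) 1) = (p * n : ℕ) := by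
    intro χ
    split_ifs with hk
    swap
    · exact ⟨0, by simp⟩
    obtain ⟨K, d, c, hK, hmem, hχ1, -, -, -, hidx, hcod⟩ := exists_codegree χ
    have hpc : ¬ p ∣ c := fun hpc => h χ (hcod ▸ hpc)
    obtain ⟨k, hkM, hkne⟩ := hk
    have hpK : p ∣ K.index := by
      by_contra hK'
      refine hkne ((hmem k).mp ?_)
      refine Subgroup.normalClosure_le_normal (fun x hx => ?_) hkM
      obtain ⟨i, hi⟩ := P.2 ⟨x, hx⟩
      have h1 : orderOf (QuotientGroup.mk' K x) ∣ p ^ i := orderOf_dvd_of_pow_eq_one (by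
        rw [← map_pow, show x ^ p ^ i = 1 from congrArg Subtype.val hi, map_one])
      have h2 : orderOf (QuotientGroup.mk' K x) ∣ K.index := by
        rw [Subgroup.index_eq_card]; exact orderOf_dvd_natCard _
      have h3 := Nat.eq_one_of_dvd_coprimes ((hp.coprime_iff_not_dvd.mpr hK').pow_left i) h1 h2
      exact (QuotientGroup.eq_one_iff x).mp (orderOf_eq_one_iff.mp h3)
    rw [hidx] at hpK
    obtain ⟨e, he⟩ := (hp.dvd_mul.mp hpK).resolve_right hpc
    exact ⟨e * d, by rw [hχ1, he]; push_cast; ring⟩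
  choose n hn using hdeg
  have hsum : ((p * ∑ χ : IrrCharacter G, n χ : ℕ) : ℂ) + (M.index : ℂ) = (Nat.card G : ℂ) := by
    rw [Finset.mul_sum, Nat.cast_sum, ← TIKernel.sum_sq_constant M, ← Finset.sum_add_distrib,
      ← Finset.sum_congr rfl fun χ _ => by rw [← hn χ, sub_add_cancel]]
    simpa using sum_degree_mul_irr (G := G) 1
  rw [← Nat.cast_add] at hsum
  exact hMidx ((Nat.dvd_add_right ⟨_, rfl⟩).mp ((Nat.cast_injective hsum).symm ▸ hdvd))

/-- A prime does not divide all nontrivial degrees of a group whose order it divides. -/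
theorem exists_degree_not_dvd (p : ℕ) (hp : p.Prime) (hdvd : p ∣ Nat.card G) :
    ∃ χ : IrrCharacter G, (χ : G → ℂ) ≠ (fun _ => 1) ∧ ∀ d : ℕ, (χ : G → ℂ) 1 = d → ¬ p ∣ d := by
  classical
  by_contra h
  push_neg at h
  haveI : Fintype G := Fintype.ofFinite G
  have hdeg : ∀ χ : IrrCharacter G, ∃ n : ℕ, (χ : G → ℂ) 1 * (χ : G → ℂ) 1 -
      (if (χ : G → ℂ) = (fun _ => 1) then 1 else 0) = (p * n : ℕ) := by
    intro χ
    split_ifs with hk
    · exact ⟨0, by simp [hk]⟩
    obtain ⟨d, hd, e, he⟩ := h χ hk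
    exact ⟨e * d, by rw [hd, he]; push_cast; ring⟩
  choose n hn using hdeg
  have hsum : ((p * ∑ χ : IrrCharacter G, n χ + 1 : ℕ) : ℂ) = (Nat.card G : ℂ) := by
    rw [Nat.cast_add, Finset.mul_sum, Nat.cast_sum, ← Finset.sum_congr rfl fun χ _ => hn χ,
      Finset.sum_sub_distrib, Finset.sum_eq_single (⟨fun _ => 1, isIrrCharacter_one⟩ : IrrCharacter G)
        (fun ψ _ hψ => if_neg fun e => hψ (Subtype.ext e)) (by simp)]
    simpa using sum_degree_mul_irr (G := G) 1
  have := (Nat.dvd_add_right ⟨_, rfl⟩).mp ((Nat.cast_injective hsum).symm ▸ hdvd)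
  exact hp.not_dvd_one this

/-- The square of a degree is at most the index of a central subgroup. -/
theorem sq_degree_le_index {χ : G → ℂ} (hχ : IsIrrCharacter G χ) (Z : Subgroup G)
    (hZ : Z ≤ Subgroup.center G) {d : ℕ} (hd : χ 1 = d) : d * d ≤ Z.index := by
  classical
  haveI : Fintype G := Fintype.ofFinite G
  have hn : ∀ z ∈ Z, Complex.normSq (χ z) = (d : ℝ) * d := by
    intro z hz
    have h := central_mul hχ (hZ hz) z⁻¹
    rw [inv_mul_cancel, hd, show χ z⁻¹ = conj (χ z) from irr_inv ⟨χ, hχ⟩ z,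
      ← Complex.normSq_eq_conj_mul_self] at h
    exact_mod_cast h.symm
  have h1 := classInner_irr_self hχ
  simp only [classInner, Complex.mul_conj, ← Complex.ofReal_sum] at h1
  rw [inv_mul_eq_div, div_eq_one_iff_eq (Nat.cast_ne_zero.mpr Nat.card_pos.ne')] at h1
  have h2 : (∑ x : G, Complex.normSq (χ x)) = (Nat.card G : ℝ) := by exact_mod_cast h1
  have h3 : (Nat.card Z : ℝ) * (d * d) ≤ Nat.card G := by
    rw [← h2]
    refine le_trans (le_of_eq ?_) (Finset.sum_le_univ_sum_of_nonneg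
      (s := Finset.univ.filter (· ∈ Z)) fun x => Complex.normSq_nonneg _)
    rw [Finset.sum_congr rfl fun x hx => hn x (Finset.mem_filter.mp hx).2, Finset.sum_const,
      nsmul_eq_mul, Nat.card_eq_fintype_card, Fintype.card_subtype]
  have h4 : Nat.card Z * (d * d) ≤ Nat.card Z * Z.index := by
    rw [Z.card_mul_index]; exact_mod_cast h3
  exact Nat.le_of_mul_le_mul_left h4 Nat.card_pos

end CfsgLib.Char.Codegree
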