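import Cfsg.Agent.Lib.Char.CoherenceSmallFactor

/-!
# Coherence of the characters nontrivial on a central subgroup
-/

set_option autoImplicit false
set_option linter.unusedSectionVars false

namespace CfsgLib.Char.Descent

open Cfsg
open scoped ComplexConjugate CfsgLib.Char commutatorElement

universe u v

variable {L : Type u} [Group L] [Fintype L] (K : Subgroup L) [hK : K.Normal]
  {G : Type v} [Group G] [Fintype G] {τ : (L → ℂ) → (G → ℂ)} {R : (L → ℂ) → Finset (G → ℂ)}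

theorem index_dvd_sub_one (H₁ : Subgroup L) [H₁.Normal] (hH₁K : H₁ ≤ K) (hcomm : ⁅K, K⁆ ≤ H₁)
    (hfrob : ∀ k ∈ K, k ∉ H₁ → ∀ x : L, x * k * x⁻¹ * k⁻¹ ∈ H₁ → x ∈ K) :
    K.index ∣ H₁.relIndex K - 1 := by
  set π := QuotientGroup.mk' H₁ with hπ
  have hsurj : Function.Surjective π := QuotientGroup.mk'_surjective H₁
  haveI hK'n : (K.map π).Normal := Subgroup.Normal.map inferInstance π hsurj
  have hc : Nat.card (K.map π) = H₁.relIndex K := by
    rw [← Subgroup.relIndex_bot_left, ← Subgroup.relIndex_comap, MonoidHom.comap_bot,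
      QuotientGroup.ker_mk']
  rw [← hc]
  refine dvd_card_sub_one _ _ fun x hx hx1 => ?_
  obtain ⟨k, hk, rfl⟩ := hx
  have hcent : Subgroup.centralizer ({π k} : Set (L ⧸ H₁)) = K.map π := by
    apply le_antisymm
    · intro y hy
      obtain ⟨g, rfl⟩ := hsurj y
      rw [Subgroup.mem_centralizer_singleton_iff] at hy
      refine Subgroup.mem_map_of_mem π (hfrob k hk (fun h => hx1 ((QuotientGroup.eq_one_iff _).mpr h)) g ?_)
      rw [← commutatorElement_def]
      refine (QuotientGroup.eq_one_iff _).mp ?_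
      show π _ = 1
      rw [map_commutatorElement, commutatorElement_eq_one_iff_mul_comm]
      exact hy
    · rintro _ ⟨g, hg, rfl⟩
      rw [Subgroup.mem_centralizer_singleton_iff, ← commutatorElement_eq_one_iff_mul_comm,
        ← map_commutatorElement]
      exact (QuotientGroup.eq_one_iff _).mpr (hcomm (Subgroup.commutator_mem_commutator hg hk))
  rw [hcent, Subgroup.index_map_eq _ hsurj (by rw [QuotientGroup.ker_mk']; exact hH₁K)]

theorem coherent_central (hsolv : Group.IsSolvable K)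
    (hS : IsCoherenceSystem (inducedIrrAbove K ⊥) τ R) (hodd : Odd (Nat.card L))
    (hnil : Group.IsNilpotent K) (hH₁K : ⁅K, K⁆ < K) (hKL : K < ⊤)
    (hfrob : ∀ k ∈ K, k ∉ ⁅K, K⁆ → ∀ x : L, x * k * x⁻¹ * k⁻¹ ∈ ⁅K, K⁆ → x ∈ K)
    (Z : Subgroup L) [Z.Normal] (hZ1 : Z ≠ ⊥) (hZK : Z ≤ K) (hZc : ∀ z ∈ Z, ∀ k ∈ K, z * k = k * z)
    (hirr : ∀ χ ∈ inducedIrrAbove K ⊥ \ inducedIrrAbove K Z, IsIrrCharacter L χ) :
    inducedIrrAbove K ⊥ \ inducedIrrAbove K Z = {χ | IsIrrCharacter L χ ∧ ∃ z ∈ Z, χ z ≠ χ 1} ∧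
      IsCoherent (inducedIrrAbove K ⊥ \ inducedIrrAbove K Z) {1}ᶜ τ := by
  classical
  letI : Fintype K := Fintype.ofFinite K
  set X := inducedIrrAbove K ⊥ \ inducedIrrAbove K Z with hX
  set Z' := Z.subgroupOf K with hZ'
  -- membership
  have hXθ : ∀ θ : K → ℂ, IsIrrCharacter K θ → (∃ a : K, (a : L) ∈ Z ∧ θ a ≠ θ 1) → indFun K θ ∈ X := by
    rintro θ h0 ⟨a, ha, hne⟩
    refine ⟨⟨θ, h0, fun e => hne (by rw [e]), fun b hb => ?_, rfl⟩, ?_⟩
    · rw [Subgroup.mem_bot] at hb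
      rw [show b = 1 from Subtype.ext hb]
    · rintro ⟨η, hη, -, hker, he⟩
      obtain ⟨g, hg⟩ := (mem_orbit K).mp ((indFun_eq_iff K hη h0).mp he)
      refine hne ?_
      rw [← hg, conjBy_apply, conjBy_apply_one]
      exact hker _ (Subgroup.Normal.conj_mem inferInstance _ ha g)
  have heq : X = {χ | IsIrrCharacter L χ ∧ ∃ z ∈ Z, χ z ≠ χ 1} := by
    ext χ
    constructor
    · intro hχ
      have hχi := hirr χ hχ
      refine ⟨hχi, ?_⟩
      by_contra hcon
      push Not at hcon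
      obtain ⟨⟨θ, h0, h1, -, rfl⟩, hnot⟩ := hχ
      refine hnot ⟨θ, h0, h1, fun a ha => ?_, rfl⟩
      have hcon' : classInner (fun n : K => indFun K θ n) θ ≠ 0 := by
        rw [← frobenius_reciprocity' K θ (isClassFunction_indFun K θ), classInner_irr_self hχi]
        exact one_ne_zero
      refine Broline.constituent_value_eq (isCharacter_restrict K (isCharacter_of_isIrr hχi)) ?_ h0 hcon'
      simpa using hcon _ ha
    · rintro ⟨hχi, z, hz, hzne⟩
      obtain ⟨θ, hθ⟩ := exists_constituent K (isCharacter_of_isIrr hχi) (irr_degree_ne_zero hχi)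
      have hmem : indFun K (θ : K → ℂ) ∈ X := by
        refine hXθ θ θ.2 ?_
        by_contra hcon
        push Not at hcon
        apply hzne
        have hcl := clifford K hχi θ.2 hθ
        have hz' : (fun n : K => χ n) ⟨z, hZK hz⟩ = (fun n : K => χ n) 1 := by
          rw [hcl]
          simp only [Pi.smul_apply, Finset.sum_apply]
          congr 1
          refine Finset.sum_congr rfl fun φ hφ => ?_
          obtain ⟨g, rfl⟩ := (mem_orbit K).mp hφ
          rw [conjBy_apply, conjBy_apply_one]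
          exact hcon _ (Subgroup.Normal.conj_mem inferInstance _ hz g)
        simpa using hz'
      have hi := hirr _ hmem
      rw [← frobenius_reciprocity' K _ (isClassFunction_of_isCharacter (isCharacter_of_isIrr hχi))] at hθ
      rw [classInner_irr hχi hi] at hθ
      split_ifs at hθ with he
      · rw [he]; exact hmem
      · exact absurd rfl hθ
  refine ⟨heq, ?_⟩
  have hXne : X.Nonempty := by
    obtain ⟨z, hz, hz1⟩ := (Subgroup.bot_or_exists_ne_one Z).resolve_left hZ1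
    by_contra hne
    rw [Set.not_nonempty_iff_eq_empty] at hne
    refine hz1 (eq_one_of_forall_irr fun χ => ?_)
    by_contra hχ
    have : (χ : L → ℂ) ∈ X := heq ▸ ⟨χ.2, z, hz, hχ⟩
    rw [hne] at this
    exact this
  have hXc : ∀ φ ∈ X, conjFun φ ∈ X := by
    intro φ hφ
    rw [heq] at hφ ⊢
    obtain ⟨hi, z, hz, hne⟩ := hφ
    exact ⟨isIrrCharacter_conj hi, z, hz, fun e => hne ((starRingEnd ℂ).injective e)⟩
  have hXS : X ⊆ inducedIrrAbove K ⊥ := Set.diff_subset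
  have hH₁n : (⁅K, K⁆).Normal := inferInstance
  by_cases hpp : ∃ p m : ℕ, p.Prime ∧ (⊥ : Subgroup L).relIndex K = p ^ m
  swap
  · haveI hb : ((⊥ : Subgroup L).subgroupOf K).Normal := by rw [Subgroup.bot_subgroupOf]; infer_instance
    have hnilq : Group.IsNilpotent (↥K ⧸ (⊥ : Subgroup L).subgroupOf K) :=
      Group.nilpotent_of_surjective (QuotientGroup.mk' _) (QuotientGroup.mk'_surjective _)
    have hcoh := coherent_small_factor K hsolv hS hodd ⊥ bot_le hnilq ⁅K, K⁆ (by rw [sup_bot_eq]) hH₁K hKL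
      hfrob (Or.inr (Or.inr (Or.inl hpp)))
    exact coherent_subset hS subset_rfl hXS hXne hXc hcoh
  obtain ⟨p, m, hp, hpm⟩ := hpp
  rw [Subgroup.relIndex_bot_left] at hpm
  haveI := Fact.mk hp
  have hm0 : m ≠ 0 := by
    rintro rfl
    rw [pow_zero, Subgroup.card_eq_one] at hpm
    exact hZ1 (le_bot_iff.mp (hpm ▸ hZK))
  have hp2 : Odd p := hodd.of_dvd_nat ((hpm ▸ dvd_pow_self p hm0).trans (Subgroup.card_subgroup_dvd_card K))
  have hep : p.Coprime K.index := by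
    rw [hp.coprime_iff_not_dvd]
    intro hd
    have h1 := hd.trans (index_dvd_sub_one K _ hH₁K.le le_rfl hfrob)
    have hd2 : (⁅K, K⁆).relIndex K ∣ p ^ m := hpm ▸ Subgroup.relIndex_dvd_card _ _
    obtain ⟨j, -, hj⟩ := (Nat.dvd_prime_pow hp).mp hd2
    have hj0 : j ≠ 0 := fun h0 => hH₁K.not_ge (Subgroup.relIndex_eq_one.mp (by rw [hj, h0, pow_zero]))
    rw [hj] at h1
    have h2 : p ∣ p ^ j := dvd_pow_self p hj0
    have h3 := Nat.dvd_sub h2 h1
    rw [Nat.sub_sub_self (Nat.one_le_pow _ _ hp.pos)] at h3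
    exact hp.not_dvd_one h3
  -- degrees
  have hZ'c : Z' ≤ Subgroup.center K := fun z hz =>
    Subgroup.mem_center_iff.mpr fun k => Subtype.ext (hZc _ hz _ k.2).symm
  have hdeg : ∀ φ ∈ X, ∃ k : ℕ, φ 1 = ((K.index * p ^ k : ℕ) : ℂ) ∧ p ^ (2 * k) ∣ Z'.index := by
    intro φ hφ
    obtain ⟨⟨θ, h0, -, -, rfl⟩, -⟩ := hφ
    obtain ⟨e, he, -, q, hq⟩ := exists_degree_dvd_card h0
    have hed : e ∣ p ^ m := hpm ▸ ⟨q, hq⟩
    obtain ⟨k, -, hk⟩ := (Nat.dvd_prime_pow hp).mp hed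
    refine ⟨k, by rw [indFun_one, he, hk, Nat.cast_mul], ?_⟩
    have h1 := Codegree.sq_degree_le_index h0 Z' hZ'c he
    have hZd : Z'.index ∣ p ^ m := hpm ▸ Z'.index_dvd_card
    obtain ⟨i, -, hi⟩ := (Nat.dvd_prime_pow hp).mp hZd
    rw [hi, hk, ← pow_add] at h1
    rw [hi, two_mul]
    exact pow_dvd_pow p ((Nat.pow_le_pow_iff_right hp.one_lt).mp h1)
  choose! a ha haZ using hdeg
  set d : (L → ℂ) → ℕ := fun φ => K.index * p ^ a φ with hd
  have hsysX := system_subset hS hXS hXne hXc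
  have hn : ∀ φ ∈ X, classInner φ φ = ((1 : ℕ) : ℂ) := fun φ hφ => by
    rw [Nat.cast_one, classInner_irr_self (hirr φ hφ)]
  set F := (family K (⊥ : Subgroup L)).filter (· ∈ X) with hF
  have hFmem : ∀ φ, φ ∈ F ↔ φ ∈ X := fun φ => by
    simp only [hF, Finset.mem_filter, and_iff_right_iff_imp]
    intro hφ
    rw [← Finset.mem_coe, coe_family]
    exact hXS hφ
  have htot : (∑ φ ∈ F, d φ * d φ) + Z.index = Nat.card L := by
    have h := sum_degree_mul_irr (G := L) 1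
    have h2 := TIKernel.sum_sq_constant Z
    rw [if_pos rfl, ← Finset.sum_filter_add_sum_filter_not Finset.univ
      (fun ψ : IrrCharacter L => ∃ z : L, z ∈ Z ∧ (ψ : L → ℂ) z ≠ (ψ : L → ℂ) 1)] at h
    rw [Finset.sum_ite, Finset.sum_const_zero, zero_add] at h2
    rw [h2] at h
    have e : ((∑ φ ∈ F, d φ * d φ : ℕ) : ℂ) = ∑ ψ ∈ Finset.univ.filter (fun ψ : IrrCharacter L =>
        ∃ z : L, z ∈ Z ∧ (ψ : L → ℂ) z ≠ (ψ : L → ℂ) 1), (ψ : L → ℂ) 1 * (ψ : L → ℂ) 1 := by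
      rw [Nat.cast_sum]
      symm
      refine Finset.sum_bij (fun ψ _ => (ψ : L → ℂ)) (fun ψ hψ => ?_) (fun _ _ _ _ e => Subtype.ext e)
        (fun φ hφ => ?_) (fun ψ hψ => ?_)
      · rw [hFmem, heq]; exact ⟨ψ.2, (Finset.mem_filter.mp hψ).2⟩
      · rw [hFmem, heq] at hφ
        exact ⟨⟨φ, hφ.1⟩, Finset.mem_filter.mpr ⟨Finset.mem_univ _, hφ.2⟩, rfl⟩
      · have hm : (ψ : L → ℂ) ∈ X := by rw [heq]; exact ⟨ψ.2, (Finset.mem_filter.mp hψ).2⟩
        simp only [hd, ha _ hm, Nat.cast_mul]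
    rw [← e, ← Nat.cast_add] at h
    exact Nat.cast_injective h
  obtain ⟨χ₁, hχ₁F, hmin⟩ := F.exists_min_image a ⟨_, (hFmem _).mpr hXne.choose_spec⟩
  have hχ₁ : χ₁ ∈ X := (hFmem _).mp hχ₁F
  set X₀ := F.filter fun φ => a φ = a χ₁ with hX₀
  have hX₀c : ∀ φ ∈ X₀, conjFun φ ∈ X₀ := by
    intro φ hφ
    obtain ⟨h1, h2⟩ := Finset.mem_filter.mp hφ
    have hφX := (hFmem φ).mp h1
    refine Finset.mem_filter.mpr ⟨(hFmem _).mpr (hXc φ hφX), ?_⟩
    have e := ha _ (hXc φ hφX)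
    rw [show conjFun φ 1 = conj (φ 1) from rfl, ha φ hφX, map_natCast, Nat.cast_inj] at e
    have := Nat.pow_right_injective hp.two_le (Nat.eq_of_mul_eq_mul_left
      (Nat.pos_of_ne_zero Subgroup.index_ne_zero_of_finite) e)
    omega
  have hX₀coh : IsCoherent (↑X₀ : Set (L → ℂ)) {1}ᶜ τ := by
    refine Coherence.coherent_of_constant_degree (system_subset hsysX (fun φ hφ => (hFmem φ).mp
      (Finset.mem_filter.mp hφ).1) ⟨χ₁, Finset.mem_coe.mpr (Finset.mem_filter.mpr ⟨hχ₁F, rfl⟩)⟩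
      fun φ hφ => hX₀c φ hφ) fun φ hφ ψ hψ => ?_
    obtain ⟨h1, h2⟩ := Finset.mem_filter.mp hφ
    obtain ⟨h3, h4⟩ := Finset.mem_filter.mp hψ
    rw [ha φ ((hFmem φ).mp h1), ha ψ ((hFmem ψ).mp h3), h2, h4]
  set U := F.powerset.filter fun Y : Finset (L → ℂ) =>
    X₀ ⊆ Y ∧ (∀ φ ∈ Y, conjFun φ ∈ Y) ∧ IsCoherent (↑Y : Set (L → ℂ)) {1}ᶜ τ with hU
  have hX₀U : X₀ ∈ U := by
    simp only [hU, Finset.mem_filter, Finset.mem_powerset]
    exact ⟨Finset.filter_subset _ _, le_refl _, hX₀c, hX₀coh⟩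
  obtain ⟨Y, hYU, hYmax⟩ := U.exists_max_image Finset.card ⟨_, hX₀U⟩
  obtain ⟨hYF, hX₀Y, hYc, hYcoh⟩ : Y ⊆ F ∧ X₀ ⊆ Y ∧ (∀ φ ∈ Y, conjFun φ ∈ Y) ∧
      IsCoherent (↑Y : Set (L → ℂ)) {1}ᶜ τ := by
    simpa [hU] using hYU
  by_cases hYall : F ⊆ Y
  · have : X = ↑Y := Set.ext fun φ =>
      ⟨fun h => hYall ((hFmem φ).mpr h), fun h => (hFmem φ).mp (hYF h)⟩
    rwa [this]
  exfalso
  obtain ⟨χ', hχ', hχ'n⟩ := Finset.not_subset.mp hYall
  obtain ⟨χ, hχ, hχmin⟩ := (F \ Y).exists_min_image a ⟨χ', Finset.mem_sdiff.mpr ⟨hχ', hχ'n⟩⟩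
  obtain ⟨hχF, hχY⟩ := Finset.mem_sdiff.mp hχ
  have hχX := (hFmem χ).mp hχF
  have hlt : a χ₁ < a χ := by
    refine lt_of_le_of_ne (hmin χ hχF) fun e => hχY (hX₀Y (Finset.mem_filter.mpr ⟨hχF, e.symm⟩))
  have hsmall : F.filter (fun φ => a φ < a χ) ⊆ Y := by
    intro φ hφ
    obtain ⟨h1, h2⟩ := Finset.mem_filter.mp hφ
    by_contra h3
    exact absurd (hχmin φ (Finset.mem_sdiff.mpr ⟨h1, h3⟩)) (by omega)
  -- the numerical bound
  set T := ∑ φ ∈ F.filter (fun φ => a φ < a χ), p ^ (2 * a φ) with hT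
  have hTpos : 0 < T :=
    Finset.sum_pos (fun φ _ => pow_pos hp.pos _) ⟨χ₁, Finset.mem_filter.mpr ⟨hχ₁F, hlt⟩⟩
  have hTdvd : p ^ (2 * a χ) ∣ T := by
    refine (Nat.Coprime.pow_left (2 * a χ) (hep.mul_right hep)).dvd_of_dvd_mul_left ?_
    have hall : p ^ (2 * a χ) ∣ ∑ φ ∈ F, d φ * d φ := by
      have h3 : Z.index = K.index * Z'.index := by
        rw [mul_comm]; exact (Subgroup.relIndex_mul_index hZK).symm
      have h4 : Nat.card L = K.index * (Z'.index * Nat.card Z') := by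
        rw [Z'.index_mul_card, K.index_mul_card]
      have h5 : ∑ φ ∈ F, d φ * d φ = K.index * Z'.index * (Nat.card Z' - 1) := by
        have hpos : 1 ≤ Nat.card Z' := Nat.card_pos
        rw [h3, h4] at htot
        obtain ⟨c, hc⟩ := Nat.exists_eq_add_of_le hpos
        rw [hc] at htot ⊢
        rw [Nat.add_sub_cancel_left]
        nlinarith
      rw [h5]
      exact ((haZ χ hχX).mul_left _).mul_right _
    rw [← Finset.sum_filter_add_sum_filter_not F (fun φ => a φ < a χ)] at hall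
    have hbig : p ^ (2 * a χ) ∣ ∑ φ ∈ F.filter (fun φ => ¬ a φ < a χ), d φ * d φ := by
      refine Finset.dvd_sum fun φ hφ => ?_
      have hle : a χ ≤ a φ := by
        have := (Finset.mem_filter.mp hφ).2
        omega
      show p ^ (2 * a χ) ∣ K.index * p ^ a φ * (K.index * p ^ a φ)
      rw [show K.index * p ^ a φ * (K.index * p ^ a φ) = K.index * K.index * p ^ (2 * a φ) by ring]
      exact (pow_dvd_pow p (by omega)).mul_left _
    have hsm := (Nat.dvd_add_left hbig).mp hall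
    rw [hT, Finset.mul_sum]
    refine hsm.trans (dvd_of_eq (Finset.sum_congr rfl fun φ _ => ?_))
    show K.index * p ^ a φ * (K.index * p ^ a φ) = K.index * K.index * p ^ (2 * a φ)
    ring
  have hineq : (2 * d χ * d χ₁ : ℝ) < ∑ φ ∈ Y, ((d φ : ℝ) ^ 2 / ((1 : ℕ) : ℝ)) := by
    refine lt_of_lt_of_le ?_ (Finset.sum_le_sum_of_subset_of_nonneg hsmall fun φ _ _ => by positivity)
    have hkey : 2 * d χ * d χ₁ < K.index * K.index * T := by
      have h1 : 2 * p ^ a χ₁ < p ^ a χ := by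
        have h3 : 3 ≤ p := by
          obtain ⟨b, hb⟩ := hp2
          have := hp.two_le
          omega
        have h4 : p ^ (a χ₁ + 1) ≤ p ^ a χ := Nat.pow_le_pow_right hp.pos hlt
        rw [pow_succ] at h4
        have h5 : 0 < p ^ a χ₁ := pow_pos hp.pos _
        nlinarith
      have h2 := Nat.le_of_dvd hTpos hTdvd
      rw [show 2 * a χ = a χ + a χ by ring, pow_add] at h2
      have he : 0 < K.index * K.index := Nat.mul_pos
        (Nat.pos_of_ne_zero Subgroup.index_ne_zero_of_finite) (Nat.pos_of_ne_zero Subgroup.index_ne_zero_of_finite)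
      calc 2 * d χ * d χ₁ = K.index * K.index * (p ^ a χ * (2 * p ^ a χ₁)) := by simp only [hd]; ring
        _ < K.index * K.index * (p ^ a χ * p ^ a χ) := Nat.mul_lt_mul_of_pos_left
            (Nat.mul_lt_mul_of_pos_left h1 (pow_pos hp.pos _)) he
        _ ≤ _ := Nat.mul_le_mul_left _ h2
    have hreal : ((2 * d χ * d χ₁ : ℕ) : ℝ) < ((K.index * K.index * T : ℕ) : ℝ) := Nat.cast_lt.mpr hkey
    refine lt_of_lt_of_eq (by push_cast at hreal ⊢; exact hreal) ?_
    simp only [hT, hd, Finset.mul_sum, Nat.cast_sum, Nat.cast_one, div_one, Nat.cast_mul, Nat.cast_pow]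
    exact Finset.sum_congr rfl fun φ _ => by ring
  have hext := Coherence.extension_criterion hsysX d (fun _ => 1) (fun φ hφ => ha φ hφ) hn Y
    (fun φ hφ => (hFmem φ).mp (hYF hφ)) hYc hYcoh hχX hχY
    (fun h => hχY (by have := hYc _ h; rwa [Coherence.conjFun_conjFun] at this))
    (hX₀Y (Finset.mem_filter.mpr ⟨hχ₁F, rfl⟩))
    (Nat.mul_dvd_mul_left _ (pow_dvd_pow p hlt.le)) hineq
  have hY' : Y ∪ {χ, conjFun χ} ∈ U := by
    simp only [hU, Finset.mem_filter, Finset.mem_powerset]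
    refine ⟨Finset.union_subset hYF ?_, hX₀Y.trans Finset.subset_union_left, fun φ hφ => ?_, ?_⟩
    · intro φ hφ
      rw [hFmem]
      rcases Finset.mem_insert.mp hφ with rfl | hφ
      · exact hχX
      · rw [Finset.mem_singleton.mp hφ]; exact hXc _ hχX
    · simp only [Finset.mem_union, Finset.mem_insert, Finset.mem_singleton] at hφ ⊢
      rcases hφ with h | rfl | rfl
      · exact Or.inl (hYc φ h)
      · exact Or.inr (Or.inr rfl)
      · exact Or.inr (Or.inl (Coherence.conjFun_conjFun _))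
    · simpa [Finset.coe_union] using hext
  have := hYmax _ hY'
  have hlt' : Y.card < (Y ∪ {χ, conjFun χ}).card :=
    Finset.card_lt_card (Finset.ssubset_iff_subset_ne.mpr ⟨Finset.subset_union_left,
      fun h => hχY (by rw [h]; simp)⟩)
  omega

end CfsgLib.Char.Descent
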