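import Cfsg.Agent.Lib.Char.CoherenceExtend
import Cfsg.Agent.Lib.Char.Clifford
import Cfsg.Agent.Lib.Char.Codegree
import Cfsg.Agent.Lib.Char.Monomial
import Cfsg.Agent.Lib.Char.Broline

/-!
# Descent of coherence along normal subgroups
-/

set_option autoImplicit false
set_option linter.unusedSectionVars false

namespace CfsgLib.Char.Descent

open Cfsg
open scoped ComplexConjugate CfsgLib.Char

universe u v

variable {L : Type u} [Group L] [Fintype L] (K : Subgroup L) [hK : K.Normal]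

theorem inducedIrrAbove_anti {A B : Subgroup L} (h : A ≤ B) :
    inducedIrrAbove K B ⊆ inducedIrrAbove K A := by
  rintro φ ⟨θ, h1, h2, h3, h4⟩
  exact ⟨θ, h1, h2, fun a ha => h3 a (h ha), h4⟩

theorem conjFun_indFun [Fintype K] (θ : K → ℂ) : conjFun (indFun K θ) = indFun K (conjFun θ) := by
  classical
  funext g
  simp only [conjFun, indFun, map_mul, map_sum, map_inv₀, map_natCast]
  congr 1
  refine Finset.sum_congr rfl fun x _ => ?_
  by_cases hx : x⁻¹ * g * x ∈ K
  · rw [extendByZero_mem K _ hx, extendByZero_mem K _ hx]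
    rfl
  · rw [extendByZero_notMem K _ hx, extendByZero_notMem K _ hx, map_zero]

theorem inducedIrrAbove_conj [Fintype K] {A : Subgroup L} {φ : L → ℂ} (h : φ ∈ inducedIrrAbove K A) :
    conjFun φ ∈ inducedIrrAbove K A := by
  obtain ⟨θ, h1, h2, h3, rfl⟩ := h
  refine ⟨conjFun θ, isIrrCharacter_conj h1, fun e => h2 ?_, fun a ha => ?_, conjFun_indFun K θ⟩
  · funext x
    have hx := congrFun e x
    simp only [conjFun] at hx
    have := congrArg (starRingEnd ℂ) hx
    simpa using this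
  · simp only [conjFun, h3 a ha]

theorem isCharacter_mem {A : Subgroup L} [Fintype K] {φ : L → ℂ} (h : φ ∈ inducedIrrAbove K A) :
    IsCharacter L φ := by
  obtain ⟨θ, h1, -, -, rfl⟩ := h
  exact isCharacter_indFun K (isCharacter_of_isIrr h1)

/-- The family above a normal subgroup as a finite set. -/
noncomputable def family (A : Subgroup L) : Finset (L → ℂ) :=
  open Classical in
  haveI : Fintype K := Fintype.ofFinite K
  (Finset.univ.filter fun θ : IrrCharacter K =>
    ((θ : K → ℂ) ≠ fun _ => 1) ∧ ∀ a : K, (a : L) ∈ A → (θ : K → ℂ) a = (θ : K → ℂ) 1).image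
    fun θ : IrrCharacter K => indFun K (θ : K → ℂ)

theorem coe_family (A : Subgroup L) : (family K A : Set (L → ℂ)) = inducedIrrAbove K A := by
  ext φ
  simp only [family, Finset.coe_image, Set.mem_image, Finset.mem_coe, Finset.mem_filter,
    Finset.mem_univ, true_and, inducedIrrAbove, Set.mem_setOf_eq]
  constructor
  · rintro ⟨θ, ⟨h1, h2⟩, rfl⟩
    exact ⟨θ, θ.2, h1, h2, rfl⟩
  · rintro ⟨θ, h0, h1, h2, rfl⟩
    exact ⟨⟨θ, h0⟩, ⟨h1, h2⟩, rfl⟩

theorem indFun_eq_iff [Fintype K] {θ η : K → ℂ} (hθ : IsIrrCharacter K θ) (hη : IsIrrCharacter K η) :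
    indFun K η = indFun K θ ↔ η ∈ orbit K θ := by
  constructor
  · intro h
    have h1 := classInner_indFun_indFun K hθ hθ
    rw [if_pos (self_mem_orbit K θ)] at h1
    have h2 := classInner_indFun_indFun K hθ hη
    rw [h, h1] at h2
    by_contra hne
    rw [if_neg hne, div_eq_zero_iff] at h2
    rcases h2 with h2 | h2 <;> exact absurd (Nat.cast_eq_zero.mp h2) Nat.card_pos.ne'
  · intro h
    obtain ⟨g, rfl⟩ := (mem_orbit K).mp h
    exact indFun_conjBy K θ g

/-- The weighted square sum of the family above a normal subgroup. -/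
theorem sum_sq_div (A : Subgroup L) [A.Normal] (d n : (L → ℂ) → ℕ)
    (hd : ∀ φ ∈ inducedIrrAbove K A, φ 1 = (d φ : ℂ))
    (hn : ∀ φ ∈ inducedIrrAbove K A, classInner φ φ = (n φ : ℂ)) :
    ∑ φ ∈ family K A, ((d φ : ℝ) ^ 2 / (n φ : ℝ)) = (K.index : ℝ) * ((A.relIndex K : ℝ) - 1) := by
  classical
  letI : Fintype K := Fintype.ofFinite K
  set T : Finset (IrrCharacter K) := Finset.univ.filter fun θ : IrrCharacter K =>
    ((θ : K → ℂ) ≠ fun _ => 1) ∧ ∀ a : K, (a : L) ∈ A → (θ : K → ℂ) a = (θ : K → ℂ) 1 with hT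
  -- the inner identity
  have hT' : ∀ φ ∈ inducedIrrAbove K A, ∀ θ : IrrCharacter K, indFun K (θ : K → ℂ) = φ →
      ∀ η : IrrCharacter K, (η ∈ T ∧ indFun K (η : K → ℂ) = φ) ↔ (η : K → ℂ) ∈ orbit K (θ : K → ℂ) := by
    intro φ hφ θ hθ η
    constructor
    · rintro ⟨-, h⟩
      exact (indFun_eq_iff K θ.2 η.2).mp (h.trans hθ.symm)
    · intro h
      have h' := ((indFun_eq_iff K θ.2 η.2).mpr h).trans hθ
      refine ⟨?_, h'⟩
      obtain ⟨θ₀, h0, h1, h2, rfl⟩ := hφ
      have hη := (indFun_eq_iff K h0 η.2).mp h'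
      obtain ⟨g, hg⟩ := (mem_orbit K).mp hη
      simp only [hT, Finset.mem_filter, Finset.mem_univ, true_and]
      refine ⟨fun e => h1 ?_, fun a ha => ?_⟩
      · have hh : conjBy K (conjBy K θ₀ g) g⁻¹ = θ₀ := by
          rw [← conjBy_mul, mul_inv_cancel, conjBy_one]
        rw [hg, e] at hh
        exact hh.symm
      · rw [← hg, conjBy_apply, conjBy_apply_one]
        exact h2 _ (Subgroup.Normal.conj_mem inferInstance _ ha g)
  have hval : ∀ φ ∈ inducedIrrAbove K A,
      (K.index : ℂ) * ∑ η ∈ T.filter (fun η : IrrCharacter K => indFun K (η : K → ℂ) = φ), (η : K → ℂ) 1 * (η : K → ℂ) 1 =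
        (d φ : ℂ) ^ 2 / (n φ : ℂ) := by
    intro φ hφ
    obtain ⟨θ, h0, h1, h2, hθ⟩ := hφ
    have hmap : (T.filter fun η : IrrCharacter K => indFun K (η : K → ℂ) = φ).map (Function.Embedding.subtype _) =
        orbit K θ := by
      ext f
      simp only [Finset.mem_map, Finset.mem_filter, Function.Embedding.coe_subtype]
      constructor
      · rintro ⟨η, hη, rfl⟩
        exact (hT' φ ⟨θ, h0, h1, h2, hθ⟩ ⟨θ, h0⟩ hθ.symm η).mp hη
      · intro hf
        obtain ⟨g, rfl⟩ := (mem_orbit K).mp hf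
        exact ⟨⟨_, isIrrCharacter_conjBy K h0 g⟩,
          (hT' φ ⟨θ, h0, h1, h2, hθ⟩ ⟨θ, h0⟩ hθ.symm ⟨_, _⟩).mpr ((mem_orbit K).mpr ⟨g, rfl⟩), rfl⟩
    have hs : ∑ η ∈ T.filter (fun η : IrrCharacter K => indFun K (η : K → ℂ) = φ), (η : K → ℂ) 1 * (η : K → ℂ) 1 =
        ((orbit K θ).card : ℂ) * (θ 1 * θ 1) := by
      rw [← nsmul_eq_mul, ← Finset.sum_const, ← hmap, Finset.sum_map]
      refine Finset.sum_congr rfl fun η hη => ?_
      obtain ⟨g, hg⟩ := (mem_orbit K).mp
        ((hT' φ ⟨θ, h0, h1, h2, hθ⟩ ⟨θ, h0⟩ hθ.symm η).mp (Finset.mem_filter.mp hη))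
      rw [← hg, conjBy_apply_one]
    rw [hs, ← hd φ ⟨θ, h0, h1, h2, hθ⟩, ← hn φ ⟨θ, h0, h1, h2, hθ⟩, hθ, indFun_one,
      classInner_indFun_indFun K h0 h0, if_pos (self_mem_orbit K θ)]
    have hc : ((orbit K θ).card : ℂ) * (Nat.card (inertia K θ) : ℂ) =
        (K.index : ℂ) * (Nat.card K : ℂ) := by
      rw [← Nat.cast_mul, ← Nat.cast_mul, card_orbit_mul, K.index_mul_card]
    have hI : (Nat.card (inertia K θ) : ℂ) ≠ 0 := Nat.cast_ne_zero.mpr Nat.card_pos.ne'
    field_simp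
    linear_combination (θ 1) ^ 2 * (K.index : ℂ) * hc
  -- the total
  have htot : ∑ θ ∈ T, (θ : K → ℂ) 1 * (θ : K → ℂ) 1 = (A.relIndex K : ℂ) - 1 := by
    have h := TIKernel.sum_sq_constant (A.subgroupOf K)
    rw [← Finset.add_sum_erase _ _ (Finset.mem_univ (⟨fun _ => 1, isIrrCharacter_one⟩ : IrrCharacter K)),
      if_neg (by simp)] at h
    rw [Finset.sum_ite, Finset.sum_const_zero, zero_add, one_mul] at h
    rw [eq_sub_iff_add_eq', ← (show (A.subgroupOf K).index = A.relIndex K from rfl), ← h]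
    congr 1
    refine Finset.sum_congr ?_ fun _ _ => rfl
    ext θ
    simp only [hT, Finset.mem_filter, Finset.mem_univ, true_and, Finset.mem_erase, Subgroup.mem_subgroupOf,
      not_exists, not_and, not_not, ne_eq, Subtype.ext_iff, and_true]
  have hfam : family K A = T.image fun θ : IrrCharacter K => indFun K (θ : K → ℂ) := by
    ext φ
    rw [← Finset.mem_coe, coe_family]
    simp only [Finset.mem_image, hT, Finset.mem_filter, Finset.mem_univ, true_and]
    constructor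
    · rintro ⟨θ, h0, h1, h2, rfl⟩
      exact ⟨⟨θ, h0⟩, ⟨h1, h2⟩, rfl⟩
    · rintro ⟨θ, ⟨h1, h2⟩, rfl⟩
      exact ⟨θ, θ.2, h1, h2, rfl⟩
  have hC : (∑ φ ∈ family K A, ((d φ : ℂ) ^ 2 / (n φ : ℂ))) = (K.index : ℂ) * ((A.relIndex K : ℂ) - 1) := by
    rw [← htot, Finset.mul_sum,
      ← Finset.sum_fiberwise_of_maps_to (g := fun θ : IrrCharacter K => indFun K (θ : K → ℂ))
        (t := family K A) fun θ hθ => by rw [hfam]; exact Finset.mem_image_of_mem _ hθ]
    refine Finset.sum_congr rfl fun φ hφ => ?_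
    rw [← hval φ (by rw [← coe_family]; exact hφ), Finset.mul_sum]
  refine Complex.ofReal_injective ?_
  push_cast
  exact hC

/-- A degree bound from a central section. -/
theorem sq_degree_le [Fintype K] {θ : K → ℂ} (hθ : IsIrrCharacter K θ) (B C D : Subgroup L) [B.Normal]
    [C.Normal] [D.Normal] (hBD : B ≤ D) (hDC : D ≤ C) (hCK : C ≤ K)
    (hcent : ∀ x ∈ D, ∀ y ∈ C, x * y * x⁻¹ * y⁻¹ ∈ B)
    (hB : ∀ a : K, (a : L) ∈ B → θ a = θ 1) {d : ℕ} (hd : θ 1 = d) :
    d * d ≤ (C.relIndex K) ^ 2 * D.relIndex C := by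
  classical
  set C' := C.subgroupOf K with hC'
  have hd0 : 0 < d := by
    obtain ⟨e, he, hpos⟩ : ∃ e : ℕ, θ 1 = e ∧ 0 < e := by
      obtain ⟨e, he, hpos, -⟩ := exists_degree_dvd_card hθ
      exact ⟨e, he, hpos⟩
    rw [hd, Nat.cast_inj] at he
    omega
  obtain ⟨ψ, hψ⟩ := exists_constituent C' (isCharacter_of_isIrr hθ) (by rw [hd]; exact_mod_cast hd0.ne')
  obtain ⟨m, hm⟩ : ∃ m : ℕ, classInner (fun c : C' => θ c) (ψ : C' → ℂ) = m := by
    obtain ⟨a, ha⟩ := exists_multiplicities (isCharacter_restrict C' (isCharacter_of_isIrr hθ))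
    refine ⟨a ψ, ?_⟩
    rw [ha, classInner_sum_smul_irr]
  obtain ⟨e, he, -, -⟩ := exists_degree_dvd_card ψ.2
  have hdeg := clifford_degree C' hθ ψ.2 hψ
  rw [hm, hd, he, ← Nat.cast_mul, ← Nat.cast_mul, Nat.cast_inj] at hdeg
  -- d = m * (orbit * e); bound m * orbit by the index
  have hsumsq : m * m * (orbit C' (ψ : C' → ℂ)).card ≤ C'.index := by
    have hres : classInner (fun c : C' => θ c) (fun c : C' => θ c) =
        ((m * m * (orbit C' (ψ : C' → ℂ)).card : ℕ) : ℂ) := by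
      have hcl := clifford C' hθ ψ.2 hψ
      rw [hm] at hcl
      rw [hcl, classInner_smul_left, classInner_smul_right, classInner_sum_left,
        Finset.sum_congr rfl (g := fun _ => (1 : ℂ)) fun φ hφ => ?_]
      · simp only [Finset.sum_const, nsmul_eq_mul, mul_one, map_natCast, Nat.cast_mul]
        ring
      · rw [classInner_sum_right, Finset.sum_eq_single φ]
        · obtain ⟨g, rfl⟩ := (mem_orbit C').mp hφ
          exact classInner_irr_self (isIrrCharacter_conjBy C' ψ.2 g)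
        · intro χ hχ hne
          obtain ⟨g, rfl⟩ := (mem_orbit C').mp hφ
          obtain ⟨g', rfl⟩ := (mem_orbit C').mp hχ
          exact classInner_irr_ne (isIrrCharacter_conjBy C' ψ.2 g) (isIrrCharacter_conjBy C' ψ.2 g') hne.symm
        · exact fun h => absurd hφ h
    have h1 := classInner_irr_self hθ
    simp only [classInner, Complex.mul_conj, ← Complex.ofReal_sum] at hres h1
    rw [inv_mul_eq_div, div_eq_iff (Nat.cast_ne_zero.mpr Nat.card_pos.ne')] at hres h1
    have hr : (∑ c : C', Complex.normSq (θ c)) =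
        ((m * m * (orbit C' (ψ : C' → ℂ)).card : ℕ) : ℝ) * Nat.card C' := by exact_mod_cast hres
    have h2 : (∑ x : K, Complex.normSq (θ x)) = (Nat.card K : ℝ) := by
      rw [one_mul] at h1; exact_mod_cast h1
    have h3 : (∑ c : C', Complex.normSq (θ c)) ≤ ∑ x : K, Complex.normSq (θ x) := by
      refine le_trans (le_of_eq ?_) (Finset.sum_le_univ_sum_of_nonneg
        (s := (Finset.univ : Finset C').map (Function.Embedding.subtype _)) fun x => Complex.normSq_nonneg _)
      rw [Finset.sum_map]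
      rfl
    rw [hr, h2] at h3
    have h4 : m * m * (orbit C' (ψ : C' → ℂ)).card * Nat.card C' ≤ C'.index * Nat.card C' := by
      rw [C'.index_mul_card]; exact_mod_cast h3
    exact Nat.le_of_mul_le_mul_right h4 Nat.card_pos
  -- the central section
  set B' := (B.subgroupOf K).subgroupOf C' with hB'
  set D' := (D.subgroupOf K).subgroupOf C' with hD'
  have hker : ∀ u ∈ B', (ψ : C' → ℂ) u = (ψ : C' → ℂ) 1 := fun u hu =>
    Broline.constituent_value_eq (isCharacter_restrict C' (isCharacter_of_isIrr hθ)) (hB _ hu) ψ.2 hψ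
  obtain ⟨η, hη⟩ := Blocks.exists_inflate_eq_of_ker B' ψ hker
  have hη1 : (η : C' ⧸ B' → ℂ) 1 = e := by
    rw [← he, hη]
    simp [Blocks.inflate]
  have hb := Codegree.sq_degree_le_index η.2 (D'.map (QuotientGroup.mk' B')) (by
    rintro _ ⟨z, hz, rfl⟩
    rw [Subgroup.mem_center_iff]
    intro q
    obtain ⟨c, rfl⟩ := QuotientGroup.mk'_surjective B' q
    rw [← map_mul, ← map_mul, QuotientGroup.mk'_eq_mk']
    refine ⟨(c * z)⁻¹ * (z * c), ?_, by group⟩
    have h := hcent _ (inv_mem (show ((z : K) : L) ∈ D from hz)) _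
      (inv_mem (show ((c : K) : L) ∈ C from c.2))
    simp only [hB', Subgroup.mem_subgroupOf, Subgroup.coe_mul, Subgroup.coe_inv]
    simpa [mul_assoc] using h) hη1
  have hidx : (D'.map (QuotientGroup.mk' B')).index = D.relIndex C := by
    rw [Subgroup.index_map_eq _ (QuotientGroup.mk'_surjective B') (by
      rw [QuotientGroup.ker_mk']; exact fun x hx => hBD hx)]
    show (D.subgroupOf K).relIndex (C.subgroupOf K) = _
    exact Subgroup.relIndex_subgroupOf hCK
  rw [hidx] at hb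
  have h2 : (m * (orbit C' (ψ : C' → ℂ)).card) * (m * (orbit C' (ψ : C' → ℂ)).card) ≤
      C'.index ^ 2 := by
    rw [pow_two]
    exact Nat.mul_le_mul (le_trans (Nat.mul_le_mul_right _ (Nat.le_mul_self m)) hsumsq)
      (le_trans (Nat.mul_le_mul_right _ (Nat.le_mul_self m)) hsumsq)
  calc d * d = (m * (orbit C' (ψ : C' → ℂ)).card) * (m * (orbit C' (ψ : C' → ℂ)).card) * (e * e) := by
        rw [hdeg]; ring
    _ ≤ _ := Nat.mul_le_mul h2 hb

variable {G : Type v} [Group G] [Fintype G] {τ : (L → ℂ) → (G → ℂ)} {R : (L → ℂ) → Finset (G → ℂ)}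

/-- A coherence system restricts to nonempty conjugation-closed subsets. -/
theorem system_subset {S T : Set (L → ℂ)} (hS : IsCoherenceSystem S τ R) (hTS : T ⊆ S)
    (hne : T.Nonempty) (hc : ∀ φ ∈ T, conjFun φ ∈ T) : IsCoherenceSystem T τ R where
  nonempty := hne
  isCharacter χ h := hS.isCharacter χ (hTS h)
  conj_mem := hc
  conj_ne χ h := hS.conj_ne χ (hTS h)
  isometry := ⟨fun α hα β hβ => hS.isometry.1 α (Coherence.zspanOn_mono hTS hα) β (Coherence.zspanOn_mono hTS hβ),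
    fun α hα n => hS.isometry.2.1 α (Coherence.zspanOn_mono hTS hα) n,
    fun α hα β hβ => hS.isometry.2.2.1 α (Coherence.zspanOn_mono hTS hα) β (Coherence.zspanOn_mono hTS hβ),
    fun α hα => hS.isometry.2.2.2 α (Coherence.zspanOn_mono hTS hα)⟩
  map_one α hα := hS.map_one α (Coherence.zspanOn_mono hTS hα)
  orthogonal χ h φ h' := hS.orthogonal χ (hTS h) φ (hTS h')
  orthonormal χ h := hS.orthonormal χ (hTS h)
  virtual χ h := hS.virtual χ (hTS h)
  sum_eq χ h := hS.sum_eq χ (hTS h)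
  disjoint χ h φ h' := hS.disjoint χ (hTS h) φ (hTS h')

/-- Coherence passes to conjugation-closed subsets. -/
theorem coherent_subset {S T U : Set (L → ℂ)} (hS : IsCoherenceSystem S τ R) (hUS : U ⊆ S)
    (hTU : T ⊆ U) (hne : T.Nonempty) (hc : ∀ φ ∈ T, conjFun φ ∈ T) (hU : IsCoherent U {1}ᶜ τ) :
    IsCoherent T {1}ᶜ τ := by
  obtain ⟨-, τ₁, ⟨h1, h2, h3, h4⟩, hagree⟩ := hU
  obtain ⟨χ, hχ⟩ := hne
  have hT := system_subset hS (hTU.trans hUS) ⟨χ, hχ⟩ hc
  refine ⟨⟨_, Coherence.conj_sub_mem hT hχ, fun h => hT.conj_ne χ hχ (sub_eq_zero.mp h).symm⟩, τ₁,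
    ⟨fun α hα β hβ => h1 α (Coherence.zspan_mono hTU hα) β (Coherence.zspan_mono hTU hβ),
      fun α hα n => h2 α (Coherence.zspan_mono hTU hα) n,
      fun α hα β hβ => h3 α (Coherence.zspan_mono hTU hα) β (Coherence.zspan_mono hTU hβ),
      fun α hα => h4 α (Coherence.zspan_mono hTU hα)⟩,
    fun α hα => hagree α (Coherence.zspanOn_mono hTU hα)⟩

/-- A proper normal subgroup of a solvable group lies in the kernel of a nonprincipal linear character. -/
theorem exists_linear {H : Type*} [Group H] [Finite H] [Group.IsSolvable H] (N : Subgroup H) [N.Normal]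
    (hN : N ≠ ⊤) :
    ∃ θ : H → ℂ, IsIrrCharacter H θ ∧ θ 1 = 1 ∧ (θ ≠ fun _ => 1) ∧ ∀ a ∈ N, θ a = θ 1 := by
  haveI : Nontrivial (H ⧸ N) := QuotientGroup.nontrivial_iff.mpr hN
  have hlt : commutator (H ⧸ N) < ⊤ := Group.IsSolvable.commutator_lt_top_of_nontrivial _
  obtain ⟨q, hq⟩ : ∃ q : H ⧸ N, Abelianization.of q ≠ 1 := by
    by_contra h
    push Not at h
    exact hlt.ne (eq_top_iff.mpr fun q _ => by simpa [← Abelianization.ker_of] using h q)
  obtain ⟨f, hf⟩ := CommGroup.exists_apply_ne_one_of_hasEnoughRootsOfUnity (Abelianization (H ⧸ N)) ℂ hq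
  obtain ⟨h, rfl⟩ := QuotientGroup.mk'_surjective N q
  refine ⟨fun x => ((f (Abelianization.of (QuotientGroup.mk' N x)) : ℂˣ) : ℂ),
    isIrrCharacter_monoidHom ((f.comp Abelianization.of).comp (QuotientGroup.mk' N)), by simp,
    fun e => hf (Units.ext (congrFun e h)), fun a ha => ?_⟩
  simp [(QuotientGroup.eq_one_iff a).mpr ha]

/-- **Coherence descends through a central step.** -/
theorem descent (hsolv : Group.IsSolvable K) (hS : IsCoherenceSystem (inducedIrrAbove K ⊥) τ R)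
    (A B C D : Subgroup L) [A.Normal] [B.Normal] [C.Normal] [D.Normal] (hAK : A < K) (hBK : B < K)
    (hBD : B ≤ D) (hDC : D ≤ C) (hCK : C ≤ K) (hcent : ∀ x ∈ D, ∀ y ∈ C, x * y * x⁻¹ * y⁻¹ ∈ B)
    (hA : IsCoherent (inducedIrrAbove K A) {1}ᶜ τ)
    (hlt : 4 * C.index ^ 2 * D.relIndex C < (A.relIndex K - 1) ^ 2) :
    IsCoherent (inducedIrrAbove K B) {1}ᶜ τ := by
  classical
  letI : Fintype K := Fintype.ofFinite K
  set S := inducedIrrAbove K (⊥ : Subgroup L) with hSdef
  have hsub : ∀ X : Subgroup L, inducedIrrAbove K X ⊆ S := fun X => inducedIrrAbove_anti K bot_le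
  set d : (L → ℂ) → ℕ := fun φ => ⌊(φ 1).re⌋₊ with hddef
  set n : (L → ℂ) → ℕ := fun φ => ⌊(classInner φ φ).re⌋₊ with hndef
  have hd : ∀ φ ∈ S, φ 1 = (d φ : ℂ) := by
    intro φ hφ
    obtain ⟨θ, h0, -, -, rfl⟩ := hφ
    obtain ⟨e, he, -, -⟩ := exists_degree_dvd_card h0
    have : indFun K θ 1 = ((K.index * e : ℕ) : ℂ) := by rw [indFun_one, he, Nat.cast_mul]
    simp only [hddef]
    rw [this, Complex.natCast_re, Nat.floor_natCast]
  have hn : ∀ φ ∈ S, classInner φ φ = (n φ : ℂ) := by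
    intro φ hφ
    obtain ⟨k, -, hk, -⟩ := Coherence.exists_norm hS hφ
    simp only [hndef]
    rw [hk, Complex.natCast_re, Nat.floor_natCast]
  haveI := hsolv
  obtain ⟨θ₁, h₁, h₁one, h₁ne, h₁ker⟩ := exists_linear (A.subgroupOf K)
    (fun e => hAK.not_ge (Subgroup.subgroupOf_eq_top.mp e))
  set χ₁ := indFun K θ₁ with hχ₁def
  have hχ₁ : χ₁ ∈ inducedIrrAbove K A := ⟨θ₁, h₁, h₁ne, fun a ha => h₁ker a ha, rfl⟩
  have hd₁ : d χ₁ = K.index := by
    have h := hd χ₁ (hsub A hχ₁)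
    rw [hχ₁def, indFun_one, h₁one, mul_one] at h
    exact (Nat.cast_injective h).symm
  -- a maximal coherent subset
  set U := (family K (⊥ : Subgroup L)).powerset.filter fun X : Finset (L → ℂ) =>
    family K A ⊆ X ∧ (∀ φ ∈ X, conjFun φ ∈ X) ∧ IsCoherent (↑X : Set (L → ℂ)) {1}ᶜ τ with hU
  have hfamA : family K A ∈ U := by
    simp only [hU, Finset.mem_filter, Finset.mem_powerset]
    refine ⟨?_, le_refl _, fun φ hφ => ?_, by rwa [coe_family]⟩
    · rw [← Finset.coe_subset, coe_family, coe_family]; exact hsub A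
    · rw [← Finset.mem_coe, coe_family] at hφ ⊢
      exact inducedIrrAbove_conj K hφ
  obtain ⟨X, hXU, hXmax⟩ := U.exists_max_image Finset.card ⟨_, hfamA⟩
  obtain ⟨hXS, hAX, hXc, hXcoh⟩ : X ⊆ family K ⊥ ∧ family K A ⊆ X ∧ (∀ φ ∈ X, conjFun φ ∈ X) ∧
      IsCoherent (↑X : Set (L → ℂ)) {1}ᶜ τ := by
    simpa [hU] using hXU
  have hXS' : (↑X : Set (L → ℂ)) ⊆ S := by
    rw [hSdef, ← coe_family]; exact Finset.coe_subset.mpr hXS
  suffices hall : inducedIrrAbove K B ⊆ ↑X by
    obtain ⟨θ, h0, -, h1, h2⟩ := exists_linear (B.subgroupOf K)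
      (fun e => hBK.not_ge (Subgroup.subgroupOf_eq_top.mp e))
    exact coherent_subset hS hXS' hall ⟨_, θ, h0, h1, fun a ha => h2 a ha, rfl⟩
      (fun φ hφ => inducedIrrAbove_conj K hφ) hXcoh
  intro χ hχ
  by_contra hχX
  have hχX : χ ∉ X := hχX
  have hχS : χ ∈ S := hsub B hχ
  have hχ2 : conjFun χ ∉ X := fun h => hχX (by
    have := hXc _ h; rwa [Coherence.conjFun_conjFun] at this)
  obtain ⟨θ, h0, -, hθB, hθ⟩ := hχ
  obtain ⟨e, he, -, -⟩ := exists_degree_dvd_card h0
  have hdχ : d χ = K.index * e := by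
    have h := hd χ hχS
    rw [hθ, indFun_one, he, ← Nat.cast_mul] at h
    rw [hθ]
    exact (Nat.cast_injective h).symm
  have hb := sq_degree_le K h0 B C D hBD hDC hCK hcent hθB he
  have hkey : 2 * (K.index * e) < A.relIndex K - 1 := by
    by_contra hcon
    push Not at hcon
    have h1 : (A.relIndex K - 1) ^ 2 ≤ (2 * (K.index * e)) ^ 2 := Nat.pow_le_pow_left hcon 2
    have h2 : C.index = C.relIndex K * K.index := (Subgroup.relIndex_mul_index hCK).symm
    rw [h2] at hlt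
    have h3 : (2 * (K.index * e)) ^ 2 ≤ 4 * (C.relIndex K * K.index) ^ 2 * D.relIndex C := by
      calc (2 * (K.index * e)) ^ 2 = 4 * K.index ^ 2 * (e * e) := by ring
        _ ≤ 4 * K.index ^ 2 * ((C.relIndex K) ^ 2 * D.relIndex C) := Nat.mul_le_mul_left _ hb
        _ = _ := by ring
    omega
  have hineq : (2 * d χ * d χ₁ : ℝ) < ∑ φ ∈ X, ((d φ : ℝ) ^ 2 / (n φ : ℝ)) := by
    refine lt_of_lt_of_le ?_ (Finset.sum_le_sum_of_subset_of_nonneg hAX fun φ _ _ => by positivity)
    rw [sum_sq_div K A d n (fun φ hφ => hd φ (hsub A hφ)) (fun φ hφ => hn φ (hsub A hφ)), hdχ, hd₁]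
    have hpos : (0 : ℝ) < K.index :=
      Nat.cast_pos.mpr (Nat.pos_of_ne_zero Subgroup.index_ne_zero_of_finite)
    have hA1 : 1 ≤ A.relIndex K := by omega
    have hr : (2 * (K.index * e) : ℕ) < ((A.relIndex K - 1 : ℕ) : ℝ) := by exact_mod_cast hkey
    push_cast [Nat.cast_sub hA1] at hr ⊢
    nlinarith
  have hext := Coherence.extension_criterion hS d n hd hn X hXS' hXc hXcoh hχS hχX hχ2
    (hAX (by rw [← Finset.mem_coe, coe_family]; exact hχ₁))
    (by rw [hd₁, hdχ]; exact dvd_mul_right _ _) hineq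
  have hY : X ∪ {χ, conjFun χ} ∈ U := by
    simp only [hU, Finset.mem_filter, Finset.mem_powerset]
    refine ⟨Finset.union_subset hXS ?_, hAX.trans Finset.subset_union_left, fun φ hφ => ?_, ?_⟩
    · intro φ hφ
      rw [← Finset.mem_coe, coe_family]
      rcases Finset.mem_insert.mp hφ with rfl | hφ
      · exact hχS
      · rw [Finset.mem_singleton.mp hφ]; exact inducedIrrAbove_conj K hχS
    · simp only [Finset.mem_union, Finset.mem_insert, Finset.mem_singleton] at hφ ⊢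
      rcases hφ with h | rfl | rfl
      · exact Or.inl (hXc φ h)
      · exact Or.inr (Or.inr rfl)
      · exact Or.inr (Or.inl (Coherence.conjFun_conjFun _))
    · simpa [Finset.coe_union] using hext
  have := hXmax _ hY
  have hlt' : X.card < (X ∪ {χ, conjFun χ}).card :=
    Finset.card_lt_card (Finset.ssubset_iff_subset_ne.mpr ⟨Finset.subset_union_left,
      fun h => hχX (by rw [h]; simp)⟩)
  omega

/-- **Coherence descends through a nilpotent section.** -/
theorem descent_nilpotent (hsolv : Group.IsSolvable K) (hS : IsCoherenceSystem (inducedIrrAbove K ⊥) τ R)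
    (M H₁ H : Subgroup L) [M.Normal] [H₁.Normal] [H.Normal] (hMH₁ : M ≤ H₁) (hH₁H : H₁ ≤ H)
    (hHK : H ≤ K) [(M.subgroupOf H).Normal] (hnil : Group.IsNilpotent (↥H ⧸ M.subgroupOf H))
    (hcoh : IsCoherent (inducedIrrAbove K H₁) {1}ᶜ τ) (hbig : 4 * K.index ^ 2 + 1 < H₁.relIndex H) :
    IsCoherent (inducedIrrAbove K M) {1}ᶜ τ := by
  classical
  let P : Subgroup L → Prop := fun A => A.Normal ∧ M ≤ A ∧ A ≤ H₁ ∧ IsCoherent (inducedIrrAbove K A) {1}ᶜ τ
  obtain ⟨A, hA, hAmin⟩ := (Set.toFinite {A | P A}).exists_minimal ⟨H₁, ⟨inferInstance, hMH₁, le_refl _, hcoh⟩⟩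
  obtain ⟨hAn, hMA, hAH₁, hAcoh⟩ := hA
  rcases hMA.eq_or_lt with h | hlt
  · rwa [h]
  exfalso
  haveI := hAn
  let Q : Subgroup L → Prop := fun B => B.Normal ∧ M ≤ B ∧ B < A
  obtain ⟨B, hB, hBmax⟩ := (Set.toFinite {B | Q B}).exists_maximal ⟨M, ⟨inferInstance, le_refl _, hlt⟩⟩
  obtain ⟨hBn, hMB, hBA⟩ := hB
  haveI := hBn
  have hAH : A ≤ H := hAH₁.trans hH₁H
  -- the chief factor is central
  have hcent : ∀ x ∈ A, ∀ y ∈ H, x * y * x⁻¹ * y⁻¹ ∈ B := by
    haveI : ((B.subgroupOf H)).Normal := Subgroup.normal_subgroupOf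
    have hnilB : Group.IsNilpotent (↥H ⧸ B.subgroupOf H) := by
      refine Group.nilpotent_of_surjective (QuotientGroup.map (M.subgroupOf H) (B.subgroupOf H)
        (MonoidHom.id H) (fun x hx => hMB hx)) ?_
      intro q
      obtain ⟨h, rfl⟩ := QuotientGroup.mk'_surjective (B.subgroupOf H) q
      exact ⟨QuotientGroup.mk' _ h, rfl⟩
    have hle : B ≤ B ⊔ ⁅A, H⁆ := le_sup_left
    have hcomA : ⁅A, H⁆ ≤ A := Subgroup.commutator_le_left A H
    by_contra hne
    push Not at hne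
    obtain ⟨x, hx, y, hy, hxy⟩ := hne
    have hBA' : B ⊔ ⁅A, H⁆ = A := by
      by_contra hne'
      have hQ : Q (B ⊔ ⁅A, H⁆) :=
        ⟨inferInstance, hMB.trans hle, lt_of_le_of_ne (sup_le hBA.le hcomA) hne'⟩
      exact hxy ((hBmax hQ hle) (Subgroup.mem_sup_right
        (Subgroup.commutator_mem_commutator hx hy)))
    -- in the nilpotent quotient this is impossible
    set q := QuotientGroup.mk' (B.subgroupOf H)
    set A' := (A.subgroupOf H).map q
    have hA' : A' ≤ ⁅A', (⊤ : Subgroup (↥H ⧸ B.subgroupOf H))⁆ := by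
      rintro _ ⟨a, ha, rfl⟩
      rw [← Subgroup.map_top_of_surjective q (QuotientGroup.mk'_surjective _), ← Subgroup.map_commutator]
      have ha' : (a : L) ∈ B ⊔ ⁅A, H⁆ := hBA'.symm ▸ ha
      rw [← SetLike.mem_coe, Subgroup.normal_mul] at ha'
      obtain ⟨b, hb, c, hc, hbc⟩ := Set.mem_mul.mp ha'
      have hc' : c ∈ ((⁅A.subgroupOf H, (⊤ : Subgroup H)⁆).map H.subtype) := by
        rw [Subgroup.map_commutator, Subgroup.subgroupOf_map_subtype, inf_eq_left.mpr hAH,
          ← MonoidHom.range_eq_map, Subgroup.range_subtype]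
        exact hc
      obtain ⟨c', hc'm, rfl⟩ := hc'
      refine ⟨c', hc'm, ?_⟩
      rw [QuotientGroup.mk'_eq_mk']
      refine ⟨c'⁻¹ * a, ?_, by group⟩
      simp only [Subgroup.mem_subgroupOf, Subgroup.coe_mul, Subgroup.coe_inv, ← hbc]
      simpa [mul_assoc] using Subgroup.Normal.conj_mem inferInstance b hb ((c' : L))⁻¹
    have hall : ∀ k : ℕ, A' ≤ Subgroup.lowerCentralSeries (⊤ : Subgroup (↥H ⧸ B.subgroupOf H)) k := by
      intro k
      induction k with
      | zero => exact le_top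
      | succ k ih => exact hA'.trans (Subgroup.commutator_mono ih le_rfl)
    obtain ⟨k, hk⟩ := Subgroup.nilpotent_iff_lowerCentralSeries.mp hnilB
    have hbot : A' = ⊥ := le_bot_iff.mp (hk ▸ hall k)
    apply hBA.not_ge
    intro a ha
    have h1 := (Subgroup.map_eq_bot_iff _).mp hbot (show (⟨a, hAH ha⟩ : H) ∈ A.subgroupOf H from ha)
    rw [QuotientGroup.ker_mk'] at h1
    exact h1
  -- numerical condition
  have hH₁H' : H₁.relIndex H ≤ A.relIndex H :=
    Nat.le_of_dvd (Nat.pos_of_ne_zero Subgroup.index_ne_zero_of_finite)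
      (Subgroup.relIndex_dvd_of_le_left H hAH₁)
  have hAK : A < K := by
    refine lt_of_le_of_ne (hAH.trans hHK) fun e => ?_
    rw [e, Subgroup.relIndex_eq_one.mpr hHK] at hH₁H'
    omega
  have hineq : 4 * H.index ^ 2 * A.relIndex H < (A.relIndex K - 1) ^ 2 := by
    have e1 : H.index = H.relIndex K * K.index := (Subgroup.relIndex_mul_index hHK).symm
    have e2 : A.relIndex K = A.relIndex H * H.relIndex K :=
      (Subgroup.relIndex_mul_relIndex A H K hAH hHK).symm
    have hk : 0 < H.relIndex K := Nat.pos_of_ne_zero Subgroup.index_ne_zero_of_finite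
    obtain ⟨h', hh'⟩ : ∃ h', A.relIndex H = h' + 2 := ⟨A.relIndex H - 2, by omega⟩
    rw [hh'] at hH₁H' e2 ⊢
    rw [e1, e2]
    obtain ⟨m, hm⟩ : ∃ m, (h' + 2) * H.relIndex K = m + 1 :=
      ⟨(h' + 2) * H.relIndex K - 1, by
        have : 0 < (h' + 2) * H.relIndex K := by positivity
        omega⟩
    rw [hm, Nat.add_sub_cancel]
    have hb : 4 * K.index ^ 2 ≤ h' := by omega
    nlinarith [Nat.mul_le_mul_left ((h' + 2) * H.relIndex K ^ 2) hb]
  have hBcoh := descent K hsolv hS A B H A hAK (hBA.trans hAK) hBA.le hAH hHK hcent hAcoh hineq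
  exact hBA.not_ge (hAmin ⟨hBn, hMB, hBA.le.trans hAH₁, hBcoh⟩ hBA.le)

end CfsgLib.Char.Descent
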