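import Cfsg.Agent.Lib.Char.Coherence

/-!
# Extending coherence by one more character
-/

set_option autoImplicit false

set_option maxHeartbeats 400000
namespace CfsgLib.Char.Coherence

open Cfsg
open scoped ComplexConjugate CfsgLib.Char

variable {L : Type*} [Group L] [Fintype L] {G : Type*} [Group G] [Fintype G]
variable {S : Set (L → ℂ)} {τ : (L → ℂ) → (G → ℂ)} {R : (L → ℂ) → Finset (G → ℂ)}

/-- A coherent extension takes each character to the span of its own `R`. -/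
theorem image_eq_proj (hS : IsCoherenceSystem S τ R) {S₁ : Set (L → ℂ)} (hsub : S₁ ⊆ S)
    (hc : ∀ φ ∈ S₁, conjFun φ ∈ S₁) {τ₁ : (L → ℂ) → (G → ℂ)}
    (hτ₁ : IsLinearIsometryOn (zspan S₁) τ₁) (hag : ∀ α ∈ zspanOn S₁ {1}ᶜ, τ₁ α = τ α)
    {φ : L → ℂ} (hφ : φ ∈ S₁) : τ₁ φ = proj (R φ) (τ₁ φ) := by
  obtain ⟨n, -, hn, -⟩ := exists_norm hS (hsub hφ)
  set A := τ₁ φ
  have hA : IsGeneralizedCharacter G A := hτ₁.2.2.2 _ (subset_zspan hφ)
  have hd : φ - conjFun φ ∈ zspanOn S₁ {1}ᶜ :=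
    sub_mem_zspanOn hφ (hc φ hφ) (conjFun_one (hS.isCharacter φ (hsub hφ))).symm
  have hsum : classInner A (∑ β ∈ R φ, β) = ((n : ℝ) : ℂ) := by
    rw [← hS.sum_eq φ (hsub hφ), ← hag _ hd,
      hτ₁.2.2.1 _ (subset_zspan hφ) _ (mem_zspanOn_iff.mp hd).1, classInner_sub_right, hn,
      hS.orthogonal φ (hsub hφ) _ (hS.conj_mem φ (hsub hφ)) (hS.conj_ne φ (hsub hφ)).symm, sub_zero]
    norm_cast
  have hb := (sum_le_sum_sq (fun α hα => hS.virtual φ (hsub hφ) α hα) hA hsum).1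
  have hAA : classInner A A = (n : ℂ) := by
    rw [hτ₁.2.2.1 _ (subset_zspan hφ) _ (subset_zspan hφ), hn]
  set a := ∑ α ∈ R φ, ‖classInner A α‖ ^ 2 with ha
  have e1 := classInner_self_proj (R φ) A
  have e3 : classInner (proj (R φ) A) A = (a : ℂ) := by
    rw [← classInner_conj_symm, e1, Complex.conj_ofReal]
  have hz : nrm (A - proj (R φ) A) = (n : ℝ) - a := by
    simp only [nrm, classInner_sub_left, classInner_sub_right, hAA, e1, e3,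
      classInner_proj_proj (orthonormal_R hS (hsub hφ)), ← ha]
    simp
  have h0 := nrm_nonneg (A - proj (R φ) A)
  exact sub_eq_zero.mp (eq_zero_of_nrm (by linarith))

theorem int_smul_eq (n : ℤ) {X : Type*} (φ : X → ℂ) : n • φ = (n : ℂ) • φ :=
  (Int.cast_smul_eq_zsmul ℂ n φ).symm

/-- The coefficient relation for an image of `χ - m • χ₁`. -/
theorem coeff_relation {S₁ : Set (L → ℂ)} {τ₁ : (L → ℂ) → (G → ℂ)} {E : Set (L → ℂ)}
    (hE : zspanOn S₁ {1}ᶜ ⊆ E) (hτ : IsLinearIsometryOn E τ)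
    (hτ₁ : IsLinearIsometryOn (zspan S₁) τ₁) (hag : ∀ α ∈ zspanOn S₁ {1}ᶜ, τ₁ α = τ α)
    (horth : ∀ φ ∈ S₁, ∀ ψ ∈ S₁, φ ≠ ψ → classInner φ ψ = 0)
    {χ χ₁ φ : L → ℂ} (hχ₁ : χ₁ ∈ S₁) (hφ : φ ∈ S₁) {d₁ dφ m : ℕ} (hd₁ : χ₁ 1 = (d₁ : ℂ))
    (hdφ : φ 1 = (dφ : ℂ)) {n₁ : ℕ} (hn₁ : classInner χ₁ χ₁ = (n₁ : ℂ))
    (hχ : ∀ ψ ∈ S₁, classInner χ ψ = 0) (hmem : χ - (m : ℤ) • χ₁ ∈ E) [Decidable (φ = χ₁)] :
    (d₁ : ℂ) * classInner (τ (χ - (m : ℤ) • χ₁)) (τ₁ φ) =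
      (dφ : ℂ) * (classInner (τ (χ - (m : ℤ) • χ₁)) (τ₁ χ₁) + (m : ℂ) * n₁) -
        (m : ℂ) * d₁ * (if φ = χ₁ then (n₁ : ℂ) else 0) := by
  set u := (d₁ : ℤ) • φ - (dφ : ℤ) • χ₁ with hu
  have hu1 : u ∈ zspanOn S₁ {1}ᶜ := mem_zspanOn_iff.mpr
    ⟨zspan_sub (zspan_zsmul _ (subset_zspan hφ)) (zspan_zsmul _ (subset_zspan hχ₁)),
      by simp [hu, hd₁, hdφ, mul_comm]⟩
  have hneg : (-1 : ℤ) • ((dφ : ℤ) • χ₁) ∈ zspan S₁ :=
    zspan_zsmul _ (zspan_zsmul _ (subset_zspan hχ₁))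
  have e : τ₁ u = (d₁ : ℂ) • τ₁ φ - (dφ : ℂ) • τ₁ χ₁ := by
    rw [hu, map_sub_of_isometry hτ₁ (zspan_zsmul _ (subset_zspan hφ))
      (zspan_zsmul _ (subset_zspan hχ₁)) hneg, hτ₁.2.1 _ (subset_zspan hφ),
      hτ₁.2.1 _ (subset_zspan hχ₁), int_smul_eq, int_smul_eq, Int.cast_natCast, Int.cast_natCast]
  have h := hτ.2.2.1 _ hmem u (hE hu1)
  rw [← hag u hu1, e] at h
  simp only [hu, int_smul_eq, Int.cast_natCast, classInner_sub_left, classInner_sub_right,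
    classInner_smul_left, classInner_smul_right, Complex.conj_natCast, hχ φ hφ, hχ χ₁ hχ₁, hn₁] at h
  have hδ : classInner χ₁ φ = if φ = χ₁ then (n₁ : ℂ) else 0 := by
    split_ifs with hc
    · rw [hc, hn₁]
    · exact horth χ₁ hχ₁ φ hφ (Ne.symm hc)
  rw [hδ] at h
  simp only [int_smul_eq, Int.cast_natCast]
  linear_combination h

theorem mem_span_union_pair {S₁ : Set (L → ℂ)} {χ χ' α : L → ℂ}
    (h : α ∈ zspan (S₁ ∪ {χ, χ'})) : ∃ β ∈ zspan S₁, ∃ a b : ℤ, α = β + a • χ + b • χ' := by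
  induction h using Submodule.span_induction with
  | mem φ hφ =>
    rcases hφ with hφ | rfl | rfl
    · exact ⟨φ, subset_zspan hφ, 0, 0, by simp⟩
    · exact ⟨0, zspan_zero, 1, 0, by simp⟩
    · exact ⟨0, zspan_zero, 0, 1, by simp⟩
  | zero => exact ⟨0, zspan_zero, 0, 0, by simp⟩
  | add x y _ _ hx hy =>
    obtain ⟨β, hβ, a, b, rfl⟩ := hx
    obtain ⟨β', hβ', a', b', rfl⟩ := hy
    exact ⟨β + β', zspan_add hβ hβ', a + a', b + b', by simp only [add_smul]; abel⟩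
  | smul k x _ hx =>
    obtain ⟨β, hβ, a, b, rfl⟩ := hx
    exact ⟨k • β, zspan_zsmul k hβ, k * a, k * b, by simp only [smul_add, mul_smul]⟩

theorem mem_span_insert {S₁ : Set (L → ℂ)} {χ α : L → ℂ} (h : α ∈ zspan (insert χ S₁)) :
    ∃ β ∈ zspan S₁, ∃ a : ℤ, α = β + a • χ := by
  induction h using Submodule.span_induction with
  | mem φ hφ =>
    rcases hφ with rfl | hφ
    · exact ⟨0, zspan_zero, 1, by simp⟩
    · exact ⟨φ, subset_zspan hφ, 0, by simp⟩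
  | zero => exact ⟨0, zspan_zero, 0, by simp⟩
  | add x y _ _ hx hy =>
    obtain ⟨β, hβ, a, rfl⟩ := hx
    obtain ⟨β', hβ', a', rfl⟩ := hy
    exact ⟨β + β', zspan_add hβ hβ', a + a', by simp only [add_smul]; abel⟩
  | smul k x _ hx =>
    obtain ⟨β, hβ, a, rfl⟩ := hx
    exact ⟨k • β, zspan_zsmul k hβ, k * a, by simp only [smul_add, mul_smul]⟩

open Classical in
/-- The extension criterion. -/
theorem extension_criterion (hS : IsCoherenceSystem S τ R) (d n : (L → ℂ) → ℕ)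
    (hd : ∀ φ ∈ S, φ 1 = (d φ : ℂ)) (hn : ∀ φ ∈ S, classInner φ φ = (n φ : ℂ))
    (S₁ : Finset (L → ℂ)) (hS₁ : ↑S₁ ⊆ S) (hS₁c : ∀ φ ∈ S₁, conjFun φ ∈ S₁)
    (hcoh : IsCoherent (↑S₁ : Set (L → ℂ)) {1}ᶜ τ) {χ : L → ℂ} (hχ : χ ∈ S) (hχ₁ : χ ∉ S₁)
    (hχ₂ : conjFun χ ∉ S₁) {χ₁ : L → ℂ} (hχ₁S : χ₁ ∈ S₁) (hdvd : d χ₁ ∣ d χ)
    (hineq : (2 * d χ * d χ₁ : ℝ) < ∑ φ ∈ S₁, ((d φ : ℝ) ^ 2 / (n φ : ℝ))) :
    IsCoherent (↑S₁ ∪ {χ, conjFun χ} : Set (L → ℂ)) {1}ᶜ τ := by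
  obtain ⟨⟨α₀, hα₀, hα₀'⟩, τ₁, hτ₁, hag⟩ := hcoh
  refine ⟨⟨α₀, zspanOn_mono Set.subset_union_left hα₀, hα₀'⟩, ?_⟩
  obtain ⟨m, hm⟩ := hdvd
  set d₁ := d χ₁ with hd₁
  set N := n χ
  set n₁ := n χ₁
  have hnpos : ∀ φ ∈ S, 0 < n φ := fun φ hφ => by
    obtain ⟨k, hk, hk', -⟩ := exists_norm hS hφ
    rw [hn φ hφ, Nat.cast_inj] at hk'
    omega
  have hdpos : ∀ φ ∈ S, 0 < d φ := fun φ hφ => by
    refine Nat.pos_of_ne_zero fun h0 => apply_one_ne_zero hS hφ ?_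
    rw [hd φ hφ, h0, Nat.cast_zero]
  have hne₁ : ∀ φ ∈ S₁, φ ≠ χ ∧ φ ≠ conjFun χ := fun φ hφ =>
    ⟨fun e => hχ₁ (e ▸ hφ), fun e => hχ₂ (e ▸ hφ)⟩
  have hχc := hS.conj_mem χ hχ
  have horth₁ : ∀ φ ∈ (↑S₁ : Set (L → ℂ)), ∀ ψ ∈ (↑S₁ : Set (L → ℂ)), φ ≠ ψ → classInner φ ψ = 0 :=
    fun φ hφ ψ hψ => hS.orthogonal φ (hS₁ hφ) ψ (hS₁ hψ)
  have hTmem : χ - (m : ℤ) • χ₁ ∈ zspanOn S {1}ᶜ := mem_zspanOn_iff.mpr
    ⟨zspan_sub (subset_zspan hχ) (zspan_zsmul _ (subset_zspan (hS₁ hχ₁S))), by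
      simp [hd χ hχ, hd χ₁ (hS₁ hχ₁S), hm, hd₁, mul_comm]⟩
  set T := τ (χ - (m : ℤ) • χ₁) with hT
  have hTg : IsGeneralizedCharacter G T := hS.isometry.2.2.2 _ hTmem
  set X := proj (R χ) T with hX
  set a := ∑ α ∈ R χ, ‖classInner T α‖ ^ 2 with ha
  -- the projection bound
  have hoc : classInner χ₁ χ = 0 := hS.orthogonal χ₁ (hS₁ hχ₁S) χ hχ (hne₁ χ₁ hχ₁S).1
  have hoc' : classInner χ₁ (conjFun χ) = 0 :=
    hS.orthogonal χ₁ (hS₁ hχ₁S) _ hχc (hne₁ χ₁ hχ₁S).2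
  have hTR : classInner T (∑ β ∈ R χ, β) = ((N : ℝ) : ℂ) := by
    rw [hT, classInner_map_sum hS hχ hTmem, int_smul_eq, classInner_sub_left, classInner_sub_left,
      classInner_smul_left, classInner_smul_left, hoc, hoc', hn χ hχ,
      hS.orthogonal χ hχ _ hχc (hS.conj_ne χ hχ).symm]
    simp
    rfl
  have hbound := (sum_le_sum_sq (fun α hα => hS.virtual χ hχ α hα) hTg hTR).1
  have hXperp : ∀ φ ∈ S₁, classInner X (τ₁ φ) = 0 := fun φ hφ => by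
    rw [image_eq_proj hS hS₁ hS₁c hτ₁ hag (Finset.mem_coe.mpr hφ)]
    obtain ⟨h1, h2⟩ := hne₁ φ hφ
    obtain ⟨h1', h2'⟩ := other_symm h1 h2
    exact classInner_proj_proj_other hS (hS₁ hφ) hχ h1' h2' T _
  -- the coefficients at the old images
  have hint : ∀ φ, ∃ e : ℤ, φ ∈ S₁ → classInner T (τ₁ φ) = (e : ℂ) := fun φ =>
    if hφ : φ ∈ S₁ then
      (exists_int_classInner hTg (hτ₁.2.2.2 _ (subset_zspan (Finset.mem_coe.mpr hφ)))).imp
        fun _ he _ => he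
    else ⟨0, fun h => absurd h hφ⟩
  choose e he using hint
  set A : ℤ := e χ₁ + m * n₁ with hA
  have hrel : ∀ φ ∈ S₁, (d₁ : ℤ) * e φ = (d φ : ℤ) * A - m * d₁ * (if φ = χ₁ then (n₁ : ℤ) else 0) := by
    intro φ hφ
    have h := coeff_relation (τ := τ) (S₁ := (↑S₁ : Set (L → ℂ)))
      (fun α hα => zspanOn_mono hS₁ hα) hS.isometry hτ₁ hag horth₁ (χ := χ)
      (Finset.mem_coe.mpr hχ₁S) (Finset.mem_coe.mpr hφ) (m := m) (hd χ₁ (hS₁ hχ₁S)) (hd φ (hS₁ hφ))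
      (hn χ₁ (hS₁ hχ₁S))
      (fun ψ hψ => hS.orthogonal χ hχ ψ (hS₁ hψ) (hne₁ ψ hψ).1.symm) hTmem
    rw [← hT, he φ hφ, he χ₁ hχ₁S] at h
    split_ifs at h ⊢ with hc
    · rw [← Int.cast_inj (α := ℂ)]; push_cast [hA]; linear_combination h
    · rw [← Int.cast_inj (α := ℂ)]; push_cast [hA]; linear_combination h
  set P := ∑ φ ∈ S₁, ((e φ : ℂ) / (n φ : ℂ)) • τ₁ φ with hP
  set Q := ∑ φ ∈ S₁, (e φ : ℝ) ^ 2 / (n φ : ℝ) with hQ
  have hPT : classInner T P = (Q : ℂ) := by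
    rw [hP, classInner_sum_right, hQ, Complex.ofReal_sum]
    refine Finset.sum_congr rfl fun φ hφ => ?_
    rw [classInner_smul_right, he φ hφ, map_div₀, Complex.conj_natCast, map_intCast]
    push_cast; ring
  have hPcoef : ∀ φ ∈ S₁, classInner P (τ₁ φ) = (e φ : ℂ) := by
    intro φ hφ
    rw [hP, classInner_sum_left, Finset.sum_eq_single φ (fun ψ hψ hne => by
        rw [classInner_smul_left, hτ₁.2.2.1 _ (subset_zspan hψ) _ (subset_zspan hφ),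
          horth₁ ψ hψ φ hφ hne, mul_zero])
      (fun h => absurd hφ h), classInner_smul_left,
      hτ₁.2.2.1 _ (subset_zspan hφ) _ (subset_zspan hφ), hn φ (hS₁ hφ),
      div_mul_cancel₀ _ (Nat.cast_ne_zero.mpr (hnpos φ (hS₁ hφ)).ne')]
  have hPP : classInner P P = (Q : ℂ) := by
    rw [show classInner P P = classInner P (∑ φ ∈ S₁, ((e φ : ℂ) / (n φ : ℂ)) • τ₁ φ) from congrArg (classInner P) hP]
    rw [classInner_sum_right, hQ, Complex.ofReal_sum]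
    refine Finset.sum_congr rfl fun φ hφ => ?_
    rw [classInner_smul_right, hPcoef φ hφ, map_div₀, Complex.conj_natCast, map_intCast]
    push_cast; ring
  have hXP : classInner X P = 0 := by
    rw [hP, classInner_sum_right]
    exact Finset.sum_eq_zero fun φ hφ => by rw [classInner_smul_right, hXperp φ hφ, mul_zero]
  have hTT : classInner T T = (N : ℂ) + (m : ℂ) ^ 2 * n₁ := by
    have hoc2 : classInner χ χ₁ = 0 := by rw [← classInner_conj_symm, hoc, map_zero]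
    rw [hT, hS.isometry.2.2.1 _ hTmem _ hTmem]
    simp only [int_smul_eq, Int.cast_natCast, classInner_sub_left, classInner_sub_right,
      classInner_smul_left, classInner_smul_right, Complex.conj_natCast, hoc, hoc2, hn χ hχ,
      hn χ₁ (hS₁ hχ₁S)]
    ring
  have hnorm : nrm (T - X - P) = (N : ℝ) + (m : ℝ) ^ 2 * n₁ - a - Q := by
    have e1 : classInner T X = (a : ℂ) := classInner_self_proj (R χ) T
    have e2 : classInner X T = (a : ℂ) := by rw [← classInner_conj_symm, e1, Complex.conj_ofReal]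
    have e3 : classInner X X = (a : ℂ) := classInner_proj_proj (orthonormal_R hS hχ) T
    have e4 : classInner P T = (Q : ℂ) := by rw [← classInner_conj_symm, hPT, Complex.conj_ofReal]
    have e5 : classInner P X = 0 := by rw [← classInner_conj_symm, hXP, map_zero]
    simp only [nrm, classInner_sub_left, classInner_sub_right, hTT, e1, e2, e3, e4, e5, hPT, hPP,
      hXP]
    rw [show ((m : ℂ) ^ 2 * (n₁ : ℂ)) = (((m : ℝ) ^ 2 * (n₁ : ℝ) : ℝ) : ℂ) by push_cast; ring]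
    simp only [Complex.sub_re, Complex.add_re, Complex.ofReal_re, Complex.natCast_re, Complex.zero_re]
    ring
  have h0 := nrm_nonneg (T - X - P)
  have hQval : (d₁ : ℝ) ^ 2 * Q = (A : ℝ) ^ 2 * (∑ φ ∈ S₁, (d φ : ℝ) ^ 2 / (n φ : ℝ)) -
      2 * (A : ℝ) * m * (d₁ : ℝ) ^ 2 + (m : ℝ) ^ 2 * (d₁ : ℝ) ^ 2 * n₁ := by
    have hterm : ∀ φ ∈ S₁, (d₁ : ℝ) ^ 2 * ((e φ : ℝ) ^ 2 / (n φ : ℝ)) =
        (A : ℝ) ^ 2 * ((d φ : ℝ) ^ 2 / (n φ : ℝ)) +
          (if φ = χ₁ then -2 * (A : ℝ) * m * (d₁ : ℝ) ^ 2 + (m : ℝ) ^ 2 * (d₁ : ℝ) ^ 2 * n₁ else 0) := by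
      intro φ hφ
      have h := congrArg (fun z : ℤ => (z : ℝ)) (hrel φ hφ)
      have hn0 : (n φ : ℝ) ≠ 0 := Nat.cast_ne_zero.mpr (hnpos φ (hS₁ hφ)).ne'
      split_ifs with hc
      · subst hc
        simp only [if_pos] at h
        push_cast at h
        rw [show (d₁ : ℝ) ^ 2 * ((e φ : ℝ) ^ 2 / (n φ : ℝ)) = ((d₁ : ℝ) * e φ) ^ 2 / (n φ : ℝ) by ring, h]
        show _ = _ + (_ + (m : ℝ) ^ 2 * (d₁ : ℝ) ^ 2 * (n φ : ℝ))
        rw [hd₁]
        field_simp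
        ring
      · simp only [if_neg hc] at h
        push_cast at h
        rw [show (d₁ : ℝ) ^ 2 * ((e φ : ℝ) ^ 2 / (n φ : ℝ)) = ((d₁ : ℝ) * e φ) ^ 2 / (n φ : ℝ) by ring, h]
        ring
    rw [hQ, Finset.mul_sum, Finset.sum_congr rfl hterm, Finset.sum_add_distrib, ← Finset.mul_sum,
      Finset.sum_ite_eq' S₁ χ₁, if_pos hχ₁S]
    ring
  have hA0 : A = 0 := by
    by_contra hne
    set W := ∑ φ ∈ S₁, (d φ : ℝ) ^ 2 / (n φ : ℝ)
    have hd1pos : (0 : ℝ) < (d₁ : ℝ) ^ 2 := by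
      have : (0 : ℝ) < (d₁ : ℝ) := by exact_mod_cast hdpos χ₁ (hS₁ hχ₁S)
      positivity
    have hle : (A : ℝ) ^ 2 * W ≤ 2 * (A : ℝ) * m * (d₁ : ℝ) ^ 2 := by
      have hbd : Q ≤ (m : ℝ) ^ 2 * n₁ := by linarith
      have := mul_le_mul_of_nonneg_left hbd hd1pos.le
      nlinarith [hQval, this]
    rw [hm] at hineq
    push_cast at hineq
    have hWlt : 2 * (m : ℝ) * (d₁ : ℝ) ^ 2 < W := by nlinarith [hineq]
    have hA2 : (A : ℝ) ≤ (A : ℝ) ^ 2 := by exact_mod_cast Int.le_self_sq A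
    have hApos : (0 : ℝ) < (A : ℝ) ^ 2 := by
      have : (A : ℝ) ≠ 0 := by exact_mod_cast hne
      positivity
    have hm0 : (0 : ℝ) ≤ 2 * (m : ℝ) * (d₁ : ℝ) ^ 2 := by positivity
    nlinarith [mul_lt_mul_of_pos_left hWlt hApos, mul_le_mul_of_nonneg_right hA2 hm0]
  have heq : ∀ φ ∈ S₁, e φ = if φ = χ₁ then -(m : ℤ) * n₁ else 0 := by
    intro φ hφ
    have h := hrel φ hφ
    rw [hA0, mul_zero, zero_sub] at h
    have hd0 : (d₁ : ℤ) ≠ 0 := by exact_mod_cast (hdpos χ₁ (hS₁ hχ₁S)).ne'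
    apply mul_left_cancel₀ hd0
    rw [h]; split_ifs <;> ring
  have hPeq : P = -((m : ℂ) • τ₁ χ₁) := by
    rw [hP, Finset.sum_eq_single χ₁ (fun φ hφ hne => by rw [heq φ hφ, if_neg hne]; simp)
      (fun h => absurd hχ₁S h), heq χ₁ hχ₁S, if_pos rfl, ← neg_smul]
    congr 1
    have : (n₁ : ℂ) ≠ 0 := Nat.cast_ne_zero.mpr (hnpos χ₁ (hS₁ hχ₁S)).ne'
    rw [show n χ₁ = n₁ from rfl]
    push_cast
    field_simp
  have hQeq : Q = (m : ℝ) ^ 2 * n₁ := by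
    have hd0 : (d₁ : ℝ) ^ 2 ≠ 0 := pow_ne_zero _ (Nat.cast_ne_zero.mpr (hdpos χ₁ (hS₁ hχ₁S)).ne')
    apply mul_left_cancel₀ hd0
    rw [hQval, hA0]; push_cast; ring
  have haN : a = (N : ℝ) := by linarith
  have hTeq : T = X - (m : ℂ) • τ₁ χ₁ := by
    have := eq_zero_of_nrm (φ := T - X - P) (by linarith)
    rw [hPeq, sub_neg_eq_add] at this
    rw [← sub_eq_zero, ← this]; abel
  -- the new isometry
  have hXX : classInner X X = (N : ℂ) := by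
    rw [hX, classInner_proj_proj (orthonormal_R hS hχ), ← ha, haN]; norm_cast
  set RS := ∑ β ∈ R χ, β with hRS
  have hXRS : classInner X RS = (N : ℂ) := by
    rw [classInner_sum_right, Finset.sum_congr rfl fun β hβ =>
      proj_coeff (orthonormal_R hS hχ) T hβ, ← classInner_sum_right, hTR]
    norm_cast
  have hRSX : classInner RS X = (N : ℂ) := by rw [← classInner_conj_symm, hXRS, Complex.conj_natCast]
  have hRSRS : classInner RS RS = 2 * (N : ℂ) := sum_R_self hS hχ (hn χ hχ)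
  have hRSperp : ∀ φ ∈ S₁, classInner RS (τ₁ φ) = 0 := fun φ hφ => by
    rw [classInner_sum_left]
    refine Finset.sum_eq_zero fun β hβ => ?_
    rw [image_eq_proj hS hS₁ hS₁c hτ₁ hag (Finset.mem_coe.mpr hφ), classInner_proj]
    refine Finset.sum_eq_zero fun α hα => ?_
    obtain ⟨h1', h2'⟩ := other_symm (hne₁ φ hφ).1 (hne₁ φ hφ).2
    rw [classInner_of_R_disjoint hS (hS₁ hφ) hχ h1' h2' hβ hα, mul_zero]
  set U : Set (L → ℂ) := ↑S₁ ∪ {χ, conjFun χ} with hU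
  have hUS : U ⊆ S := by
    rintro φ (h | h | h)
    · exact hS₁ h
    · rw [h]; exact hχ
    · rw [Set.mem_singleton_iff.mp h]; exact hχc
  obtain ⟨v, v1, v2, v3⟩ : ∃ v : (L → ℂ) → (G → ℂ),
      (∀ φ ∈ S₁, v φ = τ₁ φ) ∧ v χ = X ∧ v (conjFun χ) = X - RS :=
    ⟨fun φ => if φ ∈ S₁ then τ₁ φ else if φ = χ then X else X - RS, fun φ hφ => if_pos hφ,
      (if_neg hχ₁).trans (if_pos rfl), (if_neg hχ₂).trans (if_neg (hS.conj_ne χ hχ))⟩
  have hXg : IsGeneralizedCharacter G X :=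
    isGeneralized_proj (fun α hα => hS.virtual χ hχ α hα) hTg
  obtain ⟨f, hf, hiso⟩ := exists_isometry (S := U) (fun φ hφ ψ hψ => hS.orthogonal φ (hUS hφ) ψ (hUS hψ))
    (fun φ hφ => ne_zero_of_mem hS (hUS hφ)) v
    (by
      rintro φ (h | h | h)
      · rw [v1 φ h]; exact hτ₁.2.2.2 _ (subset_zspan h)
      · rw [h, v2]; exact hXg
      · rw [Set.mem_singleton_iff.mp h, v3]; exact isGeneralized_sub hXg
          (isGeneralized_sum _ _ fun α hα => hS.virtual χ hχ α hα))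
    (by
      have hcc := classInner_conjFun χ χ
      rw [hn χ hχ, Complex.conj_natCast] at hcc
      have o := hS.orthogonal χ hχ _ hχc (hS.conj_ne χ hχ).symm
      have o' := hS.orthogonal _ hχc χ hχ (hS.conj_ne χ hχ)
      have p1 : ∀ ψ ∈ S₁, classInner χ ψ = 0 := fun ψ hψ =>
        hS.orthogonal χ hχ ψ (hS₁ hψ) (hne₁ ψ hψ).1.symm
      have p2 : ∀ ψ ∈ S₁, classInner (conjFun χ) ψ = 0 := fun ψ hψ =>
        hS.orthogonal _ hχc ψ (hS₁ hψ) (hne₁ ψ hψ).2.symm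
      have sL : ∀ {x y : L → ℂ}, classInner x y = 0 → classInner y x = 0 :=
        fun {x y} h => by rw [← classInner_conj_symm, h, map_zero]
      have sG : ∀ {x y : G → ℂ}, classInner x y = 0 → classInner y x = 0 :=
        fun {x y} h => by rw [← classInner_conj_symm, h, map_zero]
      intro φ hφ ψ hψ
      simp only [hU, Set.mem_union, Set.mem_insert_iff, Set.mem_singleton_iff, Finset.mem_coe] at hφ hψ
      rcases hφ with h | h | h <;> rcases hψ with h' | h' | h'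
      · rw [v1 φ h, v1 ψ h']; exact hτ₁.2.2.1 _ (subset_zspan h) _ (subset_zspan h')
      · rw [h', v1 φ h, v2, sL (p1 φ h), sG (hXperp φ h)]
      · rw [h', v1 φ h, v3, classInner_sub_right, sL (p2 φ h), sG (hXperp φ h), sG (hRSperp φ h), sub_zero]
      · rw [h, v2, v1 ψ h', p1 ψ h', hXperp ψ h']
      · rw [h, h', v2, hXX, hn χ hχ]
      · rw [h, h', v2, v3, classInner_sub_right, hXX, hXRS, o, sub_self]
      · rw [h, v3, v1 ψ h', classInner_sub_left, p2 ψ h', hXperp ψ h', hRSperp ψ h', sub_zero]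
      · rw [h, h', v3, v2, classInner_sub_left, hXX, hRSX, o', sub_self]
      · rw [h, h', v3, classInner_sub_left, classInner_sub_right, classInner_sub_right, hXX, hXRS, hRSX, hRSRS, hcc]
        ring)
  refine ⟨f, hiso, fun α hα => ?_⟩
  obtain ⟨hαs, hα1⟩ := mem_zspanOn_iff.mp hα
  obtain ⟨β, hβ, p, q, rfl⟩ := mem_span_union_pair hαs
  have hf₁ : f β = τ₁ β := map_eq_of_span hτ₁ f
    (fun φ hφ => (hf φ (Or.inl hφ)).trans (v1 φ hφ)) β hβ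
  have hχ₁z : χ₁ ∈ zspan (↑S₁ : Set (L → ℂ)) := subset_zspan hχ₁S
  set β' := β + (((p + q) * m : ℤ)) • χ₁ with hβ'
  have hβ'z : β' ∈ zspanOn (↑S₁ : Set (L → ℂ)) {1}ᶜ := by
    refine mem_zspanOn_iff.mpr ⟨zspan_add hβ (zspan_zsmul _ hχ₁z), ?_⟩
    simp only [int_smul_eq, Pi.add_apply, Pi.smul_apply, smul_eq_mul, hd χ hχ, hd χ₁ (hS₁ hχ₁S),
      conjFun_one (hS.isCharacter χ hχ), hm] at hα1
    simp only [hβ', int_smul_eq, Pi.add_apply, Pi.smul_apply, smul_eq_mul, hd χ₁ (hS₁ hχ₁S)]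
    push_cast at hα1 ⊢
    linear_combination hα1
  have hDmem := conj_sub_mem hS hχ
  have hsplit : β + p • χ + q • conjFun χ =
      β' + ((p + q) • (χ - (m : ℤ) • χ₁) + (-q) • (χ - conjFun χ)) := by
    simp only [hβ', int_smul_eq, smul_sub, smul_smul]
    push_cast
    simp only [add_smul, neg_smul, mul_smul, add_mul]
    abel
  rw [hsplit, hS.isometry.1 β' (zspanOn_mono hS₁ hβ'z) _
      (zspanOn_add (zspanOn_zsmul _ hTmem) (zspanOn_zsmul _ hDmem)),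
    hS.isometry.1 _ (zspanOn_zsmul _ hTmem) _ (zspanOn_zsmul _ hDmem),
    hS.isometry.2.1 _ hTmem, hS.isometry.2.1 _ hDmem, ← hag β' hβ'z, hS.sum_eq χ hχ, ← hT, hTeq,
    hτ₁.1 _ hβ _ (zspan_zsmul _ hχ₁z), hτ₁.2.1 _ hχ₁z, ← hsplit, map_add, map_add, map_zsmul,
    map_zsmul, hf₁, hf χ (Or.inr (Or.inl rfl)), hf (conjFun χ) (Or.inr (Or.inr rfl)), v2, v3]
  simp only [int_smul_eq, smul_sub, smul_smul]
  push_cast
  simp only [add_smul, neg_smul, mul_smul, add_mul]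
  abel

end CfsgLib.Char.Coherence
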