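import Cfsg.Agent.Lib.Char.CoherenceExtend

/-!
# Coherence of sets of irreducible characters
-/

set_option autoImplicit false

namespace CfsgLib.Char.Coherence

open Cfsg
open scoped ComplexConjugate CfsgLib.Char

variable {L : Type*} [Group L] [Fintype L] {G : Type*} [Group G] [Fintype G]

theorem orth_irr {S : Set (L → ℂ)} (h : ∀ ξ ∈ S, IsIrrCharacter L ξ) :
    ∀ φ ∈ S, ∀ ψ ∈ S, φ ≠ ψ → classInner φ ψ = 0 :=
  fun φ hφ ψ hψ hne => classInner_irr_ne (h φ hφ) (h ψ hψ) hne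

theorem irr_ne_zero {S : Set (L → ℂ)} (h : ∀ ξ ∈ S, IsIrrCharacter L ξ) : ∀ φ ∈ S, φ ≠ 0 :=
  fun φ hφ e => irr_degree_ne_zero (h φ hφ) (by rw [e]; rfl)

theorem signed_of_image {S : Set (L → ℂ)} (h : ∀ ξ ∈ S, IsIrrCharacter L ξ)
    {τ₁ : (L → ℂ) → (G → ℂ)} (hτ₁ : IsLinearIsometryOn (zspan S) τ₁) {φ : L → ℂ} (hφ : φ ∈ S) :
    ∃ ε : ℂ, (ε = 1 ∨ ε = -1) ∧ ∃ k : IrrCharacter G, τ₁ φ = ε • (k : G → ℂ) :=
  exists_of_norm_one (hτ₁.2.2.2 φ (subset_zspan hφ))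
    (by rw [hτ₁.2.2.1 _ (subset_zspan hφ) _ (subset_zspan hφ), classInner_irr_self (h φ hφ)])

theorem image_apply_one_ne_zero {S : Set (L → ℂ)} (h : ∀ ξ ∈ S, IsIrrCharacter L ξ)
    {τ₁ : (L → ℂ) → (G → ℂ)} (hτ₁ : IsLinearIsometryOn (zspan S) τ₁) {φ : L → ℂ} (hφ : φ ∈ S) :
    τ₁ φ 1 ≠ 0 := by
  obtain ⟨ε, hε, k, hk⟩ := signed_of_image h hτ₁ hφ
  rw [hk, Pi.smul_apply, smul_eq_mul]
  refine mul_ne_zero ?_ (irr_degree_ne_zero k.2)
  rcases hε with rfl | rfl <;> norm_num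

/-- The values at one of a coherent extension are proportional to the degrees. -/
theorem image_ratio {S E : Set (L → ℂ)} {τ τ₁ : (L → ℂ) → (G → ℂ)}
    (hτ₁ : IsLinearIsometryOn (zspan S) τ₁) (hag : ∀ α ∈ zspanOn S {1}ᶜ, τ₁ α = τ α)
    (hE : zspanOn S {1}ᶜ ⊆ E) (hτ1 : ∀ α ∈ E, τ α 1 = 0) {φ ψ : L → ℂ} (hφ : φ ∈ S) (hψ : ψ ∈ S)
    {a b : ℕ} (ha : φ 1 = (a : ℂ)) (hb : ψ 1 = (b : ℂ)) :
    (b : ℂ) * τ₁ φ 1 = (a : ℂ) * τ₁ ψ 1 := by
  set u := (b : ℤ) • φ - (a : ℤ) • ψ with hu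
  have hu1 : u ∈ zspanOn S {1}ᶜ := mem_zspanOn_iff.mpr
    ⟨zspan_sub (zspan_zsmul _ (subset_zspan hφ)) (zspan_zsmul _ (subset_zspan hψ)),
      by simp [hu, ha, hb, mul_comm]⟩
  have h := hτ1 u (hE hu1)
  rw [← hag u hu1, hu, map_sub_of_isometry hτ₁ (zspan_zsmul _ (subset_zspan hφ))
    (zspan_zsmul _ (subset_zspan hψ)) (zspan_zsmul _ (zspan_zsmul _ (subset_zspan hψ))),
    hτ₁.2.1 _ (subset_zspan hφ), hτ₁.2.1 _ (subset_zspan hψ), int_smul_eq, int_smul_eq] at h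
  simp only [Int.cast_natCast, Pi.sub_apply, Pi.smul_apply, smul_eq_mul] at h
  exact sub_eq_zero.mp h

open Classical in
/-- Feit's criterion. -/
theorem feit_criterion (S₀ : Finset (L → ℂ)) {χ : L → ℂ} (hirr : ∀ ξ ∈ S₀, IsIrrCharacter L ξ)
    (hχ : IsIrrCharacter L χ) (hχS : χ ∉ S₀) (d : (L → ℂ) → ℕ)
    (hd : ∀ ξ ∈ insert χ S₀, ξ 1 = (d ξ : ℂ)) (τ : (L → ℂ) → (G → ℂ))
    (hτ : IsLinearIsometryOn (zspanOn (↑(insert χ S₀) : Set (L → ℂ)) {1}ᶜ) τ)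
    (hτ1 : ∀ α ∈ zspanOn (↑(insert χ S₀) : Set (L → ℂ)) {1}ᶜ, τ α 1 = 0)
    (hcoh : IsCoherent (↑S₀ : Set (L → ℂ)) {1}ᶜ τ) {ψ : L → ℂ} (hψ : ψ ∈ S₀) (hdvd : d ψ ∣ d χ)
    (hlt : 2 * d ψ * d χ < ∑ ξ ∈ S₀, d ξ ^ 2) :
    IsCoherent (↑(insert χ S₀) : Set (L → ℂ)) {1}ᶜ τ := by
  rw [Finset.coe_insert] at hτ hτ1 ⊢
  obtain ⟨⟨α₀, hα₀, hα₀'⟩, τ₁, hτ₁, hag⟩ := hcoh
  refine ⟨⟨α₀, zspanOn_mono (Set.subset_insert _ _) hα₀, hα₀'⟩, ?_⟩
  obtain ⟨m, hm⟩ := hdvd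
  have hirr₀ : ∀ ξ ∈ (↑S₀ : Set (L → ℂ)), IsIrrCharacter L ξ := hirr
  have hirrU : ∀ ξ ∈ insert χ (↑S₀ : Set (L → ℂ)), IsIrrCharacter L ξ := by
    intro ξ hξ
    rcases Set.mem_insert_iff.mp hξ with h | h
    · rw [h]; exact hχ
    · exact hirr ξ h
  have hdp : ∀ ξ ∈ insert χ S₀, 0 < d ξ := by
    intro ξ hξ
    refine Nat.pos_of_ne_zero fun h0 => irr_degree_ne_zero (hirrU ξ (by simpa using hξ)) ?_
    rw [hd ξ hξ, h0, Nat.cast_zero]
  have hdψ := hdp ψ (Finset.mem_insert_of_mem hψ)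
  have hmpos : 0 < m := by
    rcases Nat.eq_zero_or_pos m with h | h
    · have := hdp χ (Finset.mem_insert_self _ _); rw [hm, h, mul_zero] at this; omega
    · exact h
  have hψz : ψ ∈ zspan (↑S₀ : Set (L → ℂ)) := subset_zspan (Finset.mem_coe.mpr hψ)
  have hχψ : ∀ ξ ∈ (↑S₀ : Set (L → ℂ)), classInner χ ξ = 0 := fun ξ hξ =>
    classInner_irr_ne hχ (hirr ξ hξ) fun e => hχS (e ▸ hξ)
  have hTmem : χ - (m : ℤ) • ψ ∈ zspanOn (insert χ (↑S₀ : Set (L → ℂ))) {1}ᶜ :=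
    mem_zspanOn_iff.mpr ⟨zspan_sub (subset_zspan (Set.mem_insert _ _))
      (zspan_zsmul _ (zspan_mono (Set.subset_insert _ _) hψz)), by
      simp [hd χ (Finset.mem_insert_self _ _), hd ψ (Finset.mem_insert_of_mem hψ), hm, mul_comm]⟩
  set T := τ (χ - (m : ℤ) • ψ) with hT
  have hTg : IsGeneralizedCharacter G T := hτ.2.2.2 _ hTmem
  have hint : ∀ φ, ∃ e : ℤ, φ ∈ S₀ → classInner T (τ₁ φ) = (e : ℂ) := fun φ =>
    if hφ : φ ∈ S₀ then
      (exists_int_classInner hTg (hτ₁.2.2.2 _ (subset_zspan (Finset.mem_coe.mpr hφ)))).imp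
        fun _ he _ => he
    else ⟨0, fun h => absurd h hφ⟩
  choose e he using hint
  set A : ℤ := e ψ + m with hA
  have hrel : ∀ φ ∈ S₀, (d ψ : ℤ) * e φ =
      (d φ : ℤ) * A - (if φ = ψ then (m : ℤ) * d ψ else 0) := by
    intro φ hφ
    have h := coeff_relation (τ := τ) (S₁ := (↑S₀ : Set (L → ℂ)))
      (fun α hα => zspanOn_mono (Set.subset_insert _ _) hα) hτ hτ₁ hag (orth_irr hirr₀) (χ := χ)
      (Finset.mem_coe.mpr hψ) (Finset.mem_coe.mpr hφ) (m := m) (n₁ := 1)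
      (hd ψ (Finset.mem_insert_of_mem hψ)) (hd φ (Finset.mem_insert_of_mem hφ))
      (by rw [classInner_irr_self (hirr ψ hψ), Nat.cast_one]) hχψ hTmem
    rw [← hT, he φ hφ, he ψ hψ] at h
    rw [← Int.cast_inj (α := ℂ)]
    split_ifs at h ⊢ with hc
    · push_cast [hA]; push_cast at h; linear_combination h
    · push_cast [hA]; push_cast at h; linear_combination h
  set Y := T - ∑ φ ∈ S₀, (e φ : ℂ) • τ₁ φ with hY
  have hYg : IsGeneralizedCharacter G Y := isGeneralized_sub hTg (isGeneralized_sum _ _ fun φ hφ =>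
    isGeneralized_intCast_smul (hτ₁.2.2.2 _ (subset_zspan (Finset.mem_coe.mpr hφ))) _)
  have hYperp : ∀ φ ∈ S₀, classInner Y (τ₁ φ) = 0 := by
    intro φ hφ
    rw [hY, classInner_sub_left, classInner_sum_left, Finset.sum_eq_single φ
      (fun ξ hξ hne => by
        rw [classInner_smul_left, hτ₁.2.2.1 _ (subset_zspan hξ) _ (subset_zspan hφ),
          orth_irr hirr₀ ξ hξ φ hφ hne, mul_zero])
      (fun h => absurd hφ h), classInner_smul_left,
      hτ₁.2.2.1 _ (subset_zspan hφ) _ (subset_zspan hφ), classInner_irr_self (hirr φ hφ),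
      he φ hφ, mul_one, sub_self]
  have hYY : classInner Y Y = ((1 + (m : ℤ) ^ 2 - ∑ φ ∈ S₀, e φ ^ 2 : ℤ) : ℂ) := by
    have h1 : classInner Y Y = classInner Y T := by
      rw [show classInner Y Y = classInner Y (T - ∑ φ ∈ S₀, (e φ : ℂ) • τ₁ φ) from
        congrArg (classInner Y) hY, classInner_sub_right, classInner_sum_right, Finset.sum_eq_zero,
        sub_zero]
      intro φ hφ
      rw [classInner_smul_right, hYperp φ hφ, mul_zero]
    have hTT : classInner T T = 1 + (m : ℂ) ^ 2 := by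
      rw [hT, hτ.2.2.1 _ hTmem _ hTmem]
      have h0 : classInner ψ χ = 0 := by rw [← classInner_conj_symm, hχψ ψ hψ, map_zero]
      simp only [int_smul_eq, Int.cast_natCast, classInner_sub_left, classInner_sub_right,
        classInner_smul_left, classInner_smul_right, Complex.conj_natCast, hχψ ψ hψ, h0,
        classInner_irr_self hχ, classInner_irr_self (hirr ψ hψ)]
      ring
    have h2 : classInner Y T = classInner T T - ∑ φ ∈ S₀, (e φ : ℂ) * classInner (τ₁ φ) T := by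
      rw [hY, classInner_sub_left, classInner_sum_left]
      simp only [classInner_smul_left]
    rw [h1, h2, hTT]
    push_cast
    congr 1
    refine Finset.sum_congr rfl fun φ hφ => ?_
    rw [← classInner_conj_symm T, he φ hφ, map_intCast, sq]
  have hnn : 0 ≤ 1 + (m : ℤ) ^ 2 - ∑ φ ∈ S₀, e φ ^ 2 := by
    have h := classInner_self_re_nonneg Y
    rw [hYY, Complex.intCast_re] at h
    exact_mod_cast h
  have hsum : (d ψ : ℤ) ^ 2 * ∑ φ ∈ S₀, e φ ^ 2 =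
      A ^ 2 * ∑ φ ∈ S₀, (d φ : ℤ) ^ 2 - 2 * A * m * (d ψ : ℤ) ^ 2 + (m : ℤ) ^ 2 * (d ψ : ℤ) ^ 2 := by
    have hterm : ∀ φ ∈ S₀, (d ψ : ℤ) ^ 2 * e φ ^ 2 = A ^ 2 * (d φ : ℤ) ^ 2 +
        (if φ = ψ then -2 * A * m * (d ψ : ℤ) ^ 2 + (m : ℤ) ^ 2 * (d ψ : ℤ) ^ 2 else 0) := by
      intro φ hφ
      have h := hrel φ hφ
      rw [← mul_pow, h]
      split_ifs with hc
      · rw [hc]; ring
      · ring
    rw [Finset.mul_sum, Finset.sum_congr rfl hterm, Finset.sum_add_distrib, ← Finset.mul_sum,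
      Finset.sum_ite_eq' S₀ ψ, if_pos hψ]
    ring
  have hA0 : A = 0 := by
    set Q := ∑ φ ∈ S₀, (d φ : ℤ) ^ 2 with hQ
    have hQlt : 2 * (m : ℤ) * (d ψ : ℤ) ^ 2 < Q := by
      rw [hm] at hlt
      have : ((2 * d ψ * (d ψ * m) : ℕ) : ℤ) < ((∑ ξ ∈ S₀, d ξ ^ 2 : ℕ) : ℤ) := by exact_mod_cast hlt
      push_cast at this
      rw [← hQ] at this
      linarith
    have hD : (0 : ℤ) < (d ψ : ℤ) ^ 2 := by
      have : (0 : ℤ) < (d ψ : ℤ) := by exact_mod_cast hdψ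
      positivity
    have hkey : A ^ 2 * Q ≤ (d ψ : ℤ) ^ 2 * (1 + 2 * A * m) := by
      have := mul_le_mul_of_nonneg_left (sub_nonneg.mp hnn) hD.le
      rw [hsum] at this
      linarith
    by_contra hne
    have hA1 : A = 1 := by
      have hA2 : 1 ≤ A ^ 2 := by
        have : 0 < A ^ 2 := by positivity
        omega
      have h1 : (d ψ : ℤ) ^ 2 * (2 * m * (A ^ 2 - A)) < (d ψ : ℤ) ^ 2 := by nlinarith
      have h2 : 2 * (m : ℤ) * (A ^ 2 - A) < 1 := by nlinarith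
      have h3 : A ^ 2 - A = 0 := by
        have hnn' : 0 ≤ A ^ 2 - A := by linarith [Int.le_self_sq A]
        have hm1 : (1 : ℤ) ≤ m := by exact_mod_cast hmpos
        nlinarith
      have : A * (A - 1) = 0 := by linarith
      rcases mul_eq_zero.mp this with h | h
      · exact absurd h hne
      · linarith
    rw [hA1] at hsum hkey
    set z := ∑ φ ∈ S₀, e φ ^ 2
    have hz : z = 1 + (m : ℤ) ^ 2 := by
      have hgt : (m : ℤ) ^ 2 < z := lt_of_mul_lt_mul_left (by linarith) hD.le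
      linarith
    have hY0 : Y = 0 := eq_zero_of_classInner_self (by rw [hYY, ← Int.cast_zero, Int.cast_inj]; linarith)
    have hTsum : T = ∑ φ ∈ S₀, (e φ : ℂ) • τ₁ φ := sub_eq_zero.mp hY0
    have h1 := hτ1 _ hTmem
    rw [← hT, hTsum, Finset.sum_apply] at h1
    have h2 : (∑ φ ∈ S₀, ((d ψ : ℤ) * e φ * d φ : ℤ) : ℂ) * τ₁ ψ 1 = 0 := by
      rw [Finset.sum_mul]
      have : ∀ φ ∈ S₀, (((d ψ : ℤ) * e φ * d φ : ℤ) : ℂ) * τ₁ ψ 1 =
          (d ψ : ℂ) ^ 2 * (((e φ : ℂ) • τ₁ φ) 1) := by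
        intro φ hφ
        have hr := image_ratio hτ₁ hag (fun α hα => zspanOn_mono (Set.subset_insert χ _) hα) hτ1
          (Finset.mem_coe.mpr hφ) (Finset.mem_coe.mpr hψ) (hd φ (Finset.mem_insert_of_mem hφ))
          (hd ψ (Finset.mem_insert_of_mem hψ))
        rw [Pi.smul_apply, smul_eq_mul]
        push_cast
        linear_combination (-(d ψ : ℂ) * (e φ : ℂ)) * hr
      rw [Finset.sum_congr rfl this, ← Finset.mul_sum, h1, mul_zero]
    have h3 : ∑ φ ∈ S₀, ((d ψ : ℤ) * e φ * d φ) = Q - (m : ℤ) * (d ψ : ℤ) ^ 2 := by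
      have : ∀ φ ∈ S₀, (d ψ : ℤ) * e φ * d φ =
          (d φ : ℤ) ^ 2 - (if φ = ψ then (m : ℤ) * (d ψ : ℤ) ^ 2 else 0) := by
        intro φ hφ
        rw [hrel φ hφ, hA1]
        split_ifs with hc
        · rw [hc]; ring
        · ring
      rw [Finset.sum_congr rfl this, Finset.sum_sub_distrib, Finset.sum_ite_eq' S₀ ψ, if_pos hψ]
    have h4 : ((∑ φ ∈ S₀, ((d ψ : ℤ) * e φ * d φ) : ℤ) : ℂ) = 0 := by
      have := (mul_eq_zero.mp h2).resolve_right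
        (image_apply_one_ne_zero hirr₀ hτ₁ (Finset.mem_coe.mpr hψ))
      push_cast at this ⊢
      exact this
    rw [h3, Int.cast_eq_zero] at h4
    have : (0 : ℤ) ≤ (m : ℤ) * (d ψ : ℤ) ^ 2 := by positivity
    linarith
  have heq : ∀ φ ∈ S₀, e φ = if φ = ψ then -(m : ℤ) else 0 := by
    intro φ hφ
    have h := hrel φ hφ
    rw [hA0, mul_zero, zero_sub] at h
    apply mul_left_cancel₀ (show (d ψ : ℤ) ≠ 0 by exact_mod_cast hdψ.ne')
    rw [h]; split_ifs <;> ring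
  have hTY : T = Y - (m : ℂ) • τ₁ ψ := by
    have : ∑ φ ∈ S₀, (e φ : ℂ) • τ₁ φ = -((m : ℂ) • τ₁ ψ) := by
      rw [Finset.sum_eq_single ψ (fun φ hφ hne => by rw [heq φ hφ, if_neg hne]; simp)
        (fun h => absurd hψ h), heq ψ hψ, if_pos rfl, Int.cast_neg, Int.cast_natCast, neg_smul]
    rw [hY, this]; abel
  have hY1 : classInner Y Y = 1 := by
    rw [hYY, Finset.sum_eq_single ψ (fun φ hφ hne => by rw [heq φ hφ, if_neg hne]; ring)
      (fun h => absurd hψ h), heq ψ hψ, if_pos rfl]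
    push_cast; ring
  obtain ⟨v, v1, v2⟩ : ∃ v : (L → ℂ) → (G → ℂ), (∀ φ ∈ S₀, v φ = τ₁ φ) ∧ v χ = Y :=
    ⟨fun φ => if φ ∈ S₀ then τ₁ φ else Y, fun φ hφ => if_pos hφ, if_neg hχS⟩
  obtain ⟨f, hf, hiso⟩ := exists_isometry (S := insert χ (↑S₀ : Set (L → ℂ))) (orth_irr hirrU)
    (irr_ne_zero hirrU) v
    (by
      intro φ hφ
      rcases Set.mem_insert_iff.mp hφ with h | h
      · rw [h, v2]; exact hYg
      · rw [v1 φ h]; exact hτ₁.2.2.2 _ (subset_zspan h))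
    (by
      have sG : ∀ {x y : G → ℂ}, classInner x y = 0 → classInner y x = 0 :=
        fun {x y} h => by rw [← classInner_conj_symm, h, map_zero]
      have sL : ∀ {x y : L → ℂ}, classInner x y = 0 → classInner y x = 0 :=
        fun {x y} h => by rw [← classInner_conj_symm, h, map_zero]
      intro φ hφ ξ hξ
      rcases Set.mem_insert_iff.mp hφ with h | h <;> rcases Set.mem_insert_iff.mp hξ with h' | h'
      · rw [h, h', v2, hY1, classInner_irr_self hχ]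
      · rw [h, v2, v1 ξ h', hYperp ξ h', hχψ ξ h']
      · rw [h', v2, v1 φ h, sG (hYperp φ h), sL (hχψ φ h)]
      · rw [v1 φ h, v1 ξ h']; exact hτ₁.2.2.1 _ (subset_zspan h) _ (subset_zspan h'))
  refine ⟨f, hiso, fun α hα => ?_⟩
  obtain ⟨hαs, hα1⟩ := mem_zspanOn_iff.mp hα
  obtain ⟨β, hβ, a, rfl⟩ := mem_span_insert hαs
  have hf₁ : f β = τ₁ β := map_eq_of_span hτ₁ f
    (fun φ hφ => (hf φ (Set.mem_insert_of_mem _ hφ)).trans (v1 φ hφ)) β hβ
  set β' := β + ((a * m : ℤ)) • ψ with hβ'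
  have hβ'z : β' ∈ zspanOn (↑S₀ : Set (L → ℂ)) {1}ᶜ := by
    refine mem_zspanOn_iff.mpr ⟨zspan_add hβ (zspan_zsmul _ hψz), ?_⟩
    simp only [int_smul_eq, Pi.add_apply, Pi.smul_apply, smul_eq_mul,
      hd χ (Finset.mem_insert_self _ _), hm] at hα1
    simp only [hβ', int_smul_eq, Pi.add_apply, Pi.smul_apply, smul_eq_mul,
      hd ψ (Finset.mem_insert_of_mem hψ)]
    push_cast at hα1 ⊢
    linear_combination hα1
  have hsplit : β + a • χ = β' + a • (χ - (m : ℤ) • ψ) := by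
    simp only [hβ', int_smul_eq, smul_sub, smul_smul]
    push_cast
    abel
  rw [hsplit, hτ.1 β' (zspanOn_mono (Set.subset_insert _ _) hβ'z) _ (zspanOn_zsmul _ hTmem),
    hτ.2.1 _ hTmem, ← hag β' hβ'z, ← hT, hTY, hτ₁.1 _ hβ _ (zspan_zsmul _ hψz),
    hτ₁.2.1 _ hψz, ← hsplit, map_add, map_zsmul, hf₁, hf χ (Set.mem_insert _ _), v2]
  simp only [int_smul_eq, smul_sub, smul_smul]
  push_cast
  abel

open Classical in
/-- Two disjoint coherent sets. -/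
theorem union_coherent {S X Y : Set (L → ℂ)} (hirr : ∀ ξ ∈ S, IsIrrCharacter L ξ) (hXS : X ⊆ S)
    (hYS : Y ⊆ S) (hXY : Disjoint X Y) (hX2 : ∃ a ∈ X, ∃ b ∈ X, a ≠ b)
    (hY2 : ∃ a ∈ Y, ∃ b ∈ Y, a ≠ b) (α : (L → ℂ) → (G → ℂ))
    (hα : IsLinearIsometryOn (zspanOn S {1}ᶜ) α) (hα1 : ∀ θ ∈ zspanOn S {1}ᶜ, α θ 1 = 0)
    (σ τ : (L → ℂ) → (G → ℂ)) (hσ : IsLinearIsometryOn (zspan X) σ)
    (hσα : ∀ θ ∈ zspanOn X {1}ᶜ, σ θ = α θ) (hτ : IsLinearIsometryOn (zspan Y) τ)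
    (hτα : ∀ θ ∈ zspanOn Y {1}ᶜ, τ θ = α θ) :
    (∀ χ ∈ X, ∀ η ∈ Y, classInner (σ χ) (τ η) = 0) ∧
      ((∃ χ₀ ∈ X, ∃ η₀ ∈ Y, α (χ₀ 1 • η₀ - η₀ 1 • χ₀) = χ₀ 1 • τ η₀ - η₀ 1 • σ χ₀) →
        IsCoherent (X ∪ Y) {1}ᶜ α) := by
  have hirrX : ∀ ξ ∈ X, IsIrrCharacter L ξ := fun ξ h => hirr ξ (hXS h)
  have hirrY : ∀ ξ ∈ Y, IsIrrCharacter L ξ := fun ξ h => hirr ξ (hYS h)
  choose d hdpos hd using fun ξ : L → ℂ => show ∃ n : ℕ, (ξ ∈ S → 0 < n) ∧ (ξ ∈ S → ξ 1 = (n : ℂ)) from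
    if h : ξ ∈ S then (exists_nat_degree_irr (hirr ξ h)).imp fun _ hn => ⟨fun _ => hn.1, fun _ => hn.2⟩
    else ⟨0, fun h' => absurd h' h, fun h' => absurd h' h⟩
  have sL : ∀ {x y : L → ℂ}, classInner x y = 0 → classInner y x = 0 :=
    fun {x y} h => by rw [← classInner_conj_symm, h, map_zero]
  have horth0 : ∀ x ∈ X, ∀ y ∈ Y, classInner x y = 0 := fun x hx y hy =>
    classInner_irr_ne (hirrX x hx) (hirrY y hy) fun e => Set.disjoint_left.mp hXY hx (e ▸ hy)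
  -- the bilinear relation
  have hbil : ∀ x ∈ X, ∀ x' ∈ X, ∀ y ∈ Y, ∀ y' ∈ Y,
      (d x' : ℂ) * d y' * classInner (σ x) (τ y) - (d x' : ℂ) * d y * classInner (σ x) (τ y') -
        (d x : ℂ) * d y' * classInner (σ x') (τ y) + (d x : ℂ) * d y * classInner (σ x') (τ y') = 0 := by
    intro x hx x' hx' y hy y' hy'
    have mk : ∀ (Z : Set (L → ℂ)) (ρ : (L → ℂ) → (G → ℂ)), Z ⊆ S → IsLinearIsometryOn (zspan Z) ρ →
        ∀ z ∈ Z, ∀ z' ∈ Z, (d z' : ℤ) • z - (d z : ℤ) • z' ∈ zspanOn Z {1}ᶜ ∧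
          ρ ((d z' : ℤ) • z - (d z : ℤ) • z') = (d z' : ℂ) • ρ z - (d z : ℂ) • ρ z' := by
      intro Z ρ hZS hρ z hz z' hz'
      refine ⟨mem_zspanOn_iff.mpr ⟨zspan_sub (zspan_zsmul _ (subset_zspan hz))
        (zspan_zsmul _ (subset_zspan hz')), by simp [hd z (hZS hz), hd z' (hZS hz'), mul_comm]⟩, ?_⟩
      rw [map_sub_of_isometry hρ (zspan_zsmul _ (subset_zspan hz)) (zspan_zsmul _ (subset_zspan hz'))
        (zspan_zsmul _ (zspan_zsmul _ (subset_zspan hz'))), hρ.2.1 _ (subset_zspan hz),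
        hρ.2.1 _ (subset_zspan hz'), int_smul_eq, int_smul_eq]
      simp only [Int.cast_natCast]
    obtain ⟨u1, u2⟩ := mk X σ hXS hσ x hx x' hx'
    obtain ⟨w1, w2⟩ := mk Y τ hYS hτ y hy y' hy'
    have h := hα.2.2.1 _ (zspanOn_mono hXS u1) _ (zspanOn_mono hYS w1)
    rw [← hσα _ u1, ← hτα _ w1, u2, w2] at h
    simp only [int_smul_eq, Int.cast_natCast, classInner_sub_left, classInner_sub_right,
      classInner_smul_left, classInner_smul_right, Complex.conj_natCast, horth0 x hx y hy,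
      horth0 x hx y' hy', horth0 x' hx' y hy, horth0 x' hx' y' hy'] at h
    linear_combination h
  have part1 : ∀ χ ∈ X, ∀ η ∈ Y, classInner (σ χ) (τ η) = 0 := by
    intro x hx y hy
    by_contra hne
    obtain ⟨ε, hε, k, hk⟩ := signed_of_image hirrX hσ hx
    obtain ⟨δ, hδ, l, hl⟩ := signed_of_image hirrY hτ hy
    have hne0 : ∀ c : ℂ, (c = 1 ∨ c = -1) → c ≠ 0 := by rintro c (rfl | rfl) <;> norm_num
    have hkl : (k : G → ℂ) = l := by
      by_contra e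
      exact hne (by rw [hk, hl, classInner_smul_left, classInner_smul_right,
        classInner_irr_ne k.2 l.2 e]; ring)
    -- `σ x` and `τ y` are proportional, so other pairs on the cross vanish
    have hrow : ∀ x' ∈ X, x' ≠ x → classInner (σ x') (τ y) = 0 := by
      intro x' hx' hx'x
      have h := hσ.2.2.1 _ (subset_zspan hx') _ (subset_zspan hx)
      rw [classInner_irr_ne (hirrX x' hx') (hirrX x hx) hx'x, hk, classInner_smul_right, mul_eq_zero,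
        map_eq_zero] at h
      rw [hl, classInner_smul_right, ← hkl, h.resolve_left (hne0 ε hε), mul_zero]
    have hcol : ∀ y' ∈ Y, y' ≠ y → classInner (σ x) (τ y') = 0 := by
      intro y' hy' hy'y
      have h := hτ.2.2.1 _ (subset_zspan hy) _ (subset_zspan hy')
      rw [classInner_irr_ne (hirrY y hy) (hirrY y' hy') (Ne.symm hy'y), hl, classInner_smul_left,
        mul_eq_zero] at h
      rw [hk, classInner_smul_left, hkl, h.resolve_left (hne0 δ hδ), mul_zero]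
    obtain ⟨a, ha, b, hb, hab⟩ := hX2
    obtain ⟨x', hx', hx'x⟩ : ∃ x' ∈ X, x' ≠ x := by
      by_cases e : a = x
      · exact ⟨b, hb, fun e' => hab (e.trans e'.symm)⟩
      · exact ⟨a, ha, e⟩
    obtain ⟨a', ha', b', hb', hab'⟩ := hY2
    obtain ⟨y', hy', hy'y⟩ : ∃ y' ∈ Y, y' ≠ y := by
      by_cases e : a' = y
      · exact ⟨b', hb', fun e' => hab' (e.trans e'.symm)⟩
      · exact ⟨a', ha', e⟩
    have hbb := hbil x hx x' hx' y hy y' hy'
    rw [hrow x' hx' hx'x, hcol y' hy' hy'y] at hbb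
    set p := classInner (σ x) (τ y) with hp
    set q := classInner (σ x') (τ y') with hq
    obtain ⟨ε', hε', k', hk'⟩ := signed_of_image hirrX hσ hx'
    obtain ⟨δ', hδ', l', hl'⟩ := signed_of_image hirrY hτ hy'
    have hdx := hdpos x (hXS hx)
    have hdx' := hdpos x' (hXS hx')
    have hdy := hdpos y (hYS hy)
    have hdy' := hdpos y' (hYS hy')
    have hc : ∀ n : ℕ, 0 < n → (n : ℂ) ≠ 0 := fun n hn => Nat.cast_ne_zero.mpr hn.ne'
    have hq0 : q ≠ 0 := by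
      intro e
      rw [e] at hbb
      have : (d x' : ℂ) * d y' * p = 0 := by linear_combination hbb
      exact hne (by simpa [hc _ hdx', hc _ hdy'] using this)
    have hkl' : (k' : G → ℂ) = l' := by
      by_contra e
      exact hq0 (by rw [hq, hk', hl', classInner_smul_left, classInner_smul_right,
        classInner_irr_ne k'.2 l'.2 e]; ring)
    have hcε : ∀ c : ℂ, (c = 1 ∨ c = -1) → conj c = c := by rintro c (rfl | rfl) <;> simp
    have hp' : p = ε * δ := by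
      rw [hp, hk, hl, classInner_smul_left, classInner_smul_right, ← hkl, classInner_irr_self k.2,
        hcε δ hδ, mul_one]
    have hq' : q = ε' * δ' := by
      rw [hq, hk', hl', classInner_smul_left, classInner_smul_right, ← hkl', classInner_irr_self k'.2,
        hcε δ' hδ', mul_one]
    -- the ratios at the identity
    have rX := image_ratio hσ hσα (fun θ hθ => zspanOn_mono hXS hθ) hα1 hx hx' (hd x (hXS hx))
      (hd x' (hXS hx'))
    have rY := image_ratio hτ hτα (fun θ hθ => zspanOn_mono hYS hθ) hα1 hy hy' (hd y (hYS hy))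
      (hd y' (hYS hy'))
    rw [hk, hk'] at rX
    rw [hl, hl', ← hkl, ← hkl'] at rY
    simp only [Pi.smul_apply, smul_eq_mul] at rX rY
    have hε2 : ∀ c : ℂ, (c = 1 ∨ c = -1) → c * c = 1 := by rintro c (rfl | rfl) <;> norm_num
    set u := (k : G → ℂ) 1 with hu
    set u' := (k' : G → ℂ) 1 with hu'
    have hu0 : u' ≠ 0 := irr_degree_ne_zero k'.2
    have huu : u ≠ 0 := irr_degree_ne_zero k.2
    -- multiply up
    have e1 : (d x' : ℂ) * u = (d x : ℂ) * (ε * ε') * u' := by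
      linear_combination ε * rX - ((d x' : ℂ) * u) * hε2 ε hε
    have e2 : (d y' : ℂ) * u = (d y : ℂ) * (δ * δ') * u' := by
      linear_combination δ * rY - ((d y' : ℂ) * u) * hε2 δ hδ
    have e3 : (d x' : ℂ) * d y' * (ε * δ) + (d x : ℂ) * d y * (ε' * δ') = 0 := by
      rw [← hp', ← hq']; linear_combination hbb
    -- a contradiction with positivity
    have e4 : ((d x' : ℂ) * d y' * (ε * δ)) * (u * u) =
        ((d x : ℂ) * d y * (ε' * δ')) * (u' * u') := by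
      linear_combination (ε * δ * (d y' : ℂ) * u) * e1 + (ε * δ * (d x : ℂ) * ε * ε' * u') * e2 +
        ((d x : ℂ) * d y * ε' * δ' * u' * u') * (δ * δ) * hε2 ε hε +
        ((d x : ℂ) * d y * ε' * δ' * u' * u') * hε2 δ hδ
    have e5 : ((d x : ℂ) * d y * (ε' * δ')) * (u' * u' + u * u) = 0 := by
      linear_combination (u * u) * e3 - e4
    obtain ⟨m, hm0, hm⟩ := exists_nat_degree_irr k.2
    obtain ⟨n, hn0, hn⟩ := exists_nat_degree_irr k'.2
    rw [mul_eq_zero, mul_eq_zero, mul_eq_zero, mul_eq_zero] at e5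
    rcases e5 with ((h | h) | (h | h)) | h
    · exact hc _ hdx h
    · exact hc _ hdy h
    · exact hne0 _ hε' h
    · exact hne0 _ hδ' h
    · rw [hu, hu', hm, hn] at h
      have : n * n + m * m = 0 := by exact_mod_cast h
      nlinarith
  refine ⟨part1, ?_⟩
  rintro ⟨χ₀, hχ₀, η₀, hη₀, hlink⟩
  have hirrU : ∀ ξ ∈ X ∪ Y, IsIrrCharacter L ξ := by
    rintro ξ (h | h)
    · exact hirrX ξ h
    · exact hirrY ξ h
  obtain ⟨a, ha, b, hb, hab⟩ := hX2
  have hwit : (d b : ℤ) • a - (d a : ℤ) • b ∈ zspanOn X {1}ᶜ := mem_zspanOn_iff.mpr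
    ⟨zspan_sub (zspan_zsmul _ (subset_zspan ha)) (zspan_zsmul _ (subset_zspan hb)),
      by simp [hd a (hXS ha), hd b (hXS hb), mul_comm]⟩
  refine ⟨⟨_, zspanOn_mono Set.subset_union_left hwit, fun h0 => ?_⟩, ?_⟩
  · have h := congrArg (fun f => classInner f a) h0
    simp only [int_smul_eq, Int.cast_natCast, classInner_sub_left, classInner_smul_left,
      classInner_irr_self (hirrX a ha), classInner_irr_ne (hirrX b hb) (hirrX a ha) (Ne.symm hab),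
      classInner_zero_left, mul_one, mul_zero, sub_zero] at h
    exact (Nat.cast_ne_zero.mpr (hdpos b (hXS hb)).ne') h
  obtain ⟨v, v1, v2⟩ : ∃ v : (L → ℂ) → (G → ℂ), (∀ φ ∈ X, v φ = σ φ) ∧ ∀ φ ∈ Y, v φ = τ φ :=
    ⟨fun φ => if φ ∈ X then σ φ else τ φ, fun φ hφ => if_pos hφ,
      fun φ hφ => if_neg (Set.disjoint_right.mp hXY hφ)⟩
  obtain ⟨f, hf, hiso⟩ := exists_isometry (S := X ∪ Y) (orth_irr hirrU) (irr_ne_zero hirrU) v
    (by
      rintro φ (h | h)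
      · rw [v1 φ h]; exact hσ.2.2.2 _ (subset_zspan h)
      · rw [v2 φ h]; exact hτ.2.2.2 _ (subset_zspan h))
    (by
      intro φ hφ ψ hψ
      rcases hφ with h | h <;> rcases hψ with h' | h'
      · rw [v1 φ h, v1 ψ h']; exact hσ.2.2.1 _ (subset_zspan h) _ (subset_zspan h')
      · rw [v1 φ h, v2 ψ h', part1 φ h ψ h', horth0 φ h ψ h']
      · rw [v2 φ h, v1 ψ h', sL (horth0 ψ h' φ h), ← classInner_conj_symm, part1 ψ h' φ h, map_zero]
      · rw [v2 φ h, v2 ψ h']; exact hτ.2.2.1 _ (subset_zspan h) _ (subset_zspan h'))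
  refine ⟨f, hiso, fun θ hθ => ?_⟩
  obtain ⟨hθs, hθ1⟩ := mem_zspanOn_iff.mp hθ
  obtain ⟨β, hβ, γ, hγ, rfl⟩ := Submodule.mem_sup.mp
    ((Submodule.span_union X Y).le hθs)
  have hint : ∀ ξ ∈ zspan X, ∃ z : ℤ, ξ 1 = (z : ℂ) := by
    intro ξ hξ
    induction hξ using Submodule.span_induction with
    | mem φ hφ => exact ⟨d φ, by rw [hd φ (hXS hφ)]; norm_cast⟩
    | zero => exact ⟨0, by simp⟩
    | add x y _ _ hx hy =>
      obtain ⟨i, hi⟩ := hx; obtain ⟨j, hj⟩ := hy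
      exact ⟨i + j, by simp [hi, hj]⟩
    | smul k x _ hx =>
      obtain ⟨i, hi⟩ := hx
      exact ⟨k * i, by simp [int_smul_eq, hi]⟩
  obtain ⟨z, hz⟩ := hint β hβ
  set d0 := d χ₀
  set e0 := d η₀
  have hd0 : χ₀ 1 = (d0 : ℂ) := hd χ₀ (hXS hχ₀)
  have he0 : η₀ 1 = (e0 : ℂ) := hd η₀ (hYS hη₀)
  set K : ℤ := (d0 : ℤ) * e0 with hK
  set β' := K • β - (z * e0) • χ₀ with hβ'
  set γ' := K • γ + (z * d0) • η₀ with hγ'
  set w := (d0 : ℤ) • η₀ - (e0 : ℤ) • χ₀ with hw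
  have hγ1 : γ 1 = -(z : ℂ) := by
    rw [Pi.add_apply, hz] at hθ1; linear_combination hθ1
  have hβ'm : β' ∈ zspanOn X {1}ᶜ := mem_zspanOn_iff.mpr
    ⟨zspan_sub (zspan_zsmul _ hβ) (zspan_zsmul _ (subset_zspan hχ₀)), by
      simp only [hβ', hK, int_smul_eq, Pi.sub_apply, Pi.smul_apply, smul_eq_mul, hz, hd0]
      push_cast; ring⟩
  have hγ'm : γ' ∈ zspanOn Y {1}ᶜ := mem_zspanOn_iff.mpr
    ⟨zspan_add (zspan_zsmul _ hγ) (zspan_zsmul _ (subset_zspan hη₀)), by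
      simp only [hγ', hK, int_smul_eq, Pi.add_apply, Pi.smul_apply, smul_eq_mul, hγ1, he0]
      push_cast; ring⟩
  have hwm : w ∈ zspanOn S {1}ᶜ := mem_zspanOn_iff.mpr
    ⟨zspan_sub (zspan_zsmul _ (subset_zspan (hYS hη₀))) (zspan_zsmul _ (subset_zspan (hXS hχ₀))), by
      simp only [hw, int_smul_eq, Pi.sub_apply, Pi.smul_apply, smul_eq_mul, hd0, he0]
      push_cast; ring⟩
  have hθS : β + γ ∈ zspanOn S {1}ᶜ := zspanOn_mono (Set.union_subset hXS hYS) hθ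
  have hsplit : K • (β + γ) = β' + (γ' + (-z) • w) := by
    simp only [hβ', hγ', hw, int_smul_eq, smul_sub, smul_add, smul_smul]
    push_cast
    simp only [neg_mul, neg_smul]
    abel
  have hαw : α w = (d0 : ℂ) • τ η₀ - (e0 : ℂ) • σ χ₀ := by
    rw [← hd0, ← he0, ← hlink, hw, int_smul_eq, int_smul_eq, hd0, he0]
    simp only [Int.cast_natCast]
  have hfσ := map_eq_of_span hσ f (fun φ hφ => (hf φ (Or.inl hφ)).trans (v1 φ hφ))
  have hfτ := map_eq_of_span hτ f (fun φ hφ => (hf φ (Or.inr hφ)).trans (v2 φ hφ))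
  have hfw : f w = α w := by
    rw [hαw, hw, map_sub, map_zsmul, map_zsmul, hfσ _ (subset_zspan hχ₀), hfτ _ (subset_zspan hη₀),
      int_smul_eq, int_smul_eq]
    simp only [Int.cast_natCast]
  have hKf : K • f (β + γ) = K • α (β + γ) := by
    rw [← map_zsmul, ← hα.2.1 _ hθS K, hsplit, map_add, map_add, map_zsmul,
      hα.1 β' (zspanOn_mono hXS hβ'm) _ (zspanOn_add (zspanOn_mono hYS hγ'm) (zspanOn_zsmul _ hwm)),
      hα.1 γ' (zspanOn_mono hYS hγ'm) _ (zspanOn_zsmul _ hwm), hα.2.1 _ hwm, ← hσα β' hβ'm,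
      ← hτα γ' hγ'm, hfσ β' (mem_zspanOn_iff.mp hβ'm).1, hfτ γ' (mem_zspanOn_iff.mp hγ'm).1, hfw]
  have hK0 : (K : ℂ) ≠ 0 := by
    rw [hK]; push_cast
    exact mul_ne_zero (Nat.cast_ne_zero.mpr (hdpos _ (hXS hχ₀)).ne')
      (Nat.cast_ne_zero.mpr (hdpos _ (hYS hη₀)).ne')
  rw [int_smul_eq, int_smul_eq] at hKf
  exact smul_right_injective _ hK0 hKf

end CfsgLib.Char.Coherence
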