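import Cfsg.Agent.Lib.Char.CoherenceCentral
import Cfsg.Agent.Lib.Char.Projective
import Cfsg.Agent.Lib.Char.MeanValue

/-!
# Coherence of the induced characters of a central layer with prime power degrees
-/

set_option autoImplicit false
set_option linter.unusedSectionVars false
set_option linter.style.haveILetI false

namespace CfsgLib.Char.Descent

open Cfsg Module
open scoped ComplexConjugate CfsgLib.Char

universe u v w

/-- Characters trivial on the bottom of a central layer. -/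
theorem central_layer {Γ : Type w} [Group Γ] [Finite Γ] (A B : Subgroup Γ) [A.Normal] (hAB : A ≤ B)
    (hcent : ∀ x ∈ B, ∀ y : Γ, x * y * x⁻¹ * y⁻¹ ∈ A) {θ : Γ → ℂ} (hθ : IsIrrCharacter Γ θ)
    (hker : ∀ a ∈ A, θ a = θ 1) :
    (∀ x ∈ B, ∀ y, θ (y * x) * θ 1 = θ y * θ x) ∧
      ∃ e : ℕ, θ 1 = e ∧ 0 < e ∧ e ∣ B.index ∧ e * e ≤ B.index := by
  classical
  obtain ⟨η, hη⟩ := Blocks.exists_inflate_eq_of_ker A ⟨θ, hθ⟩ hker
  have hθη : θ = (η : Γ ⧸ A → ℂ) ∘ QuotientGroup.mk' A := congrArg Subtype.val hη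
  set Z := B.map (QuotientGroup.mk' A)
  have hZ : Z ≤ Subgroup.center (Γ ⧸ A) := by
    rintro _ ⟨x, hx, rfl⟩
    refine Subgroup.mem_center_iff.mpr fun z => ?_
    obtain ⟨y, rfl⟩ := QuotientGroup.mk'_surjective A z
    have h := (QuotientGroup.eq_one_iff _).mpr (hcent x hx y)
    change QuotientGroup.mk' A (x * y * x⁻¹ * y⁻¹) = 1 at h
    simp only [map_mul, map_inv] at h
    rw [mul_inv_eq_one, mul_inv_eq_iff_eq_mul] at h
    exact h.symm
  have hidx : Z.index = B.index :=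
    Subgroup.index_map_eq _ (QuotientGroup.mk'_surjective A) (by rw [QuotientGroup.ker_mk']; exact hAB)
  refine ⟨fun x hx y => ?_, ?_⟩
  · simp only [hθη, Function.comp_apply, map_mul, map_one]
    exact central_mul η.2 (hZ (Subgroup.mem_map_of_mem _ hx)) _
  obtain ⟨e, he, he0, -⟩ := exists_degree_dvd_card η.2
  refine ⟨e, by simp only [hθη, Function.comp_apply, map_one]; exact he, he0, ?_,
    hidx ▸ Codegree.sq_degree_le_index η.2 Z hZ he⟩
  obtain ⟨n, ρ, hρ, hχ⟩ := η.2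
  haveI := hρ
  have hn : e = finrank ℂ (Fin n → ℂ) := by
    rw [← hχ, Representation.char_one] at he
    exact (Nat.cast_injective he).symm
  rw [hn, ← hidx]
  haveI : Fintype (Γ ⧸ A) := Fintype.ofFinite _
  refine degree_dvd_index_of_scalar ρ Z fun z hz => ⟨omega ρ.character z, ?_⟩
  rw [← classSum_eq_omega, classSum]
  refine Eq.symm ((Finset.sum_congr (s₂ := ({z} : Finset (Γ ⧸ A))) ?_ fun _ _ => rfl).trans (Finset.sum_singleton _ z))
  ext x
  simp only [Finset.mem_filter, Finset.mem_univ, true_and, Finset.mem_singleton]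
  refine ⟨fun hx => ?_, fun hx => hx ▸ IsConj.refl z⟩
  obtain ⟨c, hc⟩ := isConj_iff.mp hx.symm
  rw [← hc, Subgroup.mem_center_iff.mp (hZ hz) c, mul_inv_cancel_right]

variable {L : Type u} [Group L] [Fintype L] (K : Subgroup L) [hK : K.Normal]
  {G : Type v} [Group G] [Fintype G] {τ : (L → ℂ) → (G → ℂ)} {R : (L → ℂ) → Finset (G → ℂ)}

theorem exists_nat_norm [Fintype K] {A : Subgroup L} {φ : L → ℂ} (h : φ ∈ inducedIrrAbove K A) :
    ∃ n : ℕ, classInner φ φ = (n : ℂ) := by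
  obtain ⟨θ, h0, -, -, rfl⟩ := h
  rw [classInner_indFun_indFun K h0 h0, if_pos (self_mem_orbit K θ)]
  obtain ⟨m, hm⟩ := Subgroup.card_dvd_of_le
    (le_inertia K (isClassFunction_of_isCharacter (isCharacter_of_isIrr h0)))
  refine ⟨m, ?_⟩
  rw [hm, Nat.cast_mul]
  exact mul_div_cancel_left₀ _ (Nat.cast_ne_zero.mpr Nat.card_pos.ne')

theorem coherent_layer {q : ℕ} (hq : q.Prime) (hq3 : 3 ≤ q) (N0 N1 : Subgroup L) [N0.Normal]
    [N1.Normal] (h01 : N0 ≤ N1) (h1K : N1 ≤ K)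
    (hirr : ∀ φ ∈ inducedIrrAbove K N0 \ inducedIrrAbove K N1, IsIrrCharacter L φ)
    (hS : IsCoherenceSystem (inducedIrrAbove K N0 \ inducedIrrAbove K N1) τ R)
    (hdeg : ∀ φ ∈ inducedIrrAbove K N0 \ inducedIrrAbove K N1, ∃ k : ℕ,
      φ 1 = ((K.index * q ^ k : ℕ) : ℂ) ∧ q ^ (2 * k) ∣ N1.relIndex K)
    (hcop : q.Coprime K.index) :
    IsCoherent (inducedIrrAbove K N0 \ inducedIrrAbove K N1) {1}ᶜ τ := by
  classical
  letI : Fintype K := Fintype.ofFinite K
  set X := inducedIrrAbove K N0 \ inducedIrrAbove K N1 with hX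
  choose! a ha haZ using hdeg
  set d : (L → ℂ) → ℕ := fun φ => K.index * q ^ a φ with hd
  set F := family K N0 \ family K N1 with hF
  have hFmem : ∀ φ, φ ∈ F ↔ φ ∈ X := fun φ => by
    rw [hF, hX, Finset.mem_sdiff, Set.mem_sdiff, ← coe_family, ← coe_family, Finset.mem_coe,
      Finset.mem_coe]
  have htot : ∑ φ ∈ F, d φ * d φ = K.index * N1.relIndex K * (N0.relIndex N1 - 1) := by
    set d' : (L → ℂ) → ℕ := fun φ => ⌊(φ 1).re⌋₊ with hd'
    set n' : (L → ℂ) → ℕ := fun φ => ⌊(classInner φ φ).re⌋₊ with hn'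
    have hdA : ∀ (A : Subgroup L), ∀ φ ∈ inducedIrrAbove K A, φ 1 = (d' φ : ℂ) := fun A φ hφ => by
      obtain ⟨θ, h0, -, -, rfl⟩ := hφ
      obtain ⟨e, he, -, -⟩ := exists_degree_dvd_card h0
      simp only [hd', indFun_one, he, ← Nat.cast_mul, Complex.natCast_re, Nat.floor_natCast]
    have hnA : ∀ (A : Subgroup L), ∀ φ ∈ inducedIrrAbove K A, classInner φ φ = (n' φ : ℂ) :=
      fun A φ hφ => by
        obtain ⟨m, hm⟩ := exists_nat_norm K hφ
        simp only [hn', hm, Complex.natCast_re, Nat.floor_natCast]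
    have hsub : family K N1 ⊆ family K N0 := by
      rw [← Finset.coe_subset, coe_family, coe_family]; exact inducedIrrAbove_anti K h01
    have h0 := sum_sq_div K N0 d' n' (hdA N0) (hnA N0)
    have h1 := sum_sq_div K N1 d' n' (hdA N1) (hnA N1)
    rw [← Finset.sum_sdiff hsub, h1, ← hF] at h0
    have hterm : ∀ φ ∈ F, ((d' φ : ℝ) ^ 2 / (n' φ : ℝ)) = ((d φ * d φ : ℕ) : ℝ) := by
      intro φ hφ
      have hφX := (hFmem φ).mp hφ
      have e1 : d' φ = d φ := by simp only [hd', hd, ha φ hφX, Complex.natCast_re, Nat.floor_natCast]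
      have e2 : n' φ = 1 := by simp [hn', classInner_irr_self (hirr φ hφX)]
      rw [e1, e2]; push_cast; ring
    rw [Finset.sum_congr rfl hterm, ← Nat.cast_sum] at h0
    have hr : N0.relIndex K = N0.relIndex N1 * N1.relIndex K :=
      (Subgroup.relIndex_mul_relIndex N0 N1 K h01 h1K).symm
    obtain ⟨c, hc⟩ : ∃ c, N0.relIndex N1 = c + 1 := ⟨_, (Nat.succ_pred_eq_of_pos
      (Nat.pos_of_ne_zero Subgroup.index_ne_zero_of_finite)).symm⟩
    rw [hr, hc] at h0
    rw [hc, Nat.add_sub_cancel, ← Nat.cast_inj (R := ℝ)]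
    push_cast at h0 ⊢
    linarith
  have hn : ∀ φ ∈ X, classInner φ φ = ((1 : ℕ) : ℂ) := fun φ hφ => by
    rw [Nat.cast_one, classInner_irr_self (hirr φ hφ)]
  obtain ⟨χ₁, hχ₁F, hmin⟩ := F.exists_min_image a ⟨_, (hFmem _).mpr hS.nonempty.choose_spec⟩
  set X₀ := F.filter fun φ => a φ = a χ₁ with hX₀
  have hX₀c : ∀ φ ∈ X₀, conjFun φ ∈ X₀ := by
    intro φ hφ
    obtain ⟨h1, h2⟩ := Finset.mem_filter.mp hφ
    have hφX := (hFmem φ).mp h1
    refine Finset.mem_filter.mpr ⟨(hFmem _).mpr (hS.conj_mem φ hφX), ?_⟩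
    have e := ha _ (hS.conj_mem φ hφX)
    rw [show conjFun φ 1 = conj (φ 1) from rfl, ha φ hφX, map_natCast, Nat.cast_inj] at e
    have := Nat.pow_right_injective hq.two_le (Nat.eq_of_mul_eq_mul_left
      (Nat.pos_of_ne_zero Subgroup.index_ne_zero_of_finite) e)
    omega
  have hX₀coh : IsCoherent (↑X₀ : Set (L → ℂ)) {1}ᶜ τ := by
    refine Coherence.coherent_of_constant_degree (system_subset hS (fun φ hφ => (hFmem φ).mp
      (Finset.mem_filter.mp hφ).1) ⟨χ₁, Finset.mem_coe.mpr (Finset.mem_filter.mpr ⟨hχ₁F, rfl⟩)⟩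
      fun φ hφ => hX₀c φ hφ) fun φ hφ ψ hψ => ?_
    obtain ⟨h1, h2⟩ := Finset.mem_filter.mp hφ
    obtain ⟨h3, h4⟩ := Finset.mem_filter.mp hψ
    rw [ha φ ((hFmem φ).mp h1), ha ψ ((hFmem ψ).mp h3), h2, h4]
  set U := F.powerset.filter fun Y : Finset (L → ℂ) =>
    X₀ ⊆ Y ∧ (∀ φ ∈ Y, conjFun φ ∈ Y) ∧ IsCoherent (↑Y : Set (L → ℂ)) {1}ᶜ τ with hU
  have hX₀U : X₀ ∈ U := by
    simp only [hU, Finset.mem_filter, Finset.mem_powerset]
    exact ⟨Finset.filter_subset _ _, le_refl _, hX₀c, hX₀coh⟩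
  obtain ⟨Y, hYU, hYmax⟩ := U.exists_max_image Finset.card ⟨_, hX₀U⟩
  obtain ⟨hYF, hX₀Y, hYc, hYcoh⟩ : Y ⊆ F ∧ X₀ ⊆ Y ∧ (∀ φ ∈ Y, conjFun φ ∈ Y) ∧
      IsCoherent (↑Y : Set (L → ℂ)) {1}ᶜ τ := by
    simpa [hU] using hYU
  by_cases hYall : F ⊆ Y
  · rwa [show X = ↑Y from Set.ext fun φ =>
      ⟨fun h => hYall ((hFmem φ).mpr h), fun h => (hFmem φ).mp (hYF h)⟩]
  exfalso
  obtain ⟨χ', hχ', hχ'n⟩ := Finset.not_subset.mp hYall
  obtain ⟨χ, hχ, hχmin⟩ := (F \ Y).exists_min_image a ⟨χ', Finset.mem_sdiff.mpr ⟨hχ', hχ'n⟩⟩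
  obtain ⟨hχF, hχY⟩ := Finset.mem_sdiff.mp hχ
  have hχX := (hFmem χ).mp hχF
  have hlt : a χ₁ < a χ := by
    refine lt_of_le_of_ne (hmin χ hχF) fun e => hχY (hX₀Y (Finset.mem_filter.mpr ⟨hχF, e.symm⟩))
  have hsmall : F.filter (fun φ => a φ < a χ) ⊆ Y := by
    intro φ hφ
    obtain ⟨h1, h2⟩ := Finset.mem_filter.mp hφ
    by_contra h3
    exact absurd (hχmin φ (Finset.mem_sdiff.mpr ⟨h1, h3⟩)) (by omega)
  set T := ∑ φ ∈ F.filter (fun φ => a φ < a χ), q ^ (2 * a φ) with hT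
  have hTpos : 0 < T :=
    Finset.sum_pos (fun φ _ => pow_pos hq.pos _) ⟨χ₁, Finset.mem_filter.mpr ⟨hχ₁F, hlt⟩⟩
  have hTdvd : q ^ (2 * a χ) ∣ T := by
    refine (Nat.Coprime.pow_left (2 * a χ) (hcop.mul_right hcop)).dvd_of_dvd_mul_left ?_
    have hall : q ^ (2 * a χ) ∣ ∑ φ ∈ F, d φ * d φ := by
      rw [htot]
      exact ((haZ χ hχX).mul_left _).mul_right _
    rw [← Finset.sum_filter_add_sum_filter_not F (fun φ => a φ < a χ)] at hall
    have hbig : q ^ (2 * a χ) ∣ ∑ φ ∈ F.filter (fun φ => ¬ a φ < a χ), d φ * d φ := by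
      refine Finset.dvd_sum fun φ hφ => ?_
      have hle : a χ ≤ a φ := by
        have := (Finset.mem_filter.mp hφ).2
        omega
      show q ^ (2 * a χ) ∣ K.index * q ^ a φ * (K.index * q ^ a φ)
      rw [show K.index * q ^ a φ * (K.index * q ^ a φ) = K.index * K.index * q ^ (2 * a φ) by ring]
      exact (pow_dvd_pow q (by omega)).mul_left _
    rw [hT, Finset.mul_sum]
    refine ((Nat.dvd_add_left hbig).mp hall).trans (dvd_of_eq (Finset.sum_congr rfl fun φ _ => ?_))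
    show K.index * q ^ a φ * (K.index * q ^ a φ) = K.index * K.index * q ^ (2 * a φ)
    ring
  have hineq : (2 * d χ * d χ₁ : ℝ) < ∑ φ ∈ Y, ((d φ : ℝ) ^ 2 / ((1 : ℕ) : ℝ)) := by
    refine lt_of_lt_of_le ?_ (Finset.sum_le_sum_of_subset_of_nonneg hsmall fun φ _ _ => by positivity)
    have hkey : 2 * d χ * d χ₁ < K.index * K.index * T := by
      have h1 : 2 * q ^ a χ₁ < q ^ a χ := by
        have h4 : q ^ (a χ₁ + 1) ≤ q ^ a χ := Nat.pow_le_pow_right hq.pos hlt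
        rw [pow_succ] at h4
        have h5 : 0 < q ^ a χ₁ := pow_pos hq.pos _
        nlinarith
      have h2 := Nat.le_of_dvd hTpos hTdvd
      rw [show 2 * a χ = a χ + a χ by ring, pow_add] at h2
      have he : 0 < K.index * K.index := Nat.mul_pos
        (Nat.pos_of_ne_zero Subgroup.index_ne_zero_of_finite) (Nat.pos_of_ne_zero Subgroup.index_ne_zero_of_finite)
      calc 2 * d χ * d χ₁ = K.index * K.index * (q ^ a χ * (2 * q ^ a χ₁)) := by simp only [hd]; ring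
        _ < K.index * K.index * (q ^ a χ * q ^ a χ) := Nat.mul_lt_mul_of_pos_left
            (Nat.mul_lt_mul_of_pos_left h1 (pow_pos hq.pos _)) he
        _ ≤ _ := Nat.mul_le_mul_left _ h2
    have hreal : ((2 * d χ * d χ₁ : ℕ) : ℝ) < ((K.index * K.index * T : ℕ) : ℝ) := Nat.cast_lt.mpr hkey
    refine lt_of_lt_of_eq (by push_cast at hreal ⊢; exact hreal) ?_
    simp only [hT, hd, Finset.mul_sum, Nat.cast_sum, Nat.cast_one, div_one, Nat.cast_mul, Nat.cast_pow]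
    exact Finset.sum_congr rfl fun φ _ => by ring
  have hext := Coherence.extension_criterion hS d (fun _ => 1) (fun φ hφ => ha φ hφ) hn Y
    (fun φ hφ => (hFmem φ).mp (hYF hφ)) hYc hYcoh hχX hχY
    (fun h => hχY (by have := hYc _ h; rwa [Coherence.conjFun_conjFun] at this))
    (hX₀Y (Finset.mem_filter.mpr ⟨hχ₁F, rfl⟩))
    (Nat.mul_dvd_mul_left _ (pow_dvd_pow q hlt.le)) hineq
  have hY' : Y ∪ {χ, conjFun χ} ∈ U := by
    simp only [hU, Finset.mem_filter, Finset.mem_powerset]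
    refine ⟨Finset.union_subset hYF ?_, hX₀Y.trans Finset.subset_union_left, fun φ hφ => ?_, ?_⟩
    · intro φ hφ
      rw [hFmem]
      rcases Finset.mem_insert.mp hφ with rfl | hφ
      · exact hχX
      · rw [Finset.mem_singleton.mp hφ]; exact hS.conj_mem _ hχX
    · simp only [Finset.mem_union, Finset.mem_insert, Finset.mem_singleton] at hφ ⊢
      rcases hφ with h | rfl | rfl
      · exact Or.inl (hYc φ h)
      · exact Or.inr (Or.inr rfl)
      · exact Or.inr (Or.inl (Coherence.conjFun_conjFun _))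
    · simpa [Finset.coe_union] using hext
  have := hYmax _ hY'
  have hlt' : Y.card < (Y ∪ {χ, conjFun χ}).card :=
    Finset.card_lt_card (Finset.ssubset_iff_subset_ne.mpr ⟨Finset.subset_union_left,
      fun h => hχY (by rw [h]; simp)⟩)
  omega

end CfsgLib.Char.Descent
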