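import Cfsg.Agent.Lib.Char.CoherenceDescent

/-!
# Coherence of the characters of a Frobenius kernel
-/

set_option autoImplicit false
set_option linter.unusedSectionVars false

namespace CfsgLib.Char.Descent

open Cfsg
open scoped ComplexConjugate CfsgLib.Char commutatorElement

universe u v

/-- A conjugation-closed set avoiding the identity with uniform class sizes. -/
theorem dvd_card_sub_one {Q : Type*} [Group Q] [Finite Q] (N : Subgroup Q) [N.Normal] (e : ℕ)
    (h : ∀ x ∈ N, x ≠ 1 → (Subgroup.centralizer ({x} : Set Q)).index = e) :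
    e ∣ Nat.card N - 1 := by
  classical
  haveI : Fintype Q := Fintype.ofFinite Q
  set s := (Finset.univ : Finset Q).filter fun x => x ∈ N ∧ x ≠ 1 with hs
  have hcard : s.card = Nat.card N - 1 := by
    have : s = ((Finset.univ : Finset Q).filter fun x => x ∈ N).erase 1 := by
      ext x; simp [hs, and_comm]
    rw [this, Finset.card_erase_of_mem (by simp [one_mem]), Nat.card_eq_fintype_card, Fintype.card_subtype]
  rw [← hcard, Finset.card_eq_sum_card_fiberwise (f := ConjClasses.mk) (t := s.image ConjClasses.mk)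
    fun x hx => Finset.mem_image_of_mem _ hx]
  refine Finset.dvd_sum fun c hc => ?_
  obtain ⟨x, hx, rfl⟩ := Finset.mem_image.mp hc
  obtain ⟨hxN, hx1⟩ : x ∈ N ∧ x ≠ 1 := by simpa [hs] using hx
  refine dvd_of_eq ((h x hxN hx1).symm.trans ?_)
  rw [← card_isConj_eq_index x, Nat.card_eq_fintype_card, Fintype.card_subtype]
  congr 1
  ext y
  simp only [Finset.mem_filter, Finset.mem_univ, true_and, hs, ConjClasses.mk_eq_mk_iff_isConj]
  refine ⟨fun hy => ⟨⟨?_, ?_⟩, hy⟩, And.right⟩
  · obtain ⟨g, hg⟩ := isConj_iff.mp hy.symm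
    rw [← hg]; exact Subgroup.Normal.conj_mem inferInstance x hxN g
  · rintro rfl
    obtain ⟨g, hg⟩ := isConj_iff.mp hy
    simp at hg
    exact hx1 hg.symm

theorem commutator_le_frattini_of_nilpotent (Q : Type*) [Group Q] [Finite Q] [Group.IsNilpotent Q] :
    commutator Q ≤ frattini Q := by
  refine le_iInf₂ fun M hM => ?_
  haveI : M.Normal := by
    have hiff : Group.IsNilpotent Q ↔ ∀ H : Subgroup Q, IsCoatom H → H.Normal :=
      (Group.isNilpotent_of_finite_tfae (G := Q)).out 0 2
    exact hiff.mp inferInstance M hM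
  haveI : Nontrivial (Q ⧸ M) := QuotientGroup.nontrivial_iff.mpr hM.1
  have hlt : commutator (Q ⧸ M) < ⊤ := Group.IsSolvable.commutator_lt_top_of_nontrivial _
  by_contra hne
  refine hlt.ne ?_
  have hsup : M ⊔ commutator Q = ⊤ := hM.2 _ (lt_of_le_of_ne le_sup_left fun e => hne (e ▸ le_sup_right))
  have h := congrArg (Subgroup.map (QuotientGroup.mk' M)) hsup
  rw [Subgroup.map_sup, QuotientGroup.map_mk'_self, bot_sup_eq,
    Subgroup.map_top_of_surjective _ (QuotientGroup.mk'_surjective M), commutator_def, Subgroup.map_commutator,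
    Subgroup.map_top_of_surjective _ (QuotientGroup.mk'_surjective M)] at h
  exact h

variable {L : Type u} [Group L] [Fintype L] (K : Subgroup L) [hK : K.Normal]
  {G : Type v} [Group G] [Fintype G] {τ : (L → ℂ) → (G → ℂ)} {R : (L → ℂ) → Finset (G → ℂ)}

/-- The characters trivial on a subgroup with commutative quotient are coherent. -/
theorem coherent_abelian (hsolv : Group.IsSolvable K) (hS : IsCoherenceSystem (inducedIrrAbove K ⊥) τ R)
    (H₁ : Subgroup L) [H₁.Normal] (hH₁K : H₁ < K) (hcomm : ⁅K, K⁆ ≤ H₁) :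
    IsCoherent (inducedIrrAbove K H₁) {1}ᶜ τ := by
  classical
  letI : Fintype K := Fintype.ofFinite K
  haveI := hsolv
  have hlin : ∀ φ ∈ inducedIrrAbove K H₁, φ 1 = (K.index : ℂ) := by
    rintro φ ⟨θ, h0, -, hker, rfl⟩
    obtain ⟨e, he, -, -⟩ := exists_degree_dvd_card h0
    have hb := sq_degree_le K h0 H₁ K K hH₁K.le le_rfl le_rfl (fun x hx y hy => hcomm (by
      rw [← commutatorElement_def]; exact Subgroup.commutator_mem_commutator hx hy)) hker he
    rw [Subgroup.relIndex_self, one_pow, mul_one] at hb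
    have he0 : e ≠ 0 := by
      rintro rfl
      obtain ⟨e', he', hpos, -⟩ := exists_degree_dvd_card h0
      rw [he, Nat.cast_inj] at he'
      omega
    obtain rfl : e = 1 := by
      have := Nat.le_mul_self e
      omega
    rw [indFun_one, he, Nat.cast_one, mul_one]
  obtain ⟨θ, h0, -, h1, h2⟩ := exists_linear (H₁.subgroupOf K)
    (fun e => hH₁K.not_ge (Subgroup.subgroupOf_eq_top.mp e))
  exact Coherence.coherent_of_constant_degree
    (system_subset hS (inducedIrrAbove_anti K bot_le) ⟨_, θ, h0, h1, fun a ha => h2 a ha, rfl⟩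
      fun φ hφ => inducedIrrAbove_conj K hφ)
    fun φ hφ ψ hψ => (hlin φ hφ).trans (hlin ψ hψ).symm

theorem coherent_small_factor (hsolv : Group.IsSolvable K)
    (hS : IsCoherenceSystem (inducedIrrAbove K ⊥) τ R) (hodd : Odd (Nat.card L)) (M : Subgroup L)
    [M.Normal] (hMK : M ≤ K) [(M.subgroupOf K).Normal]
    (hnil : Group.IsNilpotent (↥K ⧸ M.subgroupOf K)) (H₁ : Subgroup L) (hH₁ : H₁ = ⁅K, K⁆ ⊔ M)
    (hH₁K : H₁ < K) (hKL : K < ⊤)
    (hfrob : ∀ k ∈ K, k ∉ H₁ → ∀ x : L, x * k * x⁻¹ * k⁻¹ ∈ H₁ → x ∈ K)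
    (hgood : (∃ N : Subgroup L, N.Normal ∧ H₁ < N ∧ N < K) ∨ 4 * K.index ^ 2 + 1 < H₁.relIndex K ∨
      (¬ ∃ p m : ℕ, p.Prime ∧ M.relIndex K = p ^ m) ∨ ⁅K, K⁆ ≤ M ∨
      (∃ p m : ℕ, p.Prime ∧ M.relIndex K = p ^ m ∧ K.index ∣ p - 1)) :
    IsCoherent (inducedIrrAbove K M) {1}ᶜ τ := by
  classical
  haveI hH₁n : H₁.Normal := by rw [hH₁]; infer_instance
  have hcommH : ⁅K, K⁆ ≤ H₁ := hH₁ ▸ le_sup_left
  have hMH : M ≤ H₁ := hH₁ ▸ le_sup_right
  have hab := coherent_abelian K hsolv hS H₁ hH₁K hcommH
  by_cases habel : ⁅K, K⁆ ≤ M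
  · rwa [hH₁, sup_eq_right.mpr habel] at hab
  have hbig : 4 * K.index ^ 2 + 1 < H₁.relIndex K → IsCoherent (inducedIrrAbove K M) {1}ᶜ τ := fun h =>
    descent_nilpotent K hsolv hS M H₁ K hMH hH₁K.le le_rfl hnil hab h
  have heodd : Odd K.index := hodd.of_dvd_nat K.index_dvd_card
  have he3 : 3 ≤ K.index := by
    have h1 : K.index ≠ 1 := fun h => hKL.ne (Subgroup.index_eq_one.mp h)
    obtain ⟨c, hc⟩ := heodd
    omega
  -- the quotient by `H₁`
  set π := QuotientGroup.mk' H₁ with hπ
  have hsurj : Function.Surjective π := QuotientGroup.mk'_surjective H₁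
  set K' := K.map π with hK'
  haveI hK'n : K'.Normal := Subgroup.Normal.map inferInstance π hsurj
  have hK'card : Nat.card K' = H₁.relIndex K := by
    rw [hK', ← Subgroup.relIndex_bot_left, ← Subgroup.relIndex_comap, MonoidHom.comap_bot,
      QuotientGroup.ker_mk']
  have hK'comm : ∀ a ∈ K', ∀ b ∈ K', a * b = b * a := by
    rintro _ ⟨a, ha, rfl⟩ _ ⟨b, hb, rfl⟩
    rw [← commutatorElement_eq_one_iff_mul_comm, ← map_commutatorElement]
    exact (QuotientGroup.eq_one_iff _).mpr (hcommH (Subgroup.commutator_mem_commutator ha hb))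
  have hsize : ∀ N : Subgroup L, N.Normal → H₁ ≤ N → N ≤ K → K.index ∣ H₁.relIndex N - 1 := by
    intro N hN hHN hNK
    haveI : (N.map π).Normal := Subgroup.Normal.map hN π hsurj
    have hc : Nat.card (N.map π) = H₁.relIndex N := by
      rw [← Subgroup.relIndex_bot_left, ← Subgroup.relIndex_comap, MonoidHom.comap_bot,
        QuotientGroup.ker_mk']
    rw [← hc]
    refine dvd_card_sub_one _ _ fun x hx hx1 => ?_
    obtain ⟨k, hk, rfl⟩ := hx
    have hcent : Subgroup.centralizer ({π k} : Set (L ⧸ H₁)) = K' := by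
      apply le_antisymm
      · intro y hy
        obtain ⟨g, rfl⟩ := hsurj y
        rw [Subgroup.mem_centralizer_singleton_iff] at hy
        refine Subgroup.mem_map_of_mem π (hfrob k (hNK hk) (fun h => hx1 ((QuotientGroup.eq_one_iff _).mpr h)) g ?_)
        rw [← commutatorElement_def]
        refine (QuotientGroup.eq_one_iff _).mp ?_
        show π _ = 1
        rw [map_commutatorElement, commutatorElement_eq_one_iff_mul_comm]
        exact hy
      · intro y hy
        rw [Subgroup.mem_centralizer_singleton_iff]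
        exact hK'comm y hy _ (Subgroup.mem_map_of_mem π (hNK hk))
    rw [hcent, hK', Subgroup.index_map_eq _ hsurj (by rw [QuotientGroup.ker_mk']; exact hH₁K.le)]
  have hcardOdd : ∀ N : Subgroup L, Odd (H₁.relIndex N) := fun N =>
    hodd.of_dvd_nat ((Subgroup.relIndex_dvd_card H₁ N).trans (Subgroup.card_subgroup_dvd_card N))
  have hlow : ∀ m : ℕ, Odd m → 1 < m → K.index ∣ m - 1 → 2 * K.index + 1 ≤ m := by
    intro m hm hm1 hdvd
    obtain ⟨c, hc⟩ := hdvd
    rcases c with _ | _ | c
    · omega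
    · obtain ⟨a, ha⟩ := hm; obtain ⟨b, hb⟩ := heodd; omega
    · have : 2 * K.index ≤ K.index * (c + 1 + 1) := by nlinarith
      omega
  have hchief : (∃ N : Subgroup L, N.Normal ∧ H₁ < N ∧ N < K) →
      IsCoherent (inducedIrrAbove K M) {1}ᶜ τ := by
    rintro ⟨N, hN, hHN, hNK⟩
    refine hbig ?_
    have e := Subgroup.relIndex_mul_relIndex H₁ N K hHN.le hNK.le
    have h1 : 1 < H₁.relIndex N := by
      have := Nat.pos_of_ne_zero (Subgroup.index_ne_zero_of_finite (H := H₁.subgroupOf N))
      have h' : H₁.relIndex N ≠ 1 := fun h => hHN.not_ge (Subgroup.relIndex_eq_one.mp h)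
      change 0 < H₁.relIndex N at this
      omega
    have h2 : 1 < N.relIndex K := by
      have := Nat.pos_of_ne_zero (Subgroup.index_ne_zero_of_finite (H := N.subgroupOf K))
      have h' : N.relIndex K ≠ 1 := fun h => hNK.not_ge (Subgroup.relIndex_eq_one.mp h)
      change 0 < N.relIndex K at this
      omega
    have a1 := hlow _ (hcardOdd N) h1 (hsize N hN hHN.le hNK.le)
    have d2 := hsize K inferInstance hH₁K.le le_rfl
    have hmodd : Odd (N.relIndex K) := (hcardOdd K).of_dvd_nat ⟨H₁.relIndex N, by rw [mul_comm]; exact e.symm⟩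
    have a2 : 2 * K.index + 1 ≤ N.relIndex K := by
      refine hlow _ hmodd h2 ?_
      have d1 := hsize N hN hHN.le hNK.le
      rw [← e] at d2
      obtain ⟨c, hc⟩ := d1
      obtain ⟨c', hc'⟩ := d2
      rw [← Nat.modEq_iff_dvd' (by omega)]
      have m1 : 1 ≡ H₁.relIndex N [MOD K.index] := (Nat.modEq_iff_dvd' (by omega)).mpr ⟨c, hc⟩
      have m2 : 1 ≡ H₁.relIndex N * N.relIndex K [MOD K.index] :=
        (Nat.modEq_iff_dvd' (Nat.mul_pos (by omega) (by omega))).mpr ⟨c', hc'⟩
      have m3 := m1.mul_right (N.relIndex K)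
      rw [one_mul] at m3
      exact m2.trans m3.symm
    rw [← e]
    nlinarith
  rcases hgood with h | h | h | h | ⟨p, m, hp, hpm, hdvd⟩
  · exact hchief h
  · exact hbig h
  · -- not of prime power order
    apply hchief
    haveI := hsolv
    have hn1 : H₁.relIndex K ≠ 1 := fun h1 => hH₁K.not_ge (Subgroup.relIndex_eq_one.mp h1)
    set n := H₁.relIndex K with hn
    obtain ⟨p, hp, hpn⟩ := Nat.exists_prime_and_dvd hn1
    haveI := Fact.mk hp
    have hn0 : n ≠ 0 := Subgroup.index_ne_zero_of_finite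
    obtain ⟨a, r, hr, hnr⟩ := Nat.exists_eq_pow_mul_and_not_dvd hn0 p hp.ne_one
    have hr1 : r ≠ 1 := by
      rintro rfl
      rw [mul_one] at hnr
      -- then the nilpotent quotient is a `p`-group
      apply h
      haveI := hnil
      set Q := ↥K ⧸ M.subgroupOf K
      obtain ⟨P⟩ : Nonempty (Sylow p Q) := inferInstance
      haveI hPn : (P : Subgroup Q).Normal := Sylow.normal_of_normalizerCondition normalizerCondition_of_isNilpotent P
      have hsup : (P : Subgroup Q) ⊔ commutator Q = ⊤ := by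
        rw [← Subgroup.index_eq_one]
        have h1 : ((P : Subgroup Q) ⊔ commutator Q).index ∣ p ^ a := by
          have hc : commutator Q = (H₁.subgroupOf K).map (QuotientGroup.mk' (M.subgroupOf K)) := by
            rw [commutator_def, ← Subgroup.map_top_of_surjective _ (QuotientGroup.mk'_surjective _),
              ← Subgroup.map_commutator, Subgroup.map_eq_map_iff, QuotientGroup.ker_mk']
            apply Subgroup.map_injective K.subtype_injective
            rw [Subgroup.map_sup, Subgroup.map_sup, Subgroup.map_commutator, ← MonoidHom.range_eq_map,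
              Subgroup.range_subtype, Subgroup.subgroupOf_map_subtype, Subgroup.subgroupOf_map_subtype,
              inf_eq_left.mpr hMK, inf_eq_left.mpr hH₁K.le, sup_eq_left.mpr hMH, hH₁]
          refine (Subgroup.index_dvd_of_le (le_sup_right)).trans ?_
          rw [hc, Subgroup.index_map_eq _ (QuotientGroup.mk'_surjective _)
            (by rw [QuotientGroup.ker_mk']; exact fun x hx => hMH hx)]
          exact dvd_of_eq hnr
        have h2 : ¬ p ∣ ((P : Subgroup Q) ⊔ commutator Q).index := fun hd =>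
          P.not_dvd_index (hd.trans (Subgroup.index_dvd_of_le le_sup_left))
        exact Nat.eq_one_of_dvd_coprimes ((hp.coprime_iff_not_dvd.mpr h2).pow_left a) h1 dvd_rfl
      have hPtop : (P : Subgroup Q) = ⊤ := by
        have hle : commutator Q ≤ frattini Q := commutator_le_frattini_of_nilpotent Q
        exact frattini_nongenerating (top_le_iff.mp (hsup ▸ sup_le_sup_left hle _))
      obtain ⟨m, hm⟩ := P.2.exists_card_eq
      exact ⟨p, m, hp, by
        rw [← hm, hPtop, Subgroup.card_top, ← Subgroup.index_eq_card]; rfl⟩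
    obtain ⟨q, hq, hqr⟩ := Nat.exists_prime_and_dvd hr1
    haveI := Fact.mk hq
    let T : Subgroup (L ⧸ H₁) :=
      { carrier := {z | ∃ y ∈ K', y ^ r = z}
        one_mem' := ⟨1, one_mem _, one_pow r⟩
        mul_mem' := by
          rintro _ _ ⟨y, hy, rfl⟩ ⟨y', hy', rfl⟩
          exact ⟨y * y', mul_mem hy hy', (show Commute y y' from hK'comm y hy y' hy').mul_pow r⟩
        inv_mem' := by
          rintro _ ⟨y, hy, rfl⟩
          exact ⟨y⁻¹, inv_mem hy, inv_pow y r⟩ }
    haveI hTn : T.Normal := by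
      refine ⟨fun z hz g => ?_⟩
      obtain ⟨y, hy, rfl⟩ := hz
      exact ⟨g * y * g⁻¹, hK'n.conj_mem y hy g, by rw [conj_pow]⟩
    have hTK : T ≤ K' := by rintro _ ⟨y, hy, rfl⟩; exact pow_mem hy r
    have hpow : ∀ y ∈ K', y ^ n = 1 := fun y hy => by
      have := pow_card_eq_one' (x := (⟨y, hy⟩ : K'))
      rw [hK'card] at this
      simpa using congrArg Subtype.val this
    refine ⟨T.comap π, inferInstance, ?_, ?_⟩
    · refine lt_of_le_of_ne ?_ ?_
      · conv_lhs => rw [← QuotientGroup.ker_mk' H₁]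
        exact Subgroup.ker_le_comap π T
      · intro he
        obtain ⟨x, hx⟩ := exists_prime_orderOf_dvd_card' (G := K') p (by rw [hK'card]; exact hpn)
        rw [← Subgroup.orderOf_coe] at hx
        obtain ⟨k, hk, hkx⟩ := x.2
        obtain ⟨s, hs⟩ := Nat.exists_mul_mod_eq_one_of_coprime
          ((hp.coprime_iff_not_dvd.mpr hr).symm) hp.one_lt
        have hmem : k ∈ T.comap π := ⟨(x : L ⧸ H₁) ^ s, pow_mem x.2 s, by
          rw [← pow_mul, mul_comm, ← pow_mod_orderOf, hx, hs.2, pow_one, hkx]⟩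
        rw [← he] at hmem
        rw [← hkx, show π k = 1 from (QuotientGroup.eq_one_iff k).mpr hmem, orderOf_one] at hx
        exact hp.one_lt.ne hx
    · refine lt_of_le_of_ne (le_trans (Subgroup.comap_mono hTK) ?_) ?_
      · rw [hK', Subgroup.comap_map_eq, QuotientGroup.ker_mk', sup_eq_left.mpr hH₁K.le]
      · intro he
        obtain ⟨x, hx⟩ := exists_prime_orderOf_dvd_card' (G := K') q (by
          rw [hK'card, hnr]; exact hqr.mul_left _)
        rw [← Subgroup.orderOf_coe] at hx
        obtain ⟨k, hk, hkx⟩ := x.2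
        have hmem : k ∈ T.comap π := he ▸ hk
        obtain ⟨y, hy, hyx⟩ := hmem
        have h1 : q ∣ p ^ a := by
          rw [← hx, ← hkx]
          refine orderOf_dvd_of_pow_eq_one ?_
          rw [← hyx, ← pow_mul, mul_comm, ← hnr, hpow y hy]
        exact hr ((Nat.prime_dvd_prime_iff_eq hq hp).mp (hq.dvd_of_dvd_pow h1) ▸ hqr)
  · exact absurd h habel
  · -- index dividing `p - 1`
    haveI := Fact.mk hp
    have hdvdn : H₁.relIndex K ∣ p ^ m := hpm ▸ Subgroup.relIndex_dvd_of_le_left K hMH
    obtain ⟨j, -, hj⟩ := (Nat.dvd_prime_pow hp).mp hdvdn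
    have hj0 : j ≠ 0 := fun h0 => hH₁K.not_ge (Subgroup.relIndex_eq_one.mp (by rw [hj, h0, pow_zero]))
    by_cases hj1 : j = 1
    · exfalso
      apply habel
      haveI := hnil
      set Q := ↥K ⧸ M.subgroupOf K
      obtain ⟨k, hk, hkH⟩ := SetLike.exists_of_lt hH₁K
      have hcyc : Subgroup.zpowers (QuotientGroup.mk' (M.subgroupOf K) (⟨k, hk⟩ : K)) = ⊤ := by
        refine frattini_nongenerating (top_le_iff.mp ?_)
        have hle : commutator Q ≤ frattini Q := commutator_le_frattini_of_nilpotent Q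
        have hpr : (H₁.subgroupOf K).index.Prime := by
          show (H₁.relIndex K).Prime
          rw [hj, hj1, pow_one]; exact hp
        have hmax : Subgroup.zpowers (⟨k, hk⟩ : K) ⊔ H₁.subgroupOf K = ⊤ := by
          rcases (hpr.eq_one_or_self_of_dvd _ (Subgroup.index_dvd_of_le
            (le_sup_right (a := Subgroup.zpowers (⟨k, hk⟩ : K)) (b := H₁.subgroupOf K)))) with h1 | h1
          · exact Subgroup.index_eq_one.mp h1
          · exfalso
            have := Subgroup.eq_of_le_of_card_ge (le_sup_right (a := Subgroup.zpowers (⟨k, hk⟩ : K)) (b := H₁.subgroupOf K)) (by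
              have e1 := (H₁.subgroupOf K).card_mul_index
              have e2 := (Subgroup.zpowers (⟨k, hk⟩ : K) ⊔ H₁.subgroupOf K).card_mul_index
              rw [h1, ← e1] at e2
              exact (Nat.eq_of_mul_eq_mul_right hpr.pos e2).le)
            exact hkH (show (⟨k, hk⟩ : K) ∈ H₁.subgroupOf K from this ▸ Subgroup.mem_sup_left (Subgroup.mem_zpowers _))
        have hc : commutator Q = (H₁.subgroupOf K).map (QuotientGroup.mk' (M.subgroupOf K)) := by
          rw [commutator_def, ← Subgroup.map_top_of_surjective _ (QuotientGroup.mk'_surjective _),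
            ← Subgroup.map_commutator, Subgroup.map_eq_map_iff, QuotientGroup.ker_mk']
          apply Subgroup.map_injective K.subtype_injective
          rw [Subgroup.map_sup, Subgroup.map_sup, Subgroup.map_commutator, ← MonoidHom.range_eq_map,
            Subgroup.range_subtype, Subgroup.subgroupOf_map_subtype, Subgroup.subgroupOf_map_subtype,
            inf_eq_left.mpr hMK, inf_eq_left.mpr hH₁K.le, sup_eq_left.mpr hMH, hH₁]
        refine le_trans ?_ (sup_le_sup_left hle _)
        rw [hc, ← MonoidHom.map_zpowers, ← Subgroup.map_sup, hmax,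
          Subgroup.map_top_of_surjective _ (QuotientGroup.mk'_surjective _)]
      rw [Subgroup.commutator_le]
      intro a ha b hb
      have hmem : ⁅(⟨a, ha⟩ : ↥K), (⟨b, hb⟩ : ↥K)⁆ ∈ M.subgroupOf K := by
        refine (QuotientGroup.eq_one_iff _).mp ?_
        show QuotientGroup.mk' (M.subgroupOf K) _ = 1
        rw [map_commutatorElement, commutatorElement_eq_one_iff_mul_comm]
        have h1 : QuotientGroup.mk' (M.subgroupOf K) (⟨a, ha⟩ : K) ∈ Subgroup.zpowers _ := hcyc ▸ Subgroup.mem_top _
        have h2 : QuotientGroup.mk' (M.subgroupOf K) (⟨b, hb⟩ : K) ∈ Subgroup.zpowers _ := hcyc ▸ Subgroup.mem_top _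
        obtain ⟨i, hi⟩ := Subgroup.mem_zpowers_iff.mp h1
        obtain ⟨i', hi'⟩ := Subgroup.mem_zpowers_iff.mp h2
        rw [← hi, ← hi']
        exact (Commute.refl _).zpow_zpow i i'
      exact hmem
    · refine hbig ?_
      rw [hj]
      have hp2 : Odd p := (hcardOdd K).of_dvd_nat (hj ▸ dvd_pow_self p hj0)
      have hpp : p ^ 2 ≤ p ^ j := Nat.pow_le_pow_right hp.pos (by omega)
      obtain ⟨c, hc⟩ := hdvd
      obtain ⟨b, hb⟩ := hp2
      obtain ⟨b', hb'⟩ := heodd
      have hcle : 2 * K.index ≤ p - 1 := by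
        rcases c with _ | _ | c
        · have := hp.two_le; omega
        · omega
        · rw [hc]; nlinarith
      have hsq : (2 * K.index + 1) * (2 * K.index + 1) ≤ p ^ 2 := by
        rw [pow_two]; exact Nat.mul_le_mul (by omega) (by omega)
      nlinarith

end CfsgLib.Char.Descent
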