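import Cfsg.Agent.Lib.Char.GlaubermanSolvable
import Cfsg.Agent.Lib.Char.Extraspecial

/-!
# Characters of degree prime to a coprime solvable complement

For `G = KH` with `K` normal, coprime orders and `H` solvable, the irreducible characters of degree
prime to `|H|` are the products of linear characters of `G/K` with the canonical extensions of the
`H`-invariant irreducible characters of `K`.
-/

set_option autoImplicit false
set_option linter.unusedSectionVars false

namespace CfsgLib.Char.Glauberman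

open Cfsg
open scoped ComplexConjugate CfsgLib.Char

variable {G : Type*} [Group G] [Fintype G] {K H : Subgroup G} [hK : K.Normal]
  (hKH : K ⊔ H = ⊤) (hcop : (Nat.card K).Coprime (Nat.card H))

include hKH in
theorem exists_mul (g : G) : ∃ k ∈ K, ∃ h ∈ H, g = k * h := by
  obtain ⟨k, hk, h, hh, e⟩ :=
    Subgroup.mem_sup_of_normal_left.mp (show g ∈ K ⊔ H from hKH ▸ Subgroup.mem_top g)
  exact ⟨k, hk, h, hh, e.symm⟩

include hcop in
theorem eq_of_mul_eq {k k' h h' : G} (hk : k ∈ K) (hk' : k' ∈ K) (hh : h ∈ H) (hh' : h' ∈ H)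
    (e : k * h = k' * h') : k = k' ∧ h = h' := by
  have e2 : k'⁻¹ * k = h' * h⁻¹ := by
    rw [inv_mul_eq_iff_eq_mul, ← mul_assoc, ← e, mul_inv_cancel_right]
  have e3 : k'⁻¹ * k = 1 := by
    have : k'⁻¹ * k ∈ K ⊓ H :=
      Subgroup.mem_inf.mpr ⟨K.mul_mem (K.inv_mem hk') hk, e2 ▸ H.mul_mem hh' (H.inv_mem hh)⟩
    rwa [Subgroup.inf_eq_bot_of_coprime hcop, Subgroup.mem_bot] at this
  refine ⟨(inv_mul_eq_one.mp e3).symm, ?_⟩
  rw [e3] at e2
  exact (mul_inv_eq_one.mp e2.symm).symm

include hKH hcop in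
/-- Linear characters of `H` are those of `G` trivial on `K`. -/
theorem exists_hom_extend (μ : H →* ℂˣ) :
    ∃ β : G →* ℂˣ, (∀ k : K, β k = 1) ∧ ∀ h : H, β h = μ h := by
  choose k hk h hh e using exists_mul (G := G) hKH
  have key : ∀ {a b : G} (_ : a ∈ K) (hb : b ∈ H),
      (⟨h (a * b), hh (a * b)⟩ : H) = ⟨b, hb⟩ := fun {a b} ha hb =>
    Subtype.ext (eq_of_mul_eq hcop (hk _) ha (hh _) hb (e _).symm).2
  refine ⟨MonoidHom.mk' (fun g => μ ⟨h g, hh g⟩) fun a b => ?_, fun x => ?_, fun x => ?_⟩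
  · rw [← map_mul]
    congr 1
    have e1 : a * b = k a * (h a * k b * (h a)⁻¹) * (h a * h b) := by
      conv_lhs => rw [e a, e b]
      group
    conv_lhs => arg 1; rw [e1]
    exact key (K.mul_mem (hk a) (hK.conj_mem _ (hk b) _)) (H.mul_mem (hh a) (hh b))
  · have h1 : (⟨h (x : G), hh (x : G)⟩ : H) = 1 := by
      have := key x.2 (one_mem H)
      simp only [mul_one] at this
      exact this
    exact (congrArg μ h1).trans (map_one μ)
  · have h1 : (⟨h (x : G), hh (x : G)⟩ : H) = x := by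
      have := key (one_mem K) x.2
      simp only [one_mul] at this
      exact this
    exact congrArg μ h1

include hKH hcop in
theorem card_eq_mul : Nat.card G = Nat.card K * Nat.card H := by
  rw [← Nat.card_prod]
  refine (Nat.card_eq_of_bijective (fun x : K × H => (x.1 : G) * x.2) ⟨fun a b e => ?_, fun g => ?_⟩).symm
  · obtain ⟨h1, h2⟩ := eq_of_mul_eq hcop a.1.2 b.1.2 a.2.2 b.2.2 e
    exact Prod.ext (Subtype.ext h1) (Subtype.ext h2)
  · obtain ⟨k, hk, h, hh, e⟩ := exists_mul hKH g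
    exact ⟨(⟨k, hk⟩, ⟨h, hh⟩), e.symm⟩

include hKH in
theorem invariant_of_inv {φ : K → ℂ} (hφ : IsClassFunction K φ) (h : Inv K H φ) (g : G) :
    conjBy K φ g = φ := by
  have hle : K ⊔ H ≤ inertia K φ := sup_le (le_inertia K hφ) fun x hx =>
    (mem_inertia K).mpr (funext fun n => h x hx n _ rfl)
  rw [hKH] at hle
  exact hle (Subgroup.mem_top g)

include hKH hcop in
/-- A character inflated from `G/K` restricts irreducibly to `H`. -/
theorem isIrr_restrict_of_avgN [Fintype K] [Fintype H] {b : G → ℂ} (hb : IsIrrCharacter G b)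
    (hbK : ∀ (k : K) (g : G), b ((k : G) * g) = b g) :
    IsIrrCharacter H (fun h : H => b h) := by
  refine isIrr_of_norm_one (isCharacter_restrict H (isCharacter_of_isIrr hb)) ?_
  rw [← classInner_irr_self hb]
  simp only [classInner, card_eq_mul hKH hcop, Nat.cast_mul, mul_inv]
  rw [← Fintype.sum_bijective (fun x : K × H => (x.1 : G) * x.2) ⟨fun a c e => ?_, fun g => ?_⟩
    (fun x : K × H => b x.2 * conj (b x.2)) (fun g => b g * conj (b g))
    (fun x => by rw [hbK x.1 x.2]), Fintype.sum_prod_type]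
  · dsimp only
    rw [Finset.sum_const, Finset.card_univ, nsmul_eq_mul, ← Nat.card_eq_fintype_card]
    field_simp [Nat.card_pos.ne']
  · obtain ⟨h1, h2⟩ := eq_of_mul_eq hcop a.1.2 c.1.2 a.2.2 c.2.2 e
    exact Prod.ext (Subtype.ext h1) (Subtype.ext h2)
  · obtain ⟨k, hk, h, hh, e⟩ := exists_mul hKH g
    exact ⟨(⟨k, hk⟩, ⟨h, hh⟩), e.symm⟩

include hKH hcop in
/-- Counting the characters of degree prime to the complement. -/
theorem card_coprime_degree (hsolv : Group.IsSolvable H) :
    Nat.card {χ : IrrCharacter G // (charDegree (χ : G → ℂ)).Coprime (Nat.card H)} =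
      Nat.card (ConjClasses (fix K H)) * Nat.card (H →* ℂˣ) := by
  classical
  rw [← card_invariant (G := K) (S := H) (Subgroup.normalizer_eq_top K ▸ le_top) hsolv hcop,
    ← Nat.card_prod]
  haveI := Fintype.ofFinite K
  haveI := Fintype.ofFinite H
  have hidx : K.index = Nat.card H := by
    have := K.card_mul_index
    rw [card_eq_mul hKH hcop] at this
    exact Nat.eq_of_mul_eq_mul_left Nat.card_pos this
  have hext : ∀ φ : {φ : IrrCharacter K // Inv K H (φ : K → ℂ)}, ∃ η : IrrCharacter G,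
      ∀ k : K, (η : G → ℂ) k = (φ.1 : K → ℂ) k := by
    intro φ
    obtain ⟨d, hd, -, hdd⟩ := exists_degree_dvd_card φ.1.2
    obtain ⟨η, hη, he⟩ := extends_of_det K φ.1.2
      (invariant_of_inv hKH (isClassFunction_of_isCharacter (isCharacter_of_isIrr φ.1.2)) φ.2)
      d (Nat.card K) hd (1 : G →* ℂˣ) (fun n => by
        obtain ⟨f, hf⟩ := exists_det_hom (isCharacter_of_isIrr φ.1.2)
        rw [hf, MonoidHom.one_apply]
        dsimp only
        rw [← Units.val_pow_eq_pow_val, ← map_pow, pow_card_eq_one', map_one])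
      (by rw [hidx]; exact (hcop.symm.coprime_dvd_right hdd).mul_right hcop.symm)
    exact ⟨⟨η, hη⟩, he⟩
  choose η hη using hext
  choose β hβK hβH using exists_hom_extend (K := K) hKH hcop
  have hirr : ∀ (φ : {φ : IrrCharacter K // Inv K H (φ : K → ℂ)}) (μ : H →* ℂˣ),
      IsIrrCharacter G (fun g => (β μ g : ℂ) * (η φ : G → ℂ) g) := fun φ μ => by
    refine isIrr_of_restrict K
      (isCharacter_mul (isCharacter_monoidHom (β μ)) (isCharacter_of_isIrr (η φ).2)) ?_
    rw [show (fun k : K => ((β μ k : ℂˣ) : ℂ) * (η φ : G → ℂ) k) = (φ.1 : K → ℂ) from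
      funext fun k => by simp [hβK μ k, hη φ k]]
    exact φ.1.2
  have hdeg : ∀ (φ : {φ : IrrCharacter K // Inv K H (φ : K → ℂ)}) (μ : H →* ℂˣ),
      (charDegree (fun g => (β μ g : ℂ) * (η φ : G → ℂ) g)).Coprime (Nat.card H) := fun φ μ => by
    obtain ⟨d, hd, -, hdd⟩ := exists_degree_dvd_card φ.1.2
    rw [Extraspecial.charDegree_eq (d := d) (by
      have := hη φ 1
      rw [OneMemClass.coe_one, hd] at this
      simp [this])]
    exact hcop.coprime_dvd_left hdd
  refine (Nat.card_eq_of_bijective (fun x : {φ : IrrCharacter K // Inv K H (φ : K → ℂ)} × (H →* ℂˣ) =>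
    (⟨⟨_, hirr x.1 x.2⟩, hdeg x.1 x.2⟩ :
      {χ : IrrCharacter G // (charDegree (χ : G → ℂ)).Coprime (Nat.card H)})) ⟨?_, ?_⟩).symm
  · rintro ⟨φ, μ⟩ ⟨φ', μ'⟩ e
    have e1 : (fun g => (β μ g : ℂ) * (η φ : G → ℂ) g) = fun g => (β μ' g : ℂ) * (η φ' : G → ℂ) g :=
      congrArg (fun x : {χ : IrrCharacter G // (charDegree (χ : G → ℂ)).Coprime (Nat.card H)} =>
        (x.1 : G → ℂ)) e
    obtain rfl : φ = φ' := Subtype.ext (Subtype.ext (funext fun k => by
      simpa [hβK, hη] using congrFun e1 (k : G)))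
    refine Prod.ext rfl (MonoidHom.ext fun h => ?_)
    set b : G → ℂ := fun g => ((β μ' g)⁻¹ * β μ g : ℂˣ) with hb
    have hbK : avgN K b = b := by
      funext g
      simp only [avgN, hb, map_mul, hβK]
      simp [Nat.card_eq_fintype_card]
    have hbη : b * (η φ : G → ℂ) = (η φ : G → ℂ) := funext fun g => by
      rw [Pi.mul_apply, hb]
      simp only [Units.val_mul, mul_assoc, congrFun e1 g]
      rw [← mul_assoc, ← Units.val_mul, inv_mul_cancel, Units.val_one, one_mul]
    have h1 := congrFun ((extension_mul_isIrr K φ.1.2 (η φ).2 (hη φ)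
      (isIrrCharacter_monoidHom ((β μ')⁻¹ * β μ)) hbK).2.1 hbη) (h : G)
    have h2 : (β μ' h)⁻¹ * β μ h = 1 := Units.ext h1
    rw [← hβH μ h, ← hβH μ' h]
    exact (inv_mul_eq_one.mp h2).symm
  · rintro ⟨χ, hχ⟩
    obtain ⟨d, hd, hd0, -⟩ := exists_degree_dvd_card χ.2
    rw [Extraspecial.charDegree_eq hd] at hχ
    obtain ⟨θ, hθ⟩ := exists_constituent K (isCharacter_of_isIrr χ.2) (irr_degree_ne_zero χ.2)
    obtain ⟨e, he⟩ := exists_nat_classInner (isCharacter_restrict K (isCharacter_of_isIrr χ.2))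
      (isCharacter_of_isIrr θ.2)
    obtain ⟨t, ht, -, -⟩ := exists_degree_dvd_card θ.2
    have hdeq := clifford_degree K χ.2 θ.2 hθ
    rw [he, hd, ht] at hdeq
    have hdeq' : d = e * ((orbit K (θ : K → ℂ)).card * t) := by exact_mod_cast hdeq
    have horb : (orbit K (θ : K → ℂ)).card = 1 := by
      refine Nat.eq_one_of_dvd_coprimes hχ (hdeq' ▸ Dvd.dvd.mul_left (Dvd.intro _ rfl) _) ?_
      rw [card_orbit_eq_index, ← hidx]
      exact Subgroup.index_dvd_of_le (le_inertia K (isClassFunction_of_isCharacter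
        (isCharacter_of_isIrr θ.2)))
    have hinv : ∀ g, conjBy K (θ : K → ℂ) g = θ := by
      intro g
      rw [card_orbit_eq_index, Subgroup.index_eq_one] at horb
      exact (mem_inertia K).mp (horb ▸ Subgroup.mem_top g)
    set φ : {φ : IrrCharacter K // Inv K H (φ : K → ℂ)} := ⟨θ, fun s _ g g' e => by
      refine (congrArg (θ : K → ℂ) ?_).trans (congrFun (hinv s) g)
      exact Subtype.ext e⟩ with hφ
    have h1 : (fun _ : K => (1 : ℂ)) * (θ : K → ℂ) = θ := funext fun n => one_mul ((θ : K → ℂ) n)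
    have hbij := gallagher K (φ := fun _ : K => (1 : ℂ)) (θ := (θ : K → ℂ)) isIrrCharacter_one
      (fun g => rfl) hinv (by rw [h1]; exact θ.2) (η φ).2 (hη φ)
    rw [h1] at hbij
    obtain ⟨b, ⟨hb, hbn⟩, eb⟩ := hbij.surjOn (show (χ : G → ℂ) ∈ {ψ : G → ℂ | IsIrrCharacter G ψ ∧
        classInner (indFun K (θ : K → ℂ)) ψ ≠ 0} from ⟨χ.2, by
      rw [frobenius_reciprocity K _ (isClassFunction_of_isCharacter (isCharacter_of_isIrr χ.2))]
      intro h0
      exact hθ (by rw [← classInner_conj_symm, h0, map_zero])⟩)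
    have hbK : ∀ (k : K) (g : G), b ((k : G) * g) = b g := by
      rcases avgN_dichotomy K hb with ⟨-, hc⟩ | ⟨h0, -⟩
      · exact hc
      · exfalso
        apply hbn
        rw [frobenius_reciprocity K _ (isClassFunction_of_isCharacter (isCharacter_of_isIrr hb)),
          show classInner (fun _ : K => (1 : ℂ)) (fun n : K => b n) = conj (avgN K b 1) by
            simp [classInner, avgN],
          h0, Pi.zero_apply, map_zero]
    obtain ⟨m, hm, -, hmd⟩ := exists_degree_dvd_card (isIrr_restrict_of_avgN hKH hcop hb hbK)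
    rw [OneMemClass.coe_one] at hm
    have hb1 : m = 1 := by
      refine Nat.eq_one_of_dvd_coprimes hχ ⟨t, ?_⟩ hmd
      have e1 := congrFun eb 1
      have e2 := hη φ 1
      rw [OneMemClass.coe_one] at e2
      simp only [Pi.mul_apply, hm, e2, hd] at e1
      rw [show (φ.1 : K → ℂ) 1 = (t : ℂ) from ht] at e1
      exact_mod_cast e1.symm
    subst hb1
    rw [Nat.cast_one] at hm
    refine ⟨⟨φ, (linearHom (isCharacter_of_isIrr hb) hm).comp H.subtype⟩,
      Subtype.ext (Subtype.ext (funext fun g => ?_))⟩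
    rw [← congrFun eb g]
    show (_ : ℂ) * _ = b g * _
    congr 1
    obtain ⟨k, hk, h, hh, rfl⟩ := exists_mul hKH g
    rw [hbK ⟨k, hk⟩, map_mul, hβK _ ⟨k, hk⟩, one_mul, hβH _ ⟨h, hh⟩, MonoidHom.comp_apply,
      linearHom_apply]
    rfl

end CfsgLib.Char.Glauberman
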