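import Mathlib.Data.Finset.Card
import Mathlib.Data.Fintype.Card
import Mathlib.Tactic

/-!
# Grids of signed triples with the intersection pattern of a cyclic TI subset
-/

set_option autoImplicit false

namespace CfsgLib.Char.Grid

variable {P : Type*}

/-- No element together with its negative. -/
def Cln (ν : P → P) (a : Finset P) : Prop := ∀ p ∈ a, ν p ∉ a

/-- One common element and no opposite ones. -/
def One (ν : P → P) (a b : Finset P) : Prop :=
  ∃ p ∈ a, p ∈ b ∧ (∀ q ∈ a, q ∈ b → q = p) ∧ ∀ q ∈ a, ν q ∉ b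

/-- Nothing in common, or one common and one opposite element. -/
def Zero (ν : P → P) (a b : Finset P) : Prop :=
  (∀ q ∈ a, q ∈ b → ∃ r ∈ a, ν r ∈ b) ∧ (∀ r ∈ a, ν r ∈ b → ∃ q ∈ a, q ∈ b) ∧
    (∀ p ∈ a, ∀ q ∈ a, p ∈ b → q ∈ b → p = q) ∧ (∀ p ∈ a, ∀ q ∈ a, ν p ∈ b → ν q ∈ b → p = q)

/-- A grid of signed triples. -/
structure IsGrid {I J : Type*} (ν : P → P) (a : I → J → Finset P) : Prop where
  invol : Function.Involutive ν
  card : ∀ i j, (a i j).card = 3
  cln : ∀ i j, Cln ν (a i j)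
  row : ∀ i j k, j ≠ k → One ν (a i j) (a i k)
  col : ∀ i k j, i ≠ k → One ν (a i j) (a k j)
  cross : ∀ i k j l, i ≠ k → j ≠ l → Zero ν (a i j) (a k l)

variable {ν : P → P}

theorem eq_triple [DecidableEq P] {a : Finset P} (h : a.card = 3) {x y z : P} (hx : x ∈ a)
    (hy : y ∈ a) (hz : z ∈ a) (hxy : x ≠ y) (hxz : x ≠ z) (hyz : y ≠ z) : a = {x, y, z} := by
  refine (Finset.eq_of_subset_of_card_le (by intro w; simp; rintro (rfl | rfl | rfl) <;> assumption) ?_).symm
  rw [h, Finset.card_insert_of_notMem (by simp [hxy, hxz]), Finset.card_pair hyz]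

theorem not_four [DecidableEq P] {a : Finset P} (h : a.card = 3) {w x y z : P} (hw : w ∈ a)
    (hx : x ∈ a) (hy : y ∈ a) (hz : z ∈ a) (hwx : w ≠ x) (hwy : w ≠ y) (hwz : w ≠ z) (hxy : x ≠ y)
    (hxz : x ≠ z) (hyz : y ≠ z) : False := by
  rw [eq_triple h hx hy hz hxy hxz hyz] at hw
  simp [hwx, hwy, hwz] at hw

theorem One.symm (hν : Function.Involutive ν) {a b : Finset P} (h : One ν a b) : One ν b a := by
  obtain ⟨p, hpa, hpb, h1, h2⟩ := h
  refine ⟨p, hpb, hpa, fun q hqb hqa => h1 q hqa hqb, fun q hqb hqa => ?_⟩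
  exact h2 _ hqa (by rw [hν q]; exact hqb)

theorem One.eq_of_mem {a b : Finset P} (h : One ν a b) {p q : P} (hpa : p ∈ a) (hpb : p ∈ b)
    (hqa : q ∈ a) (hqb : q ∈ b) : p = q := by
  obtain ⟨w, -, -, h1, -⟩ := h
  rw [h1 p hpa hpb, h1 q hqa hqb]

theorem One.not_neg {a b : Finset P} (h : One ν a b) {q : P} (hq : q ∈ a) : ν q ∉ b := by
  obtain ⟨w, -, -, -, h2⟩ := h
  exact h2 q hq

/-- A quadrilateral of lines cannot occur. -/
theorem no_quad [DecidableEq P] {a₁ a₂ a₃ a₄ b : Finset P}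
    (h1 : a₁.card = 3) (h2 : a₂.card = 3) (h3 : a₃.card = 3) (h4 : a₄.card = 3)
    (o12 : One ν a₁ a₂) (o13 : One ν a₁ a₃) (o14 : One ν a₁ a₄) (o23 : One ν a₂ a₃)
    (o24 : One ν a₂ a₄) (o34 : One ν a₃ a₄)
    (n123 : ∀ p ∈ a₁, p ∈ a₂ → p ∉ a₃) (n124 : ∀ p ∈ a₁, p ∈ a₂ → p ∉ a₄)
    (n134 : ∀ p ∈ a₁, p ∈ a₃ → p ∉ a₄) (n234 : ∀ p ∈ a₂, p ∈ a₃ → p ∉ a₄)
    (hb : Cln ν b) (hν : Function.Involutive ν) (b1 : One ν a₁ b) (b2 : Zero ν a₂ b)
    (b3 : Zero ν a₃ b) (b4 : Zero ν a₄ b) : False := by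
  classical
  obtain ⟨u12, u12a, u12b, -⟩ := o12
  obtain ⟨u13, u13a, u13b, -⟩ := o13
  obtain ⟨u14, u14a, u14b, -⟩ := o14
  obtain ⟨u23, u23a, u23b, -⟩ := o23
  obtain ⟨u24, u24a, u24b, -⟩ := o24
  obtain ⟨u34, u34a, u34b, -⟩ := o34
  have e1 := eq_triple h1 u12a u13a u14a (fun e => n123 u12 u12a u12b (e ▸ u13b))
    (fun e => n124 u12 u12a u12b (e ▸ u14b)) (fun e => n134 u13 u13a u13b (e ▸ u14b))
  have e2 := eq_triple h2 u12b u23a u24a (fun e => n123 u12 u12a u12b (e ▸ u23b))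
    (fun e => n124 u12 u12a u12b (e ▸ u24b)) (fun e => n234 u23 u23a u23b (e ▸ u24b))
  have e3 := eq_triple h3 u13b u23b u34a (fun e => n123 u13 u13a (e ▸ u23a) u13b)
    (fun e => n134 u13 u13a u13b (e ▸ u34b)) (fun e => n234 u23 u23a u23b (e ▸ u34b))
  have e4 := eq_triple h4 u14b u24b u34b (fun e => n124 u14 u14a (e ▸ u24a) u14b)
    (fun e => n134 u14 u14a (e ▸ u34a) u14b) (fun e => n234 u24 u24a (e ▸ u34a) u24b)
  obtain ⟨p, hpa, hpb, huniq, hnn⟩ := b1
  -- the opposite of a point of `a₁` is never in `b`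
  have main : ∀ (A B C : Finset P) (u v w z : P), u ∈ a₁ → u ∈ b → u ∈ A → v ∈ A → v ∈ B →
      A = {u, v, w} → (∀ q ∈ B, q ∈ a₁ ∨ q = v ∨ q = z) → z ∈ C → u ∉ B → u ∉ C →
      Zero ν A b → Zero ν B b → Zero ν C b →
      (∀ q ∈ C, q ∈ a₁ ∨ q = w ∨ q = z) → v ≠ w → ν v ∈ b → False := by
    intro A B C u v w z hu1 hub huA hvA hvB hA hB hzC huB huC zA zB zC hC hvw hv
    obtain ⟨q, hqB, hqb⟩ := zB.2.1 v hvB hv
    have hq : q = z := by
      rcases hB q hqB with h | rfl | rfl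
      · exact absurd hqB (by rw [huniq q h hqb, ← huniq u hu1 hub]; exact huB)
      · exact absurd hv (hb q hqb)
      · rfl
    subst hq
    obtain ⟨r, hrC, hrb⟩ := zC.1 q hzC hqb
    rcases hC r hrC with h | rfl | rfl
    · exact hnn r h hrb
    · exact hvw (zA.2.2.2 v hvA r (by rw [hA]; simp) hv hrb)
    · exact hb r hqb hrb
  have step : ∀ (A B C : Finset P) (u v w z : P), u ∈ a₁ → u ∈ b → u ∈ A → v ∈ A → v ∈ B →
      w ∈ A → w ∈ C →
      A = {u, v, w} → (∀ q ∈ B, q ∈ a₁ ∨ q = v ∨ q = z) → z ∈ B → z ∈ C → u ∉ B → u ∉ C →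
      Zero ν A b → Zero ν B b → Zero ν C b →
      (∀ q ∈ C, q ∈ a₁ ∨ q = w ∨ q = z) → v ≠ w → False := by
    intro A B C u v w z hu1 hub huA hvA hvB hwA hwC hA hB hzB hzC huB huC zA zB zC hC hvw
    obtain ⟨r, hrA, hrb⟩ := zA.1 u huA hub
    rw [hA] at hrA
    simp only [Finset.mem_insert, Finset.mem_singleton] at hrA
    rcases hrA with rfl | rfl | rfl
    · exact hb r hub hrb
    · exact main A B C u r w z hu1 hub huA hvA hvB hA hB hzC huB huC zA zB zC hC hvw hrb
    · exact main A C B u r v z hu1 hub huA hwA hwC (by rw [hA]; ext; simp; tauto) hC hzB huC huB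
        zA zC zB hB hvw.symm hrb
  have m2 : ∀ q ∈ a₂, q ∈ a₁ ∨ q = u23 ∨ q = u24 := by
    intro q hq; rw [e2] at hq; simp at hq; rcases hq with rfl | rfl | rfl <;> simp [u12a]
  have m3 : ∀ q ∈ a₃, q ∈ a₁ ∨ q = u23 ∨ q = u34 := by
    intro q hq; rw [e3] at hq; simp at hq; rcases hq with rfl | rfl | rfl <;> simp [u13a]
  have m4 : ∀ q ∈ a₄, q ∈ a₁ ∨ q = u24 ∨ q = u34 := by
    intro q hq; rw [e4] at hq; simp at hq; rcases hq with rfl | rfl | rfl <;> simp [u14a]
  rw [e1] at hpa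
  simp only [Finset.mem_insert, Finset.mem_singleton] at hpa
  rcases hpa with rfl | rfl | rfl
  · exact step a₂ a₃ a₄ p u23 u24 u34 u12a hpb u12b u23a u23b u24a u24b e2 m3 u34a u34b
      (n123 _ u12a u12b) (n124 _ u12a u12b) b2 b3 b4 m4 (fun e => n234 u23 u23a u23b (e ▸ u24b))
  · exact step a₃ a₂ a₄ p u23 u34 u24 u13a hpb u13b u23b u23a u34a u34b e3 m2 u24a u24b
      (fun h => n123 _ u13a h u13b) (n134 _ u13a u13b) b3 b2 b4
      (fun q hq => by rcases m4 q hq with h | h | h <;> simp [h])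
      (fun e => n234 u23 u23a u23b (e ▸ u34b))
  · exact step a₄ a₂ a₃ p u24 u34 u23 u14a hpb u14b u24b u24a u34b u34a e4
      (fun q hq => by rcases m2 q hq with h | h | h <;> simp [h]) u23a u23b
      (fun h => n124 _ u14a h u14b) (fun h => n134 _ u14a h u14b) b4 b2 b3
      (fun q hq => by rcases m3 q hq with h | h | h <;> simp [h])
      (fun e => n234 u24 u24a (e ▸ u34a) u24b)

/-- The hypotheses for three concurrent lines with a transversal `D`. -/
structure Tri (ν : P → P) (x : P) (A B C D bA bB bC bD : Finset P) : Prop where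
  invol : Function.Involutive ν
  hA : A.card = 3
  hB : B.card = 3
  hC : C.card = 3
  hD : D.card = 3
  nA : Cln ν A
  nB : Cln ν B
  nC : Cln ν C
  nD : Cln ν D
  xA : x ∈ A
  xB : x ∈ B
  xC : x ∈ C
  xD : x ∉ D
  oAB : One ν A B
  oAC : One ν A C
  oBC : One ν B C
  oAD : One ν A D
  oBD : One ν B D
  oCD : One ν C D
  kA : bA.card = 3
  kD : bD.card = 3
  lA : Cln ν bA
  lB : Cln ν bB
  lC : Cln ν bC
  lD : Cln ν bD
  pAB : One ν bA bB
  pAC : One ν bA bC
  pBC : One ν bB bC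
  pAD : One ν bA bD
  pBD : One ν bB bD
  pCD : One ν bC bD
  kB : bB.card = 3
  kC : bC.card = 3
  cA : One ν A bA
  cB : One ν B bB
  cC : One ν C bC
  cD : One ν D bD
  zAB : Zero ν A bB
  zAC : Zero ν A bC
  zAD : Zero ν A bD
  zBA : Zero ν B bA
  zBC : Zero ν B bC
  zBD : Zero ν B bD
  zCA : Zero ν C bA
  zCB : Zero ν C bB
  zCD : Zero ν C bD
  zDA : Zero ν D bA
  zDB : Zero ν D bB
  zDC : Zero ν D bC

theorem Tri.swap12 {x : P} {A B C D bA bB bC bD : Finset P}
    (T : Tri ν x A B C D bA bB bC bD) : Tri ν x B A C D bB bA bC bD where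
  invol := T.invol
  hA := T.hB
  hB := T.hA
  hC := T.hC
  hD := T.hD
  nA := T.nB
  nB := T.nA
  nC := T.nC
  nD := T.nD
  xA := T.xB
  xB := T.xA
  xC := T.xC
  xD := T.xD
  oAB := T.oAB.symm T.invol
  oAC := T.oBC
  oBC := T.oAC
  oAD := T.oBD
  oBD := T.oAD
  oCD := T.oCD
  kA := T.kB
  kD := T.kD
  lA := T.lB
  lB := T.lA
  lC := T.lC
  lD := T.lD
  pAB := T.pAB.symm T.invol
  pAC := T.pBC
  pBC := T.pAC
  pAD := T.pBD
  pBD := T.pAD
  pCD := T.pCD
  kB := T.kA
  kC := T.kC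
  cA := T.cB
  cB := T.cA
  cC := T.cC
  cD := T.cD
  zAB := T.zBA
  zAC := T.zBC
  zAD := T.zBD
  zBA := T.zAB
  zBC := T.zAC
  zBD := T.zAD
  zCA := T.zCB
  zCB := T.zCA
  zCD := T.zCD
  zDA := T.zDB
  zDB := T.zDA
  zDC := T.zDC

theorem Tri.swap23 {x : P} {A B C D bA bB bC bD : Finset P}
    (T : Tri ν x A B C D bA bB bC bD) : Tri ν x A C B D bA bC bB bD where
  invol := T.invol
  hA := T.hA
  hB := T.hC
  hC := T.hB
  hD := T.hD
  nA := T.nA
  nB := T.nC
  nC := T.nB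
  nD := T.nD
  xA := T.xA
  xB := T.xC
  xC := T.xB
  xD := T.xD
  oAB := T.oAC
  oAC := T.oAB
  oBC := T.oBC.symm T.invol
  oAD := T.oAD
  oBD := T.oCD
  oCD := T.oBD
  kA := T.kA
  kD := T.kD
  lA := T.lA
  lB := T.lC
  lC := T.lB
  lD := T.lD
  pAB := T.pAC
  pAC := T.pAB
  pBC := T.pBC.symm T.invol
  pAD := T.pAD
  pBD := T.pCD
  pCD := T.pBD
  kB := T.kC
  kC := T.kB
  cA := T.cA
  cB := T.cC
  cC := T.cB
  cD := T.cD
  zAB := T.zAC
  zAC := T.zAB
  zAD := T.zAD
  zBA := T.zCA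
  zBC := T.zCB
  zBD := T.zCD
  zCA := T.zBA
  zCB := T.zBC
  zCD := T.zBD
  zDA := T.zDA
  zDB := T.zDC
  zDC := T.zDB

theorem third [DecidableEq P] {a : Finset P} {x q : P} (ha : a.card = 3) (hx : x ∈ a) (hq : q ∈ a)
    (hne : x ≠ q) : ∃ r, a = {x, q, r} ∧ r ≠ x ∧ r ≠ q ∧ r ∈ a := by
  obtain ⟨r, hr⟩ : ((a.erase x).erase q).Nonempty := by
    rw [← Finset.card_pos, Finset.card_erase_of_mem (by simp [hq, hne.symm]),
      Finset.card_erase_of_mem hx, ha]
    norm_num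
  simp only [Finset.mem_erase] at hr
  exact ⟨r, eq_triple ha hx hq hr.2.2 hne hr.2.1.symm hr.1.symm, hr.2.1, hr.1, hr.2.2⟩

/-- The final configuration. -/
theorem Tri.final [DecidableEq P] {x q q' q'' : P} {A B C D bA bB bC bD : Finset P}
    (T : Tri ν x A B C D bA bB bC bD) (qA : q ∈ A) (qD : q ∈ D) (q'B : q' ∈ B) (q'D : q' ∈ D)
    (q''C : q'' ∈ C) (q''D : q'' ∈ D) (d12 : q ≠ q') (d13 : q ≠ q'') (d23 : q' ≠ q'')
    (hq : q ∈ bA) (hq' : ν q' ∈ bA) : False := by
  have xq : ∀ {q}, q ∈ D → x ≠ q := fun h e => T.xD (e ▸ h)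
  obtain ⟨r', eB, r'x, r'q, r'B⟩ := third T.hB T.xB q'B (xq q'D)
  have eD := eq_triple T.hD qD q'D q''D d12 d13 d23
  have r'D : r' ∉ D := fun h => r'q (T.oBD.eq_of_mem r'B h q'B q'D)
  have r'bA : r' ∈ bA := by
    obtain ⟨w, hw, hwb⟩ := T.zBA.2.1 q' q'B hq'
    rw [eB] at hw
    simp only [Finset.mem_insert, Finset.mem_singleton] at hw
    rcases hw with rfl | rfl | rfl
    · exact absurd (T.cA.eq_of_mem T.xA hwb qA hq) (xq qD)
    · exact absurd hq' (T.lA _ hwb)
    · exact hwb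
  have ebA := eq_triple T.kA hq hq' r'bA (fun e => T.nD q' q'D (e ▸ qD))
    (fun e => r'D (e ▸ qD)) (fun e => T.nB q' q'B (e ▸ r'B))
  obtain ⟨c, hcA, hcC, -⟩ := T.pAC
  rw [ebA] at hcA
  simp only [Finset.mem_insert, Finset.mem_singleton] at hcA
  rcases hcA with rfl | rfl | rfl
  · obtain ⟨w, hw, hwb⟩ := T.zDC.1 c qD hcC
    rw [eD] at hw
    simp only [Finset.mem_insert, Finset.mem_singleton] at hw
    rcases hw with rfl | rfl | rfl
    · exact T.lC _ hcC hwb
    · exact T.nD w q'D (T.pAC.eq_of_mem hq hcC hq' hwb ▸ qD)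
    · exact T.cC.not_neg q''C hwb
  · obtain ⟨v, hv, hvb⟩ := T.zDC.2.1 q' q'D hcC
    rw [eD] at hv
    simp only [Finset.mem_insert, Finset.mem_singleton] at hv
    rcases hv with rfl | rfl | rfl
    · exact T.nD q' q'D (T.pAC.eq_of_mem hq hvb hq' hcC ▸ qD)
    · exact T.lC _ hvb hcC
    · obtain ⟨w, hw, hwb⟩ := T.zBC.2.1 q' q'B hcC
      rw [eB] at hw
      simp only [Finset.mem_insert, Finset.mem_singleton] at hw
      rcases hw with rfl | rfl | rfl
      · exact xq q''D (T.cC.eq_of_mem T.xC hwb q''C hvb)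
      · exact T.lC _ hwb hcC
      · exact T.nB q' q'B (T.pAC.eq_of_mem r'bA hwb hq' hcC ▸ r'B)
  · obtain ⟨w, hw, hwb⟩ := T.zBC.1 c r'B hcC
    rw [eB] at hw
    simp only [Finset.mem_insert, Finset.mem_singleton] at hw
    rcases hw with rfl | rfl | rfl
    · exact T.cC.not_neg T.xC hwb
    · exact T.nB w q'B (T.pAC.eq_of_mem r'bA hcC hq' hwb ▸ r'B)
    · exact T.lC _ hcC hwb

/-- Three concurrent lines with a transversal: the partner of the transversal cannot use `A`. -/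
theorem Tri.false_of_mem [DecidableEq P] {x q : P} {A B C D bA bB bC bD : Finset P}
    (T : Tri ν x A B C D bA bB bC bD) (qA : q ∈ A) (qD : q ∈ D) (hq : q ∈ bD) : False := by
  have xq : ∀ {q}, q ∈ D → x ≠ q := fun h e => T.xD (e ▸ h)
  obtain ⟨q', q'B, q'D, -⟩ := id T.oBD
  obtain ⟨q'', q''C, q''D, -⟩ := id T.oCD
  have d12 : q ≠ q' := fun e => xq qD (T.oAB.eq_of_mem T.xA T.xB qA (e ▸ q'B))
  have d13 : q ≠ q'' := fun e => xq qD (T.oAC.eq_of_mem T.xA T.xC qA (e ▸ q''C))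
  have d23 : q' ≠ q'' := fun e => xq q'D (T.oBC.eq_of_mem T.xB T.xC q'B (e ▸ q''C))
  have eD := eq_triple T.hD qD q'D q''D d12 d13 d23
  obtain ⟨r, eA, rx, rq, rA⟩ := third T.hA T.xA qA (xq qD)
  obtain ⟨r', eB, r'x, r'q, r'B⟩ := third T.hB T.xB q'B (xq q'D)
  obtain ⟨r'', eC, r''x, r''q, r''C⟩ := third T.hC T.xC q''C (xq q''D)
  have r'D : r' ∉ D := fun h => r'q (T.oBD.eq_of_mem r'B h q'B q'D)
  have r''D : r'' ∉ D := fun h => r''q (T.oCD.eq_of_mem r''C h q''C q''D)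
  have dr : r' ≠ r'' := fun e => r'x (T.oBC.eq_of_mem r'B (e ▸ r''C) T.xB T.xC)
  have nx : x ∉ bD := fun h => xq qD (T.zAD.2.2.1 x T.xA q qA h hq)
  have hνx : ν x ∉ bD := by
    intro hx
    have get : ∀ (E : Finset P) (u w : P), E = {x, u, w} → u ∈ D → u ≠ q → Zero ν E bD →
        w ∈ bD := by
      intro E u w eE hu hne zE
      obtain ⟨v, hv, hvb⟩ := zE.2.1 x (by simp [eE]) hx
      rw [eE] at hv
      simp only [Finset.mem_insert, Finset.mem_singleton] at hv
      rcases hv with rfl | rfl | rfl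
      · exact absurd hvb nx
      · exact absurd (T.cD.eq_of_mem hu hvb qD hq) hne
      · exact hvb
    exact not_four T.kD hq hx (get B q' r' eB q'D d12.symm T.zBD)
      (get C q'' r'' eC q''D d13.symm T.zCD) (fun e => T.nA x T.xA (e ▸ qA))
      (fun e => r'D (e ▸ qD)) (fun e => r''D (e ▸ qD)) (fun e => T.nB x T.xB (e ▸ r'B))
      (fun e => T.nC x T.xC (e ▸ r''C)) dr
  have hνr : ν r ∈ bD := by
    obtain ⟨w, hw, hwb⟩ := T.zAD.1 q qA hq
    rw [eA] at hw
    simp only [Finset.mem_insert, Finset.mem_singleton] at hw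
    rcases hw with rfl | rfl | rfl
    · exact absurd hwb hνx
    · exact absurd hwb (T.lD _ hq)
    · exact hwb
  obtain ⟨p, hpA, hpb, -⟩ := id T.cA
  rw [eA] at hpA
  simp only [Finset.mem_insert, Finset.mem_singleton] at hpA
  rcases hpA with rfl | rfl | rfl
  · have get : ∀ (E F : Finset P) (u w v : P), E = {p, u, w} → u ∈ D → v ∈ F → p ∈ F → v ∈ D →
        D = {q, u, v} → Zero ν E bA → Zero ν F bA → ν w ∈ bA := by
      intro E F u w v eE hu hvF hpF hvD eD' zE zF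
      obtain ⟨t, ht, htb⟩ := zE.1 p (by simp [eE]) hpb
      rw [eE] at ht
      simp only [Finset.mem_insert, Finset.mem_singleton] at ht
      rcases ht with rfl | rfl | rfl
      · exact absurd htb (T.lA _ hpb)
      · exfalso
        obtain ⟨s, hs, hsb⟩ := T.zDA.2.1 t hu htb
        rw [eD'] at hs
        simp only [Finset.mem_insert, Finset.mem_singleton] at hs
        rcases hs with rfl | rfl | rfl
        · exact xq qD (T.cA.eq_of_mem T.xA hpb qA hsb)
        · exact T.lA _ hsb htb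
        · exact xq hvD (zF.2.2.1 p hpF s hvF hpb hsb)
      · exact htb
    have g2 := get B C q' r' q'' eB q'D q''C T.xC q''D eD T.zBA T.zCA
    have g3 := get C B q'' r'' q' eC q''D q'B T.xB q'D
      (by rw [eD]; ext; simp; tauto) T.zCA T.zBA
    have ebA := eq_triple T.kA hpb g2 g3 (fun e => T.nB r' r'B (e ▸ T.xB))
      (fun e => T.nC r'' r''C (e ▸ T.xC)) (fun e => dr (T.invol.injective e))
    obtain ⟨c, hcA, hcD, -⟩ := id T.pAD
    rw [ebA] at hcA
    simp only [Finset.mem_insert, Finset.mem_singleton] at hcA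
    rcases hcA with rfl | rfl | rfl
    · exact nx hcD
    · obtain ⟨s, hs, hsb⟩ := T.zBD.2.1 r' r'B hcD
      rw [eB] at hs
      simp only [Finset.mem_insert, Finset.mem_singleton] at hs
      rcases hs with rfl | rfl | rfl
      · exact nx hsb
      · exact d12 (T.cD.eq_of_mem qD hq q'D hsb)
      · exact T.lD _ hsb hcD
    · obtain ⟨s, hs, hsb⟩ := T.zCD.2.1 r'' r''C hcD
      rw [eC] at hs
      simp only [Finset.mem_insert, Finset.mem_singleton] at hs
      rcases hs with rfl | rfl | rfl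
      · exact nx hsb
      · exact d13 (T.cD.eq_of_mem qD hq q''D hsb)
      · exact T.lD _ hsb hcD
  · obtain ⟨w, hw, hwb⟩ := T.zDA.1 p qD hpb
    rw [eD] at hw
    simp only [Finset.mem_insert, Finset.mem_singleton] at hw
    rcases hw with rfl | rfl | rfl
    · exact T.lA _ hpb hwb
    · exact T.final qA qD q'B q'D q''C q''D d12 d13 d23 hpb hwb
    · exact T.swap23.final qA qD q''C q''D q'B q'D d13 d12 d23.symm hpb hwb
  · exact T.pAD.not_neg hpb hνr

/-- Three concurrent lines with a transversal cannot occur. -/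
theorem no_tri [DecidableEq P] {x : P} {A B C D bA bB bC bD : Finset P}
    (T : Tri ν x A B C D bA bB bC bD) : False := by
  obtain ⟨q, qD, hq, -⟩ := id T.cD
  obtain ⟨q1, q1A, q1D, -⟩ := id T.oAD
  obtain ⟨q2, q2B, q2D, -⟩ := id T.oBD
  obtain ⟨q3, q3C, q3D, -⟩ := id T.oCD
  have xq : ∀ {q}, q ∈ D → x ≠ q := fun h e => T.xD (e ▸ h)
  have d12 : q1 ≠ q2 := fun e => xq q1D (T.oAB.eq_of_mem T.xA T.xB q1A (e ▸ q2B))
  have d13 : q1 ≠ q3 := fun e => xq q1D (T.oAC.eq_of_mem T.xA T.xC q1A (e ▸ q3C))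
  have d23 : q2 ≠ q3 := fun e => xq q2D (T.oBC.eq_of_mem T.xB T.xC q2B (e ▸ q3C))
  rw [eq_triple T.hD q1D q2D q3D d12 d13 d23] at qD
  simp only [Finset.mem_insert, Finset.mem_singleton] at qD
  rcases qD with rfl | rfl | rfl
  · exact T.false_of_mem q1A q1D hq
  · exact T.swap12.false_of_mem q2B q2D hq
  · exact (T.swap23.swap12).false_of_mem q3C q3D hq

variable {I J : Type*} {a : I → J → Finset P}

theorem IsGrid.transpose (g : IsGrid ν a) : IsGrid ν (fun j i => a i j) where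
  invol := g.invol
  card j i := g.card i j
  cln j i := g.cln i j
  row j i k h := g.col i k j h
  col j l i h := g.row i j l h
  cross j l i k hjl hik := g.cross i k j l hik hjl

/-- In four entries of one row some three, hence all four, are concurrent. -/
theorem IsGrid.concurrent_four [DecidableEq P] (g : IsGrid ν a) {i i' : I} (hi : i ≠ i') {j k l m : J}
    (hjk : j ≠ k) (hjl : j ≠ l) (hjm : j ≠ m) (hkl : k ≠ l) (hkm : k ≠ m) (hlm : l ≠ m) :
    ∃ p, p ∈ a i j ∧ p ∈ a i k ∧ p ∈ a i l ∧ p ∈ a i m := by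
  have triA : ∀ {j k l m : J}, j ≠ k → j ≠ l → j ≠ m → k ≠ l → k ≠ m → l ≠ m → ∀ p, p ∈ a i j →
      p ∈ a i k → p ∈ a i l → p ∈ a i m := by
    intro j k l m hjk hjl hjm hkl hkm hlm p h1 h2 h3
    by_contra h4
    exact no_tri (ν := ν) (x := p) (A := a i j) (B := a i k) (C := a i l) (D := a i m)
      (bA := a i' j) (bB := a i' k) (bC := a i' l) (bD := a i' m)
      { invol := g.invol, hA := g.card _ _, hB := g.card _ _, hC := g.card _ _, hD := g.card _ _,
        nA := g.cln _ _, nB := g.cln _ _, nC := g.cln _ _, nD := g.cln _ _,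
        xA := h1, xB := h2, xC := h3, xD := h4,
        oAB := g.row i j k hjk, oAC := g.row i j l hjl, oBC := g.row i k l hkl,
        oAD := g.row i j m hjm, oBD := g.row i k m hkm, oCD := g.row i l m hlm,
        kA := g.card _ _, kB := g.card _ _, kC := g.card _ _, kD := g.card _ _,
        lA := g.cln _ _, lB := g.cln _ _, lC := g.cln _ _, lD := g.cln _ _,
        pAB := g.row _ _ _ hjk, pAC := g.row _ _ _ hjl, pBC := g.row _ _ _ hkl,
        pAD := g.row _ _ _ hjm, pBD := g.row _ _ _ hkm, pCD := g.row _ _ _ hlm,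
        cA := g.col _ _ _ hi, cB := g.col _ _ _ hi, cC := g.col _ _ _ hi, cD := g.col _ _ _ hi,
        zAB := g.cross _ _ _ _ hi hjk, zAC := g.cross _ _ _ _ hi hjl, zAD := g.cross _ _ _ _ hi hjm,
        zBA := g.cross _ _ _ _ hi hjk.symm, zBC := g.cross _ _ _ _ hi hkl,
        zBD := g.cross _ _ _ _ hi hkm,
        zCA := g.cross _ _ _ _ hi hjl.symm, zCB := g.cross _ _ _ _ hi hkl.symm,
        zCD := g.cross _ _ _ _ hi hlm,
        zDA := g.cross _ _ _ _ hi hjm.symm, zDB := g.cross _ _ _ _ hi hkm.symm,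
        zDC := g.cross _ _ _ _ hi hlm.symm }
  by_contra hne
  push Not at hne
  refine no_quad (a₁ := a i j) (a₂ := a i k) (a₃ := a i l) (a₄ := a i m) (b := a i' j)
    (g.card _ _) (g.card _ _) (g.card _ _) (g.card _ _) (g.row i j k hjk) (g.row i j l hjl)
    (g.row i j m hjm) (g.row i k l hkl) (g.row i k m hkm) (g.row i l m hlm) ?_ ?_ ?_ ?_
    (g.cln _ _) g.invol (g.col _ _ _ hi) (g.cross _ _ _ _ hi hjk.symm)
    (g.cross _ _ _ _ hi hjl.symm) (g.cross _ _ _ _ hi hjm.symm)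
  · intro p h1 h2 h3
    exact hne p h1 h2 h3 (triA hjk hjl hjm hkl hkm hlm p h1 h2 h3)
  · intro p h1 h2 h4
    exact hne p h1 h2 (triA hjk hjm hjl hkm hkl hlm.symm p h1 h2 h4) h4
  · intro p h1 h3 h4
    exact hne p h1 (triA hjl hjm hjk hlm hkl.symm hkm.symm p h1 h3 h4) h3 h4
  · intro p h2 h3 h4
    exact hne p (triA hkl hkm hjk.symm hlm hjl.symm hjm.symm p h2 h3 h4) h2 h3 h4

theorem exists_ne_three [Fintype J] (hJ : 4 ≤ Fintype.card J) (x y z : J) :
    ∃ w, w ≠ x ∧ w ≠ y ∧ w ≠ z := by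
  classical
  obtain ⟨w, -, hw⟩ := Finset.exists_mem_notMem_of_card_lt_card
    (t := (Finset.univ : Finset J)) (s := {x, y, z})
    (lt_of_le_of_lt Finset.card_le_three (by rw [Finset.card_univ]; omega))
  simp only [Finset.mem_insert, Finset.mem_singleton, not_or] at hw
  exact ⟨w, hw.1, hw.2.1, hw.2.2⟩

/-- A long row has a common element. -/
theorem IsGrid.exists_common [DecidableEq P] [Fintype J] (hJ : 4 ≤ Fintype.card J) (g : IsGrid ν a)
    {i i' : I} (hi : i ≠ i') : ∃ x, ∀ j, x ∈ a i j := by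
  obtain ⟨j0⟩ : Nonempty J := Fintype.card_pos_iff.mp (by omega)
  obtain ⟨j1, h10, -, -⟩ := exists_ne_three hJ j0 j0 j0
  obtain ⟨x, hx0, hx1, -⟩ := g.row i j0 j1 h10.symm
  refine ⟨x, fun j => ?_⟩
  by_cases h0 : j = j0
  · rwa [h0]
  by_cases h1 : j = j1
  · rwa [h1]
  obtain ⟨k, k0, k1, kj⟩ := exists_ne_three hJ j0 j1 j
  obtain ⟨p, p0, p1, pj, -⟩ := g.concurrent_four hi (j := j0) (k := j1) (l := j) (m := k)
    h10.symm (Ne.symm h0) k0.symm (Ne.symm h1) k1.symm kj.symm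
  rwa [(g.row i j0 j1 h10.symm).eq_of_mem hx0 hx1 p0 p1]

/-- The shape of a grid: a point per row, a point per column and one more for each entry. -/
theorem IsGrid.structure_theorem [DecidableEq P] [Fintype I] [Fintype J] (g : IsGrid ν a)
    (hI : Fintype.card I = 2 ∨ 4 ≤ Fintype.card I) (hJ : 4 ≤ Fintype.card J) :
    ∃ (x : I → P) (y : J → P) (z : I → J → P),
      (∀ i j, a i j = {x i, y j, z i j}) ∧
      (∀ i j, x i ≠ y j ∧ x i ≠ z i j ∧ y j ≠ z i j) ∧
      Function.Injective (Sum.elim x (Sum.elim y fun q : I × J => z q.1 q.2)) ∧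
      (∀ u v, (Sum.elim x (Sum.elim y fun q : I × J => z q.1 q.2)) u ≠
        ν ((Sum.elim x (Sum.elim y fun q : I × J => z q.1 q.2)) v)) := by
  classical
  have hI2 : ∀ i : I, ∃ i', i ≠ i' := by
    intro i
    obtain ⟨i', hi'⟩ := Fintype.exists_ne_of_one_lt_card (by omega) i
    exact ⟨i', hi'.symm⟩
  have hJ2 : ∀ j : J, ∃ j', j ≠ j' := fun j => by
    obtain ⟨j', hj'⟩ := Fintype.exists_ne_of_one_lt_card (by omega) j
    exact ⟨j', hj'.symm⟩
  have hX : ∀ i, ∃ x, ∀ j, x ∈ a i j := fun i =>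
    let ⟨i', h⟩ := hI2 i
    g.exists_common hJ h
  choose x hx using hX
  have hY : ∀ j, ∃ y, ∀ i, y ∈ a i j := by
    intro j
    rcases hI with h2 | h4
    · obtain ⟨i0⟩ : Nonempty I := Fintype.card_pos_iff.mp (by omega)
      obtain ⟨i1, h01⟩ := hI2 i0
      obtain ⟨y, y0, y1, -⟩ := g.col i0 i1 j h01
      refine ⟨y, fun i => ?_⟩
      have : i = i0 ∨ i = i1 := by
        have e : ({i0, i1} : Finset I) = Finset.univ := Finset.eq_univ_of_card _ (by
          rw [Finset.card_pair h01, h2])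
        have := Finset.mem_univ i
        rw [← e] at this
        simpa using this
      rcases this with rfl | rfl <;> assumption
    · obtain ⟨j', h⟩ := hJ2 j
      exact g.transpose.exists_common h4 h
  choose y hy using hY
  -- the row points stay in their rows
  have hxout : ∀ i i' j, i ≠ i' → x i ∉ a i' j := by
    intro i i' j hii h
    have hex : ∀ k, k ≠ j → ∃ r ∈ a i k, ν r ∈ a i' j := fun k hk =>
      (g.cross i i' k j hii hk).1 (x i) (hx i k) h
    obtain ⟨k1, k1j, -, -⟩ := exists_ne_three hJ j j j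
    obtain ⟨k2, k2j, k21, -⟩ := exists_ne_three hJ j k1 j
    obtain ⟨k3, k3j, k31, k32⟩ := exists_ne_three hJ j k1 k2
    obtain ⟨r1, r1a, r1b⟩ := hex k1 k1j
    obtain ⟨r2, r2a, r2b⟩ := hex k2 k2j
    obtain ⟨r3, r3a, r3b⟩ := hex k3 k3j
    have rne : ∀ k r, r ∈ a i k → ν r ∈ a i' j → r ≠ x i := fun k r _ hr e =>
      g.cln i' j (x i) h (e ▸ hr)
    have dne : ∀ k k' r r', k ≠ k' → r ∈ a i k → ν r ∈ a i' j → r' ∈ a i k' → r ≠ r' := by
      intro k k' r r' hk hr hrb hr' e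
      exact rne k r hr hrb ((g.row i k k' hk).eq_of_mem hr (e ▸ hr') (hx i k) (hx i k'))
    refine not_four (g.card i' j) h r1b r2b r3b
      (fun e => g.cln i k1 r1 r1a (e ▸ hx i k1))
      (fun e => g.cln i k2 r2 r2a (e ▸ hx i k2))
      (fun e => g.cln i k3 r3 r3a (e ▸ hx i k3))
      (fun e => dne k1 k2 r1 r2 k21.symm r1a r1b r2a (g.invol.injective e))
      (fun e => dne k1 k3 r1 r3 k31.symm r1a r1b r3a (g.invol.injective e))
      (fun e => dne k2 k3 r2 r3 k32.symm r2a r2b r3a (g.invol.injective e))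
  have hxy : ∀ i j, x i ≠ y j := by
    intro i j e
    obtain ⟨i', hi'⟩ := hI2 i
    exact hxout i i' j hi' (e ▸ hy j i')
  have hνxout : ∀ i i' j, ν (x i) ∉ a i' j := by
    intro i i' j
    by_cases h : i = i'
    · subst h; exact g.cln i j _ (hx i j)
    · exact (g.col i i' j h).not_neg (hx i j)
  have hyout : ∀ j j' i, j ≠ j' → y j ∉ a i j' := fun j j' i hj h =>
    hxy i j ((g.row i j j' hj).eq_of_mem (hy j i) h (hx i j) (hx i j')).symm
  have hνyout : ∀ j j' i, ν (y j) ∉ a i j' := by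
    intro j j' i
    by_cases h : j = j'
    · subst h; exact g.cln i j _ (hy j i)
    · exact (g.row i j j' h).not_neg (hy j i)
  have hz : ∀ i j, ∃ z, a i j = {x i, y j, z} ∧ z ≠ x i ∧ z ≠ y j ∧ z ∈ a i j := fun i j =>
    third (g.card i j) (hx i j) (hy j i) (hxy i j)
  choose z hz hzx hzy hzm using hz
  refine ⟨x, y, z, hz, fun i j => ⟨hxy i j, (hzx i j).symm, (hzy i j).symm⟩, ?_, ?_⟩
  · have xx : ∀ i i', x i = x i' → i = i' := by
      intro i i' e
      by_contra hne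
      obtain ⟨j⟩ : Nonempty J := Fintype.card_pos_iff.mp (by omega)
      exact hxout i i' j hne (e ▸ hx i' j)
    have yy : ∀ j j', y j = y j' → j = j' := by
      intro j j' e
      by_contra hne
      obtain ⟨i⟩ : Nonempty I := Fintype.card_pos_iff.mp (by omega)
      exact hyout j j' i hne (e ▸ hy j' i)
    have xz : ∀ i i' j, x i ≠ z i' j := by
      intro i i' j e
      by_cases h : i = i'
      · subst h; exact hzx i j e.symm
      · exact hxout i i' j h (e ▸ hzm i' j)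
    have yz : ∀ j i j', y j ≠ z i j' := by
      intro j i j' e
      by_cases h : j = j'
      · subst h; exact hzy i j e.symm
      · exact hyout j j' i h (e ▸ hzm i j')
    have zz : ∀ i i' j j', z i j = z i' j' → i = i' ∧ j = j' := by
      intro i i' j j' e
      have hm : z i j ∈ a i' j' := e ▸ hzm i' j'
      by_cases hi : i = i' <;> by_cases hj : j = j'
      · exact ⟨hi, hj⟩
      · subst hi
        exact absurd ((g.row i j j' hj).eq_of_mem (hzm i j) hm (hx i j) (hx i j')) (hzx i j)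
      · subst hj
        exact absurd ((g.col i i' j hi).eq_of_mem (hzm i j) hm (hy j i) (hy j i')) (hzy i j)
      · exfalso
        obtain ⟨r, hr, hrb⟩ := (g.cross i i' j j' hi hj).1 (z i j) (hzm i j) hm
        rw [hz i j] at hr
        simp only [Finset.mem_insert, Finset.mem_singleton] at hr
        rcases hr with rfl | rfl | rfl
        · exact hνxout _ _ _ hrb
        · exact hνyout _ _ _ hrb
        · exact g.cln i' j' _ hm hrb
    rintro (i | j | ⟨i, j⟩) (i' | j' | ⟨i', j'⟩) e <;> simp only [Sum.elim_inl, Sum.elim_inr] at e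
    · rw [xx _ _ e]
    · exact absurd e (hxy _ _)
    · exact absurd e (xz _ _ _)
    · exact absurd e.symm (hxy _ _)
    · rw [yy _ _ e]
    · exact absurd e (yz _ _ _)
    · exact absurd e.symm (xz _ _ _)
    · exact absurd e.symm (yz _ _ _)
    · obtain ⟨rfl, rfl⟩ := zz _ _ _ _ e; rfl
  · have sw : ∀ {p q : P}, p = ν q → ν p = q := fun e => by rw [e, g.invol]
    rintro (i | j | ⟨i, j⟩) (i' | j' | ⟨i', j'⟩) e <;> simp only [Sum.elim_inl, Sum.elim_inr] at e
    · obtain ⟨j0⟩ : Nonempty J := Fintype.card_pos_iff.mp (by omega)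
      exact hνxout i i' j0 (sw e ▸ hx i' j0)
    · exact hνxout i i j' (sw e ▸ hy j' i)
    · exact hνxout i i' j' (sw e ▸ hzm i' j')
    · exact hνxout i' i' j (e ▸ hy j i')
    · obtain ⟨i⟩ : Nonempty I := Fintype.card_pos_iff.mp (by omega)
      exact hνyout j j' i (sw e ▸ hy j' i)
    · exact hνyout j j' i' (sw e ▸ hzm i' j')
    · exact hνxout i' i j (e ▸ hzm i j)
    · exact hνyout j' j i (e ▸ hzm i j)
    · have h : ν (z i j) ∈ a i' j' := sw e ▸ hzm i' j'
      by_cases hi : i = i' <;> by_cases hj : j = j'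
      · subst hi hj; exact g.cln i j _ (hzm i j) h
      · subst hi; exact (g.row i j j' hj).not_neg (hzm i j) h
      · subst hj; exact (g.col i i' j hi).not_neg (hzm i j) h
      · obtain ⟨q, hq, hqb⟩ := (g.cross i i' j j' hi hj).2.1 (z i j) (hzm i j) h
        rw [hz i j] at hq
        simp only [Finset.mem_insert, Finset.mem_singleton] at hq
        rcases hq with rfl | rfl | rfl
        · exact hxout i i' j' hi hqb
        · exact hyout j j' i' hj hqb
        · exact g.cln i' j' _ hqb h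

end CfsgLib.Char.Grid
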