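import Cfsg.Agent.Lib.Char.CyclicW
import Cfsg.Agent.Lib.Char.Twist
import Cfsg.Prelude.Def_OddOrderChar
import Mathlib.GroupTheory.SpecificGroups.Cyclic

/-!
# Families attached to a self-normalising cyclic subgroup
-/

set_option autoImplicit false

namespace CfsgLib.Char.CyclicTI

open Cfsg
open scoped ComplexConjugate CfsgLib.Char

variable {G : Type*} [Group G] {W₁ W₂ : Subgroup G}

theorem disj_of (hW : IsSelfNormalizingCyclic W₁ W₂) : W₁ ⊓ W₂ = ⊥ := hW.2.2.1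

theorem comm_of (hW : IsSelfNormalizingCyclic W₁ W₂) : ∀ a ∈ W₁, ∀ b ∈ W₂, a * b = b * a :=
  hW.2.2.2.1

theorem commutative_of (hW : IsSelfNormalizingCyclic W₁ W₂) : IsMulCommutative ↥(W₁ ⊔ W₂) := by
  haveI := hW.2.2.2.2.1
  exact ⟨⟨fun a b => (IsCyclic.commGroup (α := ↥(W₁ ⊔ W₂))).mul_comm a b⟩⟩

theorem card_filter_pow_le [Finite G] {W : Subgroup G} [IsCyclic W] [Fintype W] [DecidableEq W]
    {n : ℕ} (hn : 0 < n) : (Finset.univ.filter fun x : W => x ^ n = 1).card ≤ n :=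
  IsCyclic.card_pow_eq_one_le hn

theorem eq_of_card_eq_in_cyclic [Finite G] {W H K : Subgroup G} [IsCyclic W] (hH : H ≤ W)
    (hK : K ≤ W) (hc : Nat.card H = Nat.card K) : H = K := by
  classical
  haveI := Fintype.ofFinite W
  have key : ∀ L : Subgroup G, L ≤ W → Nat.card L = Nat.card H →
      (Finset.univ.filter fun x : W => (x : G) ∈ L) =
      Finset.univ.filter fun x : W => x ^ Nat.card H = 1 := by
    intro L hL hLc
    refine Finset.eq_of_subset_of_card_le (fun x hx => ?_) ?_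
    · simp only [Finset.mem_filter, Finset.mem_univ, true_and] at hx ⊢
      refine Subtype.ext ?_
      have := pow_card_eq_one' (x := (⟨x, hx⟩ : L))
      rw [hLc] at this
      simpa using congrArg Subtype.val this
    · refine (IsCyclic.card_pow_eq_one_le Nat.card_pos).trans ?_
      rw [← Fintype.card_subtype, ← hLc, ← Nat.card_eq_fintype_card,
        ← Nat.card_congr (Subgroup.subgroupOfEquivOfLe hL).toEquiv]
      rfl
  ext g
  constructor <;> intro hg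
  · have := (key H hH rfl).trans (key K hK hc.symm).symm
    have h1 : (⟨g, hH hg⟩ : W) ∈ (Finset.univ.filter fun x : W => (x : G) ∈ H) := by simp [hg]
    rw [this] at h1
    simpa using h1
  · have := (key K hK hc.symm).trans (key H hH rfl).symm
    have h1 : (⟨g, hK hg⟩ : W) ∈ (Finset.univ.filter fun x : W => (x : G) ∈ K) := by simp [hg]
    rw [this] at h1
    simpa using h1

theorem ti [Finite G] (hW : IsSelfNormalizingCyclic W₁ W₂) :
    ∀ g : G, g ∉ W₁ ⊔ W₂ → ∀ t ∈ tiPart W₁ W₂, g * t * g⁻¹ ∈ tiPart W₁ W₂ → t = 1 := by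
  intro g hg t ht hs
  exfalso
  obtain ⟨-, -, -, -, hcyc, hN⟩ := hW
  have hsingle : ∀ x ∈ tiPart W₁ W₂, ∀ y : G, y ∈ W₁ ⊔ W₂ ↔ y * x * y⁻¹ = x := by
    intro x hx y
    rw [← hN {x} (Set.singleton_subset_iff.mpr hx) (Set.singleton_nonempty x),
      Subgroup.mem_normalizer_iff_conj_image_eq]
    simp
  have hmap : (W₁ ⊔ W₂).map (MulAut.conj g).toMonoidHom = W₁ ⊔ W₂ := by
    ext y
    rw [Subgroup.mem_map, hsingle _ hs y]
    constructor
    · rintro ⟨z, hz, rfl⟩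
      have := (hsingle t ht z).mp hz
      simp only [MulEquiv.coe_toMonoidHom, MulAut.conj_apply]
      calc g * z * g⁻¹ * (g * t * g⁻¹) * (g * z * g⁻¹)⁻¹ = g * (z * t * z⁻¹) * g⁻¹ := by group
        _ = g * t * g⁻¹ := by rw [this]
    · intro hy
      refine ⟨g⁻¹ * y * g, (hsingle t ht _).mpr ?_, by simp [mul_assoc]⟩
      calc g⁻¹ * y * g * t * (g⁻¹ * y * g)⁻¹ = g⁻¹ * (y * (g * t * g⁻¹) * y⁻¹) * g := by group
        _ = t := by rw [hy]; group
  have hfix : ∀ L : Subgroup G, L ≤ W₁ ⊔ W₂ → L.map (MulAut.conj g).toMonoidHom = L := by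
    intro L hL
    haveI := hcyc
    refine eq_of_card_eq_in_cyclic ((Subgroup.map_mono hL).trans hmap.le) hL ?_
    exact Nat.card_congr (L.equivMapOfInjective _ (MulAut.conj g).injective).symm.toEquiv
  apply hg
  rw [← hN (tiPart W₁ W₂) subset_rfl ⟨t, ht⟩, Subgroup.mem_normalizer_iff_conj_image_eq]
  have himg : ∀ L : Subgroup G, L ≤ W₁ ⊔ W₂ → MulAut.conj g '' (L : Set G) = (L : Set G) := by
    intro L hL
    conv_rhs => rw [← hfix L hL]
    rfl
  show MulAut.conj g '' (_ \ _) = _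
  rw [Set.image_diff (MulAut.conj g).injective, Set.image_union, himg _ le_rfl, himg _ le_sup_left,
    himg _ le_sup_right]
  rfl

theorem mul_mem_tiPart (hdisj : W₁ ⊓ W₂ = ⊥) {a b : G} (ha : a ∈ W₁) (ha1 : a ≠ 1) (hb : b ∈ W₂)
    (hb1 : b ≠ 1) : a * b ∈ tiPart W₁ W₂ := by
  refine ⟨Subgroup.mul_mem_sup ha hb, ?_⟩
  rintro (h | h)
  · apply hb1
    have : b ∈ W₁ ⊓ W₂ := ⟨by simpa using W₁.mul_mem (W₁.inv_mem ha) h, hb⟩
    rwa [hdisj, Subgroup.mem_bot] at this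
  · apply ha1
    have : a ∈ W₁ ⊓ W₂ := ⟨ha, by simpa using W₂.mul_mem h (W₂.inv_mem hb)⟩
    rwa [hdisj, Subgroup.mem_bot] at this

variable [Fintype G]

/-- A class function is orthogonal to the induced `alpha` when it vanishes on the TI part. -/
theorem classInner_ind_alpha_of_zero {θ : G → ℂ} (hθ : IsClassFunction G θ)
    (hθV : ∀ w : ↥(W₁ ⊔ W₂), (w : G) ∈ tiPart W₁ W₂ → θ w = 0) {φ ψ : ↥(W₁ ⊔ W₂) →* ℂˣ}
    (hφ : ∀ w : ↥(W₁ ⊔ W₂), (w : G) ∈ W₂ → φ w = 1)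
    (hψ : ∀ w : ↥(W₁ ⊔ W₂), (w : G) ∈ W₁ → ψ w = 1) :
    classInner θ (indFun (W₁ ⊔ W₂) (alpha φ ψ)) = 0 := by
  classical
  rw [frobenius_reciprocity' _ _ hθ]
  simp only [classInner]
  rw [Finset.sum_eq_zero, mul_zero]
  intro w _
  by_cases hw : (w : G) ∈ tiPart W₁ W₂
  · rw [hθV w hw, zero_mul]
  · rw [alpha_zero hφ hψ w hw, map_zero, mul_zero]

variable {χ : (↥(W₁ ⊔ W₂) →* ℂˣ) → G → ℂ}

theorem classInner_ind_alpha (hχ : IsCyclicTIFamily W₁ W₂ χ) (θ : G → ℂ)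
    {φ ψ : ↥(W₁ ⊔ W₂) →* ℂˣ} (hφ1 : φ ≠ 1) (hψ1 : ψ ≠ 1)
    (hφ : ∀ w : ↥(W₁ ⊔ W₂), (w : G) ∈ W₂ → φ w = 1)
    (hψ : ∀ w : ↥(W₁ ⊔ W₂), (w : G) ∈ W₁ → ψ w = 1) :
    classInner θ (indFun (W₁ ⊔ W₂) (alpha φ ψ)) =
      classInner θ (χ 1) - classInner θ (χ φ) - classInner θ (χ ψ) +
        classInner θ (χ (φ * ψ)) := by
  have e : indFun (W₁ ⊔ W₂) (alpha φ ψ) = χ 1 - χ φ - χ ψ + χ (φ * ψ) :=
    (hχ.induced_eq φ ψ hφ1 hψ1 hφ hψ).trans (by rw [hχ.map_one]; rfl)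
  rw [e, classInner_add_right, classInner_sub_right, classInner_sub_right]

/-- The rectangle rule. -/
theorem rectangle (hχ : IsCyclicTIFamily W₁ W₂ χ) {θ : G → ℂ} (hθ : IsClassFunction G θ)
    (hθV : ∀ w : ↥(W₁ ⊔ W₂), (w : G) ∈ tiPart W₁ W₂ → θ w = 0)
    (φ : TrivR W₁ W₂) (ψ : TrivL W₁ W₂) :
    classInner θ (χ (φ.1 * ψ.1)) =
      classInner θ (χ φ.1) + classInner θ (χ ψ.1) - classInner θ (χ 1) := by
  by_cases hφ1 : φ.1 = 1
  · rw [hφ1, show (1 : ↥(W₁ ⊔ W₂) →* ℂˣ) * ψ.1 = ψ.1 from MonoidHom.ext fun w => one_mul _]; ring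
  by_cases hψ1 : ψ.1 = 1
  · rw [hψ1, show φ.1 * (1 : ↥(W₁ ⊔ W₂) →* ℂˣ) = φ.1 from MonoidHom.ext fun w => mul_one _]; ring
  have h := classInner_ind_alpha hχ θ hφ1 hψ1 φ.2 ψ.2
  rw [classInner_ind_alpha_of_zero hθ hθV φ.2 ψ.2] at h
  linear_combination -h

/-- A class function orthogonal to the whole family vanishes on the TI part. -/
theorem eq_zero_of_orth_family (hW : IsSelfNormalizingCyclic W₁ W₂)
    (hχ : IsCyclicTIFamily W₁ W₂ χ) {θ : G → ℂ} (hθ : IsClassFunction G θ)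
    (horth : ∀ ω, classInner θ (χ ω) = 0) (w : ↥(W₁ ⊔ W₂)) (hw : (w : G) ∈ tiPart W₁ W₂) :
    θ w = 0 := by
  classical
  haveI := commutative_of hW
  refine eq_zero_of_orth (disj_of hW) (fun w => θ w) (fun φ ψ => ?_) w hw
  rw [← frobenius_reciprocity' _ _ hθ]
  by_cases hφ1 : φ.1 = 1
  · have e : alpha φ.1 ψ.1 = 0 := by funext v; simp [alpha, hφ1]
    rw [e, indFun_zero, classInner_zero_right]
  by_cases hψ1 : ψ.1 = 1
  · have e : alpha φ.1 ψ.1 = 0 := by funext v; simp [alpha, hψ1]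
    rw [e, indFun_zero, classInner_zero_right]
  rw [classInner_ind_alpha hχ θ hφ1 hψ1 φ.2 ψ.2]
  simp [horth]

omit [Fintype G] in
/-- For odd order the TI part detects linear characters up to a sign. -/
theorem hom_eq_of_eq_smul [Finite G] (hW : IsSelfNormalizingCyclic W₁ W₂)
    (hodd : Odd (Nat.card ↥(W₁ ⊔ W₂))) {ω ω' : ↥(W₁ ⊔ W₂) →* ℂˣ} {c : ℂ}
    (h : ∀ w : ↥(W₁ ⊔ W₂), (w : G) ∈ tiPart W₁ W₂ → (ω w : ℂ) = c * (ω' w : ℂ)) :
    ω = ω' ∧ c = 1 := by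
  classical
  obtain ⟨h1, h2, hdisj, hcomm, -, -⟩ := hW
  have hthree : ∀ L : Subgroup G, L ≤ W₁ ⊔ W₂ → ∀ x ∈ L, x ≠ 1 → x * x ≠ 1 := by
    intro L hL x hx hx1 hxx
    apply hx1
    have ho : orderOf x ∣ Nat.card ↥(W₁ ⊔ W₂) := Subgroup.orderOf_dvd_natCard _ (hL hx)
    have h2' : orderOf x ∣ 2 := orderOf_dvd_of_pow_eq_one (by rw [pow_two, hxx])
    exact orderOf_eq_one_iff.mp (Nat.eq_one_of_dvd_coprimes hodd.coprime_two_left h2' ho)
  set D : ↥(W₁ ⊔ W₂) → ℂ := fun w => (ω w : ℂ) / (ω' w : ℂ) with hD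
  have hDm : ∀ x y, D (x * y) = D x * D y := by
    intro x y; simp only [hD, map_mul, Units.val_mul]; rw [mul_div_mul_comm]
  have hDV : ∀ w : ↥(W₁ ⊔ W₂), (w : G) ∈ tiPart W₁ W₂ → D w = c := fun w hw => by
    simp only [hD]; rw [h w hw, mul_div_assoc, div_self (Units.ne_zero _), mul_one]
  obtain ⟨⟨a, ha⟩, ha1⟩ := Subgroup.ne_bot_iff_exists_ne_one.mp h1
  obtain ⟨⟨b, hb⟩, hb1⟩ := Subgroup.ne_bot_iff_exists_ne_one.mp h2
  have ha1' : a ≠ 1 := fun e => ha1 (Subtype.ext e)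
  have hb1' : b ≠ 1 := fun e => hb1 (Subtype.ext e)
  let mk : ∀ x, x ∈ W₁ ⊔ W₂ → ↥(W₁ ⊔ W₂) := fun x hx => ⟨x, hx⟩
  have hone : ∀ w : ↥(W₁ ⊔ W₂), (w : G) ∈ W₁ ∨ (w : G) ∈ W₂ → D w = 1 := by
    rintro ⟨w, hwW⟩ hw
    by_cases hw1 : w = 1
    · subst hw1
      have : (⟨1, hwW⟩ : ↥(W₁ ⊔ W₂)) = 1 := rfl
      simp [hD, this]
    rcases hw with hw | hw
    · -- compare `w * (w * b)` with `w * b`
      have hv1 : (w : G) * b ∈ tiPart W₁ W₂ := mul_mem_tiPart hdisj hw hw1 hb hb1'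
      have hv2 : (w * w) * b ∈ tiPart W₁ W₂ :=
        mul_mem_tiPart hdisj (W₁.mul_mem hw hw) (hthree W₁ le_sup_left w hw hw1) hb hb1'
      have e := hDm (mk w hwW) (mk (w * b) hv1.1)
      rw [hDV (mk (w * b) hv1.1) hv1, hDV ((mk w hwW) * (mk (w * b) hv1.1))
        (by show w * (w * b) ∈ tiPart W₁ W₂; rwa [← mul_assoc])] at e
      have hc : c ≠ 0 := by
        intro hc
        have := h (mk (w * b) hv1.1) hv1
        rw [hc, zero_mul] at this
        exact Units.ne_zero _ this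
      exact (mul_eq_right₀ hc).mp e.symm
    · have hv1 : a * w ∈ tiPart W₁ W₂ := mul_mem_tiPart hdisj ha ha1' hw hw1
      have hv2 : a * (w * w) ∈ tiPart W₁ W₂ :=
        mul_mem_tiPart hdisj ha ha1' (W₂.mul_mem hw hw) (hthree W₂ le_sup_right w hw hw1)
      have e := hDm (mk (a * w) hv1.1) (mk w hwW)
      rw [hDV (mk (a * w) hv1.1) hv1, hDV ((mk (a * w) hv1.1) * (mk w hwW))
        (by show a * w * w ∈ tiPart W₁ W₂; rwa [mul_assoc])] at e
      have hc : c ≠ 0 := by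
        intro hc
        have := h (mk (a * w) hv1.1) hv1
        rw [hc, zero_mul] at this
        exact Units.ne_zero _ this
      exact (mul_eq_left₀ hc).mp e.symm
  have heq : ω = ω' := by
    refine hom_ext_of_agree (fun w hw => ?_) (fun w hw => ?_) <;>
      refine Units.ext ((div_eq_one_iff_eq (Units.ne_zero _)).mp (hone w ?_))
    · exact Or.inl hw
    · exact Or.inr hw
  refine ⟨heq, ?_⟩
  subst heq
  have := h (mk (a * b) (Subgroup.mul_mem_sup ha hb)) (mul_mem_tiPart hdisj ha ha1' hb hb1')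
  exact ((mul_eq_right₀ (Units.ne_zero _)).mp this.symm)

/-- A signed irreducible character agreeing with `ω` on the TI part is `χ ω`. -/
theorem eq_family_of_eq_on (hW : IsSelfNormalizingCyclic W₁ W₂)
    (hodd : Odd (Nat.card ↥(W₁ ⊔ W₂))) (hχ : IsCyclicTIFamily W₁ W₂ χ) {θ : G → ℂ}
    (hθ : IsIrrCharacter G θ ∨ IsIrrCharacter G (-θ)) (ω : ↥(W₁ ⊔ W₂) →* ℂˣ)
    (hV : ∀ w : ↥(W₁ ⊔ W₂), (w : G) ∈ tiPart W₁ W₂ → θ w = (ω w : ℂ)) : θ = χ ω := by
  classical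
  obtain ⟨⟨a, ha⟩, ha1⟩ := Subgroup.ne_bot_iff_exists_ne_one.mp hW.1
  obtain ⟨⟨b, hb⟩, hb1⟩ := Subgroup.ne_bot_iff_exists_ne_one.mp hW.2.1
  have hv : a * b ∈ tiPart W₁ W₂ :=
    mul_mem_tiPart (disj_of hW) ha (fun e => ha1 (Subtype.ext e)) hb (fun e => hb1 (Subtype.ext e))
  have hcf : IsClassFunction G θ := by
    rcases hθ with h | h
    · exact isClassFunction_of_isCharacter (isCharacter_of_isIrr h)
    · intro g x
      have := isClassFunction_of_isCharacter (isCharacter_of_isIrr h) g x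
      simpa using this
  obtain ⟨ω', hω'⟩ : ∃ ω', classInner θ (χ ω') ≠ 0 := by
    by_contra hne
    push_neg at hne
    have h0 := eq_zero_of_orth_family hW hχ hcf hne ⟨a * b, hv.1⟩ hv
    rw [hV ⟨a * b, hv.1⟩ hv] at h0
    exact Units.ne_zero _ h0
  have hsame : θ = χ ω' ∨ θ = -χ ω' := by
    have key : ∀ p q : G → ℂ, IsIrrCharacter G p → IsIrrCharacter G q → classInner p q ≠ 0 →
        p = q := by
      intro p q hp hq hne
      by_contra e
      exact hne (classInner_irr_ne hp hq e)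
    rcases hθ with h | h <;> rcases hχ.irr_or_neg ω' with h' | h'
    · exact Or.inl (key _ _ h h' hω')
    · exact Or.inr (key _ _ h h' (by rw [classInner_neg_right]; exact neg_ne_zero.mpr hω'))
    · have := key _ _ h h' (by rw [classInner_neg_left]; exact neg_ne_zero.mpr hω')
      exact Or.inr (by rw [← this, neg_neg])
    · have := key _ _ h h' (by rw [classInner_neg_left, classInner_neg_right, neg_neg]; exact hω')
      exact Or.inl (neg_inj.mp this)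
  have hon : ∀ w : ↥(W₁ ⊔ W₂), (w : G) ∈ tiPart W₁ W₂ → χ ω' w = (ω' w : ℂ) := fun w hw =>
    hχ.eq_on ω' w ((mem_tiPart_iff w).mp hw).1 ((mem_tiPart_iff w).mp hw).2
  rcases hsame with h | h
  · obtain ⟨e, -⟩ := hom_eq_of_eq_smul hW hodd (ω := ω) (ω' := ω') (c := 1) fun w hw => by
      rw [one_mul, ← hon w hw, ← h, hV w hw]
    rw [h, e]
  · obtain ⟨-, e⟩ := hom_eq_of_eq_smul hW hodd (ω := ω) (ω' := ω') (c := -1) fun w hw => by
      rw [← hV w hw, h, Pi.neg_apply, hon w hw, neg_one_mul]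
    norm_num at e

/-- Values of the family at elements of order prime to the order of `ω`. -/
theorem exists_int_value (hW : IsSelfNormalizingCyclic W₁ W₂)
    (hodd : Odd (Nat.card ↥(W₁ ⊔ W₂))) (hχ : IsCyclicTIFamily W₁ W₂ χ)
    (ω : ↥(W₁ ⊔ W₂) →* ℂˣ) (g : G) (hg : Nat.Coprime (orderOf g) (orderOf ω)) :
    ∃ n : ℤ, χ ω g = n := by
  classical
  have hm : orderOf ω ∣ Nat.card G := by
    refine dvd_trans (orderOf_dvd_of_pow_eq_one (MonoidHom.ext fun w => ?_))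
      (Subgroup.card_subgroup_dvd_card (W₁ ⊔ W₂))
    rw [MonoidHom.pow_apply, ← map_pow, pow_card_eq_one', map_one, MonoidHom.one_apply]
  have hinv : ∀ k : ℕ, k.Coprime (Nat.card G) → χ ω (g ^ k) = χ ω g := by
    intro k hk
    obtain ⟨k', hk', h1, h2⟩ := exists_coprime_exponent Nat.card_pos.ne' hg
      (hg.mul_dvd_of_dvd_of_dvd (orderOf_dvd_natCard g) hm)
      (hk.coprime_dvd_right (orderOf_dvd_natCard g))
    have hsigned : IsIrrCharacter G (fun x => χ ω (x ^ k')) ∨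
        IsIrrCharacter G (-fun x => χ ω (x ^ k')) := by
      rcases hχ.irr_or_neg ω with h | h
      · exact Or.inl (isIrrCharacter_pow hk' h)
      · exact Or.inr (isIrrCharacter_pow hk' h)
    have heq := eq_family_of_eq_on hW hodd hχ hsigned ω (fun w hw => ?_)
    · calc χ ω (g ^ k) = χ ω (g ^ k') := by rw [pow_eq_pow_iff_modEq.mpr h1]
        _ = χ ω g := congrFun heq g
    · have hwk : ((w ^ k' : ↥(W₁ ⊔ W₂)) : G) ∈ tiPart W₁ W₂ := by
        rw [mem_tiPart_iff] at hw ⊢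
        exact ⟨fun e => hw.1 (mem_of_pow_mem_of_coprime hk' W₁ (by simpa using e)),
          fun e => hw.2 (mem_of_pow_mem_of_coprime hk' W₂ (by simpa using e))⟩
      rw [show χ ω ((w : G) ^ k') = χ ω ((w ^ k' : ↥(W₁ ⊔ W₂)) : G) by simp,
        hχ.eq_on ω _ ((mem_tiPart_iff _).mp hwk).1 ((mem_tiPart_iff _).mp hwk).2, map_pow,
        ← MonoidHom.pow_apply, pow_eq_self_of_modEq_one dvd_rfl h2]
  have hgen : ∀ θ : G → ℂ, IsIrrCharacter G θ → (∀ k : ℕ, k.Coprime (Nat.card G) → θ (g ^ k) = θ g) →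
      ∃ n : ℤ, θ g = n := by
    intro θ hθ h
    obtain ⟨q, hq⟩ := (rat_value_iff (isCharacter_of_isIrr hθ) g).mpr h
    obtain ⟨n, hn⟩ := exists_int_of_isIntegral_rat (hq ▸ isIntegral_value (isCharacter_of_isIrr hθ) g)
    exact ⟨n, by rw [hq, hn]; simp⟩
  rcases hχ.irr_or_neg ω with h | h
  · exact hgen _ h hinv
  · obtain ⟨n, hn⟩ := hgen _ h (fun k hk => by simp [hinv k hk])
    exact ⟨-n, by rw [Int.cast_neg, ← hn]; simp⟩

open Classical in
/-- A class function vanishing on the TI part with few nonzero coefficients. -/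
theorem few_coefficients (hW : IsSelfNormalizingCyclic W₁ W₂)
    (hodd : Odd (Nat.card ↥(W₁ ⊔ W₂))) (hχ : IsCyclicTIFamily W₁ W₂ χ)
    (hlt : Nat.card W₁ < Nat.card W₂) {θ : G → ℂ} (hθ : IsClassFunction G θ)
    (hθV : ∀ w : ↥(W₁ ⊔ W₂), (w : G) ∈ tiPart W₁ W₂ → θ w = 0)
    (hfew : Nat.card {ω : ↥(W₁ ⊔ W₂) →* ℂˣ // classInner θ (χ ω) ≠ 0} < 2 * Nat.card W₁) :
    (∀ ω, classInner θ (χ ω) = 0) ∨
    (∃ (ψ₀ : TrivL W₁ W₂) (a : ℂ), ∀ (φ : TrivR W₁ W₂) (ψ : TrivL W₁ W₂),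
      classInner θ (χ (φ.1 * ψ.1)) = if ψ = ψ₀ then a else 0) ∨
    (∃ (φ₀ : TrivR W₁ W₂) (a : ℂ), ∀ (φ : TrivR W₁ W₂) (ψ : TrivL W₁ W₂),
      classInner θ (χ (φ.1 * ψ.1)) = if φ = φ₀ then a else 0) := by
  classical
  haveI := commutative_of hW
  obtain ⟨hc1, hc2⟩ := card_trivR (disj_of hW) (comm_of hW)
  set n₁ := Nat.card W₁ with hn1
  set n₂ := Nat.card W₂ with hn2
  have hodd1 : Odd n₁ := hodd.of_dvd_nat (Subgroup.card_dvd_of_le le_sup_left)
  have hodd2 : Odd n₂ := hodd.of_dvd_nat (Subgroup.card_dvd_of_le le_sup_right)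
  haveI : Fintype (TrivR W₁ W₂) := Fintype.ofFinite _
  haveI : Fintype (TrivL W₁ W₂) := Fintype.ofFinite _
  set A : TrivR W₁ W₂ → ℂ := fun φ => classInner θ (χ φ.1) - classInner θ (χ 1) with hA
  set B : TrivL W₁ W₂ → ℂ := fun ψ => classInner θ (χ ψ.1) with hB
  set c : TrivR W₁ W₂ → TrivL W₁ W₂ → ℂ := fun φ ψ => classInner θ (χ (φ.1 * ψ.1)) with hc
  have hrect : ∀ φ ψ, c φ ψ = A φ + B ψ := fun φ ψ => by
    simp only [hc, hA, hB]; rw [rectangle hχ hθ hθV φ ψ]; ring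
  set S := Finset.univ.filter fun p : TrivR W₁ W₂ × TrivL W₁ W₂ => c p.1 p.2 ≠ 0 with hS
  have hScard : S.card < 2 * n₁ := by
    refine lt_of_le_of_lt ?_ hfew
    rw [hS, ← Fintype.card_subtype, ← Nat.card_eq_fintype_card]
    refine Nat.card_le_card_of_injective (fun p => ⟨p.1.1.1 * p.1.2.1, p.2⟩) ?_
    rintro ⟨⟨φ, ψ⟩, hp⟩ ⟨⟨φ', ψ'⟩, hp'⟩ e
    obtain ⟨e1, e2⟩ := split_unique φ.2 φ'.2 ψ.2 ψ'.2 (congrArg Subtype.val e)
    have e1 : φ = φ' := Subtype.ext e1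
    have e2 : ψ = ψ' := Subtype.ext e2
    subst e1 e2; rfl
  by_cases hBc : ∀ ψ ψ' : TrivL W₁ W₂, B ψ = B ψ'
  · -- constant along each row
    obtain ⟨ψ₁⟩ : Nonempty (TrivL W₁ W₂) := ⟨⟨1, fun _ _ => rfl⟩⟩
    have hrow : ∀ φ ψ, c φ ψ = c φ ψ₁ := fun φ ψ => by rw [hrect, hrect, hBc ψ ψ₁]
    set R := Finset.univ.filter fun φ : TrivR W₁ W₂ => c φ ψ₁ ≠ 0 with hR
    have hSR : S = R ×ˢ Finset.univ := by ext ⟨φ, ψ⟩; simp [hS, hR, hrow φ ψ]
    rw [hSR, Finset.card_product, Finset.card_univ, ← Nat.card_eq_fintype_card, hc2] at hScard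
    have hR1 : R.card ≤ 1 := by
      by_contra h2
      have : 2 * n₂ ≤ R.card * n₂ := Nat.mul_le_mul_right _ (by omega)
      omega
    rcases R.eq_empty_or_nonempty with h0 | ⟨φ₀, hφ₀⟩
    · refine Or.inl fun ω => ?_
      obtain ⟨φ, ψ, rfl⟩ := exists_split (disj_of hW) (comm_of hW) ω
      by_contra hne
      have : φ ∈ R := by simpa [hR, ← hrow φ ψ] using hne
      simp [h0] at this
    · refine Or.inr (Or.inr ⟨φ₀, c φ₀ ψ₁, fun φ ψ => ?_⟩)
      show c φ ψ = _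
      split_ifs with e
      · rw [e, hrow]
      · by_contra hne
        exact e (Finset.card_le_one.mp hR1 φ (by simpa [hR, ← hrow φ ψ] using hne) φ₀ hφ₀)
  by_cases hAc : ∀ φ φ' : TrivR W₁ W₂, A φ = A φ'
  · obtain ⟨φ₁⟩ : Nonempty (TrivR W₁ W₂) := ⟨⟨1, fun _ _ => rfl⟩⟩
    have hcol : ∀ φ ψ, c φ ψ = c φ₁ ψ := fun φ ψ => by rw [hrect, hrect, hAc φ φ₁]
    set R := Finset.univ.filter fun ψ : TrivL W₁ W₂ => c φ₁ ψ ≠ 0 with hR
    have hSR : S = Finset.univ ×ˢ R := by ext ⟨φ, ψ⟩; simp [hS, hR, hcol φ ψ]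
    rw [hSR, Finset.card_product, Finset.card_univ, ← Nat.card_eq_fintype_card, hc1] at hScard
    have hR1 : R.card ≤ 1 := by
      by_contra h2
      have : n₁ * 2 ≤ n₁ * R.card := Nat.mul_le_mul_left _ (by omega)
      omega
    rcases R.eq_empty_or_nonempty with h0 | ⟨ψ₀, hψ₀⟩
    · refine Or.inl fun ω => ?_
      obtain ⟨φ, ψ, rfl⟩ := exists_split (disj_of hW) (comm_of hW) ω
      by_contra hne
      have : ψ ∈ R := by simpa [hR, ← hcol φ ψ] using hne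
      simp [h0] at this
    · refine Or.inr (Or.inl ⟨ψ₀, c φ₁ ψ₀, fun φ ψ => ?_⟩)
      show c φ ψ = _
      split_ifs with e
      · rw [e, hcol]
      · by_contra hne
        exact e (Finset.card_le_one.mp hR1 ψ (by simpa [hR, ← hcol φ ψ] using hne) ψ₀ hψ₀)
  · exfalso
    push_neg at hBc hAc
    obtain ⟨φa, φb, hab⟩ := hAc
    obtain ⟨ψa, ψb, hab'⟩ := hBc
    have hpick : ∀ ψ, ∃ φ, (φ = φa ∨ φ = φb) ∧ c φ ψ ≠ 0 := by
      intro ψ
      by_cases h : c φa ψ = 0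
      · refine ⟨φb, Or.inr rfl, fun h' => hab ?_⟩
        rw [hrect] at h h'
        linear_combination h - h'
      · exact ⟨φa, Or.inl rfl, h⟩
    have hpick' : ∀ φ, ∃ ψ, c φ ψ ≠ 0 := by
      intro φ
      by_cases h : c φ ψa = 0
      · refine ⟨ψb, fun h' => hab' ?_⟩
        rw [hrect] at h h'
        linear_combination h - h'
      · exact ⟨ψa, h⟩
    choose fr hfr hfr0 using hpick
    choose fc hfc0 using hpick'
    let F : TrivL W₁ W₂ ⊕ {φ : TrivR W₁ W₂ // φ ≠ φa ∧ φ ≠ φb} → ↥S :=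
      Sum.elim (fun ψ => ⟨(fr ψ, ψ), by simp [hS, hfr0]⟩)
        (fun φ => ⟨(φ.1, fc φ.1), by simp [hS, hfc0]⟩)
    have hF : Function.Injective F := by
      rintro (x | x) (y | y) e
      · have := congrArg (fun z : ↥S => z.1.2) e
        simpa [F] using this
      · exfalso
        have := congrArg (fun z : ↥S => z.1.1) e
        simp only [F, Sum.elim_inl, Sum.elim_inr] at this
        rcases hfr x with h | h <;> rw [h] at this
        · exact y.2.1 this.symm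
        · exact y.2.2 this.symm
      · exfalso
        have := congrArg (fun z : ↥S => z.1.1) e
        simp only [F, Sum.elim_inl, Sum.elim_inr] at this
        rcases hfr y with h | h <;> rw [h] at this
        · exact x.2.1 this
        · exact x.2.2 this
      · have := congrArg (fun z : ↥S => z.1.1) e
        simp only [F, Sum.elim_inr] at this
        rw [Subtype.ext this]
    have hle := Fintype.card_le_of_injective F hF
    rw [Fintype.card_sum, Fintype.card_coe, ← Nat.card_eq_fintype_card, hc2] at hle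
    have hsub : Fintype.card {φ : TrivR W₁ W₂ // φ ≠ φa ∧ φ ≠ φb} = n₁ - 2 := by
      rw [Fintype.card_subtype]
      have e : (Finset.univ.filter fun φ : TrivR W₁ W₂ => φ ≠ φa ∧ φ ≠ φb) =
          ({φa, φb} : Finset (TrivR W₁ W₂))ᶜ := by ext φ; simp
      rw [e, Finset.card_compl, Finset.card_pair (fun h => hab (by rw [h])),
        ← Nat.card_eq_fintype_card, hc1]
    obtain ⟨m1, hm1⟩ := hodd1
    obtain ⟨m2, hm2⟩ := hodd2
    omega

end CfsgLib.Char.CyclicTI
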