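import Cfsg.Agent.Lib.Char.CyclicTI
import Cfsg.Agent.Lib.Char.Grid
import Cfsg.Agent.S1505

/-!
# Existence of the family attached to a self-normalising cyclic subgroup
-/

set_option autoImplicit false

namespace CfsgLib.Char.CyclicTI

open Cfsg CfsgLib.Char.Grid
open scoped ComplexConjugate CfsgLib.Char

section Signed

variable {G : Type*} [Group G]

/-- Signed irreducible characters. -/
abbrev Pt (G : Type*) [Group G] := IrrCharacter G × Bool

/-- Change of sign. -/
def flipSign (p : Pt G) : Pt G := (p.1, !p.2)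

/-- The function named by a signed irreducible character. -/
noncomputable def sval (p : Pt G) : G → ℂ := if p.2 then (p.1 : G → ℂ) else -(p.1 : G → ℂ)

theorem flipSign_invol : Function.Involutive (flipSign (G := G)) := fun p => by
  simp [flipSign]

theorem flipSign_ne (p : Pt G) : flipSign p ≠ p := fun h => by
  simpa [flipSign] using congrArg Prod.snd h

theorem sval_flipSign (p : Pt G) : sval (flipSign p) = -sval p := by
  rcases p with ⟨k, b⟩; cases b <;> simp [sval, flipSign]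

theorem sval_signed (p : Pt G) : IsIrrCharacter G (sval p) ∨ IsIrrCharacter G (-sval p) := by
  rcases p with ⟨k, b⟩
  cases b
  · exact Or.inr (by simpa [sval] using k.2)
  · exact Or.inl (by simpa [sval] using k.2)

theorem sval_one_ne_zero [Finite G] (p : Pt G) : sval p 1 ≠ 0 := by
  rcases p with ⟨k, b⟩
  cases b <;> simp [sval, irr_degree_ne_zero k.2]

variable [Fintype G]

open Classical in
theorem classInner_sval (p q : Pt G) :
    classInner (sval p) (sval q) =
      (if p = q then 1 else 0) - (if flipSign p = q then (1 : ℂ) else 0) := by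
  rcases p with ⟨k, b⟩
  rcases q with ⟨l, c⟩
  by_cases h : k = l
  · subst h
    have h1 := classInner_irr_self k.2
    cases b <;> cases c <;>
      simp [sval, flipSign, classInner_neg_left, classInner_neg_right, h1]
  · have h1 := classInner_irr_ne k.2 l.2 fun e => h (Subtype.ext e)
    cases b <;> cases c <;>
      simp [sval, flipSign, classInner_neg_left, classInner_neg_right, h1, h]

open Classical in
theorem classInner_sum_sval (a b : Finset (Pt G)) :
    classInner (∑ p ∈ a, sval p) (∑ q ∈ b, sval q) =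
      ((a.filter fun p => p ∈ b).card : ℂ) - ((a.filter fun p => flipSign p ∈ b).card : ℂ) := by
  rw [classInner_sum_left]
  simp only [classInner_sum_right, classInner_sval, Finset.sum_sub_distrib, Finset.sum_ite_eq,
    Finset.sum_boole]

/-- A virtual character of norm three is a sum of three signed irreducible characters. -/
theorem exists_support {φ : G → ℂ} (hφ : IsGeneralizedCharacter G φ) (h3 : classInner φ φ = 3) :
    ∃ a : Finset (Pt G), a.card = 3 ∧ Cln flipSign a ∧ φ = ∑ p ∈ a, sval p := by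
  classical
  obtain ⟨c, hc⟩ := isGeneralized_iff.mp hφ
  rw [hc, sum_sq_coeff] at h3
  have h3' : ∑ k, c k ^ 2 = 3 := by exact_mod_cast h3
  have hbd : ∀ k, c k = 0 ∨ c k = 1 ∨ c k = -1 := by
    intro k
    have hle : c k ^ 2 ≤ 3 :=
      h3' ▸ Finset.single_le_sum (fun l _ => sq_nonneg (c l)) (Finset.mem_univ k)
    have : -1 ≤ c k ∧ c k ≤ 1 := by constructor <;> nlinarith
    omega
  let e : IrrCharacter G ↪ Pt G := ⟨fun k => (k, decide (c k = 1)), fun k l h => congrArg Prod.fst h⟩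
  refine ⟨(Finset.univ.filter fun k => c k ≠ 0).map e, ?_, ?_, ?_⟩
  · rw [Finset.card_map]
    have : ((Finset.univ.filter fun k => c k ≠ 0).card : ℤ) = 3 := by
      rw [← h3', Finset.card_filter]
      push_cast
      refine Finset.sum_congr rfl fun k _ => ?_
      rcases hbd k with h | h | h <;> simp [h]
    exact_mod_cast this
  · rintro p hp hq
    simp only [Finset.mem_map, e, Function.Embedding.coeFn_mk] at hp hq
    obtain ⟨k, -, rfl⟩ := hp
    obtain ⟨l, -, hl⟩ := hq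
    have h1 : l = k := congrArg Prod.fst hl
    have h2 := congrArg Prod.snd hl
    subst h1
    simp [flipSign] at h2
  · rw [hc, Finset.sum_map, Finset.sum_filter]
    refine Finset.sum_congr rfl fun k _ => ?_
    rcases hbd k with h | h | h <;> simp [h, sval, show e k = (k, decide (c k = 1)) from rfl]

theorem zero_of_classInner {a b : Finset (Pt G)} (ha : a.card = 3) (hb : Cln flipSign b)
    (h : classInner (∑ p ∈ a, sval p) (∑ q ∈ b, sval q) = 0) : Zero flipSign a b := by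
  classical
  rw [classInner_sum_sval, sub_eq_zero, Nat.cast_inj] at h
  have hsum : (a.filter fun p => p ∈ b).card + (a.filter fun p => flipSign p ∈ b).card ≤ 3 := by
    rw [← Finset.card_union_of_disjoint, ← ha]
    · exact Finset.card_le_card (Finset.union_subset (Finset.filter_subset _ _) (Finset.filter_subset _ _))
    · exact Finset.disjoint_filter.mpr fun p _ hp hp' => hb p hp hp'
  refine ⟨fun q hq hqb => ?_, fun r hr hrb => ?_, fun p hp q hq h1 h2 => ?_, fun p hp q hq h1 h2 => ?_⟩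
  · have : 0 < (a.filter fun p => p ∈ b).card := Finset.card_pos.mpr ⟨q, by simp [hq, hqb]⟩
    obtain ⟨r, hr⟩ := Finset.card_pos.mp (h ▸ this)
    exact ⟨r, (Finset.mem_filter.mp hr).1, (Finset.mem_filter.mp hr).2⟩
  · have : 0 < (a.filter fun p => flipSign p ∈ b).card := Finset.card_pos.mpr ⟨r, by simp [hr, hrb]⟩
    obtain ⟨q, hq⟩ := Finset.card_pos.mp (h.symm ▸ this)
    exact ⟨q, (Finset.mem_filter.mp hq).1, (Finset.mem_filter.mp hq).2⟩
  · have hle : (a.filter fun p => p ∈ b).card ≤ 1 := by omega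
    exact Finset.card_le_one.mp hle p (Finset.mem_filter.mpr ⟨hp, h1⟩) q (Finset.mem_filter.mpr ⟨hq, h2⟩)
  · have hle : (a.filter fun p => flipSign p ∈ b).card ≤ 1 := by omega
    exact Finset.card_le_one.mp hle p (Finset.mem_filter.mpr ⟨hp, h1⟩) q (Finset.mem_filter.mpr ⟨hq, h2⟩)

theorem one_of_classInner {a b : Finset (Pt G)} (ha : a.card = 3) (hb3 : b.card = 3)
    (hca : Cln flipSign a) (hb : Cln flipSign b)
    (h : classInner (∑ p ∈ a, sval p) (∑ q ∈ b, sval q) = 1)
    (hdeg : (∑ p ∈ a, sval p) 1 = (∑ q ∈ b, sval q) 1) : One flipSign a b := by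
  classical
  rw [classInner_sum_sval] at h
  set C := a.filter fun p => p ∈ b with hC
  set D := a.filter fun p => flipSign p ∈ b with hD
  have hCD : C.card = D.card + 1 := by
    have : (C.card : ℂ) = ((D.card + 1 : ℕ) : ℂ) := by push_cast; linear_combination h
    exact_mod_cast this
  have hdis : Disjoint C D := Finset.disjoint_filter.mpr fun p _ hp hp' => hb p hp hp'
  have hsum : C.card + D.card ≤ 3 := by
    rw [← Finset.card_union_of_disjoint hdis, ← ha]
    exact Finset.card_le_card (Finset.union_subset (Finset.filter_subset _ _) (Finset.filter_subset _ _))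
  rcases Nat.eq_zero_or_pos D.card with h0 | h0
  · obtain ⟨p, hp⟩ := Finset.card_eq_one.mp (by omega : C.card = 1)
    have hpm : p ∈ C := by simp [hp]
    refine ⟨p, (Finset.mem_filter.mp hpm).1, (Finset.mem_filter.mp hpm).2, fun q hq hqb => ?_,
      fun q hq hqb => ?_⟩
    · have : q ∈ C := Finset.mem_filter.mpr ⟨hq, hqb⟩
      simpa [hp] using this
    · have : q ∈ D := Finset.mem_filter.mpr ⟨hq, hqb⟩
      simp [Finset.card_eq_zero.mp h0] at this
  · exfalso
    obtain ⟨r, hr⟩ := Finset.card_eq_one.mp (by omega : D.card = 1)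
    obtain ⟨p, q, hpq, hC2⟩ := Finset.card_eq_two.mp (by omega : C.card = 2)
    have hpC : p ∈ C := by simp [hC2]
    have hqC : q ∈ C := by simp [hC2]
    have hrD : r ∈ D := by simp [hr]
    simp only [hC, hD, Finset.mem_filter] at hpC hqC hrD
    have hpr : p ≠ r := fun e => hb p hpC.2 (e ▸ hrD.2)
    have hqr : q ≠ r := fun e => hb q hqC.2 (e ▸ hrD.2)
    have ea := eq_triple ha hpC.1 hqC.1 hrD.1 hpq hpr hqr
    have hp' : p ≠ flipSign r := fun e => hca r hrD.1 (e ▸ hpC.1)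
    have hq' : q ≠ flipSign r := fun e => hca r hrD.1 (e ▸ hqC.1)
    have eb := eq_triple hb3 hpC.2 hqC.2 hrD.2 hpq hp' hq'
    rw [ea, eb, Finset.sum_insert (by simp [hpq, hpr]), Finset.sum_pair hqr,
      Finset.sum_insert (by simp [hpq, hp']), Finset.sum_pair hq', sval_flipSign] at hdeg
    simp only [Pi.add_apply, Pi.neg_apply] at hdeg
    exact sval_one_ne_zero r (by linear_combination hdeg / 2)

end Signed

variable {G : Type*} [Group G] [Fintype G] {W₁ W₂ : Subgroup G}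

theorem isGeneralized_alpha (φ ψ : ↥(W₁ ⊔ W₂) →* ℂˣ) :
    IsGeneralizedCharacter ↥(W₁ ⊔ W₂) (alpha φ ψ) := by
  have e : alpha φ ψ = (fun _ => (1 : ℂ)) - (fun w => (φ w : ℂ)) - (fun w => (ψ w : ℂ)) +
      fun w => ((φ * ψ) w : ℂ) := by funext w; simp [alpha]
  rw [e]
  exact isGeneralized_add (isGeneralized_sub (isGeneralized_sub isGeneralized_one
    (isGeneralized_of_isCharacter (isCharacter_monoidHom _)))
    (isGeneralized_of_isCharacter (isCharacter_monoidHom _)))
    (isGeneralized_of_isCharacter (isCharacter_monoidHom _))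

variable (W₁ W₂) in
/-- A nontrivial character trivial on `W₂`. -/
abbrev RowIdx := {φ : TrivR W₁ W₂ // φ.1 ≠ 1}

variable (W₁ W₂) in
/-- A nontrivial character trivial on `W₁`. -/
abbrev ColIdx := {ψ : TrivL W₁ W₂ // ψ.1 ≠ 1}

theorem exists_grid (hW : IsSelfNormalizingCyclic W₁ W₂) :
    ∃ a : RowIdx W₁ W₂ → ColIdx W₁ W₂ → Finset (Pt G), IsGrid flipSign a ∧
      (∀ i j, classInner (∑ p ∈ a i j, sval p) (fun _ => (1 : ℂ)) = 0) ∧
      ∀ i j, indFun (W₁ ⊔ W₂) (alpha i.1.1 j.1.1) = (fun _ => 1) + ∑ p ∈ a i j, sval p := by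
  classical
  set β : RowIdx W₁ W₂ → ColIdx W₁ W₂ → G → ℂ :=
    fun i j => indFun (W₁ ⊔ W₂) (alpha i.1.1 j.1.1) with hβ
  have hip : ∀ i i' j j', classInner (β i j) (fun _ => (1 : ℂ)) = 1 ∧ classInner (β i j) (β i' j') =
      1 + (if i = i' then 1 else 0) + (if j = j' then 1 else 0) +
        (if i = i' then 1 else 0) * (if j = j' then 1 else 0) := by
    intro i i' j j'
    have h := Agent.S1505.result W₁ W₂ hW i.1.1 i'.1.1 j.1.1 j'.1.1 i.2 i'.2 j.2 j'.2
      (fun w hw => ⟨i.1.2 w hw, i'.1.2 w hw⟩) (fun w hw => ⟨j.1.2 w hw, j'.1.2 w hw⟩)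
    refine ⟨h.1, h.2.trans ?_⟩
    have e1 : (i.1.1 = i'.1.1) = (i = i') :=
      propext ⟨fun e => Subtype.ext (Subtype.ext e), fun e => e ▸ rfl⟩
    have e2 : (j.1.1 = j'.1.1) = (j = j') :=
      propext ⟨fun e => Subtype.ext (Subtype.ext e), fun e => e ▸ rfl⟩
    simp only [e1, e2]
  have hone : ∀ i j, classInner (fun _ => (1 : ℂ)) (β i j) = 1 := fun i j => by
    rw [← classInner_conj_symm, (hip i i j j).1, map_one]
  have h11 : classInner (fun _ : G => (1 : ℂ)) (fun _ => (1 : ℂ)) = 1 :=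
    classInner_irr_self isIrrCharacter_one
  have hsub : ∀ i i' j j', classInner (β i j - fun _ => (1 : ℂ)) (β i' j' - fun _ => (1 : ℂ)) =
      classInner (β i j) (β i' j') - 1 := fun i i' j j' => by
    rw [classInner_sub_left, classInner_sub_right, classInner_sub_right, hone, (hip i i j j).1, h11]
    ring
  have hgen : ∀ i j, IsGeneralizedCharacter G (β i j - fun _ => (1 : ℂ)) := fun i j =>
    isGeneralized_sub (isGeneralized_indFun _ (isGeneralized_alpha _ _)) isGeneralized_one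
  have hsupp : ∀ i j, ∃ a : Finset (Pt G), a.card = 3 ∧ Cln flipSign a ∧
      β i j - (fun _ => (1 : ℂ)) = ∑ p ∈ a, sval p := fun i j =>
    exists_support (hgen i j) (by rw [hsub, (hip i i j j).2]; simp; norm_num)
  choose a ha3 hacln hasum using hsupp
  have hdeg : ∀ i j, (∑ p ∈ a i j, sval p) 1 = -1 := fun i j => by
    rw [← hasum]
    simp [hβ, indFun_one, alpha]
  have hinner : ∀ i i' j j', classInner (∑ p ∈ a i j, sval p) (∑ q ∈ a i' j', sval q) =
      classInner (β i j) (β i' j') - 1 := fun i i' j j' => by rw [← hasum, ← hasum, hsub]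
  refine ⟨a, ⟨flipSign_invol, ha3, hacln, fun i j k hjk => ?_, fun i k j hik => ?_,
    fun i k j l hik hjl => ?_⟩, fun i j => ?_, fun i j => ?_⟩
  · refine one_of_classInner (ha3 _ _) (ha3 _ _) (hacln _ _) (hacln _ _) ?_ (by rw [hdeg, hdeg])
    rw [hinner, (hip i i j k).2, if_pos rfl, if_neg hjk]; ring
  · refine one_of_classInner (ha3 _ _) (ha3 _ _) (hacln _ _) (hacln _ _) ?_ (by rw [hdeg, hdeg])
    rw [hinner, (hip i k j j).2, if_neg hik, if_pos rfl]; ring
  · refine zero_of_classInner (ha3 _ _) (hacln _ _) ?_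
    rw [hinner, (hip i k j l).2, if_neg hik, if_neg hjl]; ring
  · rw [← hasum, classInner_sub_left, (hip i i j j).1, h11, sub_self]
  · rw [← hasum]; simp [hβ]

theorem card_facts (hW : IsSelfNormalizingCyclic W₁ W₂) (hodd : Odd (Nat.card ↥(W₁ ⊔ W₂))) :
    Nat.card W₁ ≠ Nat.card W₂ ∧ (Nat.card W₁ = 3 ∨ 5 ≤ Nat.card W₁) ∧
      (Nat.card W₂ = 3 ∨ 5 ≤ Nat.card W₂) := by
  obtain ⟨h1, h2, hdisj, -, hcyc, -⟩ := hW
  refine ⟨fun e => ?_, ?_, ?_⟩
  · haveI := hcyc
    have := eq_of_card_eq_in_cyclic (W := W₁ ⊔ W₂) le_sup_left le_sup_right e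
    rw [← this, inf_idem] at hdisj
    exact h1 hdisj
  · obtain ⟨m, hm⟩ := hodd.of_dvd_nat (Subgroup.card_dvd_of_le (le_sup_left (a := W₁) (b := W₂)))
    have := (Subgroup.one_lt_card_iff_ne_bot W₁).mpr h1
    omega
  · obtain ⟨m, hm⟩ := hodd.of_dvd_nat (Subgroup.card_dvd_of_le (le_sup_right (a := W₁) (b := W₂)))
    have := (Subgroup.one_lt_card_iff_ne_bot W₂).mpr h2
    omega

theorem exists_points (hW : IsSelfNormalizingCyclic W₁ W₂) (hodd : Odd (Nat.card ↥(W₁ ⊔ W₂))) :
    ∃ (x : RowIdx W₁ W₂ → Pt G) (y : ColIdx W₁ W₂ → Pt G)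
      (z : RowIdx W₁ W₂ → ColIdx W₁ W₂ → Pt G) (t : Pt G), sval t = (fun _ => 1) ∧
      (∀ i j, indFun (W₁ ⊔ W₂) (alpha i.1.1 j.1.1) =
        (fun _ => 1) + (sval (x i) + sval (y j) + sval (z i j))) ∧
      (let f := Sum.elim x (Sum.elim y fun q : RowIdx W₁ W₂ × ColIdx W₁ W₂ => z q.1 q.2)
       Function.Injective f ∧ (∀ u v, f u ≠ flipSign (f v)) ∧
        ∀ u, f u ≠ t ∧ f u ≠ flipSign t) := by
  classical
  haveI := commutative_of hW
  obtain ⟨hne, hc1, hc2⟩ := card_facts hW hodd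
  obtain ⟨hr, hl⟩ := card_trivR (W₁ := W₁) (W₂ := W₂) (disj_of hW) (comm_of hW)
  haveI : Fintype (TrivR W₁ W₂) := Fintype.ofFinite _
  haveI : Fintype (TrivL W₁ W₂) := Fintype.ofFinite _
  have hcI : Fintype.card (RowIdx W₁ W₂) = Nat.card W₁ - 1 := by
    rw [← hr, Nat.card_eq_fintype_card, Fintype.card_subtype]
    have e : (Finset.univ.filter fun φ : TrivR W₁ W₂ => φ.1 ≠ 1) =
        ({⟨1, fun _ _ => rfl⟩} : Finset (TrivR W₁ W₂))ᶜ := by ext φ; simp [Subtype.ext_iff]
    rw [e, Finset.card_compl, Finset.card_singleton]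
  have hcJ : Fintype.card (ColIdx W₁ W₂) = Nat.card W₂ - 1 := by
    rw [← hl, Nat.card_eq_fintype_card, Fintype.card_subtype]
    have e : (Finset.univ.filter fun φ : TrivL W₁ W₂ => φ.1 ≠ 1) =
        ({⟨1, fun _ _ => rfl⟩} : Finset (TrivL W₁ W₂))ᶜ := by ext φ; simp [Subtype.ext_iff]
    rw [e, Finset.card_compl, Finset.card_singleton]
  obtain ⟨a, hgrid, horth, hind⟩ := exists_grid hW
  obtain ⟨x, y, z, ha, hd, hinj, hneg⟩ : ∃ (x : RowIdx W₁ W₂ → Pt G) (y : ColIdx W₁ W₂ → Pt G)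
      (z : RowIdx W₁ W₂ → ColIdx W₁ W₂ → Pt G),
      (∀ i j, a i j = {x i, y j, z i j}) ∧
      (∀ i j, x i ≠ y j ∧ x i ≠ z i j ∧ y j ≠ z i j) ∧
      Function.Injective (Sum.elim x (Sum.elim y fun q : _ × _ => z q.1 q.2)) ∧
      (∀ u v, (Sum.elim x (Sum.elim y fun q : _ × _ => z q.1 q.2)) u ≠
        flipSign ((Sum.elim x (Sum.elim y fun q : _ × _ => z q.1 q.2)) v)) := by
    by_cases h2 : 5 ≤ Nat.card W₂
    · exact hgrid.structure_theorem (by omega) (by omega)
    · obtain ⟨y, x, z, ha, hd, hinj, hneg⟩ :=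
        hgrid.transpose.structure_theorem (by omega) (by omega)
      let σ : RowIdx W₁ W₂ ⊕ (ColIdx W₁ W₂ ⊕ RowIdx W₁ W₂ × ColIdx W₁ W₂) →
          ColIdx W₁ W₂ ⊕ (RowIdx W₁ W₂ ⊕ ColIdx W₁ W₂ × RowIdx W₁ W₂) :=
        Sum.elim (fun i => Sum.inr (Sum.inl i))
          (Sum.elim Sum.inl (fun q => Sum.inr (Sum.inr (q.2, q.1))))
      have hσ : Function.Injective σ := by
        rintro (i | j | ⟨i, j⟩) (i' | j' | ⟨i', j'⟩) e <;>
          simp only [σ, Sum.elim_inl, Sum.elim_inr, Sum.inl.injEq, Sum.inr.injEq, Prod.mk.injEq, reduceCtorEq] at e <;>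
          simp [e]
      have hf : ∀ u, (Sum.elim x (Sum.elim y fun q : _ × _ => z q.2 q.1)) u =
          (Sum.elim y (Sum.elim x fun q : _ × _ => z q.1 q.2)) (σ u) := by
        rintro (i | j | ⟨i, j⟩) <;> rfl
      refine ⟨x, y, fun i j => z j i, fun i j => ?_,
        fun i j => ⟨(hd j i).1.symm, (hd j i).2.2, (hd j i).2.1⟩,
        fun u v e => hσ (hinj (by rwa [← hf, ← hf])), fun u v e => hneg (σ u) (σ v) (by rwa [← hf, ← hf])⟩
      rw [ha j i]; ext w; simp; tauto
  let t : Pt G := (⟨fun _ => 1, isIrrCharacter_one⟩, true)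
  have ht : sval t = fun _ => 1 := rfl
  refine ⟨x, y, z, t, ht, fun i j => ?_, hinj, hneg, ?_⟩
  · rw [hind, ha, Finset.sum_insert (by simp [(hd i j).1, (hd i j).2.1]),
      Finset.sum_pair (hd i j).2.2, add_assoc]
  have hnot : ∀ i j, t ∉ a i j ∧ flipSign t ∉ a i j := by
    intro i j
    have h : classInner (∑ p ∈ a i j, sval p) (∑ q ∈ ({t} : Finset (Pt G)), sval q) = 0 := by
      rw [Finset.sum_singleton, ht, horth]
    rw [classInner_sum_sval, sub_eq_zero, Nat.cast_inj] at h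
    have e1 : ((a i j).filter fun p => p ∈ ({t} : Finset (Pt G))) = (a i j).filter (fun p => p = t) := by
      simp
    have key : t ∈ a i j ↔ flipSign t ∈ a i j := by
      constructor <;> intro hm
      · have : 0 < ((a i j).filter fun p => p ∈ ({t} : Finset (Pt G))).card :=
          Finset.card_pos.mpr ⟨t, by simp [hm]⟩
        obtain ⟨q, hq⟩ := Finset.card_pos.mp (h ▸ this)
        simp only [Finset.mem_filter, Finset.mem_singleton] at hq
        rw [← hq.2, flipSign_invol]; exact hq.1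
      · have : 0 < ((a i j).filter fun p => flipSign p ∈ ({t} : Finset (Pt G))).card :=
          Finset.card_pos.mpr ⟨flipSign t, by simp [hm, flipSign_invol t]⟩
        obtain ⟨q, hq⟩ := Finset.card_pos.mp (h.symm ▸ this)
        simp only [Finset.mem_filter, Finset.mem_singleton] at hq
        rw [← hq.2]; exact hq.1
    exact ⟨fun hm => hgrid.cln i j t hm (key.mp hm), fun hm => hgrid.cln i j t (key.mpr hm) hm⟩
  obtain ⟨i0⟩ : Nonempty (RowIdx W₁ W₂) := Fintype.card_pos_iff.mp (by omega)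
  obtain ⟨j0⟩ : Nonempty (ColIdx W₁ W₂) := Fintype.card_pos_iff.mp (by omega)
  rintro (i | j | ⟨i, j⟩)
  · exact ⟨fun e => (hnot i j0).1 (by simp [ha, ← show x i = t from e]),
      fun e => (hnot i j0).2 (by simp [ha, ← show x i = flipSign t from e])⟩
  · exact ⟨fun e => (hnot i0 j).1 (by simp [ha, ← show y j = t from e]),
      fun e => (hnot i0 j).2 (by simp [ha, ← show y j = flipSign t from e])⟩
  · exact ⟨fun e => (hnot i j).1 (by simp [ha, ← show z i j = t from e]),
      fun e => (hnot i j).2 (by simp [ha, ← show z i j = flipSign t from e])⟩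

open Classical in
/-- The family exists. -/
theorem exists_family (hW : IsSelfNormalizingCyclic W₁ W₂) (hodd : Odd (Nat.card ↥(W₁ ⊔ W₂))) :
    ∃ χ : (↥(W₁ ⊔ W₂) →* ℂˣ) → G → ℂ, IsCyclicTIFamily W₁ W₂ χ := by
  obtain ⟨x, y, z, t, ht, hind, hinj, hneg, hnt⟩ := exists_points hW hodd
  set f := Sum.elim x (Sum.elim y fun q : RowIdx W₁ W₂ × ColIdx W₁ W₂ => z q.1 q.2) with hf
  let g : Unit ⊕ (RowIdx W₁ W₂ ⊕ (ColIdx W₁ W₂ ⊕ RowIdx W₁ W₂ × ColIdx W₁ W₂)) → Pt G :=
    Sum.elim (fun _ => t) (Sum.elim (fun i => flipSign (x i))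
      (Sum.elim (fun j => flipSign (y j)) fun q => z q.1 q.2))
  have same : ∀ p q : Pt G, p.1 = q.1 → p = q ∨ p = flipSign q := by
    rintro ⟨k, b⟩ ⟨l, c⟩ h
    obtain rfl : k = l := h
    cases b <;> cases c <;> simp [flipSign]
  have hbase : Function.Injective fun u => (f u).1 := fun u v e =>
    (same _ _ e).elim (fun h => hinj h) (fun h => absurd h (hneg u v))
  have hg : Function.Injective fun u => (g u).1 := by
    have e : (fun u => (g u).1) = Sum.elim (fun _ => t.1) (fun u => (f u).1) := by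
      funext u; rcases u with ⟨⟩ | i | j | q <;> rfl
    rw [e]
    refine Function.Injective.sumElim (fun _ _ _ => rfl) hbase fun _ u h => ?_
    exact (same _ _ h.symm).elim (hnt u).1 (hnt u).2
  have hginner : ∀ u v, classInner (sval (g u)) (sval (g v)) = if u = v then 1 else 0 := by
    intro u v
    rw [classInner_sval]
    by_cases h : u = v
    · subst h; simp [flipSign_ne]
    · have h' : (g u).1 ≠ (g v).1 := fun e => h (hg e)
      rw [if_neg h, if_neg (fun e => h' (by rw [e])), if_neg (fun e => h' (by rw [← e]; rfl))]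
      simp
  let code : TrivR W₁ W₂ × TrivL W₁ W₂ →
      Unit ⊕ (RowIdx W₁ W₂ ⊕ (ColIdx W₁ W₂ ⊕ RowIdx W₁ W₂ × ColIdx W₁ W₂)) := fun u =>
    if h1 : u.1.1 = 1 then
      (if h2 : u.2.1 = 1 then Sum.inl () else Sum.inr (Sum.inr (Sum.inl ⟨u.2, h2⟩)))
    else
      (if h2 : u.2.1 = 1 then Sum.inr (Sum.inl ⟨u.1, h1⟩)
        else Sum.inr (Sum.inr (Sum.inr (⟨u.1, h1⟩, ⟨u.2, h2⟩))))
  have hcode : Function.Injective code := by
    intro u v e
    have ext2 : u.1.1 = v.1.1 → u.2.1 = v.2.1 → u = v :=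
      fun a b => Prod.ext (Subtype.ext a) (Subtype.ext b)
    by_cases a1 : u.1.1 = 1 <;> by_cases a2 : u.2.1 = 1 <;> by_cases b1 : v.1.1 = 1 <;>
      by_cases b2 : v.2.1 = 1 <;>
      simp only [code, a1, a2, b1, b2, dite_true, dite_false, Sum.inl.injEq, Sum.inr.injEq,
        Prod.mk.injEq, Subtype.mk.injEq, reduceCtorEq] at e
    · exact ext2 (a1.trans b1.symm) (a2.trans b2.symm)
    · exact ext2 (a1.trans b1.symm) (congrArg Subtype.val e)
    · exact ext2 (congrArg Subtype.val e) (a2.trans b2.symm)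
    · exact ext2 (congrArg Subtype.val e.1) (congrArg Subtype.val e.2)
  let Q : TrivR W₁ W₂ × TrivL W₁ W₂ → Pt G := fun u => g (code u)
  choose pR pL hsplit using exists_split (W₁ := W₁) (W₂ := W₂) (disj_of hW) (comm_of hW)
  have hval : ∀ (φ : TrivR W₁ W₂) (ψ : TrivL W₁ W₂),
      (pR (φ.1 * ψ.1), pL (φ.1 * ψ.1)) = (φ, ψ) := by
    intro φ ψ
    obtain ⟨e1, e2⟩ := split_unique φ.2 (pR (φ.1 * ψ.1)).2 ψ.2 (pL (φ.1 * ψ.1)).2 (hsplit _)
    exact Prod.ext (Subtype.ext e1.symm) (Subtype.ext e2.symm)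
  set χ : (↥(W₁ ⊔ W₂) →* ℂˣ) → G → ℂ := fun ω => sval (Q (pR ω, pL ω)) with hχ
  have hχv : ∀ (φ : TrivR W₁ W₂) (ψ : TrivL W₁ W₂), χ (φ.1 * ψ.1) = sval (Q (φ, ψ)) := fun φ ψ => by
    simp only [hχ]; rw [hval]
  let oR : TrivR W₁ W₂ := ⟨1, fun _ _ => rfl⟩
  let oL : TrivL W₁ W₂ := ⟨1, fun _ _ => rfl⟩
  have hχ1 : χ 1 = fun _ => 1 := by
    have h := hχv oR oL
    rw [show oR.1 * oL.1 = (1 : ↥(W₁ ⊔ W₂) →* ℂˣ) from hom_mul_one _] at h
    rw [h, ← ht]; simp [Q, code, g, oR, oL]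
  have horth : ∀ ω ω', classInner (χ ω) (χ ω') = if ω = ω' then 1 else 0 := by
    intro ω ω'
    simp only [hχ]
    show classInner (sval (g _)) (sval (g _)) = _
    rw [hginner]
    refine if_congr ⟨fun e => ?_, fun e => by rw [e]⟩ rfl rfl
    obtain ⟨e1, e2⟩ := Prod.ext_iff.mp (hcode e)
    rw [hsplit ω, hsplit ω', show pR ω = pR ω' from e1, show pL ω = pL ω' from e2]
  have hindeq : ∀ φ ψ : ↥(W₁ ⊔ W₂) →* ℂˣ, φ ≠ 1 → ψ ≠ 1 →
      (∀ w : ↥(W₁ ⊔ W₂), (w : G) ∈ W₂ → φ w = 1) → (∀ w : ↥(W₁ ⊔ W₂), (w : G) ∈ W₁ → ψ w = 1) →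
      indFun (W₁ ⊔ W₂) (alpha φ ψ) = fun g => 1 - χ φ g - χ ψ g + χ (φ * ψ) g := by
    intro φ ψ hφ1 hψ1 hφ hψ
    have e1 := hχv ⟨φ, hφ⟩ oL
    rw [show φ * oL.1 = φ from hom_mul_one _] at e1
    have e2 := hχv oR ⟨ψ, hψ⟩
    rw [show oR.1 * ψ = ψ from hom_one_mul _] at e2
    have e3 := hχv ⟨φ, hφ⟩ ⟨ψ, hψ⟩
    funext s
    rw [e1, e2, e3, congrFun (hind ⟨⟨φ, hφ⟩, hφ1⟩ ⟨⟨ψ, hψ⟩, hψ1⟩) s]
    simp only [Q, code, g, oR, oL, hφ1, hψ1, dite_true, dite_false, Sum.elim_inl, Sum.elim_inr, sval_flipSign,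
      Pi.add_apply, Pi.neg_apply]
    ring
  refine ⟨χ, ?_, fun ω ω' => (horth ω ω').trans (by convert rfl), hχ1, ?_, hindeq⟩
  · exact fun ω => sval_signed _
  · intro ω w h1 h2
    haveI := commutative_of hW
    have hcf : IsClassFunction G (χ ω) := by
      rcases sval_signed (Q (pR ω, pL ω)) with h | h
      · exact isClassFunction_of_isCharacter (isCharacter_of_isIrr h)
      · intro g u
        have := isClassFunction_of_isCharacter (isCharacter_of_isIrr h) g u
        simpa [hχ] using this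
    have key := eq_zero_of_orth (disj_of hW) (fun v => χ ω v - (ω v : ℂ)) (fun φ ψ => ?_) w
      ((mem_tiPart_iff w).mpr ⟨h1, h2⟩)
    · exact sub_eq_zero.mp key
    · change classInner ((fun v : ↥(W₁ ⊔ W₂) => χ ω v) - fun v => (ω v : ℂ)) (alpha φ.1 ψ.1) = 0
      rw [classInner_sub_left, ← frobenius_reciprocity' _ _ hcf,
        ← classInner_conj_symm (alpha φ.1 ψ.1), classInner_alpha_hom]
      by_cases hφ1 : φ.1 = 1
      · have e : alpha φ.1 ψ.1 = 0 := by funext v; simp [alpha, hφ1]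
        rw [e, indFun_zero, classInner_zero_right, hφ1, hom_one_mul]; simp
      by_cases hψ1 : ψ.1 = 1
      · have e : alpha φ.1 ψ.1 = 0 := by funext v; simp [alpha, hψ1]
        rw [e, indFun_zero, classInner_zero_right, hψ1, hom_mul_one]; simp
      have e : indFun (W₁ ⊔ W₂) (alpha φ.1 ψ.1) = χ 1 - χ φ.1 - χ ψ.1 + χ (φ.1 * ψ.1) := by
        rw [hindeq _ _ hφ1 hψ1 φ.2 ψ.2, hχ1]; rfl
      rw [e, classInner_add_right, classInner_sub_right, classInner_sub_right, horth, horth, horth, horth]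
      simp only [map_add, map_sub, apply_ite conj, map_one, map_zero]
      simp only [eq_comm (a := ω)]
      ring

end CfsgLib.Char.CyclicTI
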