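import Cfsg.Agent.Lib.Char.ExtendChar
import Cfsg.Agent.Lib.Char.Clifford
import Cfsg.Agent.Lib.Char.Gallagher
import Cfsg.Agent.Lib.ClassGraph.Basic

/-!
A cyclic Sylow subgroup of a factor group of a fully ramified section has a complement.
-/

set_option autoImplicit false
set_option linter.style.haveILetI false

open Cfsg
open scoped CfsgLib.Char ComplexConjugate

namespace CfsgLib.Char.CyclicRamified

variable {H : Type*} [Group H] [Fintype H]

/-- A single irreducible above all constituents with cyclic factor group: trivial inertia. -/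
theorem inertia_of_unique {G : Type*} [Group G] [Fintype G] (N : Subgroup G) [N.Normal]
    [Fintype N] (hcyc : IsCyclic (G ⧸ N)) {φ : N → ℂ} (hφ : IsIrrCharacter N φ)
    {ξ : G → ℂ} (huniq : ∀ η : G → ℂ, IsIrrCharacter G η →
      classInner (fun n : N => η n) φ ≠ 0 → η = ξ) :
    inertia N φ ≤ N := by
  classical
  set I := inertia N φ with hI
  have hNI : N ≤ I := le_inertia N (isClassFunction_of_isCharacter (isCharacter_of_isIrr hφ))
  set N' := N.subgroupOf I
  set e := Subgroup.subgroupOfEquivOfLe hNI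
  have hφ' : IsIrrCharacter N' (fun x => φ (e x)) := (isIrrCharacter_comp_equiv e).mpr hφ
  have hinv : ∀ g : I, conjBy N' (fun x => φ (e x)) g = fun x => φ (e x) := fun g => funext fun x =>
    (mem_inertia_iff N).mp g.2 (e x)
  have hcyc' : IsCyclic (I ⧸ N') := by
    refine isCyclic_of_injective
      (QuotientGroup.map N' N I.subtype fun x hx => hx) ?_
    rw [injective_iff_map_eq_one]
    intro q hq
    induction q using QuotientGroup.induction_on with
    | _ u =>
      rw [QuotientGroup.eq_one_iff]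
      exact (QuotientGroup.eq_one_iff (u : G)).mp hq
  obtain ⟨ψ, hψ, hext⟩ := extends_of_cyclic N' hφ' hinv hcyc'
  have hres : resTo N I hNI ψ = φ := by
    funext n
    have := hext (e.symm n)
    rw [MulEquiv.apply_symm_apply] at this
    exact this
  have hone : classInner (resTo N I hNI ψ) φ = 1 := by rw [hres, classInner_irr_self hφ]
  obtain ⟨hirr, hmul, -⟩ := clifford_correspondence N I hφ (fun g => mem_inertia N) hNI hψ
    (by rw [hone]; exact one_ne_zero)
  have hξ1 : classInner (fun n : N => ξ n) φ = 1 := by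
    rw [← huniq _ hirr (by rw [hmul, hone]; exact one_ne_zero), hmul, hone]
  have hξ : IsIrrCharacter G ξ :=
    huniq _ hirr (by rw [hmul, hone]; exact one_ne_zero) ▸ hirr
  have hind : indFun N φ = ξ := by
    rw [classFunction_expansion (isClassFunction_indFun N φ), Finset.sum_eq_single ⟨ξ, hξ⟩]
    · rw [← classInner_conj_symm, frobenius_reciprocity' N φ (isClassFunction_irr ⟨ξ, hξ⟩), hξ1,
        map_one, one_smul]
    · intro η _ hne
      have h0 : classInner (fun n : N => (η : G → ℂ) n) φ = 0 := by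
        by_contra h
        exact hne (Subtype.ext (huniq _ η.2 h))
      rw [← classInner_conj_symm, frobenius_reciprocity' N φ (isClassFunction_irr η), h0,
        map_zero, zero_smul]
    · simp
  have h := classInner_indFun_indFun N hφ hφ
  rw [hind, classInner_irr_self hξ, if_pos (self_mem_orbit N φ), eq_div_iff
    (Nat.cast_ne_zero.mpr Nat.card_pos.ne'), one_mul, Nat.cast_inj] at h
  exact (Subgroup.eq_of_le_of_card_ge hNI h.ge).ge

variable (Z : Subgroup H) [Z.Normal] [Fintype Z] (χ : IrrCharacter H) (θ : IrrCharacter Z) (e : ℕ)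

/-- The hypothesis of full ramification. -/
def Ramified : Prop := e ^ 2 = Z.index ∧ ∀ z : Z, (χ : H → ℂ) z = (e : ℂ) * (θ : Z → ℂ) z

variable {Z χ θ e}

theorem Ramified.inv (h : Ramified Z χ θ e) (g : H) :
    conjBy Z (θ : Z → ℂ) g = (θ : Z → ℂ) := by
  have he : (e : ℂ) ≠ 0 := by
    intro h0
    have h1 := h.1
    rw [Nat.cast_eq_zero.mp h0] at h1
    exact Subgroup.index_ne_zero_of_finite h1.symm
  funext z
  refine mul_left_cancel₀ he ?_
  rw [conjBy_apply, ← h.2, ← h.2]
  exact isClassFunction_irr χ z g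

theorem Ramified.vanish (h : Ramified Z χ θ e) (g : H) (hg : g ∉ Z) : (χ : H → ℂ) g = 0 := by
  classical
  have hN := classInner_irr_self χ.2
  rw [classInner, inv_mul_eq_one₀ (Nat.cast_ne_zero.mpr Nat.card_pos.ne')] at hN
  have hZsum : ∑ z : Z, Complex.normSq ((χ : H → ℂ) z) = (Nat.card H : ℝ) := by
    have h1 := classInner_irr_self θ.2
    rw [classInner, inv_mul_eq_one₀ (Nat.cast_ne_zero.mpr Nat.card_pos.ne')] at h1
    have h2 : ∑ z : Z, (χ : H → ℂ) z * conj ((χ : H → ℂ) z) = (Nat.card H : ℂ) := by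
      rw [Finset.sum_congr rfl (g := fun z => (e : ℂ) ^ 2 * ((θ : Z → ℂ) z * conj ((θ : Z → ℂ) z)))
        fun z _ => by rw [h.2 z, map_mul, Complex.conj_natCast]; ring,
        ← Finset.mul_sum, ← h1, ← Nat.cast_pow, h.1, ← Z.card_mul_index, Nat.cast_mul, mul_comm]
    simp only [Complex.mul_conj] at h2
    exact_mod_cast h2
  simp only [Complex.mul_conj] at hN
  have hN' : ∑ g : H, Complex.normSq ((χ : H → ℂ) g) = (Nat.card H : ℝ) := by
    exact_mod_cast hN.symm
  rw [← Finset.sum_filter_add_sum_filter_not Finset.univ (fun g => g ∈ Z),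
    Finset.sum_subtype (p := fun g => g ∈ Z) _ (fun g => by simp)
      (fun g => Complex.normSq ((χ : H → ℂ) g)), hZsum, add_eq_left] at hN'
  exact Complex.normSq_eq_zero.mp
    ((Finset.sum_eq_zero_iff_of_nonneg fun g _ => Complex.normSq_nonneg _).mp hN' g
      (Finset.mem_filter.mpr ⟨Finset.mem_univ _, hg⟩))

/-- `θ` seen on a subgroup of `S` isomorphic to `Z`. -/
def lift (S : Subgroup H) (f : Z → ℂ) : ↥(Z.subgroupOf S) → ℂ :=
  fun z => f ⟨((z : S) : H), z.2⟩

omit [Z.Normal] in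
theorem classInner_lift {S : Subgroup H} (hZS : Z ≤ S) [Fintype ↥(Z.subgroupOf S)] (f g : Z → ℂ) :
    classInner (lift S f) (lift S g) = classInner f g :=
  classInner_comp_equiv (Subgroup.subgroupOfEquivOfLe hZS) f g

/-- Over a subgroup of prime power index over `Z`, whose index in the whole is prime to `p`,
there is a single irreducible above `θ`. -/
theorem Ramified.unique_over (h : Ramified Z χ θ e) {p : ℕ} [Fact p.Prime] {S : Subgroup H}
    (hZS : Z ≤ S) [Fintype S] [Fintype ↥(Z.subgroupOf S)] {k : ℕ}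
    (hk : (Z.subgroupOf S).index = p ^ k) (hp : ¬ p ∣ S.index) :
    (∃ ξ : IrrCharacter S,
      classInner (fun z : ↥(Z.subgroupOf S) => (ξ : S → ℂ) z) (lift S θ) ≠ 0) ∧
    ∀ ξ ξ' : IrrCharacter S,
      classInner (fun z : ↥(Z.subgroupOf S) => (ξ : S → ℂ) z) (lift S θ) ≠ 0 →
      classInner (fun z : ↥(Z.subgroupOf S) => (ξ' : S → ℂ) z) (lift S θ) ≠ 0 → ξ = ξ' := by
  classical
  have hθ' : IsIrrCharacter (Z.subgroupOf S) (lift S (θ : Z → ℂ)) :=
    (isIrrCharacter_comp_equiv (Subgroup.subgroupOfEquivOfLe hZS)).mpr θ.2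
  have hinv : ∀ g : S, conjBy (Z.subgroupOf S) (lift S (θ : Z → ℂ)) g = lift S (θ : Z → ℂ) := fun g =>
    funext fun z => congrFun (h.inv (g : H)) ⟨((z : S) : H), z.2⟩
  have hnorm := classInner_indFun_self_of_invariant (Z.subgroupOf S) hθ' hinv
  obtain ⟨m, hm⟩ := exists_multiplicities (isCharacter_indFun (Z.subgroupOf S) (isCharacter_of_isIrr hθ'))
  have hmc : ∀ ω : IrrCharacter S,
      classInner (fun z : (Z.subgroupOf S) => (ω : S → ℂ) z) (lift S θ) = m ω := by
    intro ω
    rw [← frobenius_reciprocity' (Z.subgroupOf S) (lift S (θ : Z → ℂ)) (isClassFunction_irr ω),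
      ← classInner_conj_symm, hm, classInner_sum_smul_irr, Complex.conj_natCast]
  rw [hm, classInner_sum_smul_sum_smul, hk] at hnorm
  simp only [map_natCast] at hnorm
  have hsum : ∑ ω, m ω * m ω = p ^ k := by exact_mod_cast hnorm
  have hdvd : ∀ ω : IrrCharacter S, m ω ≠ 0 → p ^ k ≤ m ω * m ω := by
    intro ω h0
    have hres : ∀ z : (Z.subgroupOf S), (ω : S → ℂ) z = (m ω : ℂ) * lift S (θ : Z → ℂ) z := by
      intro z
      have h1 := congrFun (clifford_invariant (Z.subgroupOf S) ω.2 hθ' hinv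
        (by rw [hmc]; exact Nat.cast_ne_zero.mpr h0)) z
      rw [hmc] at h1
      exact h1
    obtain ⟨n, hn⟩ := exists_nat_classInner
      (isCharacter_restrict S (isCharacter_of_isIrr χ.2)) (isCharacter_of_isIrr ω.2)
    have hθ1 := classInner_irr_self hθ'
    rw [classInner, inv_mul_eq_one₀ (Nat.cast_ne_zero.mpr Nat.card_pos.ne')] at hθ1
    have hval : ∑ u : S, (χ : H → ℂ) u * conj ((ω : S → ℂ) u) =
        (e : ℂ) * m ω * Nat.card (Z.subgroupOf S) := by
      rw [← Finset.sum_filter_add_sum_filter_not Finset.univ (fun u : S => u ∈ (Z.subgroupOf S)),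
        Finset.sum_eq_zero (s := Finset.univ.filter fun u : S => u ∉ (Z.subgroupOf S)) (fun u hu => by
          rw [h.vanish (u : H) (fun hh => (Finset.mem_filter.mp hu).2 hh), zero_mul]), add_zero,
        Finset.sum_subtype (p := fun u : S => u ∈ (Z.subgroupOf S)) _ (fun u => by simp)
          (fun u : S => (χ : H → ℂ) u * conj ((ω : S → ℂ) u)), hθ1, Finset.mul_sum]
      refine Finset.sum_congr rfl fun z _ => ?_
      rw [hres z, map_mul, Complex.conj_natCast]
      show (χ : H → ℂ) ((⟨((z : S) : H), z.2⟩ : Z) : H) * _ = _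
      rw [h.2]
      simp only [lift]
      ring
    simp only [classInner, hval] at hn
    rw [← (Z.subgroupOf S).card_mul_index, hk, Nat.cast_mul, inv_mul_eq_iff_eq_mul₀ (mul_ne_zero
      (Nat.cast_ne_zero.mpr Nat.card_pos.ne') (Nat.cast_ne_zero.mpr
        (pow_ne_zero _ (Fact.out : p.Prime).ne_zero)))] at hn
    have hn' : e * m ω = p ^ k * n := by
      have : ((e * m ω * Nat.card (Z.subgroupOf S) : ℕ) : ℂ) = ((p ^ k * n * Nat.card (Z.subgroupOf S) : ℕ) : ℂ) := by
        push_cast at hn ⊢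
        rw [hn]; ring
      exact Nat.eq_of_mul_eq_mul_right Nat.card_pos (Nat.cast_injective this)
    have hidx : Z.index = p ^ k * S.index := by
      rw [← hk]; exact (Subgroup.relIndex_mul_index hZS).symm
    have h2 : S.index * (m ω * m ω) = p ^ k * (n * n) := by
      refine Nat.eq_of_mul_eq_mul_left (pow_pos (Fact.out : p.Prime).pos k) ?_
      calc p ^ k * (S.index * (m ω * m ω)) = (e * m ω) * (e * m ω) := by
            rw [← mul_assoc, ← hidx, ← h.1]; ring
        _ = p ^ k * (p ^ k * (n * n)) := by rw [hn']; ring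
    have h3 : p ^ k ∣ m ω * m ω :=
      ((((Fact.out : p.Prime).coprime_iff_not_dvd).mpr hp).pow_left k).dvd_of_dvd_mul_left
        ⟨n * n, h2⟩
    exact Nat.le_of_dvd (Nat.mul_pos (Nat.pos_of_ne_zero h0) (Nat.pos_of_ne_zero h0)) h3
  refine ⟨?_, fun ξ ξ' hξ hξ' => ?_⟩
  · by_contra hno
    push Not at hno
    have : ∑ ω, m ω * m ω = 0 := Finset.sum_eq_zero fun ω _ => by
      have h0 := (hmc ω).symm.trans (hno ω)
      rw [Nat.cast_eq_zero] at h0
      have := h0
      simp [this]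
    rw [hsum] at this
    exact pow_ne_zero _ (Fact.out : p.Prime).ne_zero this
  · replace hξ : m ξ ≠ 0 := fun h0 => hξ ((hmc ξ).trans (by rw [h0, Nat.cast_zero]))
    replace hξ' : m ξ' ≠ 0 := fun h0 => hξ' ((hmc ξ').trans (by rw [h0, Nat.cast_zero]))
    by_contra hne
    have h1 := Finset.sum_le_univ_sum_of_nonneg (s := {ξ, ξ'})
      (fun ω : IrrCharacter S => Nat.zero_le (m ω * m ω))
    rw [Finset.sum_pair hne, hsum] at h1
    have h2 := hdvd ξ hξ
    have h3 := hdvd ξ' hξ'
    have h4 := pow_pos (Fact.out : p.Prime).pos k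
    omega

/-- Conjugation of a function on a subgroup. -/
noncomputable def act (T : Subgroup H) (f : T → ℂ) (g : H) : T → ℂ := open Classical in
  fun t => if hg : g * t * g⁻¹ ∈ T then f ⟨_, hg⟩ else 0

omit [Fintype H] in
theorem act_apply (T : Subgroup H) (f : T → ℂ) {g : H}
    (hg : g ∈ Subgroup.normalizer (T : Set H)) (t : T) :
    act T f g t = f ⟨g * t * g⁻¹, (Subgroup.mem_normalizer_iff.mp hg _).mp t.2⟩ := by
  rw [act, dif_pos ((Subgroup.mem_normalizer_iff.mp hg _).mp t.2)]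

omit [Fintype H] in
theorem act_mul (T : Subgroup H) (f : T → ℂ) {a b : H} (ha : a ∈ Subgroup.normalizer (T : Set H))
    (hb : b ∈ Subgroup.normalizer (T : Set H)) : act T f (a * b) = act T (act T f a) b := by
  funext t
  rw [act_apply T f (mul_mem ha hb), act_apply T _ hb, act_apply T f ha]
  congr 1
  exact Subtype.ext (by show a * b * (t : H) * (a * b)⁻¹ = a * (b * t * b⁻¹) * a⁻¹; group)

omit [Fintype H] in
theorem act_one (T : Subgroup H) (f : T → ℂ) : act T f 1 = f := by
  funext t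
  rw [act_apply T f (one_mem _)]
  congr 1
  exact Subtype.ext (by simp)

/-- Conjugates of irreducibles above `θ` are irreducibles above `θ`. -/
theorem Ramified.act_over (h : Ramified Z χ θ e) {T : Subgroup H} [Fintype T] (hZT : Z ≤ T)
    {f : T → ℂ} (hf : IsIrrCharacter T f)
    (hover : classInner (fun z : Z => f ⟨z, hZT z.2⟩) (θ : Z → ℂ) ≠ 0) {g : H}
    (hg : g ∈ Subgroup.normalizer (T : Set H)) :
    IsIrrCharacter T (act T f g) ∧
      classInner (fun z : Z => act T f g ⟨z, hZT z.2⟩) (θ : Z → ℂ) ≠ 0 := by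
  classical
  let c : T ≃* T :=
    { toFun := fun t => ⟨g * t * g⁻¹, (Subgroup.mem_normalizer_iff.mp hg _).mp t.2⟩
      invFun := fun t => ⟨g⁻¹ * t * g, by
        have := (Subgroup.mem_normalizer_iff.mp (inv_mem hg) _).mp t.2
        rwa [inv_inv] at this⟩
      left_inv := fun t => Subtype.ext (by simp [mul_assoc])
      right_inv := fun t => Subtype.ext (by simp [mul_assoc])
      map_mul' := fun a b => Subtype.ext (by simp) }
  have hact : act T f g = fun t => f (c t) := funext fun t => act_apply T f hg t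
  refine ⟨hact ▸ (isIrrCharacter_comp_equiv c).mpr hf, ?_⟩
  let cz : Z ≃* Z :=
    { toFun := fun z => ⟨g * z * g⁻¹, Subgroup.Normal.conj_mem inferInstance _ z.2 g⟩
      invFun := fun z => ⟨g⁻¹ * z * g, by
        simpa using Subgroup.Normal.conj_mem inferInstance _ z.2 g⁻¹⟩
      left_inv := fun z => Subtype.ext (by simp [mul_assoc])
      right_inv := fun z => Subtype.ext (by simp [mul_assoc])
      map_mul' := fun a b => Subtype.ext (by simp) }
  have h1 : (fun z : Z => act T f g ⟨z, hZT z.2⟩) =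
      fun z => (fun w : Z => f ⟨w, hZT w.2⟩) (cz z) := by
    funext z; rw [hact]; rfl
  have h2 : (θ : Z → ℂ) = fun z => (θ : Z → ℂ) (cz z) := (h.inv g).symm
  rw [h1, h2]
  refine fun h0 => hover ?_
  exact (classInner_comp_equiv cz (fun w : Z => f ⟨w, hZT w.2⟩) (θ : Z → ℂ)).symm.trans h0

/-- The structure of the irreducibles of `T = S ⊓ K` above `θ`. -/
theorem Ramified.orbit_structure (h : Ramified Z χ θ e) {p : ℕ} [Fact p.Prime] {S T : Subgroup H}
    [Fintype T] (hZT : Z ≤ T) (hTS : T ≤ S) (hSn : S ≤ Subgroup.normalizer (T : Set H)) {k : ℕ}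
    (hk : Z.relIndex S = p ^ k) (hp : ¬ p ∣ S.index) :
    ∃ φ : T → ℂ, (IsIrrCharacter T φ ∧
        classInner (fun z : Z => φ ⟨z, hZT z.2⟩) (θ : Z → ℂ) ≠ 0) ∧
      (∀ φ' : T → ℂ, IsIrrCharacter T φ' →
        classInner (fun z : Z => φ' ⟨z, hZT z.2⟩) (θ : Z → ℂ) ≠ 0 → ∃ s ∈ S, act T φ s = φ') ∧
      ((haveI := Subgroup.normal_subgroupOf_of_le_normalizer hSn
        IsCyclic (S ⧸ T.subgroupOf S)) → ∀ s ∈ S, act T φ s = φ → s ∈ T) := by
  classical
  haveI hn := Subgroup.normal_subgroupOf_of_le_normalizer hSn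
  letI : Fintype S := Fintype.ofFinite S
  letI : Fintype ↥(T.subgroupOf S) := Fintype.ofFinite _
  letI : Fintype ↥(Z.subgroupOf S) := Fintype.ofFinite _
  have hZS := hZT.trans hTS
  obtain ⟨⟨ξ, hξ⟩, huniq⟩ := h.unique_over hZS (p := p) hk hp
  set T' := T.subgroupOf S
  set eT := Subgroup.subgroupOfEquivOfLe hTS
  -- restrictions to `Z` through `T`
  have hexp : ∀ ω : S → ℂ, IsClassFunction S ω →
      classInner (fun z : ↥(Z.subgroupOf S) => ω z) (lift S θ) =
        ∑ φ : IrrCharacter T, classInner (fun t : T => ω (eT.symm t)) (φ : T → ℂ) *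
          classInner (fun z : Z => (φ : T → ℂ) ⟨z, hZT z.2⟩) (θ : Z → ℂ) := by
    intro ω hω
    rw [show (fun z : ↥(Z.subgroupOf S) => ω z) = lift S (fun z : Z => ω ⟨z, hZS z.2⟩) from rfl,
      classInner_lift hZS]
    have hcl : IsClassFunction T (fun t : T => ω (eT.symm t)) :=
      isClassFunction_comp ((T').subtype.comp eT.symm.toMonoidHom) hω
    have h1 := classFunction_expansion hcl
    rw [show (fun z : Z => ω ⟨z, hZS z.2⟩) =
      fun z : Z => (fun t : T => ω (eT.symm t)) ⟨z, hZT z.2⟩ from funext fun z => rfl, h1]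
    simp only [Finset.sum_apply, Pi.smul_apply, smul_eq_mul]
    rw [show (fun z : Z => ∑ φ : IrrCharacter T, classInner (fun t : T => ω (eT.symm t))
        (φ : T → ℂ) * (φ : T → ℂ) ⟨z, hZT z.2⟩) = ∑ φ : IrrCharacter T,
        classInner (fun t : T => ω (eT.symm t)) (φ : T → ℂ) •
          fun z : Z => (φ : T → ℂ) ⟨z, hZT z.2⟩ from funext fun z => by simp, classInner_sum_left]
    exact Finset.sum_congr rfl fun φ _ => by rw [classInner_smul_left, ← h1]
  obtain ⟨φ0, hφ0a, hφ0⟩ : ∃ φ : IrrCharacter T,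
      classInner (fun t : T => (ξ : S → ℂ) (eT.symm t)) (φ : T → ℂ) ≠ 0 ∧
      classInner (fun z : Z => (φ : T → ℂ) ⟨z, hZT z.2⟩) (θ : Z → ℂ) ≠ 0 := by
    rw [hexp _ (isClassFunction_irr ξ)] at hξ
    obtain ⟨φ, -, hφ⟩ := Finset.exists_ne_zero_of_sum_ne_zero hξ
    exact ⟨φ, left_ne_zero_of_mul hφ, right_ne_zero_of_mul hφ⟩
  -- every irreducible of `S` above a constituent is `ξ`
  have habove : ∀ φ : IrrCharacter T,
      classInner (fun z : Z => (φ : T → ℂ) ⟨z, hZT z.2⟩) (θ : Z → ℂ) ≠ 0 →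
      ∀ η : S → ℂ, IsIrrCharacter S η →
      classInner (fun t : T' => η t) (fun t => (φ : T → ℂ) (eT t)) ≠ 0 → η = (ξ : S → ℂ) := by
    intro φ hφ η hη hcon
    have hφ' : IsIrrCharacter T' (fun t => (φ : T → ℂ) (eT t)) :=
      (isIrrCharacter_comp_equiv eT).mpr φ.2
    refine congrArg Subtype.val (huniq ⟨η, hη⟩ ξ ?_ hξ)
    have hcl := isClassFunction_irr (⟨η, hη⟩ : IrrCharacter S)
    rw [hexp _ hcl]
    intro h0
    choose a ha using fun ψ : IrrCharacter T => exists_nat_classInner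
      (isCharacter_comp ((T').subtype.comp eT.symm.toMonoidHom) (isCharacter_of_isIrr hη))
      (isCharacter_of_isIrr ψ.2)
    choose b hb using fun ψ : IrrCharacter T => exists_nat_classInner
      (isCharacter_comp (Subgroup.inclusion hZT) (isCharacter_of_isIrr ψ.2))
      (isCharacter_of_isIrr θ.2)
    have ha' : ∀ ψ : IrrCharacter T,
        classInner (fun t : T => η (eT.symm t)) (ψ : T → ℂ) = a ψ := ha
    have hb' : ∀ ψ : IrrCharacter T,
        classInner (fun z : Z => (ψ : T → ℂ) ⟨z, hZT z.2⟩) (θ : Z → ℂ) = b ψ := hb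
    simp only [ha', hb'] at h0
    have h1 : ∑ ψ : IrrCharacter T, a ψ * b ψ = 0 := by exact_mod_cast h0
    have h2 := Finset.sum_eq_zero_iff.mp h1 φ (Finset.mem_univ _)
    have haφ : a φ ≠ 0 := by
      intro h3
      apply hcon
      rw [← classInner_comp_equiv eT.symm]
      simpa [h3] using ha' φ
    have hbφ : b φ ≠ 0 := fun h3 => hφ (by rw [hb', h3, Nat.cast_zero])
    exact mul_ne_zero haφ hbφ h2
  have hφ0' : IsIrrCharacter T' (fun t => (φ0 : T → ℂ) (eT t)) :=
    (isIrrCharacter_comp_equiv eT).mpr φ0.2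
  have hξφ0 : classInner (fun t : T' => (ξ : S → ℂ) t) (fun t => (φ0 : T → ℂ) (eT t)) ≠ 0 := by
    rw [← classInner_comp_equiv eT.symm]
    simpa using hφ0a
  refine ⟨φ0, ⟨φ0.2, hφ0⟩, fun φ' hφ' hover' => ?_, fun hcyc s hs hfix => ?_⟩
  · have hirr' : IsIrrCharacter T' (fun t => φ' (eT t)) := (isIrrCharacter_comp_equiv eT).mpr hφ'
    -- `φ'` has some irreducible of `S` above it
    obtain ⟨η, hη⟩ : ∃ η : IrrCharacter S,
        classInner (fun t : T' => (η : S → ℂ) t) (fun t => φ' (eT t)) ≠ 0 := by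
      by_contra hno
      push Not at hno
      have h0 : indFun T' (fun t => φ' (eT t)) = 0 := by
        rw [classFunction_expansion (isClassFunction_indFun T' _)]
        refine Finset.sum_eq_zero fun η _ => ?_
        rw [← classInner_conj_symm, frobenius_reciprocity' T' _ (isClassFunction_irr η), hno,
          map_zero, zero_smul]
      have h1 := congrFun h0 1
      rw [indFun_one, Pi.zero_apply] at h1
      exact mul_ne_zero (Nat.cast_ne_zero.mpr Subgroup.index_ne_zero_of_finite)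
        (irr_degree_ne_zero hirr') h1
    rw [habove ⟨φ', hφ'⟩ hover' η η.2 hη] at hη
    rw [clifford T' ξ.2 hφ0' hξφ0, classInner_smul_left, classInner_sum_left] at hη
    obtain ⟨ψ, hψ, hψ'⟩ := Finset.exists_ne_zero_of_sum_ne_zero (right_ne_zero_of_mul hη)
    obtain ⟨s, rfl⟩ := (mem_orbit T').mp hψ
    rw [classInner_irr (isIrrCharacter_conjBy T' hφ0' s) hirr', ite_ne_right_iff] at hψ'
    refine ⟨s, s.2, funext fun t => ?_⟩
    rw [act_apply T _ (hSn s.2)]
    have := congrFun hψ'.1 (eT.symm t)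
    rw [MulEquiv.apply_symm_apply] at this
    exact this
  · have hIn := inertia_of_unique T' hcyc hφ0' (ξ := (ξ : S → ℂ)) fun η hη hcon =>
      habove φ0 hφ0 η hη hcon
    refine Subgroup.mem_subgroupOf.mp (hIn (x := (⟨s, hs⟩ : S)) ((mem_inertia T').mpr ?_))
    funext t
    have := congrFun hfix (eT t)
    rw [act_apply T _ (hSn hs)] at this
    exact this

/-- A regular orbit on the irreducibles above `θ` gives a complement. -/
theorem Ramified.exists_complement_aux (h : Ramified Z χ θ e) (K : Subgroup H) [K.Normal]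
    (hZK : Z ≤ K) {p : ℕ} [Fact p.Prime] (S0 : Sylow p (H ⧸ Z))
    [Fintype ↥((S0 : Subgroup (H ⧸ Z)).comap (QuotientGroup.mk' Z) ⊓ K)]
    (hreg : ∀ f : ↥((S0 : Subgroup (H ⧸ Z)).comap (QuotientGroup.mk' Z) ⊓ K) → ℂ,
      IsIrrCharacter _ f →
      (∀ hZ : Z ≤ (S0 : Subgroup (H ⧸ Z)).comap (QuotientGroup.mk' Z) ⊓ K,
        classInner (fun z : Z => f ⟨z, hZ z.2⟩) (θ : Z → ℂ) ≠ 0) →
      ∀ s ∈ (S0 : Subgroup (H ⧸ Z)).comap (QuotientGroup.mk' Z),
        act _ f s = f → s ∈ K) :
    ∃ M : Subgroup (H ⧸ K), M.IsComplement'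
      (((S0 : Subgroup (H ⧸ Z)).comap (QuotientGroup.mk' Z)).map (QuotientGroup.mk' K)) := by
  classical
  let q : H →* H ⧸ Z := QuotientGroup.mk' Z
  let π : H →* H ⧸ K := QuotientGroup.mk' K
  have hπs : Function.Surjective π := QuotientGroup.mk'_surjective K
  have hqs : Function.Surjective q := QuotientGroup.mk'_surjective Z
  set S := (S0 : Subgroup (H ⧸ Z)).comap q with hSdef
  have hZS : Z ≤ S := fun z hz => by
    show q z ∈ (S0 : Subgroup (H ⧸ Z))
    rw [show q z = 1 from (QuotientGroup.eq_one_iff z).mpr hz]; exact one_mem _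
  set T := S ⊓ K
  have hZT : Z ≤ T := le_inf hZS hZK
  have hSn : S ≤ Subgroup.normalizer (T : Set H) := by
    intro s hs
    rw [Subgroup.mem_normalizer_iff]
    intro t
    constructor
    · rintro ⟨h1, h2⟩
      exact ⟨S.mul_mem (S.mul_mem hs h1) (S.inv_mem hs), Subgroup.Normal.conj_mem ‹_› t h2 s⟩
    · rintro ⟨h1, h2⟩
      have h3 := mul_mem (mul_mem (inv_mem hs) h1) hs
      have h4 := Subgroup.Normal.conj_mem ‹_› _ h2 s⁻¹
      rw [inv_inv, show s⁻¹ * (s * t * s⁻¹) * s = t by group] at h4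
      rw [show s⁻¹ * (s * t * s⁻¹) * s = t by group] at h3
      exact ⟨h3, h4⟩
  obtain ⟨k, hk⟩ := S0.2.exists_card_eq
  have hk' : Z.relIndex S = p ^ k := by
    rw [← hk, hSdef]
    have := Subgroup.relIndex_comap (f := q) (⊥ : Subgroup (H ⧸ Z)) S
    rw [MonoidHom.comap_bot, QuotientGroup.ker_mk', Subgroup.map_comap_eq_self_of_surjective hqs,
      Subgroup.relIndex_bot_left] at this
    exact this
  have hpS : ¬ p ∣ S.index := by
    rw [hSdef, Subgroup.index_comap_of_surjective _ hqs]; exact S0.not_dvd_index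
  obtain ⟨φ, ⟨hφ, hover⟩, htrans, -⟩ :=
    h.orbit_structure hZT inf_le_left hSn hk' hpS
  have hstab : ∀ s ∈ S, act T φ s = φ → s ∈ T := fun s hs hfix =>
    ⟨hs, hreg φ hφ (fun _ => hover) s hs hfix⟩
  set N := Subgroup.normalizer (T : Set H)
  let M : Subgroup H :=
    { carrier := {g | g ∈ N ∧ act T φ g = φ}
      one_mem' := ⟨N.one_mem, act_one T φ⟩
      mul_mem' := fun {a b} ha hb => ⟨N.mul_mem ha.1 hb.1, by rw [act_mul T φ ha.1 hb.1, ha.2, hb.2]⟩
      inv_mem' := fun {a} ha => ⟨N.inv_mem ha.1, by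
        conv_lhs => rw [← ha.2, ← act_mul T φ ha.1 (N.inv_mem ha.1), mul_inv_cancel, act_one]⟩ }
  have hMN : M ≤ N := fun g hg => hg.1
  have hTM : T ≤ M := fun t ht => ⟨Subgroup.le_normalizer ht, funext fun u => by
    rw [act_apply T _ (Subgroup.le_normalizer ht)]
    exact isClassFunction_irr (⟨φ, hφ⟩ : IrrCharacter T) u ⟨t, ht⟩⟩
  have hdecomp : ∀ g ∈ N, ∃ m ∈ M, ∃ s ∈ S, g = m * s := by
    intro g hg
    obtain ⟨h1, h2⟩ := h.act_over hZT hφ hover hg
    obtain ⟨s, hs, hse⟩ := htrans _ h1 h2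
    refine ⟨g * s⁻¹, ⟨mul_mem hg (inv_mem (hSn hs)), ?_⟩, s, hs, by group⟩
    rw [act_mul T φ hg (inv_mem (hSn hs)), ← hse, ← act_mul T φ (hSn hs) (inv_mem (hSn hs)),
      mul_inv_cancel, act_one]
  have hMS : M ⊓ S ≤ T := fun g hg => hstab g hg.2 hg.1.2
  -- the part of `N` inside `K` fixes `φ`
  have hL : N ⊓ K ≤ M := by
    set M' := M.subgroupOf N
    set L' := K.subgroupOf N
    have hr : M'.relIndex L' ∣ M'.index := ClassGraph.relIndex_dvd_of_normal _ _
    have hMi : M'.index = T.relIndex S := by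
      let F : S ⧸ T.subgroupOf S → N ⧸ M' := Quotient.lift
        (fun s : S => ((⟨(s : H), hSn s.2⟩ : N) : N ⧸ M')) (fun a b hab => by
          have h1 : a⁻¹ * b ∈ T.subgroupOf S := QuotientGroup.leftRel_apply.mp hab
          refine QuotientGroup.eq.mpr ?_
          exact hTM (Subgroup.mem_subgroupOf.mp h1))
      rw [Subgroup.index_eq_card, Subgroup.relIndex, Subgroup.index_eq_card]
      refine (Nat.card_congr (Equiv.ofBijective F ⟨?_, ?_⟩)).symm
      · rintro ⟨a⟩ ⟨b⟩ hab
        refine QuotientGroup.eq.mpr ?_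
        exact hMS ⟨(QuotientGroup.eq (s := M')).mp (show ((⟨(a : H), hSn a.2⟩ : N) : N ⧸ M') =
          ((⟨(b : H), hSn b.2⟩ : N) : N ⧸ M') from hab), (a⁻¹ * b).2⟩
      · rintro ⟨g, hg⟩
        obtain ⟨m, hm, s, hs, he⟩ := hdecomp g⁻¹ (inv_mem hg)
        refine ⟨((⟨s⁻¹, inv_mem hs⟩ : S) : S ⧸ T.subgroupOf S), QuotientGroup.eq.mpr ?_⟩
        show (s⁻¹)⁻¹ * g ∈ M
        have : s * g = m⁻¹ := by
          rw [show g = (g⁻¹)⁻¹ by rw [inv_inv], he]
          group
        rw [inv_inv, this]; exact inv_mem hm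
    have hTp : T.relIndex S ∣ p ^ k := hk' ▸ Subgroup.relIndex_dvd_of_le_left S hZT
    have hpK : ¬ p ∣ T.relIndex (N ⊓ K) := by
      intro hd
      refine hpS (hd.trans ?_)
      have h1 : T.relIndex (N ⊓ K) ∣ T.relIndex K := by
        rw [← Subgroup.relIndex_mul_relIndex T (N ⊓ K) K (le_inf Subgroup.le_normalizer inf_le_right)
          inf_le_right]
        exact dvd_mul_right _ _
      refine h1.trans ?_
      show (S ⊓ K).relIndex K ∣ S.index
      rw [Subgroup.inf_relIndex_right]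
      exact ClassGraph.relIndex_dvd_of_normal _ _
    have hrel : M'.relIndex L' = M.relIndex (N ⊓ K) := by
      show (M.subgroupOf N).relIndex (K.subgroupOf N) = _
      rw [← Subgroup.relIndex_subgroupOf (H := M) (K := N ⊓ K) inf_le_left]
      congr 1
      ext u
      simp [Subgroup.mem_subgroupOf]
    rw [hMi, hrel] at hr
    rw [← Subgroup.relIndex_eq_one]
    have h2 : M.relIndex (N ⊓ K) ∣ T.relIndex (N ⊓ K) :=
      Subgroup.relIndex_dvd_of_le_left _ hTM
    exact Nat.eq_one_of_dvd_coprimes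
      ((((Fact.out : p.Prime).coprime_iff_not_dvd).mpr hpK).pow_left k) (hr.trans hTp) h2
  -- `N` covers the quotient
  have hNK : ∀ g : H, ∃ n ∈ N, ∃ w ∈ K, g = n * w := by
    intro g
    set T0 := (S0 : Subgroup (H ⧸ Z)) ⊓ K.map q
    haveI : (K.map q).Normal := Subgroup.Normal.map inferInstance q hqs
    have hT0 : T0 = T.map q := by
      refine le_antisymm ?_ (le_inf ?_ (Subgroup.map_mono inf_le_right))
      · rintro _ ⟨h1, w, hw, rfl⟩
        exact ⟨w, ⟨h1, hw⟩, rfl⟩
      · rintro _ ⟨w, hw, rfl⟩; exact hw.1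
    have hpK' : ¬ p ∣ (T0.subgroupOf (K.map q)).index := by
      intro hd
      refine S0.not_dvd_index (hd.trans ?_)
      show (((S0 : Subgroup (H ⧸ Z)) ⊓ K.map q)).relIndex (K.map q) ∣ _
      rw [Subgroup.inf_relIndex_right]
      exact ClassGraph.relIndex_dvd_of_normal _ _
    let T1 : Sylow p (K.map q) := ((S0.2.to_le (inf_le_left : T0 ≤ _)).of_equiv
      (Subgroup.subgroupOfEquivOfLe (inf_le_right : T0 ≤ K.map q)).symm).toSylow hpK'
    have htop := Sylow.normalizer_sup_eq_top T1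
    rw [show ((T1 : Subgroup (K.map q))).map (K.map q).subtype = T0 by
      show (T0.subgroupOf (K.map q)).map (K.map q).subtype = T0
      rw [Subgroup.subgroupOf_map_subtype, inf_eq_left.mpr inf_le_right]] at htop
    have hg : q g ∈ ((Subgroup.normalizer (T0 : Set (H ⧸ Z)) ⊔ K.map q : Subgroup _) : Set _) := by
      rw [htop]; exact Subgroup.mem_top _
    rw [Subgroup.mul_normal] at hg
    obtain ⟨a, ha, b, ⟨w, hw, rfl⟩, hab⟩ := Set.mem_mul.mp hg
    obtain ⟨n, rfl⟩ := hqs a
    refine ⟨g * w⁻¹, ?_, w, hw, by group⟩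
    have hq : q (g * w⁻¹) = q n := by rw [map_mul, ← hab, map_inv]; group
    rw [Subgroup.mem_normalizer_iff]
    intro t
    have h3 : ∀ u : H, u ∈ T ↔ q u ∈ T0 := by
      intro u
      rw [hT0]
      refine ⟨fun hu => ⟨u, hu, rfl⟩, ?_⟩
      rintro ⟨v, hv, hvu⟩
      have : v⁻¹ * u ∈ Z := by
        rw [← QuotientGroup.eq_one_iff (N := Z)]
        show q (v⁻¹ * u) = 1
        rw [map_mul, map_inv, hvu, inv_mul_cancel]
      simpa using mul_mem hv (hZT this)
    rw [h3, h3, map_mul, map_mul, map_inv, hq]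
    exact Subgroup.mem_normalizer_iff.mp ha (q t)
  refine ⟨M.map π, ?_⟩
  refine Subgroup.isComplement'_of_disjoint_and_mul_eq_univ ?_ (Set.eq_univ_of_forall fun y => ?_)
  · rw [disjoint_iff, eq_bot_iff]
    rintro _ ⟨⟨m, hm, rfl⟩, s, hs, hsm⟩
    have hmK : m⁻¹ * s ∈ K := by
      rw [← QuotientGroup.eq_one_iff (N := K)]
      show π (m⁻¹ * s) = 1
      rw [map_mul, map_inv, hsm, inv_mul_cancel]
    have hsM : s ∈ M := by
      have := M.mul_mem hm (hL (Subgroup.mem_inf.mpr ⟨N.mul_mem (N.inv_mem (hMN hm)) (hSn hs), hmK⟩))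
      rwa [mul_inv_cancel_left] at this
    rw [Subgroup.mem_bot, ← hsm]
    exact (QuotientGroup.eq_one_iff s).mpr (hMS ⟨hsM, hs⟩).2
  · obtain ⟨g, rfl⟩ := hπs y
    obtain ⟨n, hn, w, hw, rfl⟩ := hNK g
    obtain ⟨m, hm, s, hs, rfl⟩ := hdecomp n hn
    refine Set.mem_mul.mpr ⟨π m, ⟨m, hm, rfl⟩, π s, ⟨s, hs, rfl⟩, ?_⟩
    rw [map_mul π (m * s) w, map_mul, show π w = 1 from (QuotientGroup.eq_one_iff w).mpr hw,
      mul_one]

/-- The main statement. -/
theorem Ramified.exists_complement (h : Ramified Z χ θ e) (K : Subgroup H) [K.Normal]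
    (hZK : Z ≤ K) {p : ℕ} [Fact p.Prime] (P : Sylow p (H ⧸ K)) (hcyc : IsCyclic P) :
    ∃ M : Subgroup (H ⧸ K), M.IsComplement' (P : Subgroup (H ⧸ K)) := by
  classical
  let q : H →* H ⧸ Z := QuotientGroup.mk' Z
  let π : H →* H ⧸ K := QuotientGroup.mk' K
  have hπs : Function.Surjective π := QuotientGroup.mk'_surjective K
  have hqs : Function.Surjective q := QuotientGroup.mk'_surjective Z
  let r : H ⧸ Z →* H ⧸ K := QuotientGroup.map Z K (MonoidHom.id H) hZK
  have hrs : Function.Surjective r := fun y => by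
    obtain ⟨g, rfl⟩ := hπs y; exact ⟨q g, rfl⟩
  obtain ⟨S0, hS0⟩ := Sylow.mapSurjective_surjective hrs p P
  set S := (S0 : Subgroup (H ⧸ Z)).comap q with hSdef
  have hZS : Z ≤ S := fun z hz => by
    show q z ∈ (S0 : Subgroup (H ⧸ Z))
    rw [show q z = 1 from (QuotientGroup.eq_one_iff z).mpr hz]; exact one_mem _
  have hmapS : S.map π = (P : Subgroup (H ⧸ K)) := by
    rw [← hS0, Sylow.coe_mapSurjective, hSdef]
    ext y
    constructor
    · rintro ⟨g, hg, rfl⟩; exact ⟨q g, hg, rfl⟩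
    · rintro ⟨u, hu, rfl⟩
      obtain ⟨g, rfl⟩ := hqs u
      exact ⟨g, hu, rfl⟩
  haveI : Fintype ↥(S ⊓ K) := Fintype.ofFinite _
  set T := S ⊓ K with hTdef
  have hZT : Z ≤ T := le_inf hZS hZK
  have hSn : S ≤ Subgroup.normalizer (T : Set H) := by
    intro s hs
    rw [Subgroup.mem_normalizer_iff]
    intro t
    constructor
    · rintro ⟨h1, h2⟩
      exact ⟨S.mul_mem (S.mul_mem hs h1) (S.inv_mem hs), Subgroup.Normal.conj_mem ‹_› t h2 s⟩
    · rintro ⟨h1, h2⟩
      have h3 := mul_mem (mul_mem (inv_mem hs) h1) hs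
      have h4 := Subgroup.Normal.conj_mem ‹_› _ h2 s⁻¹
      rw [inv_inv, show s⁻¹ * (s * t * s⁻¹) * s = t by group] at h4
      rw [show s⁻¹ * (s * t * s⁻¹) * s = t by group] at h3
      exact ⟨h3, h4⟩
  obtain ⟨k, hk⟩ := S0.2.exists_card_eq
  have hk' : Z.relIndex S = p ^ k := by
    rw [← hk, hSdef]
    have := Subgroup.relIndex_comap (f := q) (⊥ : Subgroup (H ⧸ Z)) S
    rw [MonoidHom.comap_bot, QuotientGroup.ker_mk', Subgroup.map_comap_eq_self_of_surjective hqs,
      Subgroup.relIndex_bot_left] at this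
    exact this
  have hpS : ¬ p ∣ S.index := by
    rw [hSdef, Subgroup.index_comap_of_surjective _ hqs]; exact S0.not_dvd_index
  haveI := Subgroup.normal_subgroupOf_of_le_normalizer hSn
  have hcS : IsCyclic (S ⧸ T.subgroupOf S) := by
    let f : S →* (P : Subgroup (H ⧸ K)) := (π.comp S.subtype).codRestrict _
      (fun s => hmapS ▸ ⟨(s : H), s.2, rfl⟩)
    have hker : ∀ s : S, f s = 1 ↔ s ∈ T.subgroupOf S := fun s => by
      rw [Subgroup.mem_subgroupOf]
      refine ⟨fun hs => ⟨s.2, (QuotientGroup.eq_one_iff (s : H)).mp (congrArg Subtype.val hs)⟩,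
        fun hs => Subtype.ext ((QuotientGroup.eq_one_iff (s : H)).mpr hs.2)⟩
    haveI : IsCyclic (P : Subgroup (H ⧸ K)) := hcyc
    refine isCyclic_of_injective (QuotientGroup.lift (T.subgroupOf S) f
      fun s hs => (hker s).mpr hs) ?_
    rw [injective_iff_map_eq_one]
    intro u hu
    induction u using QuotientGroup.induction_on with
    | _ s => exact (QuotientGroup.eq_one_iff s).mpr ((hker s).mp hu)
  obtain ⟨φ, ⟨hφ, hover⟩, htrans, hstab⟩ :=
    h.orbit_structure hZT inf_le_left hSn hk' hpS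
  rw [← hmapS]
  refine h.exists_complement_aux K hZK S0 fun f hf hfo s hs hfix => ?_
  -- every irreducible above `θ` is a conjugate of `φ`
  obtain ⟨u, hu, rfl⟩ := htrans f hf (hfo hZT)
  have h1 : act T φ (u * s * u⁻¹) = φ := by
    rw [act_mul T φ (mul_mem (hSn hu) (hSn hs)) (inv_mem (hSn hu)), act_mul T φ (hSn hu) (hSn hs),
      hfix, ← act_mul T φ (hSn hu) (inv_mem (hSn hu)), mul_inv_cancel, act_one]
  have h2 := (hstab hcS _ (mul_mem (mul_mem hu hs) (inv_mem hu)) h1).2
  have h3 := Subgroup.Normal.conj_mem ‹_› _ h2 u⁻¹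
  rwa [inv_inv, show u⁻¹ * (u * s * u⁻¹) * u = s by group] at h3

end CfsgLib.Char.CyclicRamified
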