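import Cfsg.Prelude.Def_OddOrderLocal
import Cfsg.Agent.Lib.Char.TI
import Mathlib.GroupTheory.NoncommCoprod
import Mathlib.GroupTheory.FiniteAbelian.Duality

/-!
# Linear characters of `W = W₁ ⊔ W₂` for commuting, disjoint `W₁`, `W₂`
-/

set_option autoImplicit false

namespace CfsgLib.Char.CyclicTI

open Cfsg
open scoped ComplexConjugate CfsgLib.Char

variable {G : Type*} [Group G] {W₁ W₂ : Subgroup G}

/-- The part of `W₁ ⊔ W₂` outside both factors. -/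
def tiPart (W₁ W₂ : Subgroup G) : Set G := (↑(W₁ ⊔ W₂) : Set G) \ (↑W₁ ∪ ↑W₂)

theorem mem_tiPart_iff (w : ↥(W₁ ⊔ W₂)) :
    (w : G) ∈ tiPart W₁ W₂ ↔ (w : G) ∉ W₁ ∧ (w : G) ∉ W₂ := by
  simp [tiPart]

variable (W₁ W₂) in
/-- A linear character of `W` that is trivial on `W₂`. -/
abbrev TrivR := {φ : ↥(W₁ ⊔ W₂) →* ℂˣ // ∀ w : ↥(W₁ ⊔ W₂), (w : G) ∈ W₂ → φ w = 1}

variable (W₁ W₂) in
/-- A linear character of `W` that is trivial on `W₁`. -/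
abbrev TrivL := {φ : ↥(W₁ ⊔ W₂) →* ℂˣ // ∀ w : ↥(W₁ ⊔ W₂), (w : G) ∈ W₁ → φ w = 1}

/-- `(1 - φ)(1 - ψ)`, written out. -/
noncomputable def alpha (φ ψ : ↥(W₁ ⊔ W₂) →* ℂˣ) : ↥(W₁ ⊔ W₂) → ℂ :=
  fun w => 1 - (φ w : ℂ) - (ψ w : ℂ) + (φ w : ℂ) * (ψ w : ℂ)

theorem alpha_zero {φ ψ : ↥(W₁ ⊔ W₂) →* ℂˣ}
    (hφ : ∀ w : ↥(W₁ ⊔ W₂), (w : G) ∈ W₂ → φ w = 1)
    (hψ : ∀ w : ↥(W₁ ⊔ W₂), (w : G) ∈ W₁ → ψ w = 1)
    (w : ↥(W₁ ⊔ W₂)) (hw : (w : G) ∉ tiPart W₁ W₂) : alpha φ ψ w = 0 := by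
  rw [mem_tiPart_iff, not_and_or, not_not, not_not] at hw
  rcases hw with h | h
  · simp [alpha, hψ w h]
  · simp [alpha, hφ w h]

theorem hom_ext_of_agree {M : Type*} [Monoid M] {f f' : ↥(W₁ ⊔ W₂) →* M}
    (h1 : ∀ w : ↥(W₁ ⊔ W₂), (w : G) ∈ W₁ → f w = f' w)
    (h2 : ∀ w : ↥(W₁ ⊔ W₂), (w : G) ∈ W₂ → f w = f' w) : f = f' := by
  have h : W₁ ⊔ W₂ ≤ (MonoidHom.eqLocus f f').map (W₁ ⊔ W₂).subtype :=
    sup_le (fun x hx => ⟨⟨x, Subgroup.mem_sup_left hx⟩, h1 _ hx, rfl⟩)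
      (fun x hx => ⟨⟨x, Subgroup.mem_sup_right hx⟩, h2 _ hx, rfl⟩)
  refine MonoidHom.ext fun w => ?_
  obtain ⟨v, hv, hvw⟩ := h w.2
  rw [← Subtype.ext hvw]
  exact hv

theorem split_unique {φ φ' ψ ψ' : ↥(W₁ ⊔ W₂) →* ℂˣ}
    (hφ : ∀ w : ↥(W₁ ⊔ W₂), (w : G) ∈ W₂ → φ w = 1)
    (hφ' : ∀ w : ↥(W₁ ⊔ W₂), (w : G) ∈ W₂ → φ' w = 1)
    (hψ : ∀ w : ↥(W₁ ⊔ W₂), (w : G) ∈ W₁ → ψ w = 1)
    (hψ' : ∀ w : ↥(W₁ ⊔ W₂), (w : G) ∈ W₁ → ψ' w = 1)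
    (h : φ * ψ = φ' * ψ') : φ = φ' ∧ ψ = ψ' := by
  have key : φ = φ' := hom_ext_of_agree
    (fun w hw => by
      have := DFunLike.congr_fun h w
      rwa [MonoidHom.mul_apply, MonoidHom.mul_apply, hψ w hw, hψ' w hw, mul_one, mul_one] at this)
    (fun w hw => by rw [hφ w hw, hφ' w hw])
  subst key
  exact ⟨rfl, mul_left_cancel h⟩

theorem hom_one_mul (φ : ↥(W₁ ⊔ W₂) →* ℂˣ) : (1 : ↥(W₁ ⊔ W₂) →* ℂˣ) * φ = φ :=
  MonoidHom.ext fun _ => one_mul _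

theorem hom_mul_one (φ : ↥(W₁ ⊔ W₂) →* ℂˣ) : φ * (1 : ↥(W₁ ⊔ W₂) →* ℂˣ) = φ :=
  MonoidHom.ext fun _ => mul_one _

theorem exists_proj (hdisj : W₁ ⊓ W₂ = ⊥) (hcomm : ∀ a ∈ W₁, ∀ b ∈ W₂, a * b = b * a) :
    ∃ p q : ↥(W₁ ⊔ W₂) →* ↥(W₁ ⊔ W₂), (∀ w, (p w : G) ∈ W₁) ∧ (∀ w, (q w : G) ∈ W₂) ∧
      (∀ w, p w * q w = w) ∧ (∀ w : ↥(W₁ ⊔ W₂), (w : G) ∈ W₁ → p w = w ∧ q w = 1) ∧
      (∀ w : ↥(W₁ ⊔ W₂), (w : G) ∈ W₂ → p w = 1 ∧ q w = w) := by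
  let f : W₁ × W₂ →* ↥(W₁ ⊔ W₂) := MonoidHom.noncommCoprod
    (Subgroup.inclusion le_sup_left) (Subgroup.inclusion le_sup_right)
    (fun a b => Subtype.ext (hcomm a a.2 b b.2))
  have hf : ∀ x, (f x : G) = (x.1 : G) * (x.2 : G) := fun x => rfl
  have hinj : Function.Injective f := by
    refine (injective_iff_map_eq_one f).mpr fun x hx => ?_
    have h1 : (x.1 : G) * x.2 = 1 := by rw [← hf, hx]; rfl
    have h2 : (x.1 : G) ∈ W₁ ⊓ W₂ :=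
      ⟨x.1.2, by rw [eq_inv_of_mul_eq_one_left h1]; exact W₂.inv_mem x.2.2⟩
    rw [hdisj, Subgroup.mem_bot] at h2
    rw [h2, one_mul] at h1
    exact Prod.ext (Subtype.ext h2) (Subtype.ext h1)
  have hsurj : Function.Surjective f := by
    intro w
    have h : W₁ ⊔ W₂ ≤ f.range.map (W₁ ⊔ W₂).subtype :=
      sup_le (fun x hx => ⟨f (⟨x, hx⟩, 1), ⟨_, rfl⟩, by simp [hf]⟩)
        (fun x hx => ⟨f (1, ⟨x, hx⟩), ⟨_, rfl⟩, by simp [hf]⟩)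
    obtain ⟨v, ⟨x, rfl⟩, hv⟩ := h w.2
    exact ⟨x, Subtype.ext hv⟩
  let e := MulEquiv.ofBijective f ⟨hinj, hsurj⟩
  refine ⟨(Subgroup.inclusion le_sup_left).comp ((MonoidHom.fst W₁ W₂).comp e.symm.toMonoidHom),
    (Subgroup.inclusion le_sup_right).comp ((MonoidHom.snd W₁ W₂).comp e.symm.toMonoidHom),
    fun w => (e.symm w).1.2, fun w => (e.symm w).2.2, fun w => e.apply_symm_apply w, ?_, ?_⟩
  · intro w hw
    have he : e.symm w = (⟨w, hw⟩, 1) := by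
      rw [MulEquiv.symm_apply_eq]
      exact Subtype.ext (show (w : G) = (f _ : G) by simp [hf])
    constructor
    · exact Subtype.ext (by simp [he])
    · exact Subtype.ext (by simp [he])
  · intro w hw
    have he : e.symm w = (1, ⟨w, hw⟩) := by
      rw [MulEquiv.symm_apply_eq]
      exact Subtype.ext (show (w : G) = (f _ : G) by simp [hf])
    constructor
    · exact Subtype.ext (by simp [he])
    · exact Subtype.ext (by simp [he])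

theorem exists_split (hdisj : W₁ ⊓ W₂ = ⊥) (hcomm : ∀ a ∈ W₁, ∀ b ∈ W₂, a * b = b * a)
    (ω : ↥(W₁ ⊔ W₂) →* ℂˣ) :
    ∃ (φ : TrivR W₁ W₂) (ψ : TrivL W₁ W₂), ω = φ.1 * ψ.1 := by
  obtain ⟨p, q, -, -, hpq, hL, hR⟩ := exists_proj hdisj hcomm
  refine ⟨⟨ω.comp p, fun w hw => ?_⟩, ⟨ω.comp q, fun w hw => ?_⟩, MonoidHom.ext fun w => ?_⟩
  · rw [MonoidHom.comp_apply, (hR w hw).1, map_one]
  · rw [MonoidHom.comp_apply, (hL w hw).2, map_one]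
  · rw [MonoidHom.mul_apply, MonoidHom.comp_apply, MonoidHom.comp_apply, ← map_mul, hpq]

noncomputable instance finiteDual [Finite G] (H : Subgroup G) : Finite (H →* ℂˣ) := by
  haveI : Finite (IrrCharacter H) := finite_irrCharacter
  refine Finite.of_injective
    (fun f => (⟨fun h => (f h : ℂ), isIrrCharacter_monoidHom f⟩ : IrrCharacter H)) fun f f' h => ?_
  exact MonoidHom.ext fun x => Units.ext (congrFun (congrArg Subtype.val h) x)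

open Classical in
theorem classInner_hom {H : Type*} [Group H] [Fintype H] (f f' : H →* ℂˣ) :
    classInner (fun h => (f h : ℂ)) (fun h => (f' h : ℂ)) = if f = f' then 1 else 0 := by
  classical
  by_cases h : f = f'
  · subst h; rw [if_pos rfl, classInner_irr_self (isIrrCharacter_monoidHom f)]
  · rw [if_neg h]
    exact classInner_irr_ne (isIrrCharacter_monoidHom f) (isIrrCharacter_monoidHom f')
      fun e => h (MonoidHom.ext fun x => Units.ext (congrFun e x))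

open Classical in
theorem classInner_alpha_hom [Fintype ↥(W₁ ⊔ W₂)] (φ ψ ω : ↥(W₁ ⊔ W₂) →* ℂˣ) :
    classInner (alpha φ ψ) (fun w => (ω w : ℂ)) =
      (if 1 = ω then 1 else 0) - (if φ = ω then 1 else 0) - (if ψ = ω then 1 else 0) +
        (if φ * ψ = ω then 1 else 0) := by
  classical
  have e : alpha φ ψ = (fun w => ((1 : ↥(W₁ ⊔ W₂) →* ℂˣ) w : ℂ)) - (fun w => (φ w : ℂ)) -
      (fun w => (ψ w : ℂ)) + fun w => ((φ * ψ) w : ℂ) := by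
    funext w; simp [alpha]
  rw [e, classInner_add_left, classInner_sub_left, classInner_sub_left]
  simp only [classInner_hom]

/-- Characters of a commutative `W` trivial on one factor separate the other. -/
theorem exists_sep [Finite G] [IsMulCommutative ↥(W₁ ⊔ W₂)] (K : Subgroup G)
    {w : ↥(W₁ ⊔ W₂)} (hw : (w : G) ∉ K) :
    ∃ φ : ↥(W₁ ⊔ W₂) →* ℂˣ, (∀ v : ↥(W₁ ⊔ W₂), (v : G) ∈ K → φ v = 1) ∧ φ w ≠ 1 := by
  let K' := K.subgroupOf (W₁ ⊔ W₂)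
  haveI : K'.Normal := Subgroup.normal_of_isMulCommutative K'
  letI : CommGroup (↥(W₁ ⊔ W₂) ⧸ K') :=
    { (inferInstance : Group (↥(W₁ ⊔ W₂) ⧸ K')) with
      mul_comm := fun a b => by
        obtain ⟨a, rfl⟩ := QuotientGroup.mk'_surjective K' a
        obtain ⟨b, rfl⟩ := QuotientGroup.mk'_surjective K' b
        rw [← map_mul, ← map_mul, IsMulCommutative.is_comm.comm] }
  haveI : NeZero (Monoid.exponent (↥(W₁ ⊔ W₂) ⧸ K')) :=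
    ⟨Monoid.exponent_ne_zero_of_finite⟩
  obtain ⟨χ, hχ⟩ := CommGroup.exists_apply_ne_one_of_hasEnoughRootsOfUnity
    (↥(W₁ ⊔ W₂) ⧸ K') ℂ (a := QuotientGroup.mk' K' w)
    (fun h => hw (Subgroup.mem_subgroupOf.mp ((QuotientGroup.eq_one_iff w).mp h)))
  refine ⟨χ.comp (QuotientGroup.mk' K'), fun v hv => ?_, hχ⟩
  rw [MonoidHom.comp_apply, QuotientGroup.mk'_apply,
    (QuotientGroup.eq_one_iff v).mpr (Subgroup.mem_subgroupOf.mpr hv), map_one]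

theorem sum_triv [Finite G] [IsMulCommutative ↥(W₁ ⊔ W₂)] (K : Subgroup G)
    [Fintype {φ : ↥(W₁ ⊔ W₂) →* ℂˣ // ∀ w : ↥(W₁ ⊔ W₂), (w : G) ∈ K → φ w = 1}]
    (w : ↥(W₁ ⊔ W₂)) [Decidable ((w : G) ∈ K)] :
    ∑ φ : {φ : ↥(W₁ ⊔ W₂) →* ℂˣ // ∀ w : ↥(W₁ ⊔ W₂), (w : G) ∈ K → φ w = 1}, (φ.1 w : ℂ) =
      if (w : G) ∈ K then
        (Nat.card {φ : ↥(W₁ ⊔ W₂) →* ℂˣ // ∀ w : ↥(W₁ ⊔ W₂), (w : G) ∈ K → φ w = 1} : ℂ)
      else 0 := by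
  split_ifs with h
  · rw [Finset.sum_congr rfl fun φ _ => by rw [φ.2 w h, Units.val_one], Finset.sum_const,
      Finset.card_univ, nsmul_one, Nat.card_eq_fintype_card]
  · obtain ⟨φ₀, h0, h1⟩ := exists_sep K h
    set S := ∑ φ : {φ : ↥(W₁ ⊔ W₂) →* ℂˣ // ∀ w : ↥(W₁ ⊔ W₂), (w : G) ∈ K → φ w = 1},
      (φ.1 w : ℂ) with hS
    have hmul : (φ₀ w : ℂ) * S = S := by
      rw [hS, Finset.mul_sum]
      let e : {φ : ↥(W₁ ⊔ W₂) →* ℂˣ // ∀ w : ↥(W₁ ⊔ W₂), (w : G) ∈ K → φ w = 1} ≃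
          {φ : ↥(W₁ ⊔ W₂) →* ℂˣ // ∀ w : ↥(W₁ ⊔ W₂), (w : G) ∈ K → φ w = 1} :=
        { toFun := fun φ => ⟨φ₀ * φ.1, fun v hv => by simp [h0 v hv, φ.2 v hv]⟩
          invFun := fun φ => ⟨φ₀⁻¹ * φ.1, fun v hv => by simp [h0 v hv, φ.2 v hv]⟩
          left_inv := fun φ => Subtype.ext (inv_mul_cancel_left φ₀ φ.1)
          right_inv := fun φ => Subtype.ext (mul_inv_cancel_left φ₀ φ.1) }
      exact Fintype.sum_equiv e _ _ fun φ => by simp [e]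
    by_contra hne
    exact h1 (Units.ext (mul_right_cancel₀ hne (hmul.trans (one_mul S).symm)))

theorem card_triv [Fintype G] [IsMulCommutative ↥(W₁ ⊔ W₂)] (K : Subgroup G) :
    Nat.card {φ : ↥(W₁ ⊔ W₂) →* ℂˣ // ∀ w : ↥(W₁ ⊔ W₂), (w : G) ∈ K → φ w = 1} *
      Nat.card ↥(K.subgroupOf (W₁ ⊔ W₂)) = Nat.card ↥(W₁ ⊔ W₂) := by
  classical
  haveI : Fintype {φ : ↥(W₁ ⊔ W₂) →* ℂˣ // ∀ w : ↥(W₁ ⊔ W₂), (w : G) ∈ K → φ w = 1} :=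
    Fintype.ofFinite _
  have h1 : ∑ w : ↥(W₁ ⊔ W₂),
      ∑ φ : {φ : ↥(W₁ ⊔ W₂) →* ℂˣ // ∀ w : ↥(W₁ ⊔ W₂), (w : G) ∈ K → φ w = 1}, (φ.1 w : ℂ) =
      (Nat.card ↥(W₁ ⊔ W₂) : ℂ) := by
    rw [Finset.sum_comm, Finset.sum_eq_single ⟨1, fun w _ => rfl⟩]
    · simp [Nat.card_eq_fintype_card]
    · intro φ _ hφ
      have h := classInner_hom φ.1 (1 : ↥(W₁ ⊔ W₂) →* ℂˣ)
      rw [if_neg fun e => hφ (Subtype.ext e)] at h
      simpa [classInner] using h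
    · simp
  rw [Finset.sum_congr rfl fun w _ => sum_triv K w, ← Finset.sum_filter, Finset.sum_const,
    nsmul_eq_mul] at h1
  have hK : (Finset.univ.filter fun w : ↥(W₁ ⊔ W₂) => (w : G) ∈ K).card =
      Nat.card ↥(K.subgroupOf (W₁ ⊔ W₂)) := by
    rw [Nat.card_eq_fintype_card, Fintype.card_subtype]
    rfl
  rw [hK, mul_comm] at h1
  exact_mod_cast h1

theorem card_trivR [Fintype G] [IsMulCommutative ↥(W₁ ⊔ W₂)] (hdisj : W₁ ⊓ W₂ = ⊥)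
    (hcomm : ∀ a ∈ W₁, ∀ b ∈ W₂, a * b = b * a) :
    Nat.card (TrivR W₁ W₂) = Nat.card W₁ ∧ Nat.card (TrivL W₁ W₂) = Nat.card W₂ := by
  obtain ⟨p, q, hp, hq, hpq, hL, hR⟩ := exists_proj hdisj hcomm
  have hW : Nat.card ↥(W₁ ⊔ W₂) = Nat.card W₁ * Nat.card W₂ := by
    rw [← Nat.card_prod]
    refine Nat.card_congr
      { toFun := fun w => (⟨p w, hp w⟩, ⟨q w, hq w⟩)
        invFun := fun x => ⟨x.1 * x.2, Subgroup.mul_mem_sup x.1.2 x.2.2⟩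
        left_inv := fun w => Subtype.ext (congrArg Subtype.val (hpq w))
        right_inv := fun x => ?_ }
    have e : (⟨x.1 * x.2, Subgroup.mul_mem_sup x.1.2 x.2.2⟩ : ↥(W₁ ⊔ W₂)) =
        ⟨x.1, Subgroup.mem_sup_left x.1.2⟩ * ⟨x.2, Subgroup.mem_sup_right x.2.2⟩ := rfl
    refine Prod.ext (Subtype.ext ?_) (Subtype.ext ?_)
    · show (p ⟨x.1 * x.2, Subgroup.mul_mem_sup x.1.2 x.2.2⟩ : G) = (x.1 : G)
      rw [e, map_mul, (hL _ x.1.2).1, (hR _ x.2.2).1, mul_one]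
    · show (q ⟨x.1 * x.2, Subgroup.mul_mem_sup x.1.2 x.2.2⟩ : G) = (x.2 : G)
      rw [e, map_mul, (hL _ x.1.2).2, (hR _ x.2.2).2, one_mul]
  have c1 := card_triv (W₁ := W₁) (W₂ := W₂) W₁
  have c2 := card_triv (W₁ := W₁) (W₂ := W₂) W₂
  rw [Nat.card_congr (Subgroup.subgroupOfEquivOfLe le_sup_left).toEquiv, hW] at c1
  rw [Nat.card_congr (Subgroup.subgroupOfEquivOfLe le_sup_right).toEquiv, hW] at c2
  constructor
  · exact Nat.eq_of_mul_eq_mul_right Nat.card_pos c2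
  · exact Nat.eq_of_mul_eq_mul_right Nat.card_pos (by rw [c1, mul_comm])

/-- A function on `W` orthogonal to every `(1 - φ)(1 - ψ)` is zero off the two factors. -/
theorem eq_zero_of_orth [Fintype G] [Fintype ↥(W₁ ⊔ W₂)] [IsMulCommutative ↥(W₁ ⊔ W₂)] (hdisj : W₁ ⊓ W₂ = ⊥)
    (R : ↥(W₁ ⊔ W₂) → ℂ)
    (h : ∀ (φ : TrivR W₁ W₂) (ψ : TrivL W₁ W₂), classInner R (alpha φ.1 ψ.1) = 0)
    (v : ↥(W₁ ⊔ W₂)) (hv : (v : G) ∈ tiPart W₁ W₂) : R v = 0 := by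
  classical
  haveI : Fintype (TrivR W₁ W₂) := Fintype.ofFinite _
  haveI : Fintype (TrivL W₁ W₂) := Fintype.ofFinite _
  rw [mem_tiPart_iff] at hv
  have hfac : ∀ (K : Subgroup G)
      [Fintype {φ : ↥(W₁ ⊔ W₂) →* ℂˣ // ∀ w : ↥(W₁ ⊔ W₂), (w : G) ∈ K → φ w = 1}],
      (v : G) ∉ K → ∀ w : ↥(W₁ ⊔ W₂),
      ∑ φ : {φ : ↥(W₁ ⊔ W₂) →* ℂˣ // ∀ w : ↥(W₁ ⊔ W₂), (w : G) ∈ K → φ w = 1},
        (φ.1 v : ℂ) * (1 - conj (φ.1 w : ℂ)) =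
      -(if ((v * w⁻¹ : ↥(W₁ ⊔ W₂)) : G) ∈ K then
        (Nat.card {φ : ↥(W₁ ⊔ W₂) →* ℂˣ // ∀ w : ↥(W₁ ⊔ W₂), (w : G) ∈ K → φ w = 1} : ℂ)
        else 0) := by
    intro K _ hK w
    have e : ∀ φ : ↥(W₁ ⊔ W₂) →* ℂˣ, conj (φ w : ℂ) = ((φ w⁻¹ : ℂˣ) : ℂ) := by
      intro φ
      have hfin : IsOfFinOrder (φ w : ℂˣ) := φ.isOfFinOrder (isOfFinOrder_of_finite w)
      have hn : ‖(φ w : ℂ)‖ = 1 := by
        obtain ⟨n, hn0, hn⟩ := isOfFinOrder_iff_pow_eq_one.mp hfin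
        refine Complex.norm_eq_one_of_pow_eq_one (n := n) ?_ hn0.ne'
        rw [← Units.val_pow_eq_pow_val, hn, Units.val_one]
      rw [map_inv, Units.val_inv_eq_inv_val, Complex.inv_eq_conj hn]
    have h1 : ∀ φ : {φ : ↥(W₁ ⊔ W₂) →* ℂˣ // ∀ w : ↥(W₁ ⊔ W₂), (w : G) ∈ K → φ w = 1},
        (φ.1 v : ℂ) * (1 - conj (φ.1 w : ℂ)) = (φ.1 v : ℂ) - (φ.1 (v * w⁻¹) : ℂ) := by
      intro φ
      rw [mul_sub, mul_one, e, map_mul, Units.val_mul]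
    rw [Finset.sum_congr rfl fun φ _ => h1 φ, Finset.sum_sub_distrib, sum_triv K v,
      sum_triv K (v * w⁻¹), if_neg hK, zero_sub]
  have hkey : ∀ w : ↥(W₁ ⊔ W₂),
      ∑ φ : TrivR W₁ W₂, ∑ ψ : TrivL W₁ W₂,
        (φ.1 v : ℂ) * (ψ.1 v : ℂ) * conj (alpha φ.1 ψ.1 w) =
      if w = v then (Nat.card (TrivR W₁ W₂) : ℂ) * Nat.card (TrivL W₁ W₂) else 0 := by
    intro w
    have hterm : ∀ (φ : TrivR W₁ W₂) (ψ : TrivL W₁ W₂),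
        (φ.1 v : ℂ) * (ψ.1 v : ℂ) * conj (alpha φ.1 ψ.1 w) =
        ((φ.1 v : ℂ) * (1 - conj (φ.1 w : ℂ))) * ((ψ.1 v : ℂ) * (1 - conj (ψ.1 w : ℂ))) := by
      intro φ ψ
      simp only [alpha, map_add, map_sub, map_mul, map_one]
      ring
    simp only [hterm]
    rw [← Finset.sum_mul_sum, hfac W₂ hv.2 w, hfac W₁ hv.1 w, neg_mul_neg]
    by_cases hwv : w = v
    · subst hwv
      rw [if_pos rfl, if_pos, if_pos]
      · simp [W₁.one_mem]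
      · simp [W₂.one_mem]
    · rw [if_neg hwv]
      split_ifs with h2 h1
      · exfalso
        apply hwv
        have hb : ((v * w⁻¹ : ↥(W₁ ⊔ W₂)) : G) ∈ W₁ ⊓ W₂ := ⟨h1, h2⟩
        rw [hdisj, Subgroup.mem_bot] at hb
        have : v * w⁻¹ = 1 := Subtype.ext hb
        exact (mul_inv_eq_one.mp this).symm
      all_goals simp
  have hsum : ∑ φ : TrivR W₁ W₂, ∑ ψ : TrivL W₁ W₂, (φ.1 v : ℂ) * (ψ.1 v : ℂ) *
      classInner R (alpha φ.1 ψ.1) = 0 :=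
    Finset.sum_eq_zero fun φ _ => Finset.sum_eq_zero fun ψ _ => by rw [h φ ψ, mul_zero]
  have hcalc : ∑ φ : TrivR W₁ W₂, ∑ ψ : TrivL W₁ W₂, (φ.1 v : ℂ) * (ψ.1 v : ℂ) *
      classInner R (alpha φ.1 ψ.1) =
      (Nat.card ↥(W₁ ⊔ W₂) : ℂ)⁻¹ * ∑ w : ↥(W₁ ⊔ W₂), R w *
        ∑ φ : TrivR W₁ W₂, ∑ ψ : TrivL W₁ W₂,
          (φ.1 v : ℂ) * (ψ.1 v : ℂ) * conj (alpha φ.1 ψ.1 w) := by
    simp only [classInner, Finset.mul_sum]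
    rw [Finset.sum_congr rfl fun φ _ => Finset.sum_comm, Finset.sum_comm]
    refine Finset.sum_congr rfl fun w _ => Finset.sum_congr rfl fun φ _ =>
      Finset.sum_congr rfl fun ψ _ => ?_
    ring
  rw [hcalc, Finset.sum_congr rfl fun w _ => by rw [hkey w]] at hsum
  have hN : (Nat.card ↥(W₁ ⊔ W₂) : ℂ) ≠ 0 := Nat.cast_ne_zero.mpr Nat.card_pos.ne'
  haveI : Nonempty (TrivR W₁ W₂) := ⟨⟨1, fun _ _ => rfl⟩⟩
  haveI : Nonempty (TrivL W₁ W₂) := ⟨⟨1, fun _ _ => rfl⟩⟩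
  simpa [mul_ite, Finset.sum_ite_eq', hN, Nat.card_pos.ne'] using hsum

end CfsgLib.Char.CyclicTI
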