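import Cfsg.Prelude.Def_OddOrderChar
import Cfsg.Agent.Lib.Char.Virtual
import Cfsg.Agent.S1496
import Cfsg.Agent.S1498

/-!
# The Dade map
-/

set_option autoImplicit false
set_option linter.unusedSectionVars false

namespace CfsgLib.Char

open Cfsg
open scoped ComplexConjugate CfsgLib.Char Pointwise

variable {G : Type*} [Group G] {A : Set G} {L : Subgroup G} {H : G → Subgroup G}

/-- One exponent extracts `a` from every element of every coset `a · H a`. -/
theorem dade_exponent [Finite G] (hD : DadeHypothesis A L H) :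
    ∃ e : ℕ, ∀ a ∈ A, ∀ b ∈ A, ∀ u ∈ H b, Commute a u → (a * u) ^ e = a := by
  classical
  have : Fintype G := Fintype.ofFinite G
  let M1 := ∏ b ∈ A.toFinset, Nat.card (H b)
  let M2 := ∏ b ∈ A.toFinset, Nat.card ↥(L ⊓ Subgroup.centralizer ({b} : Set G))
  have hcopM : Nat.Coprime M1 M2 := Nat.Coprime.prod_left fun a ha => Nat.Coprime.prod_right fun b hb =>
    hD.coprime a (Set.mem_toFinset.mp ha) b (Set.mem_toFinset.mp hb)
  obtain ⟨e, he0, he1⟩ := Nat.chineseRemainder hcopM 0 1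
  refine ⟨e, fun a ha b hb u hu hcomm => ?_⟩
  have hu1 : orderOf u ∣ M1 := ((H b).orderOf_dvd_natCard hu).trans
    (Finset.dvd_prod_of_mem (fun b => Nat.card (H b)) (Set.mem_toFinset.mpr hb))
  have ha1 : orderOf a ∣ M2 := ((L ⊓ Subgroup.centralizer ({a} : Set G)).orderOf_dvd_natCard
    ⟨hD.subset ha, Subgroup.mem_centralizer_singleton_iff.mpr rfl⟩).trans
    (Finset.dvd_prod_of_mem (fun b => Nat.card ↥(L ⊓ Subgroup.centralizer ({b} : Set G)))
      (Set.mem_toFinset.mpr ha))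
  rw [hcomm.mul_pow, orderOf_dvd_iff_pow_eq_one.mp (hu1.trans (Nat.modEq_zero_iff_dvd.mp he0)), mul_one,
    pow_eq_pow_iff_modEq.mpr (he1.of_dvd ha1), pow_one]

theorem dade_commute (hD : DadeHypothesis A L H) {a u : G} (ha : a ∈ A) (hu : u ∈ H a) :
    Commute a u :=
  (Subgroup.mem_centralizer_singleton_iff.mp (hD.le_centralizer a ha hu)).symm

theorem dade_conj_H [Finite G] (hD : DadeHypothesis A L H) {a y u : G} (ha : a ∈ A) (hy : y ∈ L)
    (hu : u ∈ H a) : y * u * y⁻¹ ∈ H (y * a * y⁻¹) := by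
  rw [Cfsg.Agent.S1498.result A L H hD a ha y hy]
  exact Subgroup.mem_map.mpr ⟨u, hu, rfl⟩

theorem dade_card_H [Finite G] (hD : DadeHypothesis A L H) {a y : G} (ha : a ∈ A) (hy : y ∈ L) :
    Nat.card (H (y * a * y⁻¹)) = Nat.card (H a) := by
  rw [Cfsg.Agent.S1498.result A L H hD a ha y hy]
  exact Subgroup.card_map_of_injective (MulAut.conj y).injective

theorem dade_inf_L [Finite G] (hD : DadeHypothesis A L H) {a u : G} (ha : a ∈ A) (hu : u ∈ H a)
    (huL : u ∈ L) : u = 1 := by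
  have h : u ∈ H a ⊓ (L ⊓ Subgroup.centralizer ({a} : Set G)) := ⟨hu, huL, hD.le_centralizer a ha hu⟩
  rwa [hD.inf_eq_bot a ha, Subgroup.mem_bot] at h

/-- `C(a) = (L ∩ C(a)) H a`, as a product. -/
theorem dade_centralizer_decomp [Finite G] (hD : DadeHypothesis A L H) {a c : G} (ha : a ∈ A)
    (hc : c ∈ Subgroup.centralizer ({a} : Set G)) :
    ∃ l ∈ L ⊓ Subgroup.centralizer ({a} : Set G), ∃ h ∈ H a, l * h = c := by
  rw [← hD.sup_eq a ha, sup_comm] at hc
  have hnorm : L ⊓ Subgroup.centralizer ({a} : Set G) ≤ Subgroup.normalizer ((H a : Subgroup G) : Set G) := by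
    intro c hc
    refine Subgroup.mem_normalizer_iff.mpr fun h => ⟨hD.conj_mem_H a ha c hc.2 h, fun h' => ?_⟩
    have := hD.conj_mem_H a ha c⁻¹ (Subgroup.inv_mem _ hc.2) _ h'
    simpa [mul_assoc] using this
  have hc' : c ∈ (↑(L ⊓ Subgroup.centralizer ({a} : Set G)) : Set G) * (H a : Set G) := by
    rw [← Subgroup.coe_mul_of_left_le_normalizer_right _ _ hnorm]; exact hc
  exact Set.mem_mul.mp hc'

/-- Conjugate elements in `a · H a` and `b · H b`. -/
theorem dade_fusion [Finite G] (hD : DadeHypothesis A L H) {a b u v g : G} (ha : a ∈ A) (hb : b ∈ A)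
    (hu : u ∈ H a) (hv : v ∈ H b) (h : g * (a * u) * g⁻¹ = b * v) :
    g * a * g⁻¹ = b ∧ ∃ x ∈ L, x * a * x⁻¹ = b := by
  obtain ⟨e, he⟩ := dade_exponent hD
  have h1 : g * a * g⁻¹ = b := by
    rw [← he a ha a ha u hu (dade_commute hD ha hu), ← conj_pow, h, he b hb b hb v hv (dade_commute hD hb hv)]
  obtain ⟨x, hx, hxe⟩ := hD.fusion a ha g (h1 ▸ hb)
  exact ⟨h1, x, hx, hxe.trans h1⟩

/-- The conjugating elements of a given element into the cosets. -/
theorem dade_fibre [Finite G] (hD : DadeHypothesis A L H) {g a₀ u₀ x₀ : G} (ha₀ : a₀ ∈ A)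
    (hu₀ : u₀ ∈ H a₀) (h₀ : x₀ * g * x₀⁻¹ = a₀ * u₀) {a x : G} (ha : a ∈ A) :
    a⁻¹ * (x * g * x⁻¹) ∈ H a ↔
      ∃ y : L, ∃ h : H a₀, a = (y : G) * a₀ * (y : G)⁻¹ ∧ x = (y : G) * h * x₀ := by
  constructor
  · intro hx
    set u := a⁻¹ * (x * g * x⁻¹) with hu
    have h1 : x * x₀⁻¹ * (a₀ * u₀) * (x * x₀⁻¹)⁻¹ = a * u := by
      rw [hu, mul_inv_cancel_left, ← h₀]; group
    obtain ⟨h2, -⟩ := dade_fusion hD ha₀ ha hu₀ hx h1
    obtain ⟨l, hl, hl'⟩ := hD.fusion a₀ ha₀ _ (h2.symm ▸ ha)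
    have hc : l⁻¹ * (x * x₀⁻¹) ∈ Subgroup.centralizer ({a₀} : Set G) := by
      rw [Subgroup.mem_centralizer_singleton_iff]
      calc l⁻¹ * (x * x₀⁻¹) * a₀ = l⁻¹ * (x * x₀⁻¹ * a₀ * (x * x₀⁻¹)⁻¹) * (x * x₀⁻¹) := by group
        _ = l⁻¹ * (l * a₀ * l⁻¹) * (x * x₀⁻¹) := by rw [hl']
        _ = a₀ * (l⁻¹ * (x * x₀⁻¹)) := by group
    obtain ⟨c, hc, h, hh, hch⟩ := dade_centralizer_decomp hD ha₀ hc
    refine ⟨⟨l * c, L.mul_mem hl hc.1⟩, ⟨h, hh⟩, ?_, ?_⟩
    · show a = l * c * a₀ * (l * c)⁻¹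
      have := Subgroup.mem_centralizer_singleton_iff.mp hc.2
      calc a = l * a₀ * l⁻¹ := by rw [hl', h2]
        _ = l * (a₀ * c) * (l * c)⁻¹ := by group
        _ = _ := by rw [← this]; group
    · show x = l * c * h * x₀
      rw [mul_assoc l c h, hch]; group
  · rintro ⟨y, h, rfl, rfl⟩
    have e : ((y : G) * a₀ * (y : G)⁻¹)⁻¹ * ((y : G) * h * x₀ * g * ((y : G) * h * x₀)⁻¹) =
        (y : G) * ((h : G) * u₀ * (h : G)⁻¹) * (y : G)⁻¹ := by
      have hcm := (dade_commute hD ha₀ h.2).eq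
      calc ((y : G) * a₀ * (y : G)⁻¹)⁻¹ * ((y : G) * h * x₀ * g * ((y : G) * h * x₀)⁻¹)
          = (y : G) * a₀⁻¹ * ((h : G) * (x₀ * g * x₀⁻¹) * (h : G)⁻¹) * (y : G)⁻¹ := by group
        _ = (y : G) * a₀⁻¹ * (((h : G) * a₀) * u₀ * (h : G)⁻¹) * (y : G)⁻¹ := by rw [h₀]; group
        _ = _ := by rw [← hcm]; group
    rw [e]
    exact dade_conj_H hD ha₀ y.2 ((H a₀).mul_mem ((H a₀).mul_mem h.2 hu₀) ((H a₀).inv_mem h.2))

theorem dade_value [Finite G] (hD : DadeHypothesis A L H) {α : L → ℂ} (hα : IsClassFunction L α)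
    {g x u : G} {a : L} (ha : (a : G) ∈ A) (hu : u ∈ H (a : G)) (hx : x * g * x⁻¹ = (a : G) * u) :
    dadeIsometry A L H α g = α a := by
  have hex : ∃ b : ↥L, (b : G) ∈ A ∧ ∃ x : G, ∃ u ∈ H (b : G), x * g * x⁻¹ = (b : G) * u :=
    ⟨a, ha, x, u, hu, hx⟩
  rw [dadeIsometry, dif_pos hex]
  obtain ⟨hb, x', u', hu', hx'⟩ := Classical.choose_spec hex
  set b := Classical.choose hex
  obtain ⟨-, l, hl, hle⟩ := dade_fusion hD ha hb hu hu' (g := x' * x⁻¹) (by rw [← hx, ← hx']; group)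
  rw [← hα a ⟨l, hl⟩]
  congr 1
  exact Subtype.ext hle.symm

theorem dade_value_zero {α : L → ℂ} {g : G}
    (h : ¬ ∃ a : L, (a : G) ∈ A ∧ ∃ x : G, ∃ u ∈ H (a : G), x * g * x⁻¹ = (a : G) * u) :
    dadeIsometry A L H α g = 0 := by
  rw [dadeIsometry, dif_neg h]

theorem isClassFunction_dade [Finite G] (hD : DadeHypothesis A L H) {α : L → ℂ}
    (hα : IsClassFunction L α) : IsClassFunction G (dadeIsometry A L H α) := by
  intro g c
  by_cases h : ∃ a : L, (a : G) ∈ A ∧ ∃ x : G, ∃ u ∈ H (a : G), x * g * x⁻¹ = (a : G) * u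
  · obtain ⟨a, ha, x, u, hu, hx⟩ := h
    rw [dade_value hD hα ha hu hx, dade_value hD hα ha hu (x := x * c⁻¹) (by rw [← hx]; group)]
  · rw [dade_value_zero h, dade_value_zero]
    rintro ⟨a, ha, x, u, hu, hx⟩
    exact h ⟨a, ha, x * c, u, hu, by rw [← hx]; group⟩

/-- The Dade map as an average. -/
theorem dade_eq_sum [Fintype G] [Fintype L] [DecidablePred (· ∈ A)] [∀ K : Subgroup G, DecidablePred (· ∈ K)]
    (hD : DadeHypothesis A L H) {α : L → ℂ} (hα : IsClassFunction L α) (g : G) :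
    dadeIsometry A L H α g = (Nat.card L : ℂ)⁻¹ *
      ∑ a : L, if (a : G) ∈ A then
        α a * ((Nat.card (H (a : G)) : ℂ)⁻¹ *
          ∑ x : G, if (a : G)⁻¹ * (x * g * x⁻¹) ∈ H (a : G) then 1 else 0) else 0 := by
  classical
  by_cases h : ∃ a : L, (a : G) ∈ A ∧ ∃ x : G, ∃ u ∈ H (a : G), x * g * x⁻¹ = (a : G) * u
  · obtain ⟨a₀, ha₀, x₀, u₀, hu₀, hx₀⟩ := h
    rw [dade_value hD hα ha₀ hu₀ hx₀]
    let T : Finset (L × G) := Finset.univ.filter fun p => (p.1 : G) ∈ A ∧ (p.1 : G)⁻¹ * (p.2 * g * p.2⁻¹) ∈ H (p.1 : G)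
    have hT : (∑ a : L, if (a : G) ∈ A then α a * ((Nat.card (H (a : G)) : ℂ)⁻¹ *
          ∑ x : G, if (a : G)⁻¹ * (x * g * x⁻¹) ∈ H (a : G) then 1 else 0) else 0) =
        ∑ p ∈ T, α p.1 * (Nat.card (H (p.1 : G)) : ℂ)⁻¹ := by
      rw [Finset.sum_filter, Fintype.sum_prod_type]
      refine Finset.sum_congr rfl fun a _ => ?_
      by_cases ha : (a : G) ∈ A
      · simp only [ha, if_true, true_and, Finset.mul_sum, mul_ite, mul_one, mul_zero]
      · simp [ha]
    have hbij : ∑ p ∈ T, α p.1 * (Nat.card (H (p.1 : G)) : ℂ)⁻¹ =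
        ∑ _q : L × H (a₀ : G), α a₀ * (Nat.card (H (a₀ : G)) : ℂ)⁻¹ := by
      refine (Finset.sum_bij (fun (q : L × H (a₀ : G)) _ => (q.1 * a₀ * q.1⁻¹, (q.1 : G) * q.2 * x₀))
        (fun q _ => ?_) ?_ (fun p hp => ?_) (fun q _ => ?_)).symm
      · simp only [T, Finset.mem_filter, Finset.mem_univ, true_and]
        have hmem : ((q.1 * a₀ * q.1⁻¹ : L) : G) ∈ A := by simpa using hD.conj_mem _ q.1.2 _ ha₀
        exact ⟨hmem, (dade_fibre hD ha₀ hu₀ hx₀ hmem).mpr ⟨q.1, q.2, rfl, rfl⟩⟩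
      · rintro ⟨y, h⟩ _ ⟨y', h'⟩ _ e
        simp only [Prod.mk.injEq] at e
        have e1 : (y : G) * h = (y' : G) * h' := mul_right_cancel e.2
        have e2 : (y' : G)⁻¹ * y = (h' : G) * (h : G)⁻¹ := by
          rw [eq_mul_inv_iff_mul_eq, mul_assoc, e1, inv_mul_cancel_left]
        have h3 := dade_inf_L hD ha₀ ((H (a₀ : G)).mul_mem h'.2 ((H (a₀ : G)).inv_mem h.2))
          (e2 ▸ L.mul_mem (L.inv_mem y'.2) y.2)
        rw [h3, inv_mul_eq_one] at e2
        rw [mul_inv_eq_one] at h3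
        exact Prod.ext (Subtype.ext e2.symm) (Subtype.ext h3.symm)
      · simp only [T, Finset.mem_filter, Finset.mem_univ, true_and] at hp
        obtain ⟨y, h, hy, hh⟩ := (dade_fibre hD ha₀ hu₀ hx₀ hp.1).mp hp.2
        exact ⟨(y, h), Finset.mem_univ _, Prod.ext (Subtype.ext hy.symm) hh.symm⟩
      · show _ = α (q.1 * a₀ * q.1⁻¹) * _
        rw [hα a₀ q.1]
        have := dade_card_H hD ha₀ q.1.2
        simp only [Subgroup.coe_mul, Subgroup.coe_inv]
        rw [this]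
    rw [hT, hbij, Finset.sum_const, Finset.card_univ, Fintype.card_prod, nsmul_eq_mul,
      Nat.card_eq_fintype_card, Nat.card_eq_fintype_card]
    push_cast
    field_simp
  · rw [dade_value_zero h, Finset.sum_eq_zero, mul_zero]
    intro a _
    split_ifs with ha
    · rw [Finset.sum_eq_zero, mul_zero, mul_zero]
      intro x _
      rw [if_neg]
      exact fun hx => h ⟨a, ha, x, _, hx, (mul_inv_cancel_left _ _).symm⟩
    · rfl

/-- Adjoint of the Dade map. -/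
theorem dade_adjoint [Fintype G] [Fintype L] (hD : DadeHypothesis A L H) {α : L → ℂ}
    (hα : IsClassFunction L α) (hαA : ∀ x : L, (x : G) ∉ A → α x = 0) {χ : G → ℂ} {ψ : L → ℂ}
    (hχ : IsClassFunction G χ)
    (hψ : ∀ a : L, (a : G) ∈ A → ψ a = (Nat.card (H (a : G)) : ℂ)⁻¹ * ∑ᶠ u ∈ (H (a : G) : Set G), χ ((a : G) * u)) :
    classInner (dadeIsometry A L H α) χ = classInner α ψ := by
  classical
  simp only [classInner, dade_eq_sum hD hα]
  simp only [mul_assoc, ← Finset.mul_sum, Finset.sum_mul]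
  rw [Finset.sum_comm, ← mul_assoc, mul_comm ((Nat.card G : ℂ)⁻¹), mul_assoc]
  congr 1
  rw [Finset.mul_sum]
  refine Finset.sum_congr rfl fun a _ => ?_
  by_cases ha : (a : G) ∈ A
  · simp only [if_pos ha]
    rw [hψ a ha, finsum_mem_eq_toFinset_sum, map_mul, map_inv₀, map_natCast, map_sum]
    have key : ∀ g : G, (∑ x : G, if (a : G)⁻¹ * (x * (g * x⁻¹)) ∈ H (a : G) then (1 : ℂ) else 0) * conj (χ g) =
        ∑ x : G, if (a : G)⁻¹ * (x * (g * x⁻¹)) ∈ H (a : G) then conj (χ (x * (g * x⁻¹))) else 0 := by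
      intro g
      rw [Finset.sum_mul]
      refine Finset.sum_congr rfl fun x _ => ?_
      split_ifs
      · rw [one_mul, ← mul_assoc, hχ g x]
      · rw [zero_mul]
    simp only [mul_assoc, ← Finset.mul_sum, key]
    rw [Finset.sum_comm]
    have inner : ∀ x : G, (∑ g : G, if (a : G)⁻¹ * (x * (g * x⁻¹)) ∈ H (a : G) then conj (χ (x * (g * x⁻¹))) else 0) =
        ∑ u ∈ (H (a : G) : Set G).toFinset, conj (χ ((a : G) * u)) := by
      intro x
      rw [← Finset.sum_filter]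
      refine Finset.sum_nbij' (fun g => (a : G)⁻¹ * (x * (g * x⁻¹))) (fun u => x⁻¹ * ((a : G) * u) * x)
        ?_ ?_ ?_ ?_ ?_
      · intro g hg
        simpa [mul_assoc] using hg
      · intro u hu
        simpa [mul_assoc] using hu
      · intro g _; simp [mul_assoc]
      · intro u _; simp [mul_assoc]
      · intro g _; rw [mul_inv_cancel_left]
    rw [Finset.sum_congr rfl fun x _ => inner x, Finset.sum_const, Finset.card_univ,
      ← Nat.card_eq_fintype_card, nsmul_eq_mul]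
    field_simp
  · simp [ha, hαA a ha]

theorem dade_isometry [Fintype G] [Fintype L] (hD : DadeHypothesis A L H) {α β : L → ℂ}
    (hα : IsClassFunction L α) (hαA : ∀ x : L, (x : G) ∉ A → α x = 0) (hβ : IsClassFunction L β) :
    classInner (dadeIsometry A L H α) (dadeIsometry A L H β) = classInner α β := by
  classical
  refine dade_adjoint hD hα hαA (isClassFunction_dade hD hβ) fun a ha => ?_
  rw [finsum_mem_eq_toFinset_sum, Finset.sum_congr rfl fun u hu => dade_value hD hβ ha (Set.mem_toFinset.mp hu) (x := 1) (by group),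
    Finset.sum_const, nsmul_eq_mul, Set.toFinset_card, ← Nat.card_eq_fintype_card]
  exact (inv_mul_cancel_left₀ (Nat.cast_ne_zero.mpr Nat.card_pos.ne') _).symm

theorem dade_apply_one [Finite G] (hD : DadeHypothesis A L H) (α : L → ℂ) :
    dadeIsometry A L H α 1 = 0 := by
  refine dade_value_zero ?_
  rintro ⟨a, ha, x, u, hu, hx⟩
  obtain ⟨e, he⟩ := dade_exponent hD
  have h1 := he a ha a ha u hu (dade_commute hD ha hu)
  rw [← hx, show x * 1 * x⁻¹ = (1 : G) by group, one_pow] at h1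
  exact hD.one_not_mem (by rw [h1]; exact ha)

end CfsgLib.Char
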