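import Cfsg.Agent.Lib.Char.Dade

/-!
# The Dade map takes virtual characters to virtual characters

Inclusion-exclusion over the non-empty subsets of `A`, following Peterfalvi.
-/

set_option autoImplicit false
set_option linter.unusedSectionVars false

namespace CfsgLib.Char

open Cfsg
open scoped ComplexConjugate CfsgLib.Char Pointwise Classical

variable {G : Type*} [Group G] {A : Set G} {L : Subgroup G} {H : G → Subgroup G}

/-- The intersection of the `H b`, `b ∈ B`. -/
def interH (H : G → Subgroup G) (B : Finset G) : Subgroup G := ⨅ b ∈ B, H b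

theorem mem_interH {B : Finset G} {u : G} : u ∈ interH H B ↔ ∀ b ∈ B, u ∈ H b := by
  simp [interH, Subgroup.mem_iInf]

/-- Conjugation of a finite subset. -/
noncomputable def conjSet (y : G) (B : Finset G) : Finset G := B.image fun b => y * b * y⁻¹

theorem conjSet_one (B : Finset G) : conjSet 1 B = B := by simp [conjSet]

theorem conjSet_mul (x y : G) (B : Finset G) : conjSet x (conjSet y B) = conjSet (x * y) B := by
  simp [conjSet, Finset.image_image, Function.comp_def, mul_assoc]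

theorem mem_conjSet {y u : G} {B : Finset G} : u ∈ conjSet y B ↔ y⁻¹ * u * y ∈ B := by
  simp only [conjSet, Finset.mem_image]
  exact ⟨fun ⟨b, hb, e⟩ => by subst e; simpa [mul_assoc] using hb, fun h => ⟨_, h, by group⟩⟩

/-- The stabilizer in `L` of a finite subset. -/
noncomputable def setStab (L : Subgroup G) (B : Finset G) : Subgroup G where
  carrier := {l | l ∈ L ∧ conjSet l B = B}
  one_mem' := ⟨L.one_mem, conjSet_one B⟩
  mul_mem' := fun {a b} ha hb => ⟨L.mul_mem ha.1 hb.1, by rw [← conjSet_mul, hb.2, ha.2]⟩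
  inv_mem' := fun {a} ha => ⟨L.inv_mem ha.1, by
    conv_lhs => rw [← ha.2, conjSet_mul, inv_mul_cancel, conjSet_one]⟩

theorem mem_setStab {B : Finset G} {l : G} : l ∈ setStab L B ↔ l ∈ L ∧ conjSet l B = B := Iff.rfl

theorem conjSet_subset (hD : DadeHypothesis A L H) {y : G} (hy : y ∈ L) {B : Finset G}
    (hB : ∀ b ∈ B, b ∈ A) : ∀ b ∈ conjSet y B, b ∈ A := by
  intro b hb
  obtain ⟨c, hc, rfl⟩ := Finset.mem_image.mp hb
  exact hD.conj_mem y hy c (hB c hc)

variable [Fintype G]

theorem interH_conj (hD : DadeHypothesis A L H) {y u : G} (hy : y ∈ L) {B : Finset G}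
    (hB : ∀ b ∈ B, b ∈ A) (hu : u ∈ interH H B) : y * u * y⁻¹ ∈ interH H (conjSet y B) := by
  rw [mem_interH] at hu ⊢
  intro b hb
  obtain ⟨c, hc, rfl⟩ := Finset.mem_image.mp hb
  exact dade_conj_H hD (hB c hc) hy (hu c hc)

theorem setStab_le_normalizer (hD : DadeHypothesis A L H) {B : Finset G} (hB : ∀ b ∈ B, b ∈ A) :
    setStab L B ≤ Subgroup.normalizer ((interH H B : Subgroup G) : Set G) := by
  intro l hl
  refine Subgroup.mem_normalizer_iff.mpr fun u => ⟨fun hu => ?_, fun hu => ?_⟩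
  · have := interH_conj hD hl.1 hB hu
    rwa [hl.2] at this
  · have hl' := (setStab L B).inv_mem hl
    have h2 := interH_conj hD hl'.1 hB hu
    rw [hl'.2] at h2
    simpa [mul_assoc] using h2

theorem interH_inf_L (hD : DadeHypothesis A L H) {B : Finset G} (hB : ∀ b ∈ B, b ∈ A)
    (hne : B.Nonempty) {u : G} (hu : u ∈ interH H B) (huL : u ∈ L) : u = 1 := by
  obtain ⟨b, hb⟩ := hne
  exact dade_inf_L hD (hB b hb) (mem_interH.mp hu b hb) huL

variable [Fintype L]

/-- The term attached to a subset in the inclusion-exclusion formula. -/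
noncomputable def dadeTerm (L : Subgroup G) (H : G → Subgroup G) [Fintype L] (α : L → ℂ) (B : Finset G) (g : G) : ℂ :=
  ((Nat.card (setStab L B) : ℂ) * (Nat.card (interH H B) : ℂ))⁻¹ * ∑ x : G, ∑ l : L,
    if (l : G) ∈ setStab L B ∧ x * g * x⁻¹ * (l : G)⁻¹ ∈ interH H B then α l else 0

/-- Each term is a virtual character. -/
theorem isGeneralized_dadeTerm (hD : DadeHypothesis A L H) {α : L → ℂ}
    (hα : IsGeneralizedCharacter L α) {B : Finset G} (hB : ∀ b ∈ B, b ∈ A) (hne : B.Nonempty) :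
    IsGeneralizedCharacter G (dadeTerm L H α B) := by
  set K := interH H B
  set N := setStab L B
  have hnorm := setStab_le_normalizer hD hB
  set M := K ⊔ N with hM
  have hKN : ∀ m : M, ∃ k ∈ K, ∃ n ∈ N, k * n = (m : G) := by
    intro m
    have hm : (m : G) ∈ (↑(K ⊔ N) : Set G) := m.2
    rw [Subgroup.coe_mul_of_right_le_normalizer_left K N hnorm] at hm
    exact Set.mem_mul.mp hm
  choose k hk n hn hkn using hKN
  have huniq : ∀ (m : M) (k' n' : G), k' ∈ K → n' ∈ N → k' * n' = (m : G) → n' = n m := by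
    intro m k' n' hk' hn' e
    rw [← hkn m] at e
    have h2 : k'⁻¹ * k m = n' * (n m)⁻¹ := by
      rw [eq_mul_inv_iff_mul_eq, mul_assoc, ← e, inv_mul_cancel_left]
    have h3 := interH_inf_L hD hB hne (K.mul_mem (K.inv_mem hk') (hk m))
      (by rw [h2]; exact L.mul_mem hn'.1 (L.inv_mem (hn m).1))
    rw [h3] at h2
    exact mul_inv_eq_one.mp h2.symm
  let f : M →* L := MonoidHom.mk' (fun m => ⟨n m, (hn m).1⟩) fun a b => Subtype.ext (by
    show n (a * b) = n a * n b
    refine (huniq (a * b) (k a * (n a * k b * (n a)⁻¹)) (n a * n b) ?_ (N.mul_mem (hn a) (hn b)) ?_).symm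
    · exact K.mul_mem (hk a) ((Subgroup.mem_normalizer_iff.mp (hnorm (hn a)) (k b)).mp (hk b))
    · rw [Subgroup.coe_mul, ← hkn a, ← hkn b]; group)
  have hgen := isGeneralized_indFun M (isGeneralized_comp f hα)
  convert hgen using 1
  funext g
  have hcard : Nat.card M = Nat.card N * Nat.card K := by
    rw [← Nat.card_prod]
    refine Nat.card_congr (Equiv.ofBijective (fun m : M => ((⟨n m, hn m⟩ : N), (⟨k m, hk m⟩ : K))) ⟨?_, ?_⟩)
    · intro a b e
      simp only [Prod.mk.injEq, Subtype.mk.injEq] at e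
      exact Subtype.ext (by rw [← hkn a, ← hkn b, e.1, e.2])
    · rintro ⟨⟨a, ha⟩, ⟨b, hb⟩⟩
      set m : M := ⟨b * a, M.mul_mem (Subgroup.mem_sup_left hb) (Subgroup.mem_sup_right ha)⟩
      have h1 := huniq m b a hb ha rfl
      refine ⟨m, ?_⟩
      simp only [Prod.mk.injEq, Subtype.mk.injEq]
      refine ⟨h1.symm, ?_⟩
      have h2 := hkn m
      rw [← h1] at h2
      exact mul_right_cancel h2
  rw [dadeTerm, indFun, hcard]
  push_cast
  congr 1
  refine (Finset.sum_congr rfl fun x _ => ?_).trans (Equiv.sum_comp (Equiv.inv G)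
    (fun x => extendByZero M (fun m => α (f m)) (x⁻¹ * g * x)))
  simp only [Equiv.inv_apply, inv_inv]
  by_cases hx : x * g * x⁻¹ ∈ M
  · rw [extendByZero_mem M _ hx, Finset.sum_eq_single (f ⟨_, hx⟩)]
    · rw [if_pos]
      refine ⟨hn _, ?_⟩
      show x * g * x⁻¹ * (n ⟨_, hx⟩)⁻¹ ∈ K
      have h := hkn ⟨_, hx⟩
      simp only at h
      rw [mul_inv_eq_iff_eq_mul.mpr h.symm]
      exact hk _
    · intro l _ hl
      rw [if_neg]
      rintro ⟨h1, h2⟩
      exact hl (Subtype.ext (huniq ⟨_, hx⟩ _ l h2 h1 (inv_mul_cancel_right _ _)))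
    · intro h; exact absurd (Finset.mem_univ _) h
  · rw [extendByZero_notMem M _ hx, Finset.sum_eq_zero]
    intro l _
    rw [if_neg]
    rintro ⟨h1, h2⟩
    refine hx ?_
    have := M.mul_mem (Subgroup.mem_sup_left h2) (Subgroup.mem_sup_right h1)
    rwa [inv_mul_cancel_right] at this

theorem setStab_card_conj (hD : DadeHypothesis A L H) {y : G} (hy : y ∈ L) {B : Finset G} :
    ∀ l : G, l ∈ setStab L B → y * l * y⁻¹ ∈ setStab L (conjSet y B) := by
  rintro l ⟨h1, h2⟩
  refine ⟨L.mul_mem (L.mul_mem hy h1) (L.inv_mem hy), ?_⟩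
  rw [conjSet_mul, inv_mul_cancel_right, ← conjSet_mul, h2]

theorem dadeTerm_conj (hD : DadeHypothesis A L H) {α : L → ℂ} (hα : IsClassFunction L α) {y : G}
    (hy : y ∈ L) {B : Finset G} (hB : ∀ b ∈ B, b ∈ A) :
    dadeTerm L H α (conjSet y B) = dadeTerm L H α B ∧
      Nat.card (setStab L (conjSet y B)) = Nat.card (setStab L B) := by
  have hback : conjSet y⁻¹ (conjSet y B) = B := by rw [conjSet_mul, inv_mul_cancel, conjSet_one]
  have hS : ∀ l : G, y * l * y⁻¹ ∈ setStab L (conjSet y B) ↔ l ∈ setStab L B := by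
    refine fun l => ⟨fun h => ?_, setStab_card_conj hD hy l⟩
    have := setStab_card_conj hD (L.inv_mem hy) _ h
    rw [hback] at this
    simpa [mul_assoc] using this
  have hH : ∀ u : G, y * u * y⁻¹ ∈ interH H (conjSet y B) ↔ u ∈ interH H B := by
    refine fun u => ⟨fun h => ?_, interH_conj hD hy hB⟩
    have := interH_conj hD (L.inv_mem hy) (conjSet_subset hD hy hB) h
    rw [hback] at this
    simpa [mul_assoc] using this
  have hc1 : Nat.card (setStab L (conjSet y B)) = Nat.card (setStab L B) :=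
    (Nat.card_congr (Equiv.subtypeEquiv (MulAut.conj y).toEquiv fun l => (hS l).symm)).symm
  refine ⟨?_, hc1⟩
  have hc2 : Nat.card (interH H (conjSet y B)) = Nat.card (interH H B) :=
    (Nat.card_congr (Equiv.subtypeEquiv (MulAut.conj y).toEquiv fun l => (hH l).symm)).symm
  funext g
  rw [dadeTerm, dadeTerm, hc1, hc2]
  congr 1
  rw [← Equiv.sum_comp (Equiv.mulLeft y)]
  refine Finset.sum_congr rfl fun x _ => ?_
  rw [← Equiv.sum_comp (MulAut.conj (⟨y, hy⟩ : L)).toEquiv]
  refine Finset.sum_congr rfl fun l _ => ?_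
  have e1 : (((MulAut.conj (⟨y, hy⟩ : L)).toEquiv l : L) : G) = y * l * y⁻¹ := rfl
  have e2 : y * x * g * (y * x)⁻¹ * (y * (l : G) * y⁻¹)⁻¹ = y * (x * g * x⁻¹ * (l : G)⁻¹) * y⁻¹ := by group
  simp only [Equiv.coe_mulLeft, e1, e2, hS, hH]
  rw [show α ((MulAut.conj (⟨y, hy⟩ : L)).toEquiv l) = α l from hα l ⟨y, hy⟩]

/-- Elements of a coset `K l` correspond to those of `C_K(l) l`. -/
theorem card_coset_centralizer (hD : DadeHypothesis A L H) {l : G} (hl : l ∈ A) {b : G} (hb : b ∈ A)
    {K : Subgroup G} (hK : K ≤ H b) (hlK : l ∈ Subgroup.normalizer (K : Set G)) (g : G) :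
    (Nat.card K : ℂ)⁻¹ * ∑ x : G, (if x * g * x⁻¹ * l⁻¹ ∈ K then (1 : ℂ) else 0) =
      (Nat.card ↥(K ⊓ Subgroup.centralizer ({l} : Set G)) : ℂ)⁻¹ *
        ∑ x : G, (if x * g * x⁻¹ * l⁻¹ ∈ K ⊓ Subgroup.centralizer ({l} : Set G) then (1 : ℂ) else 0) := by
  set C := K ⊓ Subgroup.centralizer ({l} : Set G) with hC
  obtain ⟨e, he⟩ := dade_exponent hD
  have hcop : Nat.Coprime (orderOf l) (Nat.card K) := by
    refine Nat.Coprime.coprime_dvd_right (Subgroup.card_dvd_of_le hK) ?_
    exact ((hD.coprime b hb l hl).symm).coprime_dvd_left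
      ((L ⊓ Subgroup.centralizer ({l} : Set G)).orderOf_dvd_natCard
        ⟨hD.subset hl, Subgroup.mem_centralizer_singleton_iff.mpr rfl⟩)
  have key : ∀ x : G, ∑ r : K, (if (r : G) * x * g * ((r : G) * x)⁻¹ * l⁻¹ ∈ C then (1 : ℂ) else 0) =
      (Nat.card C : ℂ) * if x * g * x⁻¹ * l⁻¹ ∈ K then 1 else 0 := by
    intro x
    split_ifs with hy
    · obtain ⟨r₀, hr₀, c₀, hc₀, hcl, hrc⟩ := Cfsg.Agent.S1496.result K l hlK hcop _ hy
      rw [inv_mul_cancel_right] at hrc
      have hcoe : ∀ r : G, r * x * g * (r * x)⁻¹ = r * (x * g * x⁻¹) * r⁻¹ := fun r => by group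
      have hiff : ∀ r : K, ((r : G) * x * g * ((r : G) * x)⁻¹ * l⁻¹ ∈ C) ↔ (r : G) * r₀⁻¹ ∈ C := by
        intro r
        rw [hcoe]
        set s := (r : G) * r₀⁻¹ with hs
        have hsK : s ∈ K := K.mul_mem r.2 (K.inv_mem hr₀)
        have e3 : (r : G) * (x * g * x⁻¹) * (r : G)⁻¹ = s * (c₀ * l) * s⁻¹ := by rw [hs, ← hrc]; group
        rw [e3]
        constructor
        · intro h
          refine ⟨hsK, Subgroup.mem_centralizer_singleton_iff.mpr ?_⟩
          set c := s * (c₀ * l) * s⁻¹ * l⁻¹ with hc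
          have hcom : Commute c l := Subgroup.mem_centralizer_singleton_iff.mp h.2
          have h1 : (l * c) ^ e = l := he l hl b hb c (hK h.1) hcom.symm
          have h2 : (l * c₀) ^ e = l := he l hl b hb c₀ (hK hc₀) (show Commute c₀ l from hcl).symm
          have h3 : l * c = s * (l * c₀) * s⁻¹ := by
            rw [← hcom.eq, hc, inv_mul_cancel_right, hcl]
          rw [h3, conj_pow, h2] at h1
          exact mul_inv_eq_iff_eq_mul.mp h1
        · intro h
          have hsl : s * l = l * s := Subgroup.mem_centralizer_singleton_iff.mp h.2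
          have e4 : s * (c₀ * l) * s⁻¹ * l⁻¹ = s * c₀ * s⁻¹ := by
            calc s * (c₀ * l) * s⁻¹ * l⁻¹ = s * c₀ * (l * s⁻¹ * l⁻¹) := by group
              _ = s * c₀ * s⁻¹ := by
                congr 1
                rw [mul_inv_eq_iff_eq_mul]
                calc l * s⁻¹ = s⁻¹ * (s * l) * s⁻¹ := by group
                  _ = _ := by rw [hsl]; group
          rw [e4]
          exact C.mul_mem (C.mul_mem h ⟨hc₀, Subgroup.mem_centralizer_singleton_iff.mpr hcl⟩) (C.inv_mem h)
      simp only [hiff, Finset.sum_boole, mul_one]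
      norm_cast
      rw [Nat.card_eq_fintype_card, ← Finset.card_univ]
      refine Finset.card_bij (fun r hr => ⟨(r : G) * r₀⁻¹, (Finset.mem_filter.mp hr).2⟩)
        (fun _ _ => Finset.mem_univ _) ?_ ?_
      · intro a _ b _ hab
        exact Subtype.ext (mul_right_cancel (congrArg Subtype.val hab))
      · intro c _
        refine ⟨⟨(c : G) * r₀, K.mul_mem c.2.1 hr₀⟩, Finset.mem_filter.mpr ⟨Finset.mem_univ _, ?_⟩, ?_⟩
        · simp
        · exact Subtype.ext (mul_inv_cancel_right _ _)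
    · rw [mul_zero, Finset.sum_eq_zero]
      intro r _
      rw [if_neg]
      intro h
      apply hy
      have h1 : (r : G)⁻¹ * ((r : G) * x * g * ((r : G) * x)⁻¹ * l⁻¹) * (l * (r : G) * l⁻¹) ∈ K :=
        K.mul_mem (K.mul_mem (K.inv_mem r.2) h.1) ((Subgroup.mem_normalizer_iff.mp hlK r).mp r.2)
      rwa [show (r : G)⁻¹ * ((r : G) * x * g * ((r : G) * x)⁻¹ * l⁻¹) * (l * (r : G) * l⁻¹) = x * g * x⁻¹ * l⁻¹ by group] at h1
  have hsum : ∑ x : G, ∑ r : K, (if (r : G) * x * g * ((r : G) * x)⁻¹ * l⁻¹ ∈ C then (1 : ℂ) else 0) =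
      (Nat.card K : ℂ) * ∑ x : G, (if x * g * x⁻¹ * l⁻¹ ∈ C then (1 : ℂ) else 0) := by
    have h1 : ∀ r : K, ∑ x : G, (if (r : G) * x * g * ((r : G) * x)⁻¹ * l⁻¹ ∈ C then (1 : ℂ) else 0) =
        ∑ x : G, (if x * g * x⁻¹ * l⁻¹ ∈ C then (1 : ℂ) else 0) := fun r =>
      Equiv.sum_comp (Equiv.mulLeft (r : G)) (fun x : G => if x * g * x⁻¹ * l⁻¹ ∈ C then (1 : ℂ) else 0)
    rw [Finset.sum_comm, Finset.sum_congr rfl fun r _ => h1 r,
      Finset.sum_const, Finset.card_univ, nsmul_eq_mul, Nat.card_eq_fintype_card]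
  rw [Finset.sum_congr rfl fun x _ => key x, ← Finset.mul_sum] at hsum
  have hK0 : (Nat.card K : ℂ) ≠ 0 := Nat.cast_ne_zero.mpr Nat.card_pos.ne'
  have hC0 : (Nat.card C : ℂ) ≠ 0 := Nat.cast_ne_zero.mpr Nat.card_pos.ne'
  field_simp
  linear_combination hsum

theorem interH_insert_eq (hD : DadeHypothesis A L H) {B : Finset G} (hB : ∀ b ∈ B, b ∈ A)
    (hne : B.Nonempty) {l : G} (hl : l ∈ A) :
    interH H B ⊓ Subgroup.centralizer ({l} : Set G) = interH H (insert l B) := by
  ext u
  rw [Subgroup.mem_inf, mem_interH, mem_interH, Finset.forall_mem_insert]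
  constructor
  · rintro ⟨h1, h2⟩
    obtain ⟨b, hb⟩ := hne
    refine ⟨Cfsg.Agent.S1498.mem_H_of_coprime hD hl h2 ?_, h1⟩
    exact (hD.coprime b (hB b hb) l hl).coprime_dvd_left ((H b).orderOf_dvd_natCard (h1 b hb))
  · exact fun h => ⟨h.2, hD.le_centralizer l hl h.1⟩

/-- The cancelling inner sum. -/
theorem sum_subsets (hD : DadeHypothesis A L H) {l : L} (hl : (l : G) ∈ A) (g : G) :
    ∑ B ∈ (A.toFinset.powerset).filter (fun B => B.Nonempty ∧ (l : G) ∈ setStab L B),
      (-1 : ℂ) ^ (B.card + 1) * ((Nat.card (interH H B) : ℂ)⁻¹ *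
        ∑ x : G, if x * g * x⁻¹ * (l : G)⁻¹ ∈ interH H B then (1 : ℂ) else 0) =
      (Nat.card (H (l : G)) : ℂ)⁻¹ *
        ∑ x : G, if (l : G)⁻¹ * (x * g * x⁻¹) ∈ H (l : G) then (1 : ℂ) else 0 := by
  set l' := (l : G)
  set S := (A.toFinset.powerset).filter (fun B => B.Nonempty ∧ l' ∈ setStab L B) with hS
  let T : Finset G → ℂ := fun B => (Nat.card (interH H B) : ℂ)⁻¹ *
    ∑ x : G, if x * g * x⁻¹ * l'⁻¹ ∈ interH H B then (1 : ℂ) else 0
  have hmemS : ∀ B, B ∈ S ↔ (∀ b ∈ B, b ∈ A) ∧ B.Nonempty ∧ conjSet l' B = B := by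
    intro B
    simp only [hS, Finset.mem_filter, Finset.mem_powerset, mem_setStab, Finset.subset_iff, Set.mem_toFinset]
    exact ⟨fun h => ⟨h.1, h.2.1, h.2.2.2⟩, fun h => ⟨h.1, h.2.1, l.2, h.2.2⟩⟩
  have hT : ∀ B ∈ S, T B = T (insert l' B) := by
    intro B hB
    obtain ⟨hBA, hne, hst⟩ := (hmemS B).mp hB
    obtain ⟨b, hb⟩ := id hne
    have h := card_coset_centralizer hD hl (hBA b hb) (K := interH H B) (fun u hu => mem_interH.mp hu b hb)
      (setStab_le_normalizer hD hBA ⟨l.2, hst⟩) g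
    rw [interH_insert_eq hD hBA hne hl] at h
    exact h
  have hsing : ({l'} : Finset G) ∈ S := (hmemS _).mpr ⟨fun b hb => Finset.mem_singleton.mp hb ▸ hl,
    Finset.singleton_nonempty _, by simp [conjSet]⟩
  let tg : Finset G → Finset G := fun B => if l' ∈ B then B.erase l' else insert l' B
  have htg : ∀ B ∈ S.erase {l'}, tg B ∈ S.erase {l'} := by
    intro B hB
    obtain ⟨hne1, hBS⟩ := Finset.mem_erase.mp hB
    obtain ⟨hBA, hne, hst⟩ := (hmemS B).mp hBS
    have hfix : l' * l' * l'⁻¹ = l' := by group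
    by_cases h : l' ∈ B
    · simp only [tg, if_pos h]
      refine Finset.mem_erase.mpr ⟨fun e => Finset.notMem_erase l' B (by rw [e]; exact Finset.mem_singleton_self _),
        (hmemS _).mpr ⟨fun b hb => hBA b (Finset.mem_of_mem_erase hb), ?_, ?_⟩⟩
      · rw [← Finset.card_pos, Finset.card_erase_of_mem h]
        have h2 : B.card ≠ 1 := fun h1 => by
          obtain ⟨c, rfl⟩ := Finset.card_eq_one.mp h1
          rw [Finset.mem_singleton] at h
          exact hne1 (by rw [h])
        have := Finset.card_pos.mpr hne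
        omega
      · rw [conjSet, Finset.image_erase (fun x y e => mul_left_cancel (mul_right_cancel e)) B l', hfix]
        rw [show B.image (fun b => l' * b * l'⁻¹) = B from hst]
    · simp only [tg, if_neg h]
      refine Finset.mem_erase.mpr ⟨fun e => ?_,
        (hmemS _).mpr ⟨fun b hb => (Finset.mem_insert.mp hb).elim (fun e => e ▸ hl) (hBA b),
          Finset.insert_nonempty _ _, ?_⟩⟩
      · obtain ⟨b, hb⟩ := hne
        have : b ∈ ({l'} : Finset G) := e ▸ Finset.mem_insert_of_mem hb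
        exact h (Finset.mem_singleton.mp this ▸ hb)
      · rw [conjSet, Finset.image_insert, hfix, show B.image (fun b => l' * b * l'⁻¹) = B from hst]
  rw [← Finset.add_sum_erase _ _ hsing, Finset.sum_involution (fun B _ => tg B) ?_ ?_ htg ?_]
  · rw [add_zero, Finset.card_singleton]
    have hI : interH H ({l'} : Finset G) = H l' := by ext; simp [mem_interH]
    rw [hI]
    norm_num
    congr 1
    ext x
    simp only [Finset.mem_filter, Finset.mem_univ, true_and]
    have hy : ∀ y : G, y * l'⁻¹ ∈ H l' ↔ l'⁻¹ * y ∈ H l' := by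
      intro y
      constructor
      · intro h
        have := dade_commute hD hl h
        have e : l'⁻¹ * y = y * l'⁻¹ := by
          calc l'⁻¹ * y = l'⁻¹ * (y * l'⁻¹ * l') := by group
            _ = _ := by rw [← this.eq]; group
        rwa [e]
      · intro h
        have := dade_commute hD hl h
        have e : y * l'⁻¹ = l'⁻¹ * y := by
          calc y * l'⁻¹ = l' * (l'⁻¹ * y) * l'⁻¹ := by group
            _ = _ := by rw [this.eq]; group
        rwa [e]
    exact hy _
  · intro B hB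
    have hBS := Finset.mem_of_mem_erase hB
    have hins : T (tg B) = T B := by
      rw [hT _ (Finset.mem_of_mem_erase (htg B hB)), hT B hBS]
      congr 1
      by_cases h : l' ∈ B
      · simp only [tg, if_pos h, Finset.insert_erase h, Finset.insert_eq_of_mem h]
      · simp only [tg, if_neg h, Finset.insert_idem]
    show (-1 : ℂ) ^ (B.card + 1) * T B + (-1 : ℂ) ^ ((tg B).card + 1) * T (tg B) = 0
    rw [hins]
    by_cases h : l' ∈ B
    · simp only [tg, if_pos h, Finset.card_erase_add_one h]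
      ring
    · simp only [tg, if_neg h, Finset.card_insert_of_notMem h]
      ring
  · intro B hB _
    simp only [tg]
    by_cases h : l' ∈ B
    · rw [if_pos h]; exact fun e => Finset.notMem_erase l' B (e.symm ▸ h)
    · rw [if_neg h]; exact fun e => h (e ▸ Finset.mem_insert_self l' B)
  · intro B _
    simp only [tg]
    by_cases h : l' ∈ B
    · simp [h]
    · simp [h]

/-- Inclusion-exclusion formula for the Dade map. -/
theorem dade_eq_alternating (hD : DadeHypothesis A L H) {α : L → ℂ} (hα : IsClassFunction L α)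
    (hαA : ∀ x : L, (x : G) ∉ A → α x = 0) :
    dadeIsometry A L H α = ∑ B ∈ A.toFinset.powerset.filter (fun B => B.Nonempty),
      ((-1 : ℂ) ^ (B.card + 1) * (Nat.card (setStab L B) : ℂ) / (Nat.card L : ℂ)) • dadeTerm L H α B := by
  funext g
  rw [dade_eq_sum hD hα, Finset.sum_apply]
  have hterm : ∀ B ∈ A.toFinset.powerset.filter (fun B => B.Nonempty),
      (((-1 : ℂ) ^ (B.card + 1) * (Nat.card (setStab L B) : ℂ) / (Nat.card L : ℂ)) • dadeTerm L H α B) g =
        (Nat.card L : ℂ)⁻¹ * ∑ l : L, if (l : G) ∈ setStab L B then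
          α l * ((-1 : ℂ) ^ (B.card + 1) * ((Nat.card (interH H B) : ℂ)⁻¹ *
            ∑ x : G, if x * g * x⁻¹ * (l : G)⁻¹ ∈ interH H B then (1 : ℂ) else 0)) else 0 := by
    intro B _
    have hN : (Nat.card (setStab L B) : ℂ) ≠ 0 := Nat.cast_ne_zero.mpr Nat.card_pos.ne'
    have e : ∀ l : L, (if (l : G) ∈ setStab L B then
        α l * ((-1 : ℂ) ^ (B.card + 1) * ((Nat.card (interH H B) : ℂ)⁻¹ *
          ∑ x : G, if x * g * x⁻¹ * (l : G)⁻¹ ∈ interH H B then (1 : ℂ) else 0)) else 0) =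
        (-1 : ℂ) ^ (B.card + 1) * (Nat.card (interH H B) : ℂ)⁻¹ *
          ∑ x : G, if (l : G) ∈ setStab L B ∧ x * g * x⁻¹ * (l : G)⁻¹ ∈ interH H B then α l else 0 := by
      intro l
      by_cases h : (l : G) ∈ setStab L B
      · simp only [h, if_true, true_and, Finset.mul_sum]
        refine Finset.sum_congr rfl fun x _ => ?_
        split_ifs <;> ring
      · simp [h]
    rw [Finset.sum_congr rfl fun l _ => e l, ← Finset.mul_sum, Finset.sum_comm, Pi.smul_apply, smul_eq_mul, dadeTerm]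
    field_simp
  rw [Finset.sum_congr rfl hterm, ← Finset.mul_sum, Finset.sum_comm]
  congr 1
  refine Finset.sum_congr rfl fun l _ => ?_
  by_cases hl : (l : G) ∈ A
  · rw [if_pos hl, ← sum_subsets hD hl g, Finset.mul_sum, ← Finset.filter_filter,
      Finset.sum_filter (fun B => (l : G) ∈ setStab L B)]
  · rw [if_neg hl, Finset.sum_eq_zero]
    intro B _
    rw [hαA l hl]
    simp

/-- **The Dade map preserves virtual characters.** -/
theorem isGeneralized_dade (hD : DadeHypothesis A L H) {α : L → ℂ}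
    (hα : IsGeneralizedCharacter L α) (hαA : ∀ x : L, (x : G) ∉ A → α x = 0) :
    IsGeneralizedCharacter G (dadeIsometry A L H α) := by
  have hcl := isClassFunction_of_isGeneralized hα
  rw [isGeneralized_iff_classInner (isClassFunction_dade hD hcl)]
  intro ψ
  rw [dade_eq_alternating hD hcl hαA, classInner_sum_left]
  set S := A.toFinset.powerset.filter (fun B => B.Nonempty) with hS
  have hSmem : ∀ B, B ∈ S ↔ (∀ b ∈ B, b ∈ A) ∧ B.Nonempty := by
    intro B; simp [hS, Finset.subset_iff]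
  have hint : ∀ B, ∃ z : ℤ, B ∈ S → classInner (dadeTerm L H α B) (ψ : G → ℂ) = z := by
    intro B
    by_cases hB : B ∈ S
    · obtain ⟨z, hz⟩ := exists_int_classInner
        (isGeneralized_dadeTerm hD hα ((hSmem B).mp hB).1 ((hSmem B).mp hB).2) (isGeneralized_of_isIrr ψ.2)
      exact ⟨z, fun _ => hz⟩
    · exact ⟨0, fun h => absurd h hB⟩
  choose z hz using hint
  let o : Finset G → Finset (Finset G) := fun B => Finset.univ.image fun y : L => conjSet (y : G) B
  have hself : ∀ B, B ∈ o B := fun B => Finset.mem_image.mpr ⟨1, Finset.mem_univ _, by simp [conjSet_one]⟩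
  have ho : ∀ B C, C ∈ o B → o C = o B := by
    intro B C hC
    obtain ⟨y, -, rfl⟩ := Finset.mem_image.mp hC
    ext D
    simp only [o, Finset.mem_image, Finset.mem_univ, true_and, conjSet_mul]
    constructor
    · rintro ⟨w, rfl⟩; exact ⟨w * y, rfl⟩
    · rintro ⟨w, rfl⟩; exact ⟨w * y⁻¹, by simp⟩
  have hcard : ∀ B : Finset G, (o B).card * Nat.card (setStab L B) = Nat.card L := by
    intro B
    rw [Nat.card_eq_fintype_card (α := L), ← Finset.card_univ (α := L),
      Finset.card_eq_sum_card_image (fun y : L => conjSet (y : G) B) Finset.univ, ← smul_eq_mul, ← Finset.sum_const]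
    refine Finset.sum_congr rfl fun C hC => ?_
    obtain ⟨y, -, rfl⟩ := Finset.mem_image.mp hC
    rw [← Fintype.card_subtype, ← Nat.card_eq_fintype_card]
    refine Nat.card_congr
      { toFun := fun n => ⟨y * ⟨n.1, n.2.1⟩, by
          show conjSet ((y : G) * n.1) B = conjSet (y : G) B
          rw [← conjSet_mul, n.2.2]⟩
        invFun := fun w => ⟨((y⁻¹ * w.1 : L) : G), (y⁻¹ * w.1 : L).2, by
          show conjSet ((y : G)⁻¹ * (w.1 : G)) B = B
          rw [← conjSet_mul, w.2, conjSet_mul, inv_mul_cancel, conjSet_one]⟩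
        left_inv := fun n => Subtype.ext (by simp)
        right_inv := fun w => Subtype.ext (Subtype.ext (by simp)) }
  have hmaps : ∀ B ∈ S, o B ∈ S.image o := fun B hB => Finset.mem_image_of_mem o hB
  rw [← Finset.sum_fiberwise_of_maps_to hmaps]
  choose! rep hrep hrep' using fun (O : Finset (Finset G)) (hO : O ∈ S.image o) => Finset.mem_image.mp hO
  refine ⟨∑ O ∈ S.image o, (-1) ^ ((rep O).card + 1) * z (rep O), ?_⟩
  push_cast
  refine Finset.sum_congr rfl fun O hO => ?_
  set B := rep O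
  have hB := hrep O hO
  have hfib : S.filter (fun C => o C = O) = o B := by
    ext C
    rw [Finset.mem_filter]
    constructor
    · rintro ⟨-, hC⟩
      rw [hrep' O hO, ← hC]
      exact hself C
    · intro hC
      obtain ⟨y, -, rfl⟩ := Finset.mem_image.mp hC
      refine ⟨(hSmem _).mpr ⟨conjSet_subset hD y.2 ((hSmem B).mp hB).1, ((hSmem B).mp hB).2.image _⟩, ?_⟩
      rw [ho B _ hC, hrep' O hO]
  rw [hfib]
  have hconst : ∀ C ∈ o B, classInner (((-1 : ℂ) ^ (C.card + 1) * (Nat.card (setStab L C) : ℂ) / (Nat.card L : ℂ)) •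
      dadeTerm L H α C) (ψ : G → ℂ) =
      (-1 : ℂ) ^ (B.card + 1) * (Nat.card (setStab L B) : ℂ) / (Nat.card L : ℂ) * z B := by
    intro C hC
    obtain ⟨y, -, rfl⟩ := Finset.mem_image.mp hC
    obtain ⟨h1, h2⟩ := dadeTerm_conj hD hcl y.2 ((hSmem B).mp hB).1
    rw [classInner_smul_left, h1, h2, hz B hB, show (conjSet (y : G) B).card = B.card from
      Finset.card_image_of_injective _ fun a b e => mul_left_cancel (mul_right_cancel e)]
  rw [Finset.sum_congr rfl hconst, Finset.sum_const, nsmul_eq_mul]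
  have hL : (Nat.card L : ℂ) ≠ 0 := Nat.cast_ne_zero.mpr Nat.card_pos.ne'
  have hcc : ((o B).card : ℂ) * (Nat.card (setStab L B) : ℂ) = (Nat.card L : ℂ) := by exact_mod_cast hcard B
  field_simp
  linear_combination (z B : ℂ) * hcc

end CfsgLib.Char
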