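import Cfsg.Agent.Lib.Char.Convolution
import Cfsg.Agent.Lib.Char.Central
import Cfsg.Agent.Lib.Blocks.LocalRing
import Cfsg.Agent.Lib.Blocks.BrauerFeit
import Cfsg.Agent.Lib.Blocks.Green

/-!
Characters of defect zero modulo `p`: the simple modules in the regular representation over a
field of characteristic `p`, and a lower bound for their dimension.
-/

set_option autoImplicit false
set_option linter.unusedSectionVars false

namespace CfsgLib.DefectMod

open Cfsg CfsgLib.Char CfsgLib.Blocks
open scoped ComplexConjugate CfsgLib.Char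

section Module

variable {G : Type*} [Group G] {k : Type*} [Field k] {p : ℕ} [hp : Fact p.Prime] [CharP k p]
  {V : Type*} [AddCommGroup V] [Module k V]

/-- A `p`-group fixes a vector of every nonzero invariant subspace. -/
theorem exists_fixed [Finite G] (ρ : Representation k G V) {U : Subgroup G} (hU : IsPGroup p U)
    {W : Submodule k V} (hW : ∀ g ∈ U, ∀ v ∈ W, ρ g v ∈ W) {v : V} (hv : v ∈ W) (hv0 : v ≠ 0) :
    ∃ w ∈ W, w ≠ 0 ∧ ∀ u ∈ U, ρ u w = w := by
  have hp0 : ∀ w : V, p • w = 0 := fun w => by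
    rw [← Nat.cast_smul_eq_nsmul k, CharP.cast_eq_zero, zero_smul]
  let _ : Module (ZMod p) V := AddCommGroup.zmodModule hp0
  obtain ⟨w, hw, hw0, hfix⟩ := Green.exists_fixed_ne_zero (p := p) (A := V) hU
    (fun u => (ρ (u : G)).toAddMonoidHom) (by ext; simp) (fun q q' w => by simp) W.toAddSubgroup
    hv0 (fun q => hW q q.2 v hv)
  exact ⟨w, hw, hw0, fun u hu => hfix ⟨u, hu⟩⟩

/-- A relative trace witness makes an invariant subspace at least as large as a `p`-subgroup. -/
theorem card_le_finrank [Fintype G] [FiniteDimensional k V] (ρ : Representation k G V)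
    {U : Subgroup G} (hU : IsPGroup p U) {W : Submodule k V} (hW : ∀ g, ∀ v ∈ W, ρ g v ∈ W)
    {v₀ : V} (hv₀ : v₀ ∈ W) (hv₀0 : v₀ ≠ 0) (A : V →ₗ[k] V) (hA : ∀ v ∈ W, A v ∈ W)
    (hid : ∀ v ∈ W, ∑ g : G, ρ g (A (ρ g⁻¹ v)) = v) :
    Nat.card U ≤ Module.finrank k W := by
  classical
  obtain ⟨v, hv, hv0, hfix⟩ := exists_fixed ρ hU (fun g _ => hW g) hv₀ hv₀0
  -- the fixed vector is a norm
  set A' : V →ₗ[k] V := ∑ q : G ⧸ U, ρ (Quotient.out q)⁻¹ ∘ₗ A ∘ₗ ρ (Quotient.out q) with hA'
  set w := A' v with hw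
  have hwW : w ∈ W := by
    rw [hw, hA', LinearMap.sum_apply]
    exact W.sum_mem fun q _ => hW _ _ (hA _ (hW _ _ hv))
  have hS : ∑ u : U, ρ (u : G) w = v := by
    refine Eq.trans ?_ (hid v hv)
    rw [← Equiv.sum_comp (Equiv.inv G) (fun g => ρ g (A (ρ g⁻¹ v))), Green.sum_coset U]
    simp only [hw, hA', LinearMap.sum_apply, map_sum, Equiv.inv_apply, inv_inv]
    rw [Finset.sum_comm]
    refine Finset.sum_congr rfl fun q _ => ?_
    refine Fintype.sum_equiv (Equiv.inv U) _ _ fun u => ?_
    simp only [Equiv.inv_apply, Subgroup.coe_inv, LinearMap.comp_apply, mul_inv_rev, inv_inv,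
      map_mul, Module.End.mul_apply, hfix _ (inv_mem u.2)]
  -- the translates of `w` are independent
  let L : (U → k) →ₗ[k] V := ∑ u : U, (LinearMap.proj u).smulRight (ρ (u : G) w)
  have hL : ∀ c : U → k, L c = ∑ u : U, c u • ρ (u : G) w := fun c => by
    simp [L, LinearMap.sum_apply]
  let reg : Representation k U (U → k) :=
    { toFun := fun u => LinearMap.funLeft k k fun x => u⁻¹ * x
      map_one' := by ext c x; simp
      map_mul' := fun a b => LinearMap.ext fun c => funext fun x => by simp [mul_assoc] }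
  have hinj : Function.Injective L := by
    rw [← LinearMap.ker_eq_bot, Submodule.eq_bot_iff]
    intro c hc
    by_contra hc0
    have hinv : ∀ u ∈ (⊤ : Subgroup U), ∀ c ∈ LinearMap.ker L, reg u c ∈ LinearMap.ker L := by
      intro u _ c hc
      rw [LinearMap.mem_ker, hL] at hc ⊢
      have e : ∑ x : U, reg u c x • ρ (x : G) w = ρ (u : G) (∑ x : U, c x • ρ (x : G) w) := by
        rw [map_sum]
        refine Fintype.sum_equiv (Equiv.mulLeft u⁻¹) _ _ fun x => ?_
        simp only [Equiv.coe_mulLeft, map_smul, ← Module.End.mul_apply, ← map_mul,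
          Subgroup.coe_mul, Subgroup.coe_inv, mul_inv_cancel_left]
        rfl
      rw [e, hc, map_zero]
    obtain ⟨d, hd, hd0, hdfix⟩ := exists_fixed reg (U := ⊤)
      (hU.of_equiv Subgroup.topEquiv.symm) hinv hc hc0
    have hconst : ∀ x : U, d x = d 1 := fun x => by
      have := congrFun (hdfix x⁻¹ (Subgroup.mem_top _)) 1
      simpa [reg] using this
    rw [LinearMap.mem_ker, hL, Finset.sum_congr rfl fun u _ => by rw [hconst u],
      ← Finset.smul_sum, hS, smul_eq_zero] at hd
    exact hd0 (funext fun x => (hconst x).trans (hd.resolve_right hv0))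
  have hrange : LinearMap.range L ≤ W := by
    rintro _ ⟨c, rfl⟩
    rw [hL]
    exact W.sum_mem fun u _ => W.smul_mem _ (hW _ _ hwW)
  have := Submodule.finrank_mono hrange
  rw [LinearMap.finrank_range_of_inj hinj, Module.finrank_pi] at this
  rwa [Nat.card_eq_fintype_card]

end Module

section Regular

variable {G : Type*} [Group G] [Fintype G] (k : Type*) [Field k]

/-- The regular representation on functions. -/
noncomputable def lreg : Representation k G (G → k) where
  toFun g := LinearMap.funLeft k k fun x => g⁻¹ * x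
  map_one' := by ext v x; simp
  map_mul' a b := LinearMap.ext fun v => funext fun x => by simp [mul_assoc]

lemma lreg_apply (g : G) (v : G → k) (x : G) : lreg k g v x = v (g⁻¹ * x) := rfl

variable {k}

/-- The action of a function. -/
noncomputable def act (e : G → k) : (G → k) →ₗ[k] (G → k) := ∑ g, e g • lreg k g

lemma act_apply (e v : G → k) (x : G) : act e v x = ∑ g, e g * v (g⁻¹ * x) := by
  simp [act, lreg_apply]

lemma act_mem {e : G → k} {W : Submodule k (G → k)} (hW : ∀ g, ∀ v ∈ W, lreg k g v ∈ W)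
    {v : G → k} (hv : v ∈ W) : act e v ∈ W := by
  rw [act, LinearMap.sum_apply]
  exact W.sum_mem fun g _ => W.smul_mem _ (hW g v hv)

lemma act_act (e f v : G → k) : act e (act f v) = act (act e f) v := by
  funext x
  simp only [act_apply, Finset.mul_sum, Finset.sum_mul]
  rw [Finset.sum_comm (f := fun i j => _ * _ * v (i⁻¹ * x))]
  refine Finset.sum_congr rfl fun g _ => ?_
  refine Fintype.sum_equiv (Equiv.mulLeft g) _ _ fun y => ?_
  simp [mul_assoc]

end Regular

section Main

variable {G : Type*} [Group G] [Fintype G] {p : ℕ} {M : Ideal AlgInt}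

/-- The idempotent of a character. -/
noncomputable def idem (χ : G → ℂ) (g : G) : ℂ := χ 1 / (Nat.card G : ℂ) * χ g⁻¹

lemma idem_orth (χ ψ : IrrCharacter G) (z : G) :
    ∑ x, idem (χ : G → ℂ) x * idem (ψ : G → ℂ) (x⁻¹ * z) =
      open scoped Classical in if χ = ψ then idem (χ : G → ℂ) z else 0 := by
  classical
  have hcl : IsClassFunction G (ψ : G → ℂ) :=
    isClassFunction_of_isCharacter (isCharacter_of_isIrr ψ.2)
  have h1 : ∑ x, (χ : G → ℂ) x⁻¹ * (ψ : G → ℂ) (z⁻¹ * x) =
      ∑ x, (ψ : G → ℂ) (x * z⁻¹) * conj ((χ : G → ℂ) x) := by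
    refine Finset.sum_congr rfl fun x _ => ?_
    rw [CfsgLib.Blocks.irr_value_inv χ.2, mul_comm, ← hcl (z⁻¹ * x) z]
    congr 2
    group
  have hd : (ψ : G → ℂ) 1 ≠ 0 := irr_degree_ne_zero ψ.2
  have hG : (Nat.card G : ℂ) ≠ 0 := Nat.cast_ne_zero.2 Nat.card_pos.ne'
  have h2 : ∑ x, idem (χ : G → ℂ) x * idem (ψ : G → ℂ) (x⁻¹ * z) =
      (χ : G → ℂ) 1 / (Nat.card G : ℂ) * ((ψ : G → ℂ) 1 / (Nat.card G : ℂ)) *
        ∑ x, (χ : G → ℂ) x⁻¹ * (ψ : G → ℂ) (z⁻¹ * x) := by
    rw [Finset.mul_sum]
    refine Finset.sum_congr rfl fun x _ => ?_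
    simp only [idem, mul_inv_rev, inv_inv]
    ring
  rw [h2, h1]
  by_cases h : χ = ψ
  · subst h
    rw [if_pos rfl, conv_self χ.2, idem]
    field_simp
  · rw [if_neg h]
    have h3 : ∑ x, (ψ : G → ℂ) (x * z⁻¹) * conj ((χ : G → ℂ) x) = 0 := by
      obtain ⟨n, ρ, hρ, e⟩ := ψ.2
      have hχ := χ.2
      let T : Representation.IntertwiningMap ρ ρ := ⟨twistedSum ρ (χ : G → ℂ), fun g =>
        twistedSum_comm ρ (isClassFunction_of_isCharacter (isCharacter_of_isIrr hχ)) g⟩
      obtain ⟨c, hc⟩ :=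
        (Representation.IsIrreducible.algebraMap_intertwiningMap_bijective_of_isAlgClosed
          (ρ := ρ)).2 T
      have hT : twistedSum ρ (χ : G → ℂ) = c • LinearMap.id := by
        rw [show twistedSum ρ (χ : G → ℂ) = T.toLinearMap from rfl, ← hc,
          Algebra.algebraMap_eq_smul_one]
        rfl
      have htr := trace_twistedSum ρ (χ : G → ℂ)
      rw [hT, map_smul, LinearMap.trace_id, smul_eq_mul, e, classInner_irr_ne hχ ψ.2
        (fun e' => h (Subtype.ext e')), mul_zero, mul_eq_zero] at htr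
      have hc0 : c = 0 := htr.resolve_right (Nat.cast_ne_zero.2
        (finrank_pos_of_irreducible ρ).ne')
      have h4 := congrArg (fun A => LinearMap.trace ℂ (Fin n → ℂ) (A * ρ z⁻¹)) hT
      simp only [hc0, zero_smul, zero_mul, map_zero, twistedSum, Finset.sum_mul, map_sum,
        smul_mul_assoc, map_smul, ← map_mul, smul_eq_mul] at h4
      rw [← h4]
      refine Fintype.sum_equiv (Equiv.inv G) _ _ fun x => ?_
      simp only [Equiv.inv_apply, inv_inv, ← e, CfsgLib.Blocks.irr_value_inv hχ]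
      rw [mul_comm]
      rfl
    rw [h3, mul_zero]

/-- `∑ χ (a (g x g⁻¹)) = |G| χ a χ x / χ 1`. -/
lemma sum_conj_char {χ : G → ℂ} (hχ : IsIrrCharacter G χ) (a x : G) :
    ∑ g : G, χ (a * (g * x * g⁻¹)) = (Nat.card G : ℂ) * χ a * χ x / χ 1 := by
  obtain ⟨n, ρ, hρ, rfl⟩ := hχ
  set T : (Fin n → ℂ) →ₗ[ℂ] (Fin n → ℂ) := ∑ g : G, ρ (g * x * g⁻¹) with hT
  have hcomm : ∀ h, T ∘ₗ ρ h = ρ h ∘ₗ T := by
    intro h
    show T * ρ h = ρ h * T
    rw [hT, Finset.sum_mul, Finset.mul_sum]
    refine Fintype.sum_equiv (Equiv.mulLeft h⁻¹) _ _ fun g => ?_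
    rw [← map_mul, ← map_mul]
    congr 1
    simp only [Equiv.coe_mulLeft]
    group
  let I : Representation.IntertwiningMap ρ ρ := ⟨T, hcomm⟩
  obtain ⟨c, hc⟩ :=
    (Representation.IsIrreducible.algebraMap_intertwiningMap_bijective_of_isAlgClosed (ρ := ρ)).2 I
  have hTc : T = c • LinearMap.id := by
    rw [show T = I.toLinearMap from rfl, ← hc, Algebra.algebraMap_eq_smul_one]
    rfl
  have htr : ∀ y, LinearMap.trace ℂ _ (ρ y * T) = ∑ g : G, ρ.character (y * (g * x * g⁻¹)) := by
    intro y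
    rw [hT, Finset.mul_sum, map_sum]
    exact Finset.sum_congr rfl fun g _ => by rw [← map_mul]; rfl
  have h1 := htr 1
  rw [map_one, one_mul, hTc, map_smul, LinearMap.trace_id, smul_eq_mul] at h1
  rw [Finset.sum_congr rfl fun g _ => by
    rw [one_mul, isClassFunction_character ρ x g], Finset.sum_const, Finset.card_univ,
    nsmul_eq_mul, ← Nat.card_eq_fintype_card] at h1
  rw [← htr a, hTc, mul_smul_comm, show ρ a * (LinearMap.id : (Fin n → ℂ) →ₗ[ℂ] (Fin n → ℂ)) = ρ a
    from mul_one _, map_smul, smul_eq_mul, Representation.char_one,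
    show LinearMap.trace ℂ _ (ρ a) = ρ.character a from rfl]
  have hn : (Module.finrank ℂ (Fin n → ℂ) : ℂ) ≠ 0 :=
    Nat.cast_ne_zero.mpr (finrank_pos_of_irreducible ρ).ne'
  field_simp
  rw [mul_assoc, mul_comm (ρ.character a), ← mul_assoc, h1]
  ring

variable (p)

/-- An irreducible character of defect zero. -/
def IsDefectZero (χ : G → ℂ) : Prop :=
  IsIrrCharacter G χ ∧ ∃ d : ℕ, χ 1 = (d : ℂ) ∧ p ^ (Nat.card G).factorization p ∣ d

variable {p}

/-- A simple module belonging to a character of defect zero, inside the regular representation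
over a field `k` with a map from the local ring. -/
structure Data (p : ℕ) (k : Type*) [Field k] (e : G → k) (W : Submodule k (G → k)) : Prop where
  ne_bot : W ≠ ⊥
  invariant : ∀ g, ∀ v ∈ W, lreg k g v ∈ W
  minimal : ∀ W' : Submodule k (G → k), W' ≤ W → W' ≠ ⊥ → (∀ g, ∀ v ∈ W', lreg k g v ∈ W') → W' = W
  act_id : ∀ v ∈ W, act e v = v
  large : ∀ U : Subgroup G, IsPGroup p U → Nat.card U ≤ Module.finrank k W

/-- Two characters of defect zero give two modules, separated by an element of the group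
algebra. -/
theorem exists_two [hp : Fact p.Prime] {χ ψ : IrrCharacter G} (hne : χ ≠ ψ)
    (hχ : IsDefectZero p (χ : G → ℂ)) (hψ : IsDefectZero p (ψ : G → ℂ)) :
    ∃ (k : Type) (_ : Field k) (_ : CharP k p) (_ : IsAlgClosed k) (e f : G → k)
      (W W' : Submodule k (G → k)),
      Data p k e W ∧ Data p k f W' ∧ ∀ v ∈ W', act e v = 0 := by
  classical
  obtain ⟨M, hM⟩ := exists_isPModular hp.out
  have := isPrime_of_isPModular hM
  have := charP_resField hM
  let k := AlgebraicClosure (ResField M)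
  have : CharP k p := charP_of_injective_algebraMap (algebraMap (ResField M) k).injective p
  let θ : ℂ → k := fun z => algebraMap (ResField M) k (res M z)
  have θsum : ∀ (f : G → ℂ), (∀ g, MemLocalRing M (f g)) → θ (∑ g, f g) = ∑ g, θ (f g) :=
    fun f hf => by
      show algebraMap _ _ (res M _) = _
      rw [res_sum _ _ (fun g _ => hf g), map_sum]
  have θmul : ∀ {a b : ℂ}, MemLocalRing M a → MemLocalRing M b → θ (a * b) = θ a * θ b :=
    fun ha hb => by show algebraMap _ _ (res M _) = _; rw [res_mul ha hb, map_mul]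
  have θzero : ∀ {a : ℂ}, MemLocalRing M a → (θ a = 0 ↔ MemLocalIdeal M a) := fun ha => by
    rw [show θ _ = algebraMap (ResField M) k (res M _) from rfl,
      map_eq_zero_iff _ (algebraMap (ResField M) k).injective, res_eq_zero_iff ha]
  -- the facts about one character
  have one : ∀ ξ : IrrCharacter G, IsDefectZero p (ξ : G → ℂ) →
      (∀ g, MemLocalRing M (idem (ξ : G → ℂ) g)) ∧
      ∃ W : Submodule k (G → k), Data p k (fun g => θ (idem (ξ : G → ℂ) g)) W := by
    intro ξ hξ
    obtain ⟨d, hd, hdvd⟩ := hξ.2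
    obtain ⟨d', hd', hd0, hdG⟩ := exists_degree_dvd_card ξ.2
    obtain rfl : d' = d := Nat.cast_injective (R := ℂ) (hd'.symm.trans hd)
    obtain ⟨c, hc⟩ := hdG
    have hpc : ¬ p ∣ c := by
      intro hpc
      have h1 : p ^ ((Nat.card G).factorization p + 1) ∣ Nat.card G := by
        rw [pow_succ]
        conv_rhs => rw [hc]
        exact mul_dvd_mul hdvd hpc
      have := (hp.out.pow_dvd_iff_le_factorization Nat.card_pos.ne').1 h1
      omega
    have hc0 : (c : ℂ) ≠ 0 := fun e => by
      rw [Nat.cast_eq_zero] at e; rw [e, mul_zero] at hc; exact Nat.card_pos.ne' hc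
    have hd'0 : (d' : ℂ) ≠ 0 := Nat.cast_ne_zero.2 hd0.ne'
    have hcoef : (ξ : G → ℂ) 1 / (Nat.card G : ℂ) = (c : ℂ)⁻¹ := by
      rw [hd, hc, Nat.cast_mul]
      field_simp
    have hcinv := memLocalRing_natCast_inv hM hpc
    have hval : ∀ g, MemLocalRing M ((ξ : G → ℂ) g) := fun g =>
      memLocalRing_of_isIntegral (irr_isIntegral ξ.2 g)
    have hloc : ∀ g, MemLocalRing M (idem (ξ : G → ℂ) g) := fun g => by
      rw [idem, hcoef]; exact memLocalRing_mul hcinv (hval _)
    refine ⟨hloc, ?_⟩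
    set e : G → k := fun g => θ (idem (ξ : G → ℂ) g) with he
    have hee : act e e = e := by
      funext z
      rw [act_apply]
      simp only [he]
      rw [Finset.sum_congr rfl fun g _ => (θmul (hloc g) (hloc _)).symm,
        ← θsum _ (fun g => memLocalRing_mul (hloc g) (hloc _)), idem_orth, if_pos rfl]
    -- the idempotent does not vanish modulo `p`
    obtain ⟨z₀, hz₀⟩ : ∃ z, e z ≠ 0 := by
      by_contra hall
      push Not at hall
      let v : G → locRing M := fun g => ⟨idem (ξ : G → ℂ) g, hloc g⟩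
      let S : Submodule (locRing M) (locRing M) := Submodule.span (locRing M) (Set.range v)
      have hS : S ≤ locIdeal M • S := by
        refine Submodule.span_le.2 ?_
        rintro _ ⟨z, rfl⟩
        have e1 : v z = ∑ x, v x * v (x⁻¹ * z) := Subtype.ext (by
          have := idem_orth ξ ξ z
          rw [if_pos rfl] at this
          simpa [v] using this.symm)
        rw [SetLike.mem_coe, e1]
        exact Submodule.sum_mem _ fun x _ => Submodule.smul_mem_smul
          (mem_locIdeal.2 ((θzero (hloc x)).1 (hall x))) (Submodule.subset_span ⟨_, rfl⟩)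
      have hjac : locIdeal M ≤ Ideal.jacobson (⊥ : Ideal (locRing M)) := by
        refine le_sInf fun J hJ => le_of_eq ?_
        refine (instIsMaximalLocIdeal.eq_of_le hJ.2.ne_top fun z hz => ?_)
        by_contra hzJ
        obtain ⟨-, hmax⟩ := hJ
        exact hzJ (by
          by_cases hu : z ∈ J
          · exact hu
          · exfalso
            obtain ⟨y, hy, hy'⟩ : ∃ y ∈ J, y ∉ locIdeal M := by
              by_contra hno
              push Not at hno
              exact hu ((hmax.eq_of_le (Ideal.IsMaximal.ne_top instIsMaximalLocIdeal)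
                (fun y hy => hno y hy)).symm ▸ hz)
            exact hmax.ne_top (Ideal.eq_top_of_isUnit_mem _ hy (isUnit_iff_not_mem_locIdeal.2 hy')))
      have hbot := Submodule.eq_bot_of_le_smul_of_le_jacobson_bot (locIdeal M) S
        (Submodule.fg_span (Set.finite_range _)) hS hjac
      have h1 : v 1 ∈ S := Submodule.subset_span ⟨1, rfl⟩
      rw [hbot, Submodule.mem_bot] at h1
      have h2 := congrArg Subtype.val h1
      simp only [v, idem, inv_one, ZeroMemClass.coe_zero] at h2
      rw [hcoef, hd, mul_eq_zero, inv_eq_zero] at h2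
      exact h2.elim hc0 hd'0
    -- some value is a unit
    obtain ⟨x, hx⟩ : ∃ x, θ ((ξ : G → ℂ) x) ≠ 0 := by
      refine ⟨z₀⁻¹, fun h0 => hz₀ ?_⟩
      show θ (idem (ξ : G → ℂ) z₀) = 0
      rw [idem, hcoef, θmul hcinv (hval _), h0, mul_zero]
    -- a minimal invariant subspace
    let P : Submodule k (G → k) → Prop := fun W =>
      W ≠ ⊥ ∧ (∀ g, ∀ v ∈ W, lreg k g v ∈ W) ∧ ∀ v ∈ W, act e v = v
    have hrange : P (LinearMap.range (act e)) := by
      refine ⟨fun hb => hz₀ ?_, ?_, ?_⟩
      · have h1 : act e e ∈ LinearMap.range (act e) := ⟨e, rfl⟩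
        rw [hb, Submodule.mem_bot, hee] at h1
        exact congrFun h1 z₀
      · rintro g _ ⟨v, rfl⟩
        refine ⟨lreg k g v, ?_⟩
        funext y
        simp only [act_apply, lreg_apply]
        refine Fintype.sum_equiv (MulAut.conj g⁻¹).toEquiv _ _ fun a => ?_
        simp only [MulEquiv.toEquiv_eq_coe, EquivLike.coe_coe, MulAut.conj_apply, inv_inv,
          mul_inv_rev]
        congr 1
        · simp only [he, idem]
          congr 2
          have := (isClassFunction_of_isCharacter (isCharacter_of_isIrr ξ.2)) a⁻¹ g⁻¹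
          rw [inv_inv] at this
          rw [← this]
          congr 1
          group
        · congr 1; group
      · rintro _ ⟨v, rfl⟩
        rw [act_act, hee]
    have hex : ∃ n, ∃ W, P W ∧ Module.finrank k W = n := ⟨_, _, hrange, rfl⟩
    obtain ⟨W, hW, hWn⟩ := Nat.find_spec hex
    obtain ⟨hW0, hWi, hWe⟩ := hW
    refine ⟨W, hW0, hWi, fun W' hle h0 hinv => ?_, hWe, fun U hU => ?_⟩
    · refine Submodule.eq_of_le_of_finrank_le hle ?_
      rw [hWn]
      exact Nat.find_min' hex ⟨W', ⟨h0, hinv, fun v hv => hWe v (hle hv)⟩, rfl⟩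
    · obtain ⟨v₀, hv₀, hv₀0⟩ := Submodule.exists_mem_ne_zero_of_ne_bot hW0
      -- the relative trace
      have hκ : MemLocalRing M ((c : ℂ) * (ξ : G → ℂ) x) :=
        memLocalRing_mul (memLocalRing_natCast c) (hval x)
      set a : k := θ ((c : ℂ) * (ξ : G → ℂ) x) with ha
      have ha0 : a ≠ 0 := by
        rw [ha, θmul (memLocalRing_natCast c) (hval x)]
        refine mul_ne_zero (fun h0 => hpc ?_) hx
        exact (memLocalIdeal_natCast_iff hM).1 ((θzero (memLocalRing_natCast c)).1 h0)
      have hkey : ∀ y, ∑ g : G, e ((g * x * g⁻¹)⁻¹ * y) = a * e y := by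
        intro y
        simp only [he]
        rw [← θsum _ (fun g => hloc _), ha, ← θmul hκ (hloc y)]
        congr 1
        have h1 : ∀ g : G, ((g * x * g⁻¹)⁻¹ * y)⁻¹ = y⁻¹ * (g * x * g⁻¹) := fun g => by group
        simp only [idem, h1, ← Finset.mul_sum, sum_conj_char ξ.2, hcoef]
        rw [hd, hc, Nat.cast_mul]
        field_simp
      refine card_le_finrank (lreg k) hU hWi hv₀ hv₀0 (a⁻¹ • lreg k x)
        (fun v hv => W.smul_mem _ (hWi _ v hv)) fun v hv => ?_
      funext y
      simp only [LinearMap.smul_apply, map_smul, Finset.sum_apply, Pi.smul_apply, smul_eq_mul,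
        lreg_apply, ← Finset.mul_sum]
      have hv' : ∀ z, v z = ∑ b, e b * v (b⁻¹ * z) := fun z => by
        conv_lhs => rw [← hWe v hv]
        exact act_apply _ _ _
      rw [inv_mul_eq_iff_eq_mul₀ ha0, hv' y, Finset.mul_sum]
      have h2 : ∀ b, a * (e b * v (b⁻¹ * y)) = ∑ g : G, e ((g * x * g⁻¹)⁻¹ * b) * v (b⁻¹ * y) := by
        intro b; rw [← mul_assoc, ← hkey, Finset.sum_mul]
      rw [Finset.sum_congr rfl fun b _ => h2 b, Finset.sum_comm]
      refine Finset.sum_congr rfl fun g _ => ?_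
      rw [hv']
      refine Fintype.sum_equiv (Equiv.mulLeft (g * x * g⁻¹)) _ _ fun b => ?_
      simp only [Equiv.coe_mulLeft]
      congr 2 <;> group
  obtain ⟨hlocχ, W, hW⟩ := one χ hχ
  obtain ⟨hlocψ, W', hW'⟩ := one ψ hψ
  refine ⟨k, inferInstance, inferInstance, inferInstance, _, _, W, W', hW, hW', fun v hv => ?_⟩
  rw [← hW'.act_id v hv, act_act]
  have h0 : act (fun g => θ (idem (χ : G → ℂ) g)) (fun g => θ (idem (ψ : G → ℂ) g)) = 0 := by
    funext z
    rw [act_apply, Finset.sum_congr rfl fun g _ => (θmul (hlocχ g) (hlocψ _)).symm,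
      ← θsum _ (fun g => memLocalRing_mul (hlocχ g) (hlocψ _)), idem_orth, if_neg hne]
    exact (congrArg (algebraMap (ResField M) k) res_zero).trans (map_zero _)
  rw [h0]
  funext x
  simp [act_apply]

end Main

end CfsgLib.DefectMod
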