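import Cfsg.Agent.Lib.Char.Projective
import Cfsg.Agent.Lib.Char.Clifford

/-!
# The multiplicity in a restriction to a normal subgroup divides the index
-/

set_option autoImplicit false
set_option linter.unusedSectionVars false

namespace CfsgLib.Char

open Cfsg
open scoped ComplexConjugate CfsgLib.Char

variable {G : Type*} [Group G] [Fintype G] (N : Subgroup G) [N.Normal] [Fintype N]

theorem multiplicity_dvd_index {θ : N → ℂ} (hθ : IsIrrCharacter N θ) {χ : G → ℂ}
    (hχ : IsIrrCharacter G χ) (hcon : classInner (fun n : N => χ n) θ ≠ 0) :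
    ∃ e : ℕ, classInner (fun n : N => χ n) θ = e ∧ e ∣ N.index := by
  classical
  set T := inertia N θ with hT
  have hNT : N ≤ T := le_inertia N (isClassFunction_of_isCharacter (isCharacter_of_isIrr hθ))
  obtain ⟨ψ, hψ, -, heq⟩ :=
    clifford_correspondence_surjective N T hθ (fun g => Iff.rfl) hNT hχ hcon
  set e := Subgroup.subgroupOfEquivOfLe hNT
  have hθ' : IsIrrCharacter (N.subgroupOf T) (fun x => θ (e x)) :=
    (isIrrCharacter_comp_equiv e).mpr hθ
  have hinv : ∀ g : T, conjBy (N.subgroupOf T) (fun x => θ (e x)) g = fun x => θ (e x) := by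
    intro g; funext x
    have h1 := congrFun (g.2 : conjBy N θ (g : G) = θ) (e x)
    rw [← h1]
    simp only [conjBy]
    congr 1
  have hi : classInner (fun x : N.subgroupOf T => ψ x) (fun x => θ (e x)) =
      classInner (fun n : N => χ n) θ := by
    rw [← heq]
    exact classInner_comp_equiv e (resTo N T hNT ψ) θ
  obtain ⟨m, hm, hdvd⟩ := multiplicity_dvd_index_of_invariant (N.subgroupOf T) hθ' hinv hψ
    (by rw [hi]; exact hcon)
  exact ⟨m, hi ▸ hm, hdvd.trans (Subgroup.relIndex_dvd_index_of_normal N T)⟩

end CfsgLib.Char
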