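import Cfsg.Agent.Lib.Char.Artin
import Cfsg.Agent.Lib.Char.ItoMichler
import Cfsg.Agent.Lib.Char.MultiplicityDvd
import Cfsg.Agent.Lib.Char.GlaubermanPGroup
import Cfsg.Agent.Lib.Char.Kernel

/-!
# The sum of the squares of the odd degrees

For a Sylow 2-subgroup with normalizer `N` the sum is at least `|N : P'|`; the case of equality.
-/

set_option autoImplicit false
set_option linter.unusedSectionVars false

namespace CfsgLib.Char.OddDegreeSum

open Cfsg
open scoped ComplexConjugate CfsgLib.Char Pointwise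

variable {G : Type*} [Group G] [Finite G]

/-- The degree, as a natural number. -/
theorem charDegree_spec (χ : IrrCharacter G) :
    (χ : G → ℂ) 1 = (charDegree (χ : G → ℂ) : ℂ) := by
  obtain ⟨n, -, hn⟩ := exists_nat_degree_irr χ.2
  rw [Extraspecial.charDegree_eq hn, hn]

theorem charDegree_pos (χ : IrrCharacter G) : 0 < charDegree (χ : G → ℂ) := by
  obtain ⟨n, hn0, hn⟩ := exists_nat_degree_irr χ.2
  rwa [Extraspecial.charDegree_eq hn]

theorem charDegree_dvd_card (χ : IrrCharacter G) : charDegree (χ : G → ℂ) ∣ Nat.card G := by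
  obtain ⟨n, hn, -, hd⟩ := exists_degree_dvd_card (G := G) χ.2
  rwa [Extraspecial.charDegree_eq hn]

/-- The irreducible characters of odd degree. -/
noncomputable def oddIrr (G : Type*) [Group G] [Finite G] : Finset (IrrCharacter G) :=
  haveI : Finite (IrrCharacter G) := finite_irrCharacter
  haveI : Fintype (IrrCharacter G) := Fintype.ofFinite _
  Finset.univ.filter fun χ => ¬ 2 ∣ charDegree (χ : G → ℂ)

theorem mem_oddIrr {χ : IrrCharacter G} : χ ∈ oddIrr G ↔ ¬ 2 ∣ charDegree (χ : G → ℂ) := by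
  simp [oddIrr]

/-- The sum of the squares of the odd degrees. -/
noncomputable def oddSq (G : Type*) [Group G] [Finite G] : ℕ :=
  ∑ χ ∈ oddIrr G, charDegree (χ : G → ℂ) ^ 2

theorem finsum_eq_oddSq (G : Type*) [Group G] [Finite G] :
    (∑ᶠ χ : {χ : IrrCharacter G // ¬ 2 ∣ charDegree (χ : G → ℂ)},
      charDegree (χ.1 : G → ℂ) ^ 2) = oddSq G := by
  classical
  haveI : Finite (IrrCharacter G) := finite_irrCharacter
  letI : Fintype {χ : IrrCharacter G // ¬ 2 ∣ charDegree (χ : G → ℂ)} := Fintype.ofFinite _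
  rw [finsum_eq_sum_of_fintype, oddSq]
  exact (Finset.sum_subtype (oddIrr G) (fun χ => mem_oddIrr)
    (fun χ => charDegree (χ : G → ℂ) ^ 2)).symm

section Normal

variable (K : Subgroup G) [K.Normal]

theorem degree_mul [Fintype G] [Fintype K] (θ : IrrCharacter K) (χ : IrrCharacter G)
    (h : classInner (fun n : K => (χ : G → ℂ) n) (θ : K → ℂ) ≠ 0) :
    ∃ k : ℕ, charDegree (χ : G → ℂ) = k * charDegree (θ : K → ℂ) ∧ k ∣ K.index := by
  obtain ⟨k, hk, hd⟩ := degree_ratio K θ.2 χ.2 h
  refine ⟨k, ?_, hd⟩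
  rw [charDegree_spec, charDegree_spec, ← Nat.cast_mul] at hk
  exact Nat.cast_injective hk

theorem parity_eq [Fintype G] [Fintype K] (hodd : ¬ 2 ∣ K.index) (θ : IrrCharacter K)
    (χ : IrrCharacter G) (h : classInner (fun n : K => (χ : G → ℂ) n) (θ : K → ℂ) ≠ 0) :
    (2 ∣ charDegree (χ : G → ℂ) ↔ 2 ∣ charDegree (θ : K → ℂ)) := by
  obtain ⟨k, hk, hd⟩ := degree_mul K θ χ h
  rw [hk, Nat.prime_two.dvd_mul]
  exact ⟨fun h => h.resolve_left fun h2 => hodd (h2.trans hd), Or.inr⟩

theorem exists_over [Fintype G] [Fintype K] (θ : IrrCharacter K) :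
    ∃ χ : IrrCharacter G, classInner (fun n : K => (χ : G → ℂ) n) (θ : K → ℂ) ≠ 0 := by
  by_contra hc
  push_neg at hc
  have he := classFunction_expansion (isClassFunction_indFun K (θ : K → ℂ))
  have h0 : indFun K (θ : K → ℂ) 1 = 0 := by
    rw [congrFun he 1, Finset.sum_apply]
    refine Finset.sum_eq_zero fun χ _ => ?_
    rw [frobenius_reciprocity K _ (isClassFunction_irr χ), ← classInner_conj_symm, hc χ]
    simp
  rw [indFun_one] at h0
  rcases mul_eq_zero.mp h0 with e | e
  · exact Subgroup.index_ne_zero_of_finite (Nat.cast_eq_zero.mp e)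
  · exact irr_degree_ne_zero θ.2 e

/-- Passing to a normal subgroup of odd index. -/
theorem oddSq_eq_index_mul (hodd : ¬ 2 ∣ K.index) : oddSq G = K.index * oddSq K := by
  classical
  haveI : Fintype G := Fintype.ofFinite G
  haveI : Fintype K := Fintype.ofFinite K
  let m : IrrCharacter G → IrrCharacter K → ℂ := fun χ θ =>
    classInner (fun n : K => (χ : G → ℂ) n) (θ : K → ℂ)
  have hres : ∀ χ : IrrCharacter G, (χ : G → ℂ) 1 = ∑ θ : IrrCharacter K, m χ θ * (θ : K → ℂ) 1 := by
    intro χ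
    have h := congrFun (classFunction_expansion (G := K)
      (isClassFunction_of_isCharacter (isCharacter_restrict K (isCharacter_of_isIrr χ.2)))) 1
    simpa [Finset.sum_apply] using h
  have hind : ∀ θ : IrrCharacter K,
      (K.index : ℂ) * (θ : K → ℂ) 1 = ∑ χ : IrrCharacter G, m χ θ * (χ : G → ℂ) 1 := by
    intro θ
    rw [← indFun_one, congrFun (classFunction_expansion (isClassFunction_indFun K (θ : K → ℂ))) 1,
      Finset.sum_apply]
    refine Finset.sum_congr rfl fun χ _ => ?_
    obtain ⟨n, hn⟩ := exists_nat_classInner (isCharacter_restrict K (isCharacter_of_isIrr χ.2))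
      (isCharacter_of_isIrr θ.2)
    rw [frobenius_reciprocity K _ (isClassFunction_irr χ), ← classInner_conj_symm,
      Pi.smul_apply, smul_eq_mul]
    show (starRingEnd ℂ) (classInner (fun h : K => (χ : G → ℂ) h) (θ : K → ℂ)) * _ = _
    simp only [m, hn, map_natCast]
  have hz : ∀ χ θ, ¬ (χ ∈ oddIrr G ↔ θ ∈ oddIrr K) → m χ θ = 0 := by
    intro χ θ h
    by_contra hne
    exact h (by rw [mem_oddIrr, mem_oddIrr, parity_eq K hodd θ χ hne])
  have key : ((K.index * oddSq K : ℕ) : ℂ) = (oddSq G : ℕ) := by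
    push_cast [oddSq]
    simp only [← charDegree_spec, Finset.mul_sum]
    calc ∑ θ ∈ oddIrr K, (K.index : ℂ) * (θ : K → ℂ) 1 ^ 2
        = ∑ θ ∈ oddIrr K, ∑ χ ∈ oddIrr G, m χ θ * (θ : K → ℂ) 1 * (χ : G → ℂ) 1 := by
          refine Finset.sum_congr rfl fun θ hθ => ?_
          rw [sq, ← mul_assoc, hind θ, Finset.sum_mul]
          refine (Finset.sum_subset (Finset.subset_univ _) fun χ _ hχ => ?_).symm.trans
            (Finset.sum_congr rfl fun χ _ => by ring)
          rw [hz χ θ fun h => hχ (h.mpr hθ), zero_mul, zero_mul]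
      _ = ∑ χ ∈ oddIrr G, (χ : G → ℂ) 1 ^ 2 := by
          rw [Finset.sum_comm]
          refine Finset.sum_congr rfl fun χ hχ => ?_
          rw [← Finset.sum_mul, sq]
          congr 1
          rw [hres χ]
          refine Finset.sum_subset (Finset.subset_univ _) fun θ _ hθ => ?_
          rw [hz χ θ fun h => hθ (h.mp hχ), zero_mul]
  exact (Nat.cast_injective key).symm

end Normal

section NormalSylow

variable (P : Subgroup G) [P.Normal]

/-- With a normal Sylow 2-subgroup, odd degree means trivial on the derived subgroup. -/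
theorem odd_iff_trivial (hP : IsPGroup 2 P) (hidx : ¬ 2 ∣ P.index) (χ : IrrCharacter G) :
    χ ∈ oddIrr G ↔
      ∀ x ∈ (commutator P).map P.subtype, (χ : G → ℂ) x = (χ : G → ℂ) 1 := by
  classical
  haveI : Fintype G := Fintype.ofFinite G
  haveI : Fintype P := Fintype.ofFinite P
  obtain ⟨θ, hθ⟩ := exists_constituent P (isCharacter_of_isIrr χ.2) (irr_degree_ne_zero χ.2)
  have hpar := parity_eq P hidx θ χ hθ
  have hlin : ¬ 2 ∣ charDegree (θ : P → ℂ) ↔ (θ : P → ℂ) 1 = 1 := by
    constructor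
    · intro h
      obtain ⟨e, he⟩ := IsPGroup.iff_card.mp hP
      obtain ⟨j, -, hj⟩ := (Nat.dvd_prime_pow Nat.prime_two).mp (he ▸ charDegree_dvd_card θ)
      rcases Nat.eq_zero_or_pos j with rfl | hj0
      · rw [charDegree_spec, hj]; simp
      · exact absurd (hj ▸ dvd_pow_self 2 hj0.ne') h
    · intro h1
      rw [Extraspecial.charDegree_eq (d := 1) (by simpa using h1)]
      norm_num
  rw [mem_oddIrr, hpar, hlin]
  obtain ⟨D, hD, hDmem, hDmul⟩ := exists_kernel (isCharacter_of_isIrr χ.2)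
  constructor
  · intro h1
    have hP' : ∀ φ ∈ orbit P (θ : P → ℂ), ∀ y ∈ commutator P, φ y = φ 1 := by
      intro φ hφ y hy
      obtain ⟨g, rfl⟩ := (mem_orbit P).mp hφ
      have hc : IsCharacter P (conjBy P (θ : P → ℂ) g) :=
        isCharacter_of_isIrr (isIrrCharacter_conjBy P θ.2 g)
      have h1' : conjBy P (θ : P → ℂ) g 1 = 1 := by rw [conjBy_apply_one, h1]
      have hker : y ∈ (linearHom hc h1').ker :=
        (Abelianization.commutator_subset_ker _) hy
      rw [MonoidHom.mem_ker] at hker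
      rw [← linearHom_apply hc h1' y, hker, h1', Units.val_one]
    rintro _ ⟨y, hy, rfl⟩
    have hcl := clifford P χ.2 θ.2 hθ
    have e1 := congrFun hcl y
    have e2 := congrFun hcl 1
    simp only [Pi.smul_apply, Finset.sum_apply] at e1 e2
    rw [show (χ : G → ℂ) (P.subtype y) = (χ : G → ℂ) (y : G) from rfl, e1,
      Finset.sum_congr rfl fun φ hφ => hP' φ hφ y hy, ← e2]
    rfl
  · intro h
    -- the commutator of `P` lies in the kernel, so `θ` is trivial on it
    have hmul : ∀ y ∈ commutator P, ∀ x : P, (θ : P → ℂ) (y * x) = (θ : P → ℂ) x := by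
      intro y hy x
      have hyD : (y : G) ∈ D := (hDmem _).mpr (h _ ⟨y, hy, rfl⟩)
      rcases avgN_dichotomy (commutator P) θ.2 with ⟨-, hconst⟩ | ⟨hzero, -⟩
      · exact hconst ⟨y, hy⟩ x
      · exfalso
        refine hθ ?_
        have e : (fun n : P => (χ : G → ℂ) n) = avgN (commutator P) (fun n : P => (χ : G → ℂ) n) := by
          funext z
          have hs : ∀ c : commutator P, (fun n : P => (χ : G → ℂ) n) ((c : P) * z) = (χ : G → ℂ) z := by
            intro c
            exact hDmul _ ((hDmem _).mpr (h _ ⟨c, c.2, rfl⟩)) _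
          simp only [avgN]
          rw [Finset.sum_congr rfl fun c _ => hs c, Finset.sum_const, Finset.card_univ,
            nsmul_eq_mul, ← Nat.card_eq_fintype_card, ← mul_assoc,
            inv_mul_cancel₀ (Nat.cast_ne_zero.mpr Nat.card_pos.ne'), one_mul]
        rw [e, classInner_avgN, hzero, classInner_zero_right]
    obtain ⟨n, ρ, hρ, hθρ⟩ := θ.2
    have hscal : ∀ y ∈ commutator P, ρ y = 1 := by
      intro y hy
      refine (character_eq_finrank_iff ρ y).mp ?_
      have h2 := hmul y hy 1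
      rw [mul_one, ← hθρ] at h2
      rw [h2]; exact Representation.char_one ρ
    -- the representation factors through an abelian group, hence is linear
    let ρ' : Representation ℂ (P ⧸ commutator P) (Fin n → ℂ) :=
      QuotientGroup.lift (commutator P) ρ fun y hy => MonoidHom.mem_ker.mpr (hscal y hy)
    have hρ' : ρ'.IsIrreducible := irreducible_of_comp (QuotientGroup.mk' (commutator P)) ρ' hρ
    have hab : ∀ a b : P ⧸ commutator P, a * b = b * a :=
      fun a b => @mul_comm (Abelianization P) _ a b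
    have h1 := degree_one_of_comm hab (irrOf ρ')
    rw [← hθρ]
    rw [Representation.char_one]
    rw [show ((irrOf ρ' : IrrCharacter (P ⧸ commutator P)) : P ⧸ commutator P → ℂ) 1 =
      ρ'.character 1 from rfl, Representation.char_one] at h1
    exact h1

/-- The sum for a group with normal Sylow 2-subgroup. -/
theorem oddSq_normal (hP : IsPGroup 2 P) (hidx : ¬ 2 ∣ P.index) :
    oddSq G * Nat.card (commutator P) = Nat.card G := by
  classical
  haveI : Fintype G := Fintype.ofFinite G
  set M := (commutator P).map P.subtype with hM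
  haveI : M.Normal := ConjAct.normal_of_characteristic_of_normal
  haveI : Fintype M := Fintype.ofFinite M
  have hcard : Nat.card M = Nat.card (commutator P) :=
    Subgroup.card_map_of_injective P.subtype_injective
  have hexp := congrFun (classFunction_expansion (isClassFunction_indFun M (fun _ : M => (1 : ℂ)))) 1
  rw [indFun_one, mul_one, Finset.sum_apply] at hexp
  have hc : ∀ χ : IrrCharacter G,
      (classInner (indFun M (fun _ : M => (1 : ℂ))) (χ : G → ℂ) • (χ : G → ℂ)) 1 =
        if χ ∈ oddIrr G then ((charDegree (χ : G → ℂ) ^ 2 : ℕ) : ℂ) else 0 := by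
    intro χ
    rw [Pi.smul_apply, smul_eq_mul, frobenius_reciprocity M _ (isClassFunction_irr χ)]
    have hz : classInner (fun _ : M => (1 : ℂ)) (fun h : M => (χ : G → ℂ) h) =
        if χ ∈ oddIrr G then (χ : G → ℂ) 1 else 0 := by
      split_ifs with hodd
      · simp only [classInner, one_mul]
        rw [Finset.sum_congr rfl fun (x : M) _ => show conj ((χ : G → ℂ) x) = (χ : G → ℂ) 1 by
          rw [(odd_iff_trivial P hP hidx χ).mp hodd x x.2, charDegree_spec, map_natCast],
          Finset.sum_const, Finset.card_univ, nsmul_eq_mul, ← Nat.card_eq_fintype_card,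
          ← mul_assoc, inv_mul_cancel₀ (Nat.cast_ne_zero.mpr Nat.card_pos.ne'), one_mul]
      · rcases avgN_dichotomy M χ.2 with ⟨-, hconst⟩ | ⟨hzero, -⟩
        · refine absurd ((odd_iff_trivial P hP hidx χ).mpr fun x hx => ?_) hodd
          simpa using hconst ⟨x, hx⟩ 1
        · have h1 := congrFun hzero 1
          simp only [avgN, mul_one, Pi.zero_apply] at h1
          simp only [classInner, one_mul, ← map_sum]
          rcases mul_eq_zero.mp h1 with h1 | h1
          · rw [h1, zero_mul]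
          · rw [h1, map_zero, mul_zero]
    rw [hz]
    split_ifs
    · rw [Nat.cast_pow, ← charDegree_spec, sq]
    · rw [zero_mul]
  rw [Finset.sum_congr rfl fun χ _ => hc χ, ← Finset.sum_filter, ← Nat.cast_sum,
    Finset.filter_mem_eq_inter, Finset.univ_inter] at hexp
  have : M.index = oddSq G := Nat.cast_injective hexp
  rw [← this, ← hcard, M.index_mul_card]

end NormalSylow

section Bound

variable (N : Subgroup G)

theorem exists_odd_over [Fintype G] [Fintype N] (hN : ¬ 2 ∣ N.index) (ψ : IrrCharacter N)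
    (hψ : ψ ∈ oddIrr N) :
    ∃ χ ∈ oddIrr G, classInner (fun n : N => (χ : G → ℂ) n) (ψ : N → ℂ) ≠ 0 := by
  classical
  obtain ⟨m, hm⟩ := exists_multiplicities (isCharacter_indFun N (isCharacter_of_isIrr ψ.2))
  by_contra hc
  push_neg at hc
  have hz : ∀ χ ∈ oddIrr G, m χ = 0 := by
    intro χ hχ
    have h := congrArg (fun f => classInner f (χ : G → ℂ)) hm
    simp only [classInner_sum_smul_irr] at h
    rw [frobenius_reciprocity N _ (isClassFunction_irr χ), ← classInner_conj_symm, hc χ hχ,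
      map_zero] at h
    exact_mod_cast h.symm
  have h1 := congrFun hm 1
  rw [indFun_one, Finset.sum_apply, charDegree_spec] at h1
  simp only [Pi.smul_apply, smul_eq_mul, charDegree_spec] at h1
  norm_cast at h1
  have h2 : 2 ∣ ∑ χ : IrrCharacter G, m χ * charDegree (χ : G → ℂ) := by
    refine Finset.dvd_sum fun χ _ => ?_
    by_cases hχ : χ ∈ oddIrr G
    · simp [hz χ hχ]
    · exact dvd_mul_of_dvd_right (not_not.mp (mt mem_oddIrr.mpr hχ)) _
  rw [← h1] at h2
  exact (Nat.prime_two.dvd_mul.mp h2).elim hN (mem_oddIrr.mp hψ)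

theorem sum_biUnion_le {α β : Type*} [DecidableEq β] (s : Finset α) (t : α → Finset β) (f : β → ℕ) :
    ∑ x ∈ s.biUnion t, f x ≤ ∑ a ∈ s, ∑ x ∈ t a, f x := by
  classical
  induction s using Finset.induction with
  | empty => simp
  | insert a s ha ih =>
    rw [Finset.biUnion_insert, Finset.sum_insert ha]
    exact le_trans (le_trans (Nat.le_add_right _ _) (le_of_eq (Finset.sum_union_inter))) (by omega)

/-- The inequality, with the consequence of equality. -/
theorem bound (hN : ¬ 2 ∣ N.index) :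
    oddSq N ≤ oddSq G ∧ (oddSq N = oddSq G →
      (∀ χ ∈ oddIrr G, IsIrrCharacter N (fun n : N => (χ : G → ℂ) n)) ∧
        ∀ ψ ∈ oddIrr N, ∃ χ ∈ oddIrr G, (fun n : N => (χ : G → ℂ) n) = (ψ : N → ℂ)) := by
  classical
  haveI : Fintype G := Fintype.ofFinite G
  haveI : Fintype N := Fintype.ofFinite N
  let S : IrrCharacter G → Finset (IrrCharacter N) := fun χ =>
    (oddIrr N).filter fun ψ : IrrCharacter N =>
      classInner (fun n : N => (χ : G → ℂ) n) (ψ : N → ℂ) ≠ 0
  have hcov : oddIrr N ⊆ (oddIrr G).biUnion S := by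
    intro ψ hψ
    obtain ⟨χ, hχ, hne⟩ := exists_odd_over N hN ψ hψ
    exact Finset.mem_biUnion.mpr ⟨χ, hχ, Finset.mem_filter.mpr ⟨hψ, hne⟩⟩
  choose m hm using fun (χ : IrrCharacter G) =>
    exists_multiplicities (isCharacter_restrict N (isCharacter_of_isIrr χ.2))
  have hmS : ∀ χ, ∀ ψ ∈ S χ, 1 ≤ m χ ψ := by
    intro χ ψ hψ
    refine Nat.one_le_iff_ne_zero.mpr fun h0 => (Finset.mem_filter.mp hψ).2 ?_
    rw [hm χ, classInner_sum_smul_irr, h0, Nat.cast_zero]
  have hdeg : ∀ χ : IrrCharacter G, charDegree (χ : G → ℂ) =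
      ∑ ψ : IrrCharacter N, m χ ψ * charDegree (ψ : N → ℂ) := by
    intro χ
    have h := congrFun (hm χ) 1
    simp only [OneMemClass.coe_one, Finset.sum_apply, Pi.smul_apply, smul_eq_mul] at h
    rw [charDegree_spec] at h
    simp only [charDegree_spec] at h
    exact_mod_cast h
  have hlin : ∀ χ, ∑ ψ ∈ S χ, charDegree (ψ : N → ℂ) ≤ charDegree (χ : G → ℂ) := by
    intro χ
    rw [hdeg χ]
    exact le_trans (Finset.sum_le_sum fun ψ hψ => Nat.le_mul_of_pos_left _ (hmS χ ψ hψ))
      (Finset.sum_le_sum_of_subset (Finset.subset_univ _))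
  have hsq : ∀ χ, ∑ ψ ∈ S χ, charDegree (ψ : N → ℂ) ^ 2 ≤ charDegree (χ : G → ℂ) ^ 2 := fun χ =>
    le_trans (Finset.sum_sq_le_sq_sum_of_nonneg fun ψ _ => Nat.zero_le _)
      (Nat.pow_le_pow_left (hlin χ) 2)
  have h12 : oddSq N ≤ ∑ χ ∈ oddIrr G, ∑ ψ ∈ S χ, charDegree (ψ : N → ℂ) ^ 2 :=
    le_trans (Finset.sum_le_sum_of_subset hcov) (sum_biUnion_le (oddIrr G) S fun ψ : IrrCharacter N => charDegree (ψ : N → ℂ) ^ 2)
  refine ⟨le_trans h12 (Finset.sum_le_sum fun χ _ => hsq χ), fun heq => ?_⟩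
  have hall : ∀ χ ∈ oddIrr G,
      ∑ ψ ∈ S χ, charDegree (ψ : N → ℂ) ^ 2 = charDegree (χ : G → ℂ) ^ 2 :=
    (Finset.sum_eq_sum_iff_of_le fun χ _ => hsq χ).mp
      (le_antisymm (Finset.sum_le_sum fun χ _ => hsq χ) (le_of_eq_of_le heq.symm h12))
  have hirr : ∀ χ ∈ oddIrr G, ∃ ψ, S χ = {ψ} ∧ (fun n : N => (χ : G → ℂ) n) = (ψ : N → ℂ) := by
    intro χ hχ
    have hpos := charDegree_pos χ
    obtain ⟨ψ, hψ⟩ : (S χ).Nonempty := by
      rw [Finset.nonempty_iff_ne_empty]
      intro h
      have := hall χ hχ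
      rw [h, Finset.sum_empty] at this
      exact absurd this.symm (by positivity)
    have hsingle : S χ = {ψ} := by
      refine Finset.eq_singleton_iff_unique_mem.mpr ⟨hψ, fun ψ' hψ' => ?_⟩
      by_contra hne
      have hlt : ∑ φ ∈ S χ, charDegree (φ : N → ℂ) ^ 2 <
          (∑ φ ∈ S χ, charDegree (φ : N → ℂ)) ^ 2 := by
        rw [sq (∑ φ ∈ S χ, charDegree (φ : N → ℂ)), Finset.sum_mul]
        refine Finset.sum_lt_sum (fun φ hφ => ?_) ⟨ψ, hψ, ?_⟩
        · rw [sq]
          exact Nat.mul_le_mul_left _ (Finset.single_le_sum (f := fun a : IrrCharacter N =>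
            charDegree (a : N → ℂ)) (fun a _ => Nat.zero_le _) hφ)
        · rw [sq]
          refine Nat.mul_lt_mul_of_pos_left ?_ (charDegree_pos ψ)
          exact Finset.single_lt_sum (f := fun a : IrrCharacter N => charDegree (a : N → ℂ))
            hne hψ hψ' (charDegree_pos ψ') fun a _ _ => Nat.zero_le _
      rw [hall χ hχ] at hlt
      exact absurd hlt (not_lt.mpr (Nat.pow_le_pow_left (hlin χ) 2))
    have hd : charDegree (ψ : N → ℂ) = charDegree (χ : G → ℂ) := by
      have := hall χ hχ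
      rw [hsingle, Finset.sum_singleton] at this
      exact Nat.pow_left_injective two_ne_zero this
    refine ⟨ψ, hsingle, ?_⟩
    have hsum := hdeg χ
    rw [← Finset.add_sum_erase _ _ (Finset.mem_univ ψ), ← hd] at hsum
    have h1 : m χ ψ = 1 := by
      refine le_antisymm ?_ (hmS χ ψ hψ)
      have hle : m χ ψ * charDegree (ψ : N → ℂ) ≤ 1 * charDegree (ψ : N → ℂ) := by
        rw [one_mul]; exact le_of_le_of_eq (Nat.le_add_right _ _) hsum.symm
      exact Nat.le_of_mul_le_mul_right hle (charDegree_pos ψ)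
    rw [h1, one_mul] at hsum
    have hrest : ∀ φ ∈ (Finset.univ : Finset (IrrCharacter N)).erase ψ, m χ φ = 0 := by
      intro φ hφ
      have := (Finset.sum_eq_zero_iff.mp (Nat.add_eq_left.mp hsum.symm)) φ hφ
      exact (mul_eq_zero.mp this).resolve_right (charDegree_pos φ).ne'
    rw [hm χ, ← Finset.add_sum_erase _ _ (Finset.mem_univ ψ),
      Finset.sum_eq_zero fun φ hφ => by rw [hrest φ hφ, Nat.cast_zero, zero_smul],
      h1, Nat.cast_one, one_smul, add_zero]
  refine ⟨fun χ hχ => ?_, fun ψ hψ => ?_⟩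
  · obtain ⟨ψ, -, e⟩ := hirr χ hχ
    rw [e]; exact ψ.2
  · obtain ⟨χ, hχ, hne⟩ := exists_odd_over N hN ψ hψ
    obtain ⟨ψ', hS, e⟩ := hirr χ hχ
    have hmem : ψ ∈ S χ := Finset.mem_filter.mpr ⟨hψ, hne⟩
    rw [hS, Finset.mem_singleton] at hmem
    exact ⟨χ, hχ, hmem ▸ e⟩

end Bound

section Complement

/-- An odd degree character kills a normal subgroup of odd order on which a Sylow 2-subgroup
acts without fixed points. -/
theorem trivial_on_fpf (P : Sylow 2 G) (K : Subgroup G) [K.Normal]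
    (hK : ¬ 2 ∣ Nat.card K) (hC : K ⊓ Subgroup.centralizer ((P : Subgroup G) : Set G) = ⊥)
    (χ : IrrCharacter G) (hχ : χ ∈ oddIrr G) :
    ∀ k ∈ K, ∀ g, (χ : G → ℂ) (k * g) = (χ : G → ℂ) g := by
  classical
  haveI : Fintype G := Fintype.ofFinite G
  haveI : Fintype K := Fintype.ofFinite K
  obtain ⟨φ₀, hφ₀⟩ := exists_constituent K (isCharacter_of_isIrr χ.2) (irr_degree_ne_zero χ.2)
  -- the orbit has odd size
  have horb : ¬ 2 ∣ (orbit K (φ₀ : K → ℂ)).card := by
    intro h2
    obtain ⟨c, hc⟩ := exists_nat_classInner (isCharacter_restrict K (isCharacter_of_isIrr χ.2))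
      (isCharacter_of_isIrr φ₀.2)
    have h := clifford_degree K χ.2 φ₀.2 hφ₀
    rw [charDegree_spec, charDegree_spec, hc] at h
    norm_cast at h
    exact mem_oddIrr.mp hχ (h ▸ (dvd_mul_of_dvd_left h2 _).mul_left c)
  rw [card_orbit_eq_index] at horb
  set T := inertia K (φ₀ : K → ℂ) with hT
  obtain ⟨Q⟩ : Nonempty (Sylow 2 T) := inferInstance
  have hQ : IsPGroup 2 ((Q : Subgroup T).map T.subtype) := Q.2.map _
  obtain ⟨R, hR⟩ := hQ.exists_le_sylow
  have hRT : (R : Subgroup G) ≤ T := by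
    have hQi : ¬ 2 ∣ ((Q : Subgroup T).map T.subtype).index := by
      rw [Subgroup.index_map_subtype]
      exact fun h => (Nat.prime_two.dvd_mul.mp h).elim Q.not_dvd_index horb
    have h1 : ((Q : Subgroup T).map T.subtype).relIndex (R : Subgroup G) = 1 := by
      obtain ⟨e, he⟩ := IsPGroup.iff_card.mp R.2
      have hd : ((Q : Subgroup T).map T.subtype).relIndex (R : Subgroup G) ∣ 2 ^ e :=
        he ▸ Subgroup.relIndex_dvd_card _ _
      obtain ⟨j, -, hj⟩ := (Nat.dvd_prime_pow Nat.prime_two).mp hd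
      rcases Nat.eq_zero_or_pos j with rfl | hj0
      · simpa using hj
      · exact absurd ((hj ▸ dvd_pow_self 2 hj0.ne').trans
          (Subgroup.relIndex_dvd_index_of_le hR)) hQi
    exact le_trans (Subgroup.relIndex_eq_one.mp h1) (Subgroup.map_subtype_le _)
  obtain ⟨g, hg⟩ := MulAction.exists_smul_eq G P R
  let φ : IrrCharacter K := ⟨conjBy K (φ₀ : K → ℂ) g, isIrrCharacter_conjBy K φ₀.2 g⟩
  have hinv : ∀ s ∈ (P : Subgroup G), conjBy K (φ : K → ℂ) s = (φ : K → ℂ) := by
    intro s hs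
    have hmem : g * s * g⁻¹ ∈ (R : Subgroup G) := by
      rw [← hg, Sylow.coe_subgroup_smul]
      exact Subgroup.smul_mem_pointwise_smul s (MulAut.conj g) _ hs
    show conjBy K (conjBy K (φ₀ : K → ℂ) g) s = _
    rw [← conjBy_mul, conjBy_eq_conjBy_iff]
    exact hRT hmem
  haveI : Fintype (⊥ : Subgroup G) := Fintype.ofFinite _
  have hcop : (Nat.card K).Coprime (Nat.card (P : Subgroup G)) := by
    obtain ⟨e, he⟩ := IsPGroup.iff_card.mp P.2
    rw [he]
    exact ((Nat.prime_two.coprime_iff_not_dvd).mpr hK).symm.pow_right e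
  obtain ⟨F, hF, -⟩ := Glauberman.hasCorr_of_isPGroup Nat.prime_two (G := K)
    (Nat.card (P : Subgroup G)) (P : Subgroup G) rfl (fun s _ => Subgroup.normalizer_eq_top K ▸
      Subgroup.mem_top s) P.2 hcop ⊥ bot_le hC.symm
  have hφinv : Glauberman.Inv K (P : Subgroup G) (φ : K → ℂ) := by
    intro s hs a b hab
    have := congrFun (hinv s hs) a
    rw [conjBy_apply] at this
    rw [show b = (⟨s * a * s⁻¹, _⟩ : K) from Subtype.ext hab]
    exact this
  have hone : Glauberman.Inv K (P : Subgroup G) (fun _ : K => (1 : ℂ)) := fun _ _ _ _ _ => rfl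
  have hsub : ∀ a b : IrrCharacter (⊥ : Subgroup G), a = b := by
    intro a b
    by_contra hne
    have h0 := classInner_irr_ne a.2 b.2 fun e => hne (Subtype.ext e)
    rw [classInner, Fintype.sum_subsingleton _ (1 : (⊥ : Subgroup G))] at h0
    rcases mul_eq_zero.mp h0 with h | h
    · simp at h
    · rcases mul_eq_zero.mp h with h | h
      · exact irr_degree_ne_zero a.2 h
      · exact irr_degree_ne_zero b.2 (by simpa using h)
  have hφ1 : (φ : K → ℂ) = fun _ => 1 := congrArg (fun x => (x.1 : K → ℂ))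
    (hF.1 (hsub (F ⟨φ, hφinv⟩) (F ⟨⟨_, isIrrCharacter_one⟩, hone⟩)))
  have hφ0 : (φ₀ : K → ℂ) = fun _ => 1 := by
    have h := congrArg (fun f => conjBy K f g⁻¹) hφ1
    simp only [φ, ← conjBy_mul, mul_inv_cancel, conjBy_one] at h
    exact h
  intro k hk x
  obtain ⟨D, -, hDmem, hDmul⟩ := exists_kernel (isCharacter_of_isIrr χ.2)
  refine hDmul k ((hDmem k).mpr ?_) x
  have hcl := clifford K χ.2 φ₀.2 hφ₀
  rw [orbit_eq_singleton K (θ := (φ₀ : K → ℂ)) fun a => by rw [hφ0]; rfl, Finset.sum_singleton,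
    hφ0] at hcl
  have e1 := congrFun hcl ⟨k, hk⟩
  have e2 := congrFun hcl 1
  exact e1.trans e2.symm

/-- A normal complement of the normalizer forces equality. -/
theorem le_of_complement (P : Sylow 2 G) (K : Subgroup G) [K.Normal]
    (hinf : K ⊓ Subgroup.normalizer ((P : Subgroup G) : Set G) = ⊥)
    (hsup : K ⊔ Subgroup.normalizer ((P : Subgroup G) : Set G) = ⊤) :
    oddSq G ≤ oddSq (Subgroup.normalizer ((P : Subgroup G) : Set G)) := by
  classical
  haveI : Fintype G := Fintype.ofFinite G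
  set N := Subgroup.normalizer ((P : Subgroup G) : Set G) with hN
  haveI : Fintype N := Fintype.ofFinite N
  have hPN : (P : Subgroup G) ≤ N := Subgroup.le_normalizer
  have hK : ¬ 2 ∣ Nat.card K := by
    have hc : Subgroup.IsComplement' K N :=
      Subgroup.isComplement'_of_disjoint_and_mul_eq_univ (disjoint_iff.mpr hinf)
        (by rw [← Subgroup.normal_mul, hsup, Subgroup.coe_top])
    rw [← hc.index_eq_card]
    exact fun h => P.not_dvd_index (h.trans (Subgroup.index_dvd_of_le hPN))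
  have hC : K ⊓ Subgroup.centralizer ((P : Subgroup G) : Set G) = ⊥ :=
    le_bot_iff.mp (hinf ▸ inf_le_inf_left K (Subgroup.centralizer_le_normalizer _))
  have hdecomp : ∀ g : G, ∃ k ∈ K, ∃ n : N, g = k * n := by
    intro g
    have hg : g ∈ ((K : Set G) * (N : Set G)) := by
      rw [← Subgroup.normal_mul, hsup]; trivial
    obtain ⟨k, hk, n, hn, rfl⟩ := hg
    exact ⟨k, hk, ⟨n, hn⟩, rfl⟩
  let π : G →* G ⧸ K := QuotientGroup.mk' K
  have hres : ∀ χ ∈ oddIrr G, IsIrrCharacter N (fun n : N => (χ : G → ℂ) n) := by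
    intro χ hχ
    have htriv := trivial_on_fpf P K hK hC χ hχ
    refine isIrr_of_norm_one (isCharacter_restrict N (isCharacter_of_isIrr χ.2)) ?_
    have hc : Subgroup.IsComplement' K N :=
      Subgroup.isComplement'_of_disjoint_and_mul_eq_univ (disjoint_iff.mpr hinf)
        (by rw [← Subgroup.normal_mul, hsup, Subgroup.coe_top])
    haveI : Fintype K := Fintype.ofFinite K
    have hmul : (Nat.card K : ℂ) * (Nat.card N : ℂ) = (Nat.card G : ℂ) := by
      rw [← Nat.cast_mul, hc.card_mul_card]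
    rw [← classInner_irr_self χ.2]
    simp only [classInner]
    rw [← Fintype.sum_equiv (Equiv.ofBijective _ hc) (fun p : ↥(K : Set G) × ↥(N : Set G) =>
      (χ : G → ℂ) ((p.1 : G) * p.2) * conj ((χ : G → ℂ) ((p.1 : G) * p.2)))
      (fun g => (χ : G → ℂ) g * conj ((χ : G → ℂ) g)) (fun p => rfl), Fintype.sum_prod_type,
      Finset.sum_congr rfl fun (k : ↥(K : Set G)) _ => Finset.sum_congr rfl fun n _ => by
        rw [htriv k k.2 n],
      Finset.sum_const, Finset.card_univ, nsmul_eq_mul, ← hmul, mul_inv, ← Nat.card_eq_fintype_card]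
    show _ = (Nat.card K : ℂ)⁻¹ * (Nat.card N : ℂ)⁻¹ * ((Nat.card K : ℂ) * _)
    have hk0 : (Nat.card K : ℂ) ≠ 0 := Nat.cast_ne_zero.mpr Nat.card_pos.ne'
    field_simp
    rfl
  let r : {χ // χ ∈ oddIrr G} → IrrCharacter N := fun χ => ⟨_, hres χ.1 χ.2⟩
  have hdeg : ∀ χ, charDegree (r χ : N → ℂ) = charDegree (χ.1 : G → ℂ) :=
    fun χ => Extraspecial.charDegree_eq (by
      show (χ.1 : G → ℂ) ((1 : N) : G) = _
      rw [OneMemClass.coe_one, charDegree_spec])
  have hinj : Function.Injective r := by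
    intro a b hab
    refine Subtype.ext (Subtype.ext (funext fun g => ?_))
    obtain ⟨k, hk, n, rfl⟩ := hdecomp g
    rw [trivial_on_fpf P K hK hC a.1 a.2 k hk, trivial_on_fpf P K hK hC b.1 b.2 k hk]
    exact congrFun (congrArg Subtype.val hab) n
  calc oddSq G = ∑ χ : {χ // χ ∈ oddIrr G}, charDegree (r χ : N → ℂ) ^ 2 := by
        simp only [hdeg]
        exact (Finset.sum_coe_sort (oddIrr G) fun χ => charDegree (χ : G → ℂ) ^ 2).symm
    _ = ∑ ψ ∈ Finset.univ.image r, charDegree (ψ : N → ℂ) ^ 2 :=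
        (Finset.sum_image (f := fun ψ : IrrCharacter N => charDegree (ψ : N → ℂ) ^ 2)
          (s := (Finset.univ : Finset {χ // χ ∈ oddIrr G})) fun a _ b _ h => hinj h).symm
    _ ≤ oddSq N := by
        refine Finset.sum_le_sum_of_subset fun ψ hψ => ?_
        obtain ⟨χ, -, rfl⟩ := Finset.mem_image.mp hψ
        rw [mem_oddIrr, hdeg]
        exact mem_oddIrr.mp χ.2

end Complement

end CfsgLib.Char.OddDegreeSum
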