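import Cfsg.Agent.Lib.Char.Burnside
import Cfsg.Agent.Lib.Char.Clifford
import Cfsg.Agent.Lib.Char.OddDegreeSum
import Cfsg.Agent.Lib.PerfectCompl.Nonsolvable

/-!
# Character degrees of a non-abelian simple group involve three primes
-/

set_option autoImplicit false
set_option linter.style.haveILetI false

namespace CfsgLib.Char.ThreePrimes

open Module Representation Cfsg CfsgLib.Char
open scoped CfsgLib.Char commutatorElement

variable {S : Type*} [Group S] [Finite S]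

/-- At a nontrivial element some nonprincipal character is nonzero and of degree prime to `q`. -/
theorem exists_ne_zero_not_dvd (g : S) (hg : g ≠ 1) (q : ℕ) (hq : q.Prime) :
    ∃ χ : IrrCharacter S, (χ : S → ℂ) ≠ (fun _ => 1) ∧ (χ : S → ℂ) g ≠ 0 ∧
      ∀ d : ℕ, (χ : S → ℂ) 1 = (d : ℂ) → ¬ q ∣ d := by
  classical
  haveI : Fintype S := Fintype.ofFinite S
  by_contra hc
  push Not at hc
  choose! d hd1 hd2 using fun (χ : IrrCharacter S)
    (h : (χ : S → ℂ) ≠ (fun _ => 1) ∧ (χ : S → ℂ) g ≠ 0) => hc χ h.1 h.2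
  have hsum := sum_degree_mul_irr g
  rw [if_neg hg, ← Finset.add_sum_erase Finset.univ _
    (Finset.mem_univ (⟨fun _ => 1, isIrrCharacter_one⟩ : IrrCharacter S))] at hsum
  set T := ∑ χ ∈ Finset.univ.erase (⟨fun _ => 1, isIrrCharacter_one⟩ : IrrCharacter S),
    ((d χ / q : ℕ) : ℂ) * (χ : S → ℂ) g with hT
  have hrest : ∑ χ ∈ Finset.univ.erase (⟨fun _ => 1, isIrrCharacter_one⟩ : IrrCharacter S),
      (χ : S → ℂ) 1 * (χ : S → ℂ) g = (q : ℂ) * T := by
    rw [hT, Finset.mul_sum]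
    refine Finset.sum_congr rfl fun χ hχ => ?_
    by_cases h0 : (χ : S → ℂ) g = 0
    · simp [h0]
    · have hh : (χ : S → ℂ) ≠ (fun _ => 1) ∧ (χ : S → ℂ) g ≠ 0 :=
        ⟨fun e => (Finset.mem_erase.mp hχ).1 (Subtype.ext e), h0⟩
      rw [hd1 χ hh]
      obtain ⟨e, he⟩ := hd2 χ hh
      rw [he, Nat.mul_div_cancel_left _ hq.pos]
      push_cast; ring
  simp only [one_mul] at hsum
  rw [hrest] at hsum
  have hnat : ∀ k : ℕ, IsIntegral ℤ (k : ℂ) := fun k => by
    simpa using isIntegral_algebraMap (R := ℤ) (A := ℂ) (x := (k : ℤ))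
  have hTint : IsIntegral ℤ T := IsIntegral.sum _ fun χ _ =>
    (hnat _).mul (isIntegral_value (isCharacter_of_isIrr χ.2) g)
  have hq0 : (q : ℂ) ≠ 0 := Nat.cast_ne_zero.mpr hq.ne_zero
  have : IsIntegral ℤ ((1 : ℕ) / (q : ℂ)) := by
    have e : ((1 : ℕ) : ℂ) / (q : ℂ) = -T := by
      rw [div_eq_iff hq0, Nat.cast_one]; linear_combination hsum
    rw [e]; exact hTint.neg
  exact hq.ne_one (Nat.dvd_one.mp (dvd_of_isIntegral_div hq.ne_zero this))

/-- Burnside vanishing for a non-abelian simple group. -/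
theorem eq_zero_of_coprime [IsSimpleGroup S] (hna : Subgroup.center S = ⊥) {g : S} (hg : g ≠ 1)
    {n : ℕ} (ρ : Representation ℂ S (Fin n → ℂ)) [ρ.IsIrreducible]
    (hne : ρ.character ≠ (fun _ => 1))
    (hcop : n.Coprime (Subgroup.centralizer ({g} : Set S)).index) : ρ.character g = 0 := by
  rcases burnside_zero_or_scalar ρ g (by rwa [Module.finrank_fin_fun]) with h | h
  · exact h
  exfalso
  obtain ⟨ω, hω⟩ := (norm_character_eq_iff ρ g).mp h
  let f : S →* Module.End ℂ (Fin n → ℂ) := ρ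
  rcases (MonoidHom.normal_ker f).eq_bot_or_eq_top with hk0 | hk1
  · have hinj : Function.Injective f := (MonoidHom.ker_eq_bot_iff f).mp hk0
    have : g ∈ Subgroup.center S := Subgroup.mem_center_iff.mpr fun x => hinj (by
      show f (x * g) = f (g * x)
      rw [map_mul, map_mul]
      show ρ x * ρ g = ρ g * ρ x
      rw [hω]
      ext v; simp)
    exact hg (Subgroup.mem_bot.mp (hna ▸ this))
  · haveI : Fintype S := Fintype.ofFinite S
    have h1 : ρ.character = (n : ℂ) • fun _ : S => (1 : ℂ) := by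
      funext x
      have : ρ x = 1 := (MonoidHom.mem_ker (f := f)).mp (hk1 ▸ Subgroup.mem_top x)
      show LinearMap.trace ℂ _ (ρ x) = _
      rw [this]; simp
    have hirr : IsIrrCharacter S ρ.character := isIrrCharacter_character ρ
    have h2 := classInner_irr_ne hirr (isIrrCharacter_one (G := S)) hne
    rw [h1, classInner_smul_left, classInner_irr_self isIrrCharacter_one, mul_one] at h2
    have hn : n = 0 := Nat.cast_eq_zero.mp h2
    have h3 := finrank_pos_of_irreducible ρ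
    rw [Module.finrank_fin_fun] at h3
    omega

/-- For a prime `p` dividing the order and any prime `q`, a further prime divides some degree. -/
theorem exists_third [IsSimpleGroup S] (hna : Subgroup.center S = ⊥) (p q : ℕ) (hp : p.Prime)
    (hq : q.Prime) (hdvd : p ∣ Nat.card S) :
    ∃ r : ℕ, r.Prime ∧ r ≠ p ∧ r ≠ q ∧
      ∃ (χ : IrrCharacter S) (d : ℕ), (χ : S → ℂ) 1 = (d : ℂ) ∧ r ∣ d := by
  classical
  haveI := Fact.mk hp
  haveI : Fintype S := Fintype.ofFinite S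
  let P : Sylow p S := default
  have hPne : (P : Subgroup S) ≠ ⊥ := P.ne_bot_of_dvd_card hdvd
  haveI : Nontrivial (P : Subgroup S) := (Subgroup.nontrivial_iff_ne_bot _).mpr hPne
  haveI := P.2.center_nontrivial
  obtain ⟨z, hz⟩ := exists_ne (1 : Subgroup.center (P : Subgroup S))
  set g : S := ((z : (P : Subgroup S)) : S) with hgdef
  have hg : g ≠ 1 := fun e => hz (Subtype.ext (Subtype.ext e))
  have hle : (P : Subgroup S) ≤ Subgroup.centralizer ({g} : Set S) := by
    intro x hx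
    rw [Subgroup.mem_centralizer_singleton_iff]
    exact congrArg (Subtype.val) (Subgroup.mem_center_iff.mp z.2 ⟨x, hx⟩)
  have hndvd : ¬ p ∣ (Subgroup.centralizer ({g} : Set S)).index := fun h =>
    P.not_dvd_index (h.trans (Subgroup.index_dvd_of_le hle))
  obtain ⟨χ, hne, hg0, hqd⟩ := exists_ne_zero_not_dvd g hg q hq
  obtain ⟨n, ρ, hρ, e⟩ := χ.2
  have hn : (χ : S → ℂ) 1 = (n : ℂ) := by
    rw [← e, Representation.char_one, Module.finrank_fin_fun]
  have hcop : ¬ n.Coprime (Subgroup.centralizer ({g} : Set S)).index := fun hc =>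
    hg0 (by rw [← e]; exact eq_zero_of_coprime hna hg ρ (e ▸ hne) hc)
  obtain ⟨r, hr, hrn, hri⟩ := Nat.Prime.not_coprime_iff_dvd.mp hcop
  exact ⟨r, hr, fun h => hndvd (h ▸ hri), fun h => hqd n hn (h ▸ hrn), χ, n, hn, hrn⟩

/-- The character degrees of a non-abelian simple group involve three primes. -/
theorem simple_three [IsSimpleGroup S] (hna : Subgroup.center S = ⊥) :
    ∃ p q r : ℕ, p ≠ q ∧ q ≠ r ∧ p ≠ r ∧
      (∀ t ∈ ({p, q, r} : Set ℕ), t.Prime ∧
        ∃ (χ : IrrCharacter S) (d : ℕ), (χ : S → ℂ) 1 = (d : ℂ) ∧ t ∣ d) := by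
  have hcard : Nat.card S ≠ 1 := (Finite.one_lt_card).ne'
  have hcardfac : ∀ r : ℕ, (∃ (χ : IrrCharacter S) (d : ℕ), (χ : S → ℂ) 1 = (d : ℂ) ∧ r ∣ d) →
      r ∣ Nat.card S := by
    rintro r ⟨χ, d, hd, hrd⟩
    obtain ⟨d', hd', -, hdvd⟩ := exists_degree_dvd_card χ.2
    obtain rfl : d = d' := Nat.cast_injective (R := ℂ) (hd.symm.trans hd')
    exact hrd.trans hdvd
  obtain ⟨p₀, hp₀, hd₀⟩ := Nat.exists_prime_and_dvd hcard
  obtain ⟨r₁, hr₁, -, -, e₁⟩ := exists_third hna p₀ p₀ hp₀ hp₀ hd₀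
  obtain ⟨r₂, hr₂, h21, -, e₂⟩ := exists_third hna r₁ r₁ hr₁ hr₁ (hcardfac _ e₁)
  obtain ⟨r₃, hr₃, h31, h32, e₃⟩ := exists_third hna r₁ r₂ hr₁ hr₂ (hcardfac _ e₁)
  refine ⟨r₁, r₂, r₃, h21.symm, h32.symm, h31.symm, ?_⟩
  intro t ht
  simp only [Set.mem_insert_iff, Set.mem_singleton_iff] at ht
  rcases ht with rfl | rfl | rfl
  · exact ⟨hr₁, e₁⟩
  · exact ⟨hr₂, e₂⟩
  · exact ⟨hr₃, e₃⟩

variable {G : Type*} [Group G] [Finite G]

/-- A degree of a normal subgroup divides some degree of the group. -/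
theorem exists_over_dvd (K : Subgroup G) [K.Normal] (θ : IrrCharacter K) (e : ℕ)
    (he : (θ : K → ℂ) 1 = (e : ℂ)) :
    ∃ (χ : IrrCharacter G) (d : ℕ), (χ : G → ℂ) 1 = (d : ℂ) ∧ e ∣ d := by
  classical
  haveI : Fintype G := Fintype.ofFinite G
  haveI : Fintype K := Fintype.ofFinite K
  obtain ⟨χ, hχ⟩ := OddDegreeSum.exists_over K θ
  obtain ⟨m, hm⟩ := exists_nat_classInner (isCharacter_restrict K (isCharacter_of_isIrr χ.2))
    (isCharacter_of_isIrr θ.2)
  have h := clifford_degree K χ.2 θ.2 hχ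
  rw [hm, he] at h
  exact ⟨χ, m * ((orbit K (θ : K → ℂ)).card * e), by push_cast; exact h,
    Dvd.intro_left (m * (orbit K (θ : K → ℂ)).card) (by ring)⟩

theorem nonsolvable_three (hns : ¬ Group.IsSolvable G) :
    ∃ p q r : ℕ, p ≠ q ∧ q ≠ r ∧ p ≠ r ∧
      (∀ t ∈ ({p, q, r} : Set ℕ), t.Prime ∧
        ∃ (χ : IrrCharacter G) (d : ℕ), (χ : G → ℂ) 1 = (d : ℂ) ∧ t ∣ d) := by
  classical
  haveI : Fintype G := Fintype.ofFinite G
  obtain ⟨K, hKn, hK1, hKp⟩ := PerfectCompl.exists_perfect_core hns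
  haveI := hKn
  haveI : Nontrivial K := (Subgroup.nontrivial_iff_ne_bot _).mpr hK1
  obtain ⟨M, ⟨hMn, hMne⟩, hmax⟩ := Set.Finite.exists_maximal
    (s := {M : Subgroup K | M.Normal ∧ M ≠ ⊤}) (Set.toFinite _)
    ⟨⊥, inferInstance, bot_ne_top⟩
  haveI := hMn
  haveI : Nontrivial (K ⧸ M) := QuotientGroup.nontrivial_iff.mpr hMne
  haveI : IsSimpleGroup (K ⧸ M) := by
    refine ⟨fun H hH => ?_⟩
    haveI := hH
    have hle : M ≤ H.comap (QuotientGroup.mk' M) := by
      intro x hx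
      rw [Subgroup.mem_comap, QuotientGroup.mk'_apply, (QuotientGroup.eq_one_iff x).mpr hx]
      exact one_mem H
    by_cases ht : H.comap (QuotientGroup.mk' M) = ⊤
    · exact Or.inr (Subgroup.comap_injective (QuotientGroup.mk'_surjective M)
        (by rw [ht, Subgroup.comap_top]))
    · have := le_antisymm hle (hmax ⟨inferInstance, ht⟩ hle)
      exact Or.inl (Subgroup.comap_injective (QuotientGroup.mk'_surjective M)
        (by rw [← this, MonoidHom.comap_bot, QuotientGroup.ker_mk']))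
  have hcen : Subgroup.center (K ⧸ M) = ⊥ := by
    rcases (inferInstance : (Subgroup.center (K ⧸ M)).Normal).eq_bot_or_eq_top with h | h
    · exact h
    exfalso
    apply hMne
    rw [eq_top_iff, ← hKp, commutator_def, Subgroup.commutator_le]
    intro a _ b _
    rw [← QuotientGroup.eq_one_iff]
    show QuotientGroup.mk' M ⁅a, b⁆ = 1
    rw [map_commutatorElement, commutatorElement_eq_one_iff_mul_comm]
    exact Subgroup.mem_center_iff.mp (h ▸ Subgroup.mem_top _) _
  obtain ⟨p, q, r, hpq, hqr, hpr, h⟩ := simple_three (S := K ⧸ M) hcen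
  refine ⟨p, q, r, hpq, hqr, hpr, fun t ht => ?_⟩
  obtain ⟨htp, χ, d, hd, htd⟩ := h t ht
  obtain ⟨ψ, d', hd', hdd⟩ := exists_over_dvd K
    ⟨_, isIrrCharacter_comp (f := QuotientGroup.mk' M) (QuotientGroup.mk'_surjective M) χ.2⟩ d
    (by simpa using hd)
  exact ⟨htp, ψ, d', hd', htd.trans hdd⟩

end CfsgLib.Char.ThreePrimes
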