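import Cfsg.Agent.Lib.Char.Orth
import Cfsg.Agent.Lib.SL2.CACount
import Cfsg.Agent.Lib.Classical.A8Subgroups

/-!
# Perfect finite groups with a faithful real valued irreducible character of degree three

Such a group has order 60: the non-trivial elements are parted by their fixed lines, and the
classical count of poles leaves the orders 12, 24 and 60.
-/

set_option autoImplicit false
set_option linter.unusedSectionVars false
set_option linter.style.haveILetI false

namespace CfsgLib.Char.ThreeSixty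

open Module Representation
open scoped ComplexConjugate

section Count

open CfsgLib.SL2.CA (cover card_cover_mul mem_normalizer_iff_forall subset_cover)

variable {G : Type*} [Group G] [Finite G] (M : G → Subgroup G)

/-- The hypotheses of the count. -/
structure Data : Prop where
  mem : ∀ x, x ≠ 1 → x ∈ M x
  eq_of_mem : ∀ x y, x ≠ 1 → y ∈ M x → y ≠ 1 → M y = M x
  conjMem : ∀ x g, x ≠ 1 → ∀ y ∈ M x, g * y * g⁻¹ ∈ M (g * x * g⁻¹)
  norm : ∀ x, x ≠ 1 → (M x).relIndex (Subgroup.normalizer (M x : Set G)) ≤ 2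
  proper : ∀ x, x ≠ 1 → Subgroup.normalizer (M x : Set G) ≠ ⊤

/-- The elements with a conjugate in `M x`. -/
def orb (x : G) : Set G := cover ((M x : Set G) \ {1})

variable {M} (hD : Data M)
include hD

theorem normalizer_of_conj_mem {x g s : G} (hx : x ≠ 1) (hs : s ∈ M x) (hs1 : s ≠ 1)
    (hgs : g * s * g⁻¹ ∈ M x) : g ∈ Subgroup.normalizer (M x : Set G) := by
  rw [mem_normalizer_iff_forall]
  intro y hy
  rw [← hD.eq_of_mem x _ hx hgs (fun h => hs1 (conj_eq_one_iff.1 h))]
  exact hD.conjMem s g hs1 y ((hD.eq_of_mem x s hx hs hs1).symm ▸ hy)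

theorem orb_spec {x : G} (hx : x ≠ 1) :
    ∃ m d : ℕ, 2 ≤ m ∧ (d = 1 ∨ d = 2) ∧ d * m * 2 ≤ Nat.card G ∧
      ((orb M x).ncard : ℚ) = Nat.card G * (((m : ℚ) - 1) / (d * m)) := by
  set n := Subgroup.normalizer (M x : Set G) with hn
  refine ⟨Nat.card (M x), (M x).relIndex n, ?_, ?_, ?_, ?_⟩
  · have : Nontrivial (M x) := ⟨⟨x, hD.mem x hx⟩, 1, fun h => hx (congrArg Subtype.val h)⟩
    exact Finite.one_lt_card
  · have h1 := hD.norm x hx
    have h0 : (M x).relIndex n ≠ 0 := Subgroup.index_ne_zero_of_finite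
    rw [← hn] at h1
    omega
  all_goals
    have hcard : (M x).relIndex n * Nat.card (M x) = Nat.card n := by
      have := ((M x).subgroupOf n).card_mul_index
      rw [Nat.card_congr (Subgroup.subgroupOfEquivOfLe (hn ▸ Subgroup.le_normalizer)).toEquiv] at this
      rw [← this, mul_comm]
      rfl
  · rw [hcard, ← n.card_mul_index]
    exact Nat.mul_le_mul_left _ (Subgroup.one_lt_index_of_ne_top (hD.proper x hx))
  · have h := card_cover_mul ((M x : Set G) \ {1}) n
      (fun a ha s hs => ⟨(Subgroup.mem_normalizer_iff.1 ha s).1 hs.1,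
        fun h => hs.2 (conj_eq_one_iff.1 h)⟩)
      (fun g s hs hgs => normalizer_of_conj_mem hD hx hs.1 hs.2 hgs.1)
    rw [Nat.card_coe_set_eq, Nat.card_coe_set_eq, ← hcard] at h
    have h1 : ((M x : Set G) \ {1}).ncard + 1 = Nat.card (M x) := by
      rw [← Set.ncard_singleton (1 : G), Set.ncard_sdiff_add_ncard_of_subset
        (Set.singleton_subset_iff.2 (M x).one_mem) (Set.toFinite _)]
      rfl
    have h' : ((orb M x).ncard : ℚ) * (((M x).relIndex n : ℚ) * Nat.card (M x)) =
        Nat.card G * (((M x : Set G) \ {1}).ncard : ℚ) := by exact_mod_cast h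
    have h1' : (((M x : Set G) \ {1}).ncard : ℚ) = (Nat.card (M x) : ℚ) - 1 := by
      rw [eq_sub_iff_add_eq]; exact_mod_cast h1
    have hpos : (((M x).relIndex n : ℚ) * Nat.card (M x)) ≠ 0 := by
      rw [← Nat.cast_mul, hcard]
      exact Nat.cast_ne_zero.mpr Nat.card_pos.ne'
    rw [mul_div_assoc', eq_div_iff hpos, h', h1']

theorem self_mem_orb {x : G} (hx : x ≠ 1) : x ∈ orb M x := subset_cover ⟨hD.mem x hx, hx⟩

theorem orb_subset (x : G) : orb M x ⊆ {w | w ≠ 1} := by
  rintro w ⟨g, hg⟩ rfl
  exact hg.2 (by simp)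

theorem disjoint_orb {x y : G} (hx : x ≠ 1) (hy : y ≠ 1) (h : y ∉ orb M x) :
    Disjoint (orb M x) (orb M y) := by
  rw [Set.disjoint_left]
  rintro w ⟨g, hg⟩ ⟨k, hk⟩
  refine h ⟨k⁻¹ * g, ?_, fun h1 => hy ?_⟩
  · have h1 : M (g⁻¹ * w * g) = M x := hD.eq_of_mem x _ hx hg.1 hg.2
    have h2 : M (k⁻¹ * w * k) = M y := hD.eq_of_mem y _ hy hk.1 hk.2
    have h3 := hD.conjMem _ (g⁻¹ * k) hk.2 y (h2.symm ▸ hD.mem y hy)
    rw [show g⁻¹ * k * (k⁻¹ * w * k) * (g⁻¹ * k)⁻¹ = g⁻¹ * w * g by group, h1] at h3
    rwa [show (k⁻¹ * g)⁻¹ * y * (k⁻¹ * g) = g⁻¹ * k * y * (g⁻¹ * k)⁻¹ by group]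
  · rw [show (k⁻¹ * g)⁻¹ * y * (k⁻¹ * g) = (g⁻¹ * k) * y * (g⁻¹ * k)⁻¹ by group,
      Set.mem_singleton_iff] at h1
    exact conj_eq_one_iff.1 h1

omit hD in
theorem arith_three {a b c N : ℕ} (ha : 2 ≤ a) (hab : a ≤ b) (hbc : b ≤ c) (hc : 4 * c ≤ N)
    (h : (1 : ℚ) / a + 1 / b + 1 / c = 1 + 2 / N) : N = 12 ∨ N = 24 ∨ N = 60 := by
  have hN : (8 : ℕ) ≤ N := by omega
  have key : N * (b * c + a * c + a * b) = (N + 2) * (a * b * c) := by
    have : (a : ℚ) ≠ 0 := by exact_mod_cast (by omega : a ≠ 0)
    have : (b : ℚ) ≠ 0 := by exact_mod_cast (by omega : b ≠ 0)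
    have : (c : ℚ) ≠ 0 := by exact_mod_cast (by omega : c ≠ 0)
    have : (N : ℚ) ≠ 0 := by exact_mod_cast (by omega : N ≠ 0)
    have h' : ((N * (b * c + a * c + a * b) : ℕ) : ℚ) = (((N + 2) * (a * b * c) : ℕ) : ℚ) := by
      push_cast
      field_simp at h
      linear_combination h
    exact_mod_cast h'
  have hab' : 0 < a * b * c := by
    have : 0 < b := by omega
    have : 0 < c := by omega
    positivity
  have ha2 : a = 2 := by
    by_contra hne
    have h3 : 3 ≤ a := by omega
    have h1 : b * c + a * c + a * b ≤ a * b * c := by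
      nlinarith [Nat.mul_le_mul_right (b * c) h3, Nat.mul_le_mul_right c hab,
        Nat.mul_le_mul_left a hbc, Nat.mul_le_mul_left a hab]
    nlinarith [Nat.mul_le_mul_left N h1]
  subst ha2
  have hb3 : b = 3 := by
    rcases (by omega : b = 2 ∨ b = 3 ∨ 4 ≤ b) with hb | hb | hb
    · subst hb; nlinarith [Nat.mul_le_mul_left c hc]
    · exact hb
    · exfalso
      have h1 : b * c + 2 * c + 2 * b ≤ 2 * b * c := by
        nlinarith [Nat.mul_le_mul_right c hb, Nat.mul_le_mul_left 2 hbc]
      nlinarith [Nat.mul_le_mul_left N h1]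
  subst hb3
  have hc6 : c < 6 := by
    by_contra h6
    nlinarith [Nat.mul_le_mul_left N (not_lt.mp h6)]
  interval_cases c <;> omega

theorem card_cases [Nontrivial G] : Nat.card G = 12 ∨ Nat.card G = 24 ∨ Nat.card G = 60 := by
  classical
  set N := Nat.card G with hNdef
  have hN : (0 : ℚ) < N := by exact_mod_cast Nat.card_pos
  choose! m d hm hd hle hw using fun x (hx : x ≠ 1) => orb_spec hD hx
  let t : G → ℚ := fun x => ((m x : ℚ) - 1) / (d x * m x)
  have htot : ({w : G | w ≠ 1}.ncard : ℚ) = (N : ℚ) - 1 := by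
    rw [eq_sub_iff_add_eq, show {w : G | w ≠ 1} = ({1} : Set G)ᶜ from rfl]
    have := Set.ncard_add_ncard_compl ({1} : Set G)
    rw [Set.ncard_singleton, add_comm] at this
    exact_mod_cast this
  have sum_eq : ∀ {s : ℚ}, (N : ℚ) * s = (N : ℚ) - 1 → s = 1 - 1 / N := fun {s} h => by
    field_simp
    linarith
  have hm' : ∀ x, x ≠ 1 → (2 : ℚ) ≤ m x := fun x hx => by exact_mod_cast hm x hx
  have hle' : ∀ x, x ≠ 1 → (d x : ℚ) * m x * 2 ≤ N := fun x hx => by exact_mod_cast hle x hx
  have low : ∀ x, x ≠ 1 → (1 : ℚ) / 4 ≤ t x := fun x hx => by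
    have := hm' x hx
    show (1 : ℚ) / 4 ≤ _ / _
    rcases hd x hx with e | e <;> rw [e] <;> push_cast <;>
      rw [le_div_iff₀ (by positivity)] <;> linarith
  have low1 : ∀ x, x ≠ 1 → d x = 1 → (1 : ℚ) / 2 ≤ t x := fun x hx e => by
    have := hm' x hx
    show (1 : ℚ) / 2 ≤ _ / _
    rw [e, Nat.cast_one, one_mul, le_div_iff₀ (by positivity)]
    linarith
  have val1 : ∀ x, x ≠ 1 → d x = 1 → t x = 1 - 1 / m x := fun x hx e => by
    have := hm' x hx
    show _ / _ = _
    rw [e, Nat.cast_one, one_mul]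
    field_simp
  have val2 : ∀ x, x ≠ 1 → d x = 2 → t x = (1 - 1 / m x) / 2 := fun x hx e => by
    have := hm' x hx
    show _ / _ = _
    rw [e]
    push_cast
    field_simp
  obtain ⟨x, hx⟩ := exists_ne (1 : G)
  by_cases h1 : orb M x = {w | w ≠ 1}
  · exfalso
    have h := hw x hx
    rw [h1, htot] at h
    have ht := sum_eq h.symm
    have := hm' x hx
    have hl := hle' x hx
    have hlt : (1 : ℚ) / N < 1 / m x := by
      apply one_div_lt_one_div_of_lt (by linarith)
      rcases hd x hx with e | e <;> rw [e] at hl <;> push_cast at hl <;> linarith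
    rcases hd x hx with e | e
    · have := val1 x hx e; linarith
    · have := val2 x hx e
      have : (1 : ℚ) / N ≤ 1 / 2 := by
        rw [div_le_div_iff₀ hN two_pos]
        rw [e] at hl; push_cast at hl; linarith
      have : (0 : ℚ) < 1 / m x := by positivity
      linarith
  obtain ⟨y, hy, hy'⟩ := Set.exists_of_ssubset ((orb_subset hD x).ssubset_of_ne h1)
  have dxy := disjoint_orb hD hx hy hy'
  have hsub2 : orb M x ∪ orb M y ⊆ {w | w ≠ 1} := Set.union_subset (orb_subset hD x) (orb_subset hD y)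
  by_cases h2 : orb M x ∪ orb M y = {w | w ≠ 1}
  · have h : ((orb M x ∪ orb M y).ncard : ℚ) = (N : ℚ) - 1 := by rw [h2, htot]
    rw [Set.ncard_union_eq dxy, Nat.cast_add, hw x hx, hw y hy, ← mul_add] at h
    have ht := sum_eq h
    have two : ∀ x y : G, x ≠ 1 → y ≠ 1 → d x = 1 → d y = 2 → t x + t y = 1 - 1 / N → N = 12 := by
      intro x y hx hy ex ey ht
      rw [val1 x hx ex, val2 y hy ey] at ht
      have hx2 := hm x hx
      have hy2 := hm y hy
      have hly := hle y hy
      rw [ey] at hly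
      have key : N * (2 * m y) + N * m x = N * (m x * m y) + 2 * (m x * m y) := by
        have := hm' x hx
        have := hm' y hy
        have h' : ((N * (2 * m y) + N * m x : ℕ) : ℚ) =
            ((N * (m x * m y) + 2 * (m x * m y) : ℕ) : ℚ) := by
          push_cast
          field_simp at ht
          linear_combination -ht
        exact_mod_cast h'
      have h4 : m x < 4 := by
        by_contra h4
        have h5 : 2 * m y + m x ≤ m x * m y := by
          nlinarith [Nat.mul_le_mul_right (m y) (not_lt.mp h4), Nat.mul_le_mul_left (m x) hy2]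
        nlinarith [Nat.mul_le_mul_left N h5, Nat.mul_pos (lt_of_lt_of_le two_pos hx2)
          (lt_of_lt_of_le two_pos hy2)]
      rcases (by omega : m x = 2 ∨ m x = 3) with e | e <;> rw [e] at key
      · nlinarith
      · have hb : m y = 2 := by
          by_contra hne
          nlinarith [Nat.mul_le_mul_left N (show 2 * m y + 3 ≤ 3 * m y by omega)]
        rw [hb] at key
        omega
    rcases hd x hx with ex | ex <;> rcases hd y hy with ey | ey
    · exfalso
      have := low1 x hx ex
      have := low1 y hy ey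
      have : (0 : ℚ) < 1 / N := by positivity
      linarith
    · exact Or.inl (two x y hx hy ex ey ht)
    · exact Or.inl (two y x hy hx ey ex (by rw [← ht, add_comm]))
    · exfalso
      rw [show t x + t y = (1 - 1 / m x) / 2 + (1 - 1 / m y) / 2 by rw [val2 x hx ex, val2 y hy ey]] at ht
      have hbd : ∀ z, z ≠ 1 → d z = 2 → (4 : ℚ) / N ≤ 1 / m z := fun z hz e => by
        have := hm' z hz
        have hl := hle' z hz
        rw [e] at hl; push_cast at hl
        rw [div_le_div_iff₀ hN (by linarith)]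
        linarith
      have := hbd x hx ex
      have := hbd y hy ey
      have : (0 : ℚ) < 1 / N := by positivity
      have : (4 : ℚ) / N = 4 * (1 / N) := by ring
      linarith
  obtain ⟨z, hz, hz'⟩ := Set.exists_of_ssubset (hsub2.ssubset_of_ne h2)
  rw [Set.mem_union, not_or] at hz'
  have dxz := disjoint_orb hD hx hz hz'.1
  have dyz := disjoint_orb hD hy hz hz'.2
  have hsub3 : orb M x ∪ orb M y ∪ orb M z ⊆ {w | w ≠ 1} := Set.union_subset hsub2 (orb_subset hD z)
  have h3 : orb M x ∪ orb M y ∪ orb M z = {w | w ≠ 1} := by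
    by_contra h3
    obtain ⟨v, hv, hv'⟩ := Set.exists_of_ssubset (hsub3.ssubset_of_ne h3)
    simp only [Set.mem_union, not_or] at hv'
    have hle4 : ((orb M x ∪ orb M y ∪ orb M z ∪ orb M v).ncard : ℚ) ≤ (N : ℚ) - 1 :=
      htot ▸ Nat.cast_le.2 (Set.ncard_le_ncard (Set.union_subset hsub3 (orb_subset hD v))
        (Set.toFinite _))
    rw [Set.ncard_union_eq (Disjoint.union_left (Disjoint.union_left (disjoint_orb hD hx hv hv'.1.1)
      (disjoint_orb hD hy hv hv'.1.2)) (disjoint_orb hD hz hv hv'.2)),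
      Set.ncard_union_eq (Disjoint.union_left dxz dyz), Set.ncard_union_eq dxy] at hle4
    push_cast at hle4
    rw [hw x hx, hw y hy, hw z hz, hw v hv, ← mul_add, ← mul_add, ← mul_add] at hle4
    nlinarith [low x hx, low y hy, low z hz, low v hv]
  have hsum : ((orb M x ∪ orb M y ∪ orb M z).ncard : ℚ) = (N : ℚ) - 1 := by rw [h3, htot]
  rw [Set.ncard_union_eq (Disjoint.union_left dxz dyz), Set.ncard_union_eq dxy] at hsum
  push_cast at hsum
  rw [hw x hx, hw y hy, hw z hz, ← mul_add, ← mul_add] at hsum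
  have ht := sum_eq hsum
  have hinv : (0 : ℚ) < 1 / N := by positivity
  have fx : d x = 2 := (hd x hx).resolve_left fun e => by
    linarith [low1 x hx e, low y hy, low z hz]
  have fy : d y = 2 := (hd y hy).resolve_left fun e => by
    linarith [low1 y hy e, low x hx, low z hz]
  have fz : d z = 2 := (hd z hz).resolve_left fun e => by
    linarith [low1 z hz e, low x hx, low y hy]
  rw [show t x + t y + t z = (1 - 1 / m x) / 2 + (1 - 1 / m y) / 2 + (1 - 1 / m z) / 2 by
    rw [val2 x hx fx, val2 y hy fy, val2 z hz fz]] at ht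
  have h2N : (2 : ℚ) / N = 2 * (1 / N) := by ring
  have bound : ∀ w, w ≠ 1 → d w = 2 → 4 * m w ≤ N := fun w hw' e => by
    have := hle w hw'
    rw [e] at this
    omega
  have bx := bound x hx fx
  have by' := bound y hy fy
  have bz := bound z hz fz
  have main : (1 : ℚ) / m x + 1 / m y + 1 / m z = 1 + 2 / N := by linarith
  rcases le_total (m x) (m y) with hxy | hxy <;> rcases le_total (m y) (m z) with hyz | hyz <;>
    rcases le_total (m x) (m z) with hxz | hxz
  · exact arith_three (hm x hx) hxy hyz bz main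
  · exact arith_three (hm x hx) hxy hyz bz main
  · exact arith_three (hm x hx) hxz hyz by' (by linarith)
  · exact arith_three (hm z hz) hxz hxy by' (by linarith)
  · exact arith_three (hm y hy) hxy hxz bz (by linarith)
  · exact arith_three (hm y hy) hyz hxz bx (by linarith)
  · exact arith_three (hm z hz) hyz hxy bx (by linarith)
  · exact arith_three (hm z hz) hyz hxy bx (by linarith)

end Count

section Character

variable {G : Type*} [Group G] [Finite G] (ρ : Representation ℂ G (Fin 3 → ℂ))

theorem det_eq_one (hperf : commutator G = ⊤) (g : G) : LinearMap.det (ρ g) = 1 := by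
  let f : G →* ℂˣ := ((LinearMap.det : Module.End ℂ (Fin 3 → ℂ) →* ℂ).comp ρ).toHomUnits
  have h : commutator G ≤ f.ker := Abelianization.commutator_subset_ker f
  have hg : g ∈ f.ker := h (hperf ▸ Subgroup.mem_top g)
  have := congrArg Units.val (MonoidHom.mem_ker.mp hg)
  simpa [f, MonoidHom.coe_toHomUnits] using this

/-- Eigenvalues of product one. -/
theorem eigen (hperf : commutator G = ⊤) (g : G) :
    ∃ (b : Basis (Fin 3) ℂ (Fin 3 → ℂ)) (μ : Fin 3 → ℂ), (∀ i, μ i ^ orderOf g = 1) ∧
      μ 0 * μ 1 * μ 2 = 1 ∧ (∀ i (k : ℕ), ρ (g ^ k) (b i) = μ i ^ k • b i) ∧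
      ∀ k : ℕ, ρ.character (g ^ k) = μ 0 ^ k + μ 1 ^ k + μ 2 ^ k := by
  classical
  obtain ⟨b₀, μ₀, h1, h2⟩ := exists_eigenBasis ρ g
  have e3 : finrank ℂ (Fin 3 → ℂ) = 3 := Module.finrank_fin_fun ℂ
  let b := b₀.reindex (finCongr e3)
  let μ : Fin 3 → ℂ := fun i => μ₀ ((finCongr e3).symm i)
  have hact : ∀ i (k : ℕ), ρ (g ^ k) (b i) = μ i ^ k • b i := fun i k => by
    simp only [b, μ, Basis.reindex_apply]
    exact h2 _ k
  refine ⟨b, μ, fun i => h1 _, ?_, hact, fun k => ?_⟩
  · have hd := det_eq_one ρ hperf g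
    rw [← LinearMap.det_toMatrix b] at hd
    have hM : LinearMap.toMatrix b b (ρ g) = Matrix.diagonal μ := by
      ext i j
      have := hact j 1
      rw [pow_one, pow_one] at this
      rw [LinearMap.toMatrix_apply, this, map_smul, Basis.repr_self, Finsupp.smul_single',
        mul_one, Matrix.diagonal_apply, Finsupp.single_apply]
      rcases eq_or_ne i j with h | h
      · subst h; simp
      · simp [h, h.symm]
    rw [hM, Matrix.det_diagonal, Fin.prod_univ_three] at hd
    exact hd
  · rw [show ρ.character (g ^ k) = ∑ i, μ i ^ k from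
      trace_eq_sum_of_diag b _ _ fun i => hact i k, Fin.sum_univ_three]

theorem norm_eq_one {g : G} {z : ℂ} (h : z ^ orderOf g = 1) : z⁻¹ = conj z :=
  Complex.inv_eq_conj (Complex.norm_eq_one_of_pow_eq_one h (orderOf_pos g).ne')

/-- The alternating square of a character of degree three is its conjugate. -/
theorem sq_eq (hperf : commutator G = ⊤) (g : G) :
    ρ.character g * ρ.character g = ρ.character (g * g) + 2 * conj (ρ.character g) := by
  obtain ⟨b, μ, h1, hp, -, hc⟩ := eigen ρ hperf g
  have e1 := hc 1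
  have e2 := hc 2
  simp only [pow_one] at e1
  rw [sq g] at e2
  rw [e1, e2, map_add, map_add, ← norm_eq_one (h1 0), ← norm_eq_one (h1 1), ← norm_eq_one (h1 2),
    inv_eq_of_mul_eq_one_right (show μ 0 * (μ 1 * μ 2) = 1 by linear_combination hp),
    inv_eq_of_mul_eq_one_right (show μ 1 * (μ 0 * μ 2) = 1 by linear_combination hp),
    inv_eq_of_mul_eq_one_right (show μ 2 * (μ 0 * μ 1) = 1 by linear_combination hp)]
  ring

theorem exists_fixed_line (hperf : commutator G = ⊤) (hreal : ∀ g, conj (ρ.character g) = ρ.character g)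
    (hinj : ∀ g, ρ g = 1 → g = 1) {g : G} (hg : g ≠ 1) :
    ∃ v : Fin 3 → ℂ, v ≠ 0 ∧ ρ g v = v ∧ ∀ w, ρ g w = w → ∃ c : ℂ, w = c • v := by
  classical
  obtain ⟨b, μ, h1, hp, hact, hc⟩ := eigen ρ hperf g
  have e1 := hc 1
  simp only [pow_one] at e1
  have hr := hreal g
  rw [e1, map_add, map_add, ← norm_eq_one (h1 0), ← norm_eq_one (h1 1), ← norm_eq_one (h1 2),
    inv_eq_of_mul_eq_one_right (show μ 0 * (μ 1 * μ 2) = 1 by linear_combination hp),
    inv_eq_of_mul_eq_one_right (show μ 1 * (μ 0 * μ 2) = 1 by linear_combination hp),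
    inv_eq_of_mul_eq_one_right (show μ 2 * (μ 0 * μ 1) = 1 by linear_combination hp)] at hr
  have h0 : (1 - μ 0) * ((1 - μ 1) * (1 - μ 2)) = 0 := by linear_combination hr - hp
  obtain ⟨i, hi⟩ : ∃ i, μ i = 1 := by
    rcases mul_eq_zero.mp h0 with h | h
    · exact ⟨0, (sub_eq_zero.mp h).symm⟩
    · rcases mul_eq_zero.mp h with h | h
      · exact ⟨1, (sub_eq_zero.mp h).symm⟩
      · exact ⟨2, (sub_eq_zero.mp h).symm⟩
  have hact1 : ∀ j, ρ g (b j) = μ j • b j := fun j => by simpa using hact j 1
  have huniq : ∀ j, μ j = 1 → j = i := by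
    intro j hj
    by_contra hne
    have hall : ∀ k, μ k = 1 := by
      fin_cases i <;> fin_cases j <;> simp_all [Fin.forall_fin_succ]
    refine hg (hinj g (b.ext fun k => ?_))
    rw [hact1, hall, one_smul, Module.End.one_apply]
  refine ⟨b i, b.ne_zero i, by rw [hact1, hi, one_smul], fun w hw => ⟨b.repr w i, ?_⟩⟩
  have hco : ∀ j, b.repr w j * μ j = b.repr w j := fun j => by
    have h := congrArg (fun v => b.repr v j) hw
    have hsum : ρ g w = ∑ k, (b.repr w k * μ k) • b k := by
      conv_lhs => rw [← b.sum_repr w]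
      rw [map_sum]
      exact Finset.sum_congr rfl fun k _ => by rw [map_smul, hact1, smul_smul]
    simp only [hsum, b.repr_sum_self] at h
    exact h
  conv_lhs => rw [← b.sum_repr w]
  refine Finset.sum_eq_single i (fun j _ hj => ?_) (by simp)
  have : b.repr w j * (μ j - 1) = 0 := by rw [mul_sub, hco, mul_one, sub_self]
  rw [(mul_eq_zero.mp this).resolve_right (sub_ne_zero.mpr fun h => hj (huniq j h)), zero_smul]

/-- The pointwise stabiliser of a vector. -/
def fixer (v : Fin 3 → ℂ) : Subgroup G where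
  carrier := {r | ρ r v = v}
  one_mem' := by simp
  mul_mem' {a b} (ha : ρ a v = v) (hb : ρ b v = v) := by
    show ρ (a * b) v = v
    rw [map_mul, Module.End.mul_apply, hb, ha]
  inv_mem' {a} (ha : ρ a v = v) := by
    show ρ a⁻¹ v = v
    conv_lhs => rw [← ha, ← Module.End.mul_apply, ← map_mul, inv_mul_cancel, map_one,
      Module.End.one_apply]

theorem mem_fixer {v : Fin 3 → ℂ} {r : G} : r ∈ fixer ρ v ↔ ρ r v = v := Iff.rfl

theorem fixer_smul {v : Fin 3 → ℂ} {c : ℂ} (hc : c ≠ 0) : fixer ρ (c • v) = fixer ρ v := by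
  ext r
  rw [mem_fixer, mem_fixer, map_smul, (smul_right_injective _ hc).eq_iff]

/-- The scalars by which the stabiliser of a real line acts are signs. -/
theorem sq_eq_one_of_line (hreal : ∀ g, conj (ρ.character g) = ρ.character g) {x : G}
    {v : Fin 3 → ℂ} (hv : v ≠ 0) (hline : ∀ w, ρ x w = w → ∃ c : ℂ, w = c • v) (hxv : ρ x v = v)
    {n : G} {c : ℂ} (hn : ρ n v = c • v) : c * c = 1 := by
  classical
  have uniq : ∀ {a b : ℂ}, a • v = b • v → a = b := fun h => smul_left_injective ℂ hv h
  have hne : ∀ {a : ℂ} {r : G}, ρ r v = a • v → a ≠ 0 := by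
    intro a r h h0
    rw [h0, zero_smul] at h
    have h2 := congrArg (ρ r⁻¹) h
    rw [← Module.End.mul_apply, ← map_mul, inv_mul_cancel, map_one, Module.End.one_apply,
      map_zero] at h2
    exact hv h2
  let H : Subgroup G :=
    { carrier := {r | ∃ a : ℂ, ρ r v = a • v}
      one_mem' := ⟨1, by simp⟩
      mul_mem' := by
        rintro r s ⟨a, ha⟩ ⟨b, hb⟩
        exact ⟨b * a, by rw [map_mul, Module.End.mul_apply, hb, map_smul, ha, smul_smul]⟩
      inv_mem' := by
        rintro r ⟨a, ha⟩
        refine ⟨a⁻¹, ?_⟩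
        have h := congrArg (fun w => a⁻¹ • ρ r⁻¹ w) ha
        simp only [← Module.End.mul_apply, ← map_mul, inv_mul_cancel, map_one,
          Module.End.one_apply, map_smul, smul_smul, inv_mul_cancel₀ (hne ha), one_smul] at h
        exact h.symm }
  choose a ha using fun r : H => r.2
  let l : H →* ℂ :=
    { toFun := a
      map_one' := uniq (by rw [← ha 1]; simp)
      map_mul' := fun r s => uniq (by
        rw [← ha (r * s), Subgroup.coe_mul, map_mul, Module.End.mul_apply, ha s, map_smul, ha r,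
          smul_smul, mul_comm]) }
  let li : H →* ℂ :=
    { toFun := fun r => (l r)⁻¹
      map_one' := by simp
      map_mul' := fun r s => by rw [map_mul, mul_inv] }
  let twist : (H →* ℂ) → Representation ℂ H (Fin 3 → ℂ) := fun f =>
    { toFun := fun r => f r • ρ (r : G)
      map_one' := by simp
      map_mul' := fun r s => by
        rw [Subgroup.coe_mul, map_mul ρ, map_mul f, smul_mul_smul_comm] }
  have hchar : ∀ f r, (twist f).character r = f r * ρ.character (r : G) := fun f r => by
    show LinearMap.trace ℂ _ (f r • ρ (r : G)) = _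
    rw [map_smul]
    rfl
  have hnorm : ∀ r : H, conj (l r) = li r := fun r => by
    have h1 : l r ^ orderOf r = 1 := by rw [← map_pow, pow_orderOf_eq_one, map_one]
    exact (norm_eq_one h1).symm
  let hF : Fintype H := Fintype.ofFinite _
  have : Invertible (Nat.card H : ℂ) := invertibleOfNonzero (Nat.cast_ne_zero.mpr Nat.card_pos.ne')
  have e1 := Representation.card_inv_mul_sum_char_eq_finrank (twist li)
  have e2 := Representation.card_inv_mul_sum_char_eq_finrank (twist l)
  have heq : finrank ℂ (Representation.invariants (twist l)) =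
      finrank ℂ (Representation.invariants (twist li)) := by
    have h := congrArg conj e2
    rw [map_mul, map_inv₀, Complex.conj_natCast, map_sum, Complex.conj_natCast] at h
    rw [Finset.sum_congr rfl fun r _ => show conj ((twist l).character r) = (twist li).character r by
      rw [hchar, hchar, map_mul, hnorm, hreal]] at h
    exact_mod_cast h.symm.trans e1
  have hvmem : v ∈ Representation.invariants (twist li) := fun r => by
    show li r • ρ (r : G) v = v
    rw [ha r, smul_smul]
    show ((a r)⁻¹ * a r) • v = v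
    rw [inv_mul_cancel₀ (hne (ha r)), one_smul]
  have hpos : finrank ℂ (Representation.invariants (twist l)) ≠ 0 := by
    rw [heq]
    intro h0
    have := Submodule.finrank_eq_zero.mp h0
    rw [this] at hvmem
    exact hv hvmem
  obtain ⟨w, hw, hw0⟩ := Submodule.exists_mem_ne_zero_of_ne_bot
    (fun h => hpos (Submodule.finrank_eq_zero.mpr h))
  have hxH : x ∈ H := ⟨1, by rw [hxv, one_smul]⟩
  have hnH : n ∈ H := ⟨c, hn⟩
  have hax : a ⟨x, hxH⟩ = 1 := uniq (by rw [← ha ⟨x, hxH⟩, one_smul, hxv])
  have han : a ⟨n, hnH⟩ = c := uniq (by rw [← ha ⟨n, hnH⟩, hn])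
  have h1 : a ⟨x, hxH⟩ • ρ x w = w := hw ⟨x, hxH⟩
  rw [hax, one_smul] at h1
  obtain ⟨e, he⟩ := hline w h1
  have h2 : a ⟨n, hnH⟩ • ρ n w = w := hw ⟨n, hnH⟩
  rw [han, he, map_smul, hn, smul_smul, smul_smul] at h2
  have he0 : e ≠ 0 := fun h0 => hw0 (by rw [he, h0, zero_smul])
  have h3 := uniq h2
  exact mul_right_cancel₀ he0 (by linear_combination h3)

theorem finrank_le_one_of_line [ρ.IsIrreducible] {v : Fin 3 → ℂ} (hv : v ≠ 0)
    (h : ∀ r : G, ∃ a : ℂ, ρ r v = a • v) : False := by
  let W : Subrepresentation ρ :=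
    { toSubmodule := ℂ ∙ v
      apply_mem_toSubmodule := fun r w hw => by
        obtain ⟨k, rfl⟩ := Submodule.mem_span_singleton.mp hw
        obtain ⟨a, ha⟩ := h r
        rw [map_smul, ha, smul_smul]
        exact Submodule.mem_span_singleton.mpr ⟨_, rfl⟩ }
  rcases IsSimpleOrder.eq_bot_or_eq_top W with hW | hW
  · have h0 : (ℂ ∙ v) = ⊥ := congrArg Subrepresentation.toSubmodule hW
    exact hv (Submodule.span_singleton_eq_bot.mp h0)
  · have h1 : finrank ℂ (ℂ ∙ v) = 1 := finrank_span_singleton hv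
    have h3 : (ℂ ∙ v) = ⊤ := congrArg Subrepresentation.toSubmodule hW
    rw [h3, finrank_top, Module.finrank_fin_fun] at h1
    omega

/-- A perfect group with a faithful irreducible real valued representation of degree three has
order 60. -/
theorem card_eq_sixty [ρ.IsIrreducible] (hperf : commutator G = ⊤)
    (hreal : ∀ g, conj (ρ.character g) = ρ.character g) (hinj : ∀ g, ρ g = 1 → g = 1) :
    Nat.card G = 60 := by
  classical
  have hnt : Nontrivial G := by
    by_contra h
    rw [not_nontrivial_iff_subsingleton] at h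
    refine finrank_le_one_of_line ρ (v := Pi.single 0 1) (by simp) fun r => ⟨1, ?_⟩
    rw [Subsingleton.elim r 1, map_one, one_smul, Module.End.one_apply]
  choose! v hv hfix hline using fun x (hx : x ≠ 1) => exists_fixed_line ρ hperf hreal hinj hx
  let M : G → Subgroup G := fun x => fixer ρ (v x)
  have heq : ∀ x y, x ≠ 1 → y ≠ 1 → ρ y (v x) = v x → ∃ c : ℂ, c ≠ 0 ∧ v x = c • v y := by
    intro x y hx hy h
    obtain ⟨c, hc⟩ := hline y hy (v x) h
    exact ⟨c, fun h0 => hv x hx (by rw [hc, h0, zero_smul]), hc⟩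
  have hnorm : ∀ x, x ≠ 1 → ∀ n ∈ Subgroup.normalizer (M x : Set G), ∃ c : ℂ, ρ n (v x) = c • v x := by
    intro x hx n hn
    have h1 : n⁻¹ * x * n ∈ M x := by
      have := (Subgroup.mem_normalizer_iff.1 (inv_mem hn) x).1 (hfix x hx)
      rwa [inv_inv] at this
    refine hline x hx _ ?_
    have h2 : ρ (n⁻¹ * x * n) (v x) = v x := h1
    have h3 := congrArg (ρ n) h2
    rwa [← Module.End.mul_apply, ← map_mul, show n * (n⁻¹ * x * n) = x * n by group, map_mul,
      Module.End.mul_apply] at h3
  have hD : Data M := by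
    refine ⟨hfix, fun x y hx hy hy1 => ?_, fun x g hx y hy => ?_, fun x hx => ?_, fun x hx h => ?_⟩
    · obtain ⟨c, hc, e⟩ := heq x y hx hy1 hy
      exact (show fixer ρ (v y) = fixer ρ (v x) by rw [e, fixer_smul ρ hc])
    · have hgx : g * x * g⁻¹ ≠ 1 := fun h => hx (conj_eq_one_iff.1 h)
      obtain ⟨c, hc⟩ := hline x hx (ρ g⁻¹ (v (g * x * g⁻¹))) (by
        conv_rhs => rw [← hfix _ hgx, ← Module.End.mul_apply, ← map_mul,
          show g⁻¹ * (g * x * g⁻¹) = x * g⁻¹ by group, map_mul, Module.End.mul_apply])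
      show ρ (g * y * g⁻¹) _ = _
      rw [map_mul, Module.End.mul_apply, hc, map_smul, map_mul, Module.End.mul_apply,
        show ρ y (v x) = v x from hy, ← map_smul, ← hc, ← Module.End.mul_apply, ← map_mul,
        mul_inv_cancel, map_one, Module.End.one_apply]
    · set n := Subgroup.normalizer (M x : Set G)
      choose a ha using fun r : n => hnorm x hx r r.2
      have hsq : ∀ r : n, a r = 1 ∨ a r = -1 := fun r =>
        mul_self_eq_one_iff.mp (sq_eq_one_of_line ρ hreal (hv x hx) (hline x hx) (hfix x hx) (ha r))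
      let f : n → Bool := fun r => decide (a r = 1)
      have hcos : ∀ r s : n, f r = f s → r⁻¹ * s ∈ (M x).subgroupOf n := by
        intro r s h
        have hrs : a r = a s := by
          rcases hsq r with e | e <;> rcases hsq s with e' | e' <;>
            simp [f, e, e'] at h ⊢ <;> norm_num at h
        show ρ ((r : G)⁻¹ * (s : G)) (v x) = v x
        rw [map_mul, Module.End.mul_apply, ha s, ← hrs, ← ha r, ← Module.End.mul_apply, ← map_mul,
          inv_mul_cancel, map_one, Module.End.one_apply]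
      show ((M x).subgroupOf n).index ≤ 2
      refine le_trans (Nat.card_le_card_of_injective (fun q : n ⧸ (M x).subgroupOf n => f q.out)
        fun q r h => ?_) (le_of_eq (by simp))
      rw [← QuotientGroup.out_eq' q, ← QuotientGroup.out_eq' r]
      exact QuotientGroup.eq.mpr (hcos _ _ h)
    · exact finrank_le_one_of_line ρ (hv x hx) fun r => hnorm x hx r (h ▸ Subgroup.mem_top r)
  have hns : ¬ Group.IsSolvable G := fun hs => by
    haveI := hs
    exact absurd hperf (Group.IsSolvable.commutator_lt_top_of_nontrivial G).ne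
  have := CfsgLib.AEightSub.sixty_le hns
  rcases card_cases hD with h | h | h <;> omega

end Character

end CfsgLib.Char.ThreeSixty
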