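import Cfsg.Agent.Lib.Char.FTBlichfeldt
import Cfsg.Agent.Lib.Char.ItoMichler
import Cfsg.Agent.Lib.BrauerTuan.Data
import Cfsg.Agent.Lib.Char.Table

/-!
# All irreducible degrees below `p`: a normal abelian Sylow `p`-subgroup
-/

set_option autoImplicit false
set_option linter.unusedSectionVars false
set_option linter.style.haveILetI false

namespace CfsgLib.Char.DegreesBelow

open Cfsg CfsgLib
open scoped ComplexConjugate CfsgLib.Char
open scoped _root_.Classical

universe u

/-- All irreducible degrees are below `p`. -/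
def Below (p : ℕ) (G : Type u) [Group G] : Prop :=
  ∀ χ : IrrCharacter G, charDegree (χ : G → ℂ) < p

variable {p : ℕ} {G : Type u} [Group G] [Finite G]

theorem not_dvd [Fact p.Prime] (h : Below p G) (χ : IrrCharacter G) (d : ℕ)
    (hd : (χ : G → ℂ) 1 = d) : ¬ p ∣ d := by
  obtain ⟨e, he0, he⟩ := exists_nat_degree_irr χ.2
  obtain rfl : e = d := by exact_mod_cast he.symm.trans hd
  have := h χ
  rw [Extraspecial.charDegree_eq he] at this
  exact fun hdvd => absurd (Nat.le_of_dvd he0 hdvd) (not_le.mpr this)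

theorem below_subgroup (h : Below p G) (H : Subgroup G) : Below p H := by
  intro θ
  haveI : Fintype G := Fintype.ofFinite G
  haveI : Fintype H := Fintype.ofFinite H
  obtain ⟨m, hm⟩ := exists_multiplicities (isCharacter_indFun H (isCharacter_of_isIrr θ.2))
  obtain ⟨χ, hχ⟩ : ∃ χ : IrrCharacter G, m χ ≠ 0 := by
    by_contra hall
    push Not at hall
    have h0 : indFun H (θ : H → ℂ) = 0 := by rw [hm]; simp [hall]
    have h1 := congrFun h0 1
    simp only [indFun, mul_one, inv_mul_cancel, Pi.zero_apply, Finset.sum_const, Finset.card_univ, nsmul_eq_mul,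
      mul_eq_zero, inv_eq_zero, Nat.cast_eq_zero] at h1
    rcases h1 with h1 | h1 | h1
    · exact Nat.card_pos.ne' h1
    · exact Fintype.card_ne_zero h1
    · rw [← Subgroup.coe_one H, extendByZero_coe] at h1
      exact irr_degree_ne_zero θ.2 h1
  have h2 := frobenius_reciprocity' H (θ : H → ℂ)
    (isClassFunction_of_isCharacter (isCharacter_of_isIrr χ.2))
  rw [← classInner_conj_symm, hm, classInner_sum_smul_irr, map_natCast] at h2
  obtain ⟨d, -, hd⟩ := exists_nat_degree_irr χ.2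
  refine lt_of_le_of_lt (BrauerTuan.degree_le_of_inner (isCharacter_restrict H (isCharacter_of_isIrr χ.2))
    (by rw [← h2]; exact Nat.cast_ne_zero.mpr hχ) (d := d) (by rw [Subgroup.coe_one]; exact hd)) ?_
  rw [← Extraspecial.charDegree_eq hd]
  exact h χ

theorem below_quotient (h : Below p G) (N : Subgroup G) [N.Normal] : Below p (G ⧸ N) := by
  intro χ
  obtain ⟨d, -, hd⟩ := exists_nat_degree_irr χ.2
  have h1 := h ⟨_, Blocks.isIrrCharacter_comp_of_surjective χ.2 (QuotientGroup.mk' N) (QuotientGroup.mk'_surjective N)⟩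
  rw [Extraspecial.charDegree_eq hd]
  rwa [Extraspecial.charDegree_eq (d := d) (by simp only [map_one]; exact hd)] at h1

theorem isPSolvable_of_normal_sylow [Fact p.Prime] {P : Subgroup G} [P.Normal] (hP : IsPGroup p P)
    (hidx : ¬ p ∣ P.index) : IsPSolvable p G := by
  refine PSolvable.isPSolvable_of_quotient P (Or.inl hP) ⟨1, ![⊥, ⊤], rfl, rfl, ?_, ?_, ?_⟩
  · intro i j hij
    fin_cases i <;> fin_cases j <;> simp_all
  · intro i
    fin_cases i <;> simp <;> infer_instance
  · intro i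
    fin_cases i
    refine Or.inr ?_
    simp only [Fin.zero_eta, Fin.castSucc_zero, Fin.succ_zero_eq_one, Matrix.cons_val_zero, Matrix.cons_val_one,
      Subgroup.relIndex_top_right, Subgroup.index_bot]
    rw [← Subgroup.index_eq_card]
    exact (Nat.Coprime.symm ((Fact.out : p.Prime).coprime_iff_not_dvd.mpr hidx))

/-- No counterexample is simple. -/
theorem simple_case [Fintype G] [Fact p.Prime] [IsSimpleGroup G] (h : Below p G)
    (hdvd : p ∣ Nat.card G)
    (hsub : ∀ H : Subgroup G, H ≠ ⊤ → ∀ Q : Sylow p H, (Q : Subgroup H).Normal)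
    (hnc : ¬ IsMulCommutative G) : False := by
  have hp : p.Prime := Fact.out
  have hcyc : ¬ IsCyclic G := fun hc => hnc ⟨⟨fun a b => by
    letI := hc.commGroup; exact mul_comm a b⟩⟩
  have hfaith := fun {χ : IrrCharacter G} (hχ : χ ≠ Blocks.trivIrr G) {x : G}
    (hx : (χ : G → ℂ) x = (χ : G → ℂ) 1) => BrauerReynolds.faithful_of_simple hχ hx
  let P : Sylow p G := default
  have hPn : ¬ (P : Subgroup G).Normal := by
    intro hn
    have h2 : 2 ≤ Nat.card (P : Subgroup G) :=
      hp.two_le.trans (Nat.le_of_dvd Nat.card_pos (P.dvd_card_of_dvd_card hdvd))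
    rcases hn.eq_bot_or_eq_top with e | e
    · rw [e, Subgroup.card_bot] at h2; omega
    · haveI := P.isPGroup'
      have hG : IsPGroup p G := by
        refine IsPGroup.of_equiv P.isPGroup' ?_
        exact (MulEquiv.subgroupCongr e).trans Subgroup.topEquiv
      haveI : Group.IsNilpotent G := hG.isNilpotent
      haveI : Group.IsSolvable G := inferInstance
      exact hnc (IsSimpleGroup.comm_iff_isSolvable.mpr inferInstance |> fun hc => ⟨⟨fun a b => hc a b⟩⟩)
  have hperf : commutator G = ⊤ := by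
    refine (Subgroup.Normal.eq_bot_or_eq_top inferInstance).resolve_left fun e => hnc ⟨⟨fun a b => ?_⟩⟩
    have := Subgroup.commutator_mem_commutator (Subgroup.mem_top a) (Subgroup.mem_top b)
    rw [← _root_.commutator_def, e, Subgroup.mem_bot] at this
    exact commutatorElement_eq_one_iff_mul_comm.mp this
  have hab : ∀ Q : Sylow p G, ∀ a ∈ (Q : Subgroup G), ∀ b ∈ (Q : Subgroup G), a * b = b * a := by
    intro Q a ha b hb
    obtain ⟨R, hR, -, hidx, hcomm⟩ := ItoMichler.aux p _ (Q : Subgroup G) rfl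
      (isPSolvable_of_normal_sylow (P := ⊤) (IsPGroup.of_equiv Q.isPGroup' Subgroup.topEquiv.symm)
        (by rw [Subgroup.index_top]; exact hp.not_dvd_one))
      (fun χ d hd => not_dvd (below_subgroup h _) χ d hd)
    have hR' : R = ⊤ := by
      refine Subgroup.index_eq_one.mp ?_
      obtain ⟨j, hj⟩ := IsPGroup.iff_card.mp Q.isPGroup'
      obtain ⟨i, -, hi⟩ := (Nat.dvd_prime_pow hp).mp (hj ▸ Subgroup.index_dvd_card R)
      rcases i with _ | i
      · simpa using hi
      · exact absurd (hi ▸ dvd_pow_self p i.succ_ne_zero) hidx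
    exact congrArg Subtype.val (hcomm ⟨a, ha⟩ (hR' ▸ Subgroup.mem_top _) ⟨b, hb⟩ (hR' ▸ Subgroup.mem_top _))
  have hZ : Subgroup.center G = ⊥ := (Subgroup.Normal.eq_bot_or_eq_top inferInstance).resolve_right fun e =>
    hnc ⟨⟨fun a b => Subgroup.mem_center_iff.mp (show b ∈ Subgroup.center G by rw [e]; trivial) a⟩⟩
  have hone : MeetsOne (P : Subgroup G) := by
    intro g hg a b ha hb
    obtain ⟨x, ⟨hxC, hxa⟩, hx1⟩ := (Subgroup.bot_or_exists_ne_one _).resolve_left ha
    obtain ⟨y, ⟨hyC, hyb⟩, hy1⟩ := (Subgroup.bot_or_exists_ne_one _).resolve_left hb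
    have hne : ∀ z : G, z ≠ 1 → Subgroup.centralizer ({z} : Set G) ≠ ⊤ := fun z hz e => hz (by
      rw [← Subgroup.mem_bot, ← hZ]
      exact Subgroup.mem_center_iff.mpr fun w =>
        Subgroup.mem_centralizer_singleton_iff.mp (e ▸ Subgroup.mem_top w))
    have key : ∀ (Q R : Sylow p G) (z : G), z ≠ 1 → z ∈ (Q : Subgroup G) → z ∈ (R : Subgroup G) → Q = R :=
      fun Q R z hz hzQ hzR => sylow_unique_of_le hsub (hne z hz)
        (fun w hw => Subgroup.mem_centralizer_singleton_iff.mpr (hab Q w hw z hzQ))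
        (fun w hw => Subgroup.mem_centralizer_singleton_iff.mpr (hab R w hw z hzR))
    set C := Subgroup.centralizer ({g} : Set G)
    have hCne : C ≠ ⊤ := fun e => hg (Subgroup.mem_center_iff.mpr fun w =>
      Subgroup.mem_centralizer_singleton_iff.mp (show w ∈ C by rw [e]; trivial))
    let Q0 : Sylow p C := default
    haveI := Sylow.unique_of_normal Q0 (hsub C hCne Q0)
    have hin : ∀ (Q : Sylow p G) (w : G), w ∈ C → w ∈ (Q : Subgroup G) →
        w ∈ (Q0 : Subgroup C).map C.subtype := by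
      intro Q w hwC hwQ
      obtain ⟨S, hS⟩ := (Q.isPGroup'.comap_of_injective C.subtype C.subtype_injective).exists_le_sylow
      exact ⟨⟨w, hwC⟩, (Subsingleton.elim S Q0) ▸ hS hwQ, rfl⟩
    obtain ⟨R, hR⟩ := (Q0.isPGroup'.map C.subtype).exists_le_sylow
    have e1 := key (a • P) R x hx1 hxa (hR (hin (a • P) x hxC hxa))
    have e2 := key (b • P) R y hy1 hyb (hR (hin (b • P) y hyC hyb))
    exact congrArg (fun S : Sylow p G => (S : Subgroup G)) (e1.trans e2.symm)
  obtain ⟨h₀, hh₀, hne₀⟩ : ∃ h ∈ (P : Subgroup G), h ≠ 1 :=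
    (Subgroup.bot_or_exists_ne_one _).resolve_left fun e => hPn (by rw [e]; infer_instance)
  have hcardP : Nat.card (P : Subgroup G) = p := by
    obtain ⟨χ, hχ⟩ : ∃ χ : IrrCharacter G, (χ : G → ℂ) h₀ ≠ (χ : G → ℂ) 1 := by
      by_contra hall
      push Not at hall
      exact hne₀ (eq_one_of_forall_irr hall)
    obtain ⟨d, -, hd⟩ := exists_nat_degree_irr χ.2
    have hd1 : d ≠ 1 := by
      intro e
      refine hχ ?_
      have h1 : (χ : G → ℂ) 1 = 1 := by rw [hd, e, Nat.cast_one]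
      have hχc := isCharacter_of_isIrr χ.2
      have h2 := Abelianization.commutator_subset_ker (linearHom hχc h1) (hperf ▸ Subgroup.mem_top h₀)
      rw [MonoidHom.mem_ker] at h2
      rw [h1, ← linearHom_apply hχc h1, h2]
      rfl
    haveI : Fintype (P : Subgroup G) := Fintype.ofFinite _
    have hlt := card_lt_succ_degree_sq (P : Subgroup G) (hab P) (by rw [hZ, inf_bot_eq]) hone
      (fun M hMn hPM => haveI := hMn; eq_top_of_sylow_le hsub hPn hPM) χ.2 ⟨h₀, hh₀, hχ⟩ hd hd1
    have hdp : d + 1 ≤ p := by have := h χ; rw [Extraspecial.charDegree_eq hd] at this; omega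
    obtain ⟨j, hj⟩ := IsPGroup.iff_card.mp P.isPGroup'
    have hj1 : j < 2 := (Nat.pow_lt_pow_iff_right hp.one_lt).mp
      (hj ▸ hlt.trans_le (Nat.pow_le_pow_left hdp 2))
    have hj0 : j ≠ 0 := fun e => hne₀ (by
      rw [e, pow_zero] at hj
      exact Subgroup.mem_bot.mp ((Subgroup.eq_bot_of_card_eq _ hj) ▸ hh₀))
    rw [hj, show j = 1 by omega, pow_one]
  obtain ⟨D⟩ := BrauerTuan.nonempty_data hcyc P hcardP
  have hpos : ∀ χ : IrrCharacter G, 0 < charDegree (χ : G → ℂ) := fun χ => by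
    obtain ⟨d, hd0, hd⟩ := exists_nat_degree_irr χ.2
    rwa [Extraspecial.charDegree_eq hd]
  have htriv1 : charDegree (Blocks.trivIrr G : G → ℂ) = 1 :=
    Extraspecial.charDegree_eq (by rw [Nat.cast_one]; rfl)
  have hdeg1 : ∀ χ : IrrCharacter G, charDegree (χ : G → ℂ) = 1 → χ = Blocks.trivIrr G := by
    intro χ hχ1
    by_contra hne
    refine hne₀ (hfaith hne ?_)
    have h1 : (χ : G → ℂ) 1 = 1 := by rw [BrauerReynolds.value_one, hχ1, Nat.cast_one]
    have hχc := isCharacter_of_isIrr χ.2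
    have h2 := Abelianization.commutator_subset_ker (linearHom hχc h1) (hperf ▸ Subgroup.mem_top h₀)
    rw [MonoidHom.mem_ker] at h2
    rw [h1, ← linearHom_apply hχc h1, h2]
    rfl
  have hp2 : 3 ≤ p := by
    have h1 := D.het
    have h2 : 2 ≤ D.e * D.t := le_trans D.two_le_e (Nat.le_mul_of_pos_right _ D.one_le_t)
    omega
  have hXdeg : ∀ χ ∈ D.X, χ ≠ Blocks.trivIrr G → D.δ χ = -1 ∧ charDegree (χ : G → ℂ) + 1 = p := by
    intro χ hχ hne
    have hmod := D.degX χ hχ
    have hlt := h χ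
    have h0 := hpos χ
    rcases D.hδ χ hχ with hδ | hδ <;> rw [hδ] at hmod
    · exfalso
      refine hne (hdeg1 χ ?_)
      have := Int.eq_zero_of_abs_lt_dvd hmod.symm.dvd (by rw [abs_lt]; constructor <;> omega)
      omega
    · refine ⟨hδ, ?_⟩
      obtain ⟨c, hc⟩ := hmod.symm.dvd
      have : c = 1 := by
        have h1 : 0 < c := by nlinarith
        have h2 : c < 2 := by nlinarith
        omega
      subst this
      omega
  have htX : Blocks.trivIrr G ∈ D.X := by
    refine (Finset.mem_union.mp D.triv).resolve_right fun hY => ?_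
    have hY1 : ∀ ψ ∈ D.Y, ψ = Blocks.trivIrr G := fun ψ hψ =>
      hdeg1 ψ ((D.degY_eq ψ hψ _ hY).trans htriv1)
    have hrel := D.rel _ hY 1 (by rw [orderOf_one]; exact hp.not_dvd_one)
    rw [Finset.sum_congr rfl (g := fun _ => -(((p : ℂ) - 1))) fun χ hχ => by
      have hne : χ ≠ Blocks.trivIrr G := fun e => Finset.disjoint_left.mp D.disj hχ (e ▸ hY)
      obtain ⟨h1, h2⟩ := hXdeg χ hχ hne
      rw [h1, BrauerReynolds.value_one, ← h2]
      push_cast
      ring, Finset.sum_const, D.card_X, nsmul_eq_mul, BrauerReynolds.value_one, htriv1, Nat.cast_one, mul_one] at hrel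
    have hrel' : D.ε = -((D.e : ℤ) * ((p : ℤ) - 1)) := by
      have : (D.ε : ℂ) = ((-((D.e : ℤ) * ((p : ℤ) - 1)) : ℤ) : ℂ) := by rw [hrel]; push_cast; ring
      exact_mod_cast this
    have := D.two_le_e
    rcases D.hε with he | he <;> rw [he] at hrel' <;> nlinarith
  have hδ1 : D.δ (Blocks.trivIrr G) = 1 := by
    rcases D.hδ _ htX with hd | hd
    · exact hd
    have hmod := D.degX _ htX
    rw [htriv1, hd] at hmod
    have := Int.eq_zero_of_abs_lt_dvd hmod.symm.dvd (by rw [abs_lt]; constructor <;> omega)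
    omega
  obtain ⟨ψ₀, hψ₀⟩ : D.Y.Nonempty := Finset.card_pos.mp (by rw [D.card_Y]; exact D.one_le_t)
  set b := charDegree (ψ₀ : G → ℂ) with hb
  have hrel : D.ε * (b : ℤ) = 1 - ((D.e : ℤ) - 1) * ((p : ℤ) - 1) := by
    have h0 := D.rel _ hψ₀ 1 (by rw [orderOf_one]; exact hp.not_dvd_one)
    rw [← Finset.add_sum_erase _ _ htX, Finset.sum_congr rfl (g := fun _ => -(((p : ℂ) - 1))) fun χ hχ => by
      obtain ⟨hne, hχX⟩ := Finset.mem_erase.mp hχ
      obtain ⟨h1, h2⟩ := hXdeg χ hχX hne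
      rw [h1, BrauerReynolds.value_one, ← h2]
      push_cast
      ring, Finset.sum_const, Finset.card_erase_of_mem htX, D.card_X, nsmul_eq_mul, hδ1,
      BrauerReynolds.value_one, BrauerReynolds.value_one, htriv1,
      Nat.cast_sub (le_trans one_le_two D.two_le_e)] at h0
    have : ((D.ε * (b : ℤ) : ℤ) : ℂ) = ((1 - ((D.e : ℤ) - 1) * ((p : ℤ) - 1) : ℤ) : ℂ) := by
      push_cast at h0 ⊢
      linear_combination h0
    exact_mod_cast this
  have hb_lt := h ψ₀
  have he2 : D.e = 2 := by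
    have h2e := D.two_le_e
    by_contra hne
    have h3 : (3 : ℤ) ≤ D.e := by omega
    rcases D.hε with he | he <;> rw [he] at hrel <;> nlinarith [hpos ψ₀]
  have hb2 : b + 2 = p ∧ D.ε = -1 := by
    rw [he2] at hrel
    rcases D.hε with he | he <;> rw [he] at hrel ⊢ <;> push_cast at hrel <;> have := hpos ψ₀ <;> omega
  obtain ⟨χ₁, hχ₁⟩ : ((D.X.erase (Blocks.trivIrr G))).Nonempty :=
    Finset.card_pos.mp (by rw [Finset.card_erase_of_mem htX, D.card_X, he2]; norm_num)
  obtain ⟨hχne, hχX⟩ := Finset.mem_erase.mp hχ₁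
  obtain ⟨hδχ, hdχ⟩ := hXdeg χ₁ hχX hχne
  have hX : D.X = {Blocks.trivIrr G, χ₁} := by
    refine (Finset.eq_of_subset_of_card_le (by
      intro x hx; rcases Finset.mem_insert.mp hx with rfl | hx
      · exact htX
      · exact (Finset.mem_singleton.mp hx) ▸ hχX) ?_).symm
    rw [D.card_X, he2, Finset.card_pair hχne.symm]
  -- the centralizer of `P` is `P`
  have hvp : ∀ v ∈ (P : Subgroup G), v ≠ 1 → orderOf v = p := fun v hv hv1 => by
    have h1 := Subgroup.orderOf_dvd_natCard _ hv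
    rw [hcardP] at h1
    exact ((hp.eq_one_or_self_of_dvd _ h1)).resolve_left fun e => hv1 (orderOf_eq_one_iff.mp e)
  have hPle : (P : Subgroup G) ≤ Subgroup.centralizer ((P : Subgroup G) : Set G) := fun x hx =>
    Subgroup.mem_centralizer_iff.mpr fun w hw => hab P w hw x hx
  have hC : Subgroup.centralizer ((P : Subgroup G) : Set G) = (P : Subgroup G) := by
    refine le_antisymm ?_ hPle
    by_contra hle
    obtain ⟨q, hq, hqd⟩ := Nat.exists_prime_and_dvd (n := (P : Subgroup G).relIndex (Subgroup.centralizer ((P : Subgroup G) : Set G)))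
      (fun e => hle (Subgroup.relIndex_eq_one.mp e))
    have hqp : q ≠ p := by
      rintro rfl
      exact P.not_dvd_index (hqd.trans (Subgroup.relIndex_dvd_index_of_le hPle))
    haveI := Fact.mk hq
    obtain ⟨⟨y, hy⟩, hyo⟩ := exists_prime_orderOf_dvd_card' (G := Subgroup.centralizer ((P : Subgroup G) : Set G)) q
      (hqd.trans (Subgroup.index_dvd_card _))
    rw [Subgroup.orderOf_mk] at hyo
    have hyr : ¬ p ∣ orderOf y := by
      rw [hyo, Nat.prime_dvd_prime_iff_eq hp hq]; exact hqp.symm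
    have hy1 : y = 1 := by
      refine hfaith hχne (BrauerTuan.value_eq_of_periodic (isCharacter_of_isIrr χ₁.2) (hvp h₀ hh₀ hne₀)
        (BrauerReynolds.value_one χ₁) (h χ₁) fun i hi => ?_)
      have hi1 : h₀ ^ i ≠ 1 := fun e => hi (by
        rw [← hvp h₀ hh₀ hne₀]; exact orderOf_dvd_of_pow_eq_one e)
      have e1 := D.valX χ₁ hχX (h₀ ^ i) ((P : Subgroup G).pow_mem hh₀ i) hi1 y hy hyr
      have e2 := D.valX χ₁ hχX (h₀ ^ i) ((P : Subgroup G).pow_mem hh₀ i) hi1 1 (one_mem _)
        (by rw [orderOf_one]; exact hp.not_dvd_one)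
      rw [mul_one] at e2
      rw [e1, e2]
    rw [hy1, orderOf_one] at hyo
    exact hq.one_lt.ne hyo
  -- there are no further characters
  have hall : ∀ χ : IrrCharacter G, χ ∈ D.X ∪ D.Y := by
    intro χ
    by_contra hχ
    rw [Finset.mem_union, not_or] at hχ
    haveI : Fintype (P : Subgroup G) := Fintype.ofFinite _
    obtain ⟨m, hm⟩ := exists_nat_classInner
      (isCharacter_restrict (P : Subgroup G) (isCharacter_of_isIrr χ.2)) (isCharacter_one (G := (P : Subgroup G)))
    rw [classInner, Finset.sum_eq_single (1 : (P : Subgroup G)) (fun v _ hv => by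
      show (χ : G → ℂ) (v : G) * conj 1 = 0
      rw [D.out hC χ hχ.1 hχ.2 v v.2 (fun e => hv (Subtype.ext e)), zero_mul])
      (fun h' => absurd (Finset.mem_univ _) h'), hcardP, Subgroup.coe_one, map_one, mul_one,
      BrauerReynolds.value_one, inv_mul_eq_iff_eq_mul₀ (Nat.cast_ne_zero.mpr hp.ne_zero)] at hm
    have hm' : charDegree (χ : G → ℂ) = p * m := by exact_mod_cast hm
    exact not_dvd h χ _ (BrauerReynolds.value_one χ) ⟨m, hm'⟩
  have hsq : (Nat.card G : ℤ) = 1 + ((p : ℤ) - 1) ^ 2 + (D.t : ℤ) * ((p : ℤ) - 2) ^ 2 := by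
    have h0 := sum_sq_degree (G := G)
    rw [show (Finset.univ : Finset (IrrCharacter G)) = D.X ∪ D.Y from
      (Finset.eq_univ_of_forall hall).symm, Finset.sum_union D.disj, hX, Finset.sum_pair hχne.symm,
      Finset.sum_congr (s₁ := D.Y) rfl (g := fun _ => (b : ℂ) ^ 2) fun ψ hψ => by
        rw [BrauerReynolds.value_one, D.degY_eq ψ hψ ψ₀ hψ₀],
      Finset.sum_const, D.card_Y, nsmul_eq_mul, BrauerReynolds.value_one, BrauerReynolds.value_one, htriv1] at h0
    have : ((Nat.card G : ℤ) : ℂ) = ((1 + ((p : ℤ) - 1) ^ 2 + (D.t : ℤ) * ((p : ℤ) - 2) ^ 2 : ℤ) : ℂ) := by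
      have hp₁ : (p : ℂ) = (charDegree (χ₁ : G → ℂ) : ℂ) + 1 := by exact_mod_cast hdχ.symm
      have hb' : (b : ℂ) = (charDegree (χ₁ : G → ℂ) : ℂ) - 1 := by
        have : (b : ℂ) + 2 = (p : ℂ) := by exact_mod_cast hb2.1
        linear_combination this + hp₁
      push_cast at h0 ⊢
      rw [← h0, hb', hp₁]
      ring
    exact_mod_cast this
  have hcard := D.card_G
  rw [hC, hcardP, he2] at hcard
  have ht : 2 * D.t + 1 = p := by rw [← he2]; exact D.het
  have hdvd1 : charDegree (χ₁ : G → ℂ) ∣ 2 * (1 + D.n * p) := he2 ▸ D.dvdX χ₁ hχX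
  have hdvdt : (D.t : ℤ) ∣ (Nat.card G : ℤ) := by
    rw [Int.natCast_dvd_natCast, hcard]
    refine (Dvd.intro_left 2 ?_).trans (hdvd1.trans (dvd_mul_right _ _))
    omega
  have hp' : (p : ℤ) = 2 * D.t + 1 := by exact_mod_cast ht.symm
  rw [hsq, hp'] at hdvdt
  have ht1 : (D.t : ℤ) ∣ 1 := by
    obtain ⟨c, hc⟩ := hdvdt
    exact ⟨c - 4 * D.t - (2 * (D.t : ℤ) - 1) ^ 2, by linear_combination hc⟩
  have ht1' : D.t = 1 := Nat.dvd_one.mp (by exact_mod_cast ht1)
  have hn := D.n_pos
  rw [ht1'] at ht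
  have hp3 : (p : ℤ) = 3 := by omega
  rw [ht1', hp3] at hsq
  norm_num at hsq
  have h6 : Nat.card G = 6 := by rw [Nat.card_eq_fintype_card]; exact_mod_cast hsq
  have hp3' : p = 3 := by omega
  have h2 : 24 ≤ 2 * (1 + D.n * p) * p := by
    have := Nat.le_mul_of_pos_left p D.n_pos
    nlinarith [hp3']
  omega

theorem main [hp : Fact p.Prime] : ∀ (n : ℕ) (G : Type u) [Group G] [Finite G], Nat.card G = n →
    Below p G → ∃ P : Subgroup G, P.Normal ∧ IsPGroup p P ∧ ¬ p ∣ P.index ∧
      ∀ a ∈ P, ∀ b ∈ P, a * b = b * a := by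
  intro n
  induction n using Nat.strong_induction_on with
  | _ n ih => ?_
  intro G _ _ hn h
  haveI : Fintype G := Fintype.ofFinite G
  refine ItoMichler.aux p _ G rfl ?_ (fun χ d hd => not_dvd h χ d hd)
  by_cases hdvd : p ∣ Nat.card G
  swap
  · exact isPSolvable_of_normal_sylow (P := ⊥) IsPGroup.of_bot (by rwa [Subgroup.index_bot])
  by_cases hcomm : IsMulCommutative G
  · haveI : Group.IsSolvable G := isSolvable_of_comm fun a b => hcomm.1.1 a b
    exact PSolvable.isPSolvable_of_isSolvable this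
  haveI : Nontrivial G := by
    rw [← Finite.one_lt_card_iff_nontrivial]
    exact hp.out.one_lt.trans_le (Nat.le_of_dvd Nat.card_pos hdvd)
  have hlt : ∀ H : Subgroup G, H ≠ ⊤ → Nat.card H < n := fun H hH =>
    hn ▸ lt_of_le_of_ne (Subgroup.card_le_card_group H) fun e => hH (H.eq_top_of_card_eq e)
  have hsub : ∀ H : Subgroup G, H ≠ ⊤ → ∀ Q : Sylow p H, (Q : Subgroup H).Normal := by
    intro H hH Q
    obtain ⟨R, hRn, hRp, hRidx, -⟩ := ih _ (hlt H hH) H rfl (below_subgroup h H)
    haveI := hRn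
    haveI := Sylow.unique_of_normal (hRp.toSylow hRidx) (by rwa [IsPGroup.toSylow_coe])
    rw [Subsingleton.elim Q (hRp.toSylow hRidx), IsPGroup.toSylow_coe]
    exact hRn
  obtain ⟨N, hNn, hNb, hNt⟩ : ∃ N : Subgroup G, N.Normal ∧ N ≠ ⊥ ∧ N ≠ ⊤ := by
    by_contra hall
    push Not at hall
    haveI : IsSimpleGroup G := ⟨fun H hH => or_iff_not_imp_left.mpr (hall H hH)⟩
    exact simple_case h hdvd hsub hcomm
  haveI := hNn
  obtain ⟨Q, hQn, hQp, hQidx, -⟩ := ih _ (hlt N hNt) N rfl (below_subgroup h N)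
  haveI := hQn
  haveI hQc : Q.Characteristic := by
    have := Sylow.characteristic_of_normal (hQp.toSylow hQidx) (by rwa [IsPGroup.toSylow_coe])
    rwa [IsPGroup.toSylow_coe] at this
  obtain ⟨M, hMn, hMb, hM⟩ : ∃ M : Subgroup G, M.Normal ∧ M ≠ ⊥ ∧ (IsPGroup p M ∨ (Nat.card M).Coprime p) := by
    by_cases hQ : Q = ⊥
    · refine ⟨N, hNn, hNb, Or.inr ?_⟩
      rw [hQ, Subgroup.index_bot] at hQidx
      exact (hp.out.coprime_iff_not_dvd.mpr hQidx).symm
    · exact ⟨Q.map N.subtype, ConjAct.normal_of_characteristic_of_normal,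
        fun e => hQ ((Subgroup.map_eq_bot_iff_of_injective Q N.subtype_injective).mp e), Or.inl (hQp.map _)⟩
  haveI := hMn
  have hlt' : Nat.card (G ⧸ M) < n := by
    rw [← hn, ← Subgroup.index_eq_card, ← M.card_mul_index]
    exact lt_mul_of_one_lt_left (Nat.pos_of_ne_zero M.index_ne_zero_of_finite) (Subgroup.one_lt_card_iff_ne_bot M |>.mpr hMb)
  obtain ⟨R, hRn, hRp, hRidx, -⟩ := ih _ hlt' (G ⧸ M) rfl (below_quotient h M)
  haveI := hRn
  exact PSolvable.isPSolvable_of_quotient M hM (isPSolvable_of_normal_sylow hRp hRidx)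

end CfsgLib.Char.DegreesBelow
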