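import Cfsg.Agent.Lib.Char.Clifford
import Cfsg.Agent.Lib.Char.Counting
import Cfsg.Prelude.Def_CharExt

/-!
# Extension of invariant characters

For an irreducible representation `ρ` of a normal subgroup `N` whose class is `G`-invariant,
`covering N ρ` is the group of pairs `(g, T)` with `T ρ(n) = ρ(g n g⁻¹) T`: a central extension of
`G` by `ℂˣ` containing a copy of `N`. The exponents `m` for which the scalars have an `m`-th power
character trivial on `N` form a subgroup `extExp` of `ℤ`; `ρ` extends iff it contains `1`; it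
contains the index of every subgroup to which `ρ` extends (transfer).
-/

set_option autoImplicit false

namespace CfsgLib.Char

open Module Representation Cfsg
open scoped ComplexConjugate

variable {G : Type*} [Group G] (N : Subgroup G) [hN : N.Normal]
variable {V : Type*} [AddCommGroup V] [Module ℂ V] [FiniteDimensional ℂ V]
variable (ρ : Representation ℂ N V)

/-- Pairs of a group element and an intertwiner from `ρ` to its conjugate. -/
def covering : Subgroup (G × (Module.End ℂ V)ˣ) where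
  carrier := {x | ∀ n : N, (x.2 : Module.End ℂ V) * ρ n =
    ρ ((MulAut.conjNormal x.1 : MulAut N) n) * (x.2 : Module.End ℂ V)}
  one_mem' := fun n => by simp
  mul_mem' := fun {a b} ha hb n => by
    rw [Prod.snd_mul, Units.val_mul, mul_assoc, hb n, ← mul_assoc, ha, mul_assoc, Prod.fst_mul,
      map_mul, MulAut.mul_apply]
  inv_mem' := fun {a} ha n => by
    have h := ha ((MulAut.conjNormal a.1⁻¹ : MulAut N) n)
    rw [map_inv, MulAut.apply_inv_self] at h
    rw [Prod.snd_inv, Prod.fst_inv, Units.inv_mul_eq_iff_eq_mul, ← mul_assoc, map_inv, h, mul_assoc,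
      Units.mul_inv, mul_one]

variable {N} {ρ}

theorem mem_covering {x : G × (Module.End ℂ V)ˣ} :
    x ∈ covering N ρ ↔ ∀ n : N, (x.2 : Module.End ℂ V) * ρ n =
      ρ ((MulAut.conjNormal x.1 : MulAut N) n) * (x.2 : Module.End ℂ V) := Iff.rfl

variable (N) (ρ)

/-- The projection to `G`. -/
def proj : covering N ρ →* G := (MonoidHom.fst _ _).comp (covering N ρ).subtype

/-- The linear part. -/
def oper : covering N ρ →* (Module.End ℂ V)ˣ := (MonoidHom.snd _ _).comp (covering N ρ).subtype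

theorem asGroupHom_mem (n : N) :
    (((n : G), ρ.asGroupHom n) : G × (Module.End ℂ V)ˣ) ∈ covering N ρ := by
  intro m
  simp only [Representation.asGroupHom_apply, ← map_mul]
  congr 1
  exact Subtype.ext (by simp [mul_assoc])

/-- The copy of `N`. -/
def embN : N →* covering N ρ :=
  MonoidHom.codRestrict (MonoidHom.prod N.subtype ρ.asGroupHom) _ (asGroupHom_mem N ρ)

/-- The scalars. -/
noncomputable def scal : ℂˣ →* covering N ρ :=
  MonoidHom.codRestrict
    (MonoidHom.prod (1 : ℂˣ →* G) (Units.map (algebraMap ℂ (Module.End ℂ V)).toMonoidHom)) _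
    (fun c n => by
      simp only [MonoidHom.prod_apply, MonoidHom.one_apply, map_one, MulAut.one_apply]
      exact Algebra.commutes (c : ℂ) (ρ n))

@[simp] theorem proj_embN (n : N) : proj N ρ (embN N ρ n) = n := rfl
@[simp] theorem proj_scal (c : ℂˣ) : proj N ρ (scal N ρ c) = 1 := rfl

theorem oper_scal (c : ℂˣ) :
    (oper N ρ (scal N ρ c) : Module.End ℂ V) = algebraMap ℂ (Module.End ℂ V) (c : ℂ) := rfl

theorem oper_embN (n : N) : (oper N ρ (embN N ρ n) : Module.End ℂ V) = ρ n :=
  Representation.asGroupHom_apply ρ n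

theorem covering_ext {x y : covering N ρ} (h1 : proj N ρ x = proj N ρ y)
    (h2 : (oper N ρ x : Module.End ℂ V) = oper N ρ y) : x = y :=
  Subtype.ext (Prod.ext h1 (Units.ext h2))

theorem scal_comm (c : ℂˣ) (x : covering N ρ) : scal N ρ c * x = x * scal N ρ c := by
  refine covering_ext N ρ (by simp) ?_
  simp only [map_mul, Units.val_mul, oper_scal]
  exact Algebra.commutes (c : ℂ) _

theorem embN_normal (x : covering N ρ) (n : N) :
    x * embN N ρ n * x⁻¹ = embN N ρ ((MulAut.conjNormal (proj N ρ x) : MulAut N) n) := by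
  rw [mul_inv_eq_iff_eq_mul]
  refine covering_ext N ρ ?_ ?_
  · simp only [map_mul, proj_embN, MulAut.conjNormal_apply]
    group
  · simp only [map_mul, Units.val_mul, oper_embN]
    exact x.2 n

section Irreducible

variable [hρ : ρ.IsIrreducible]

theorem scal_injective : Function.Injective (scal N ρ) := by
  intro a b h
  have h' := congrArg (fun x => (oper N ρ x : Module.End ℂ V)) h
  simp only [oper_scal] at h'
  have : Nontrivial V := Module.nontrivial_of_finrank_pos (R := ℂ) (finrank_pos_of_irreducible ρ)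
  exact Units.ext ((algebraMap ℂ (Module.End ℂ V)).injective h')

theorem exists_scal {x : covering N ρ} (hx : proj N ρ x = 1) : ∃ c, x = scal N ρ c := by
  have hcomm : ∀ n, (oper N ρ x : Module.End ℂ V) * ρ n = ρ n * (oper N ρ x : Module.End ℂ V) := by
    intro n
    have h := x.2 n
    rw [show x.1.1 = 1 from hx, map_one, MulAut.one_apply] at h
    exact h
  let T : IntertwiningMap ρ ρ := ⟨(oper N ρ x : Module.End ℂ V), fun n => hcomm n⟩
  obtain ⟨c, hc⟩ := (IsIrreducible.algebraMap_intertwiningMap_bijective_of_isAlgClosed (ρ := ρ)).2 T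
  have h1 : (oper N ρ x : Module.End ℂ V) = algebraMap ℂ (Module.End ℂ V) c := by
    have := congrArg IntertwiningMap.toLinearMap hc
    refine Eq.trans this.symm ?_
    ext v; simp [Algebra.algebraMap_eq_smul_one]
  have : Nontrivial V := Module.nontrivial_of_finrank_pos (R := ℂ) (finrank_pos_of_irreducible ρ)
  have hc0 : c ≠ 0 := fun e => (oper N ρ x).ne_zero (by rw [h1, e, map_zero])
  exact ⟨Units.mk0 c hc0, covering_ext N ρ (by rw [hx, proj_scal]) (by rw [h1, oper_scal]; rfl)⟩

theorem exists_mul_scal {x y : covering N ρ} (h : proj N ρ x = proj N ρ y) :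
    ∃ c, x = y * scal N ρ c := by
  obtain ⟨c, hc⟩ := exists_scal N ρ (x := y⁻¹ * x) (by rw [map_mul, map_inv, h, inv_mul_cancel])
  exact ⟨c, by rw [← hc, mul_inv_cancel_left]⟩

/-- The exponents `m` admitting a homomorphism of the covering to `ℂˣ` which is trivial on `N`
and the `m`-th power on the scalars. -/
noncomputable def extExp : AddSubgroup ℤ where
  carrier := {m | ∃ R : covering N ρ →* ℂˣ,
    (∀ n, R (embN N ρ n) = 1) ∧ ∀ c, R (scal N ρ c) = c ^ m}
  zero_mem' := ⟨1, fun _ => rfl, fun c => by simp⟩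
  add_mem' := fun {a b} ⟨R, h1, h2⟩ ⟨S, h3, h4⟩ => ⟨R * S, fun n => by simp [h1, h3],
    fun c => by simp [h2, h4, zpow_add]⟩
  neg_mem' := fun {a} ⟨R, h1, h2⟩ => ⟨R⁻¹, fun n => by simp [h1], fun c => by simp [h2]⟩

/-- `ρ` extends to `G` as soon as `1` is an exponent. -/
theorem exists_extension (hsurj : Function.Surjective (proj N ρ)) (h : (1 : ℤ) ∈ extExp N ρ) :
    ∃ σ : Representation ℂ G V, ∀ n : N, σ n = ρ n := by
  obtain ⟨R, hR1, hR2⟩ := h
  let Φ : covering N ρ →* covering N ρ :=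
    { toFun := fun x => scal N ρ (R x)⁻¹ * x
      map_one' := by simp
      map_mul' := fun x y => by
        simp only [map_mul, mul_inv_rev]
        rw [← map_mul (scal N ρ), mul_comm (R y)⁻¹, map_mul (scal N ρ), mul_assoc, mul_assoc,
          ← mul_assoc (scal N ρ (R y)⁻¹) x, scal_comm N ρ (R y)⁻¹ x, mul_assoc] }
  let f : covering N ρ →* (Module.End ℂ V)ˣ := (oper N ρ).comp Φ
  have hker : (proj N ρ).ker ≤ f.ker := by
    intro x hx
    obtain ⟨c, rfl⟩ := exists_scal N ρ (MonoidHom.mem_ker.mp hx)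
    rw [MonoidHom.mem_ker]
    show oper N ρ (scal N ρ (R (scal N ρ c))⁻¹ * scal N ρ c) = 1
    rw [hR2, zpow_one, ← map_mul, inv_mul_cancel, map_one, map_one]
  let g : G →* (Module.End ℂ V)ˣ := (proj N ρ).liftOfSurjective hsurj ⟨f, hker⟩
  refine ⟨(Units.coeHom _).comp g, fun n => ?_⟩
  show (g (n : G) : Module.End ℂ V) = ρ n
  rw [← proj_embN N ρ n]
  have : g (proj N ρ (embN N ρ n)) = f (embN N ρ n) :=
    MonoidHom.liftOfRightInverse_comp_apply _ _ _ _ _
  rw [this]
  show (oper N ρ (scal N ρ (R (embN N ρ n))⁻¹ * embN N ρ n) : Module.End ℂ V) = ρ n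
  rw [hR1, inv_one, map_one, one_mul, oper_embN]

/-- The index of a subgroup to which `ρ` extends is an exponent. -/
theorem index_mem_extExp [Finite G] (hsurj : Function.Surjective (proj N ρ)) (P : Subgroup G)
    (hNP : N ≤ P) (σ : Representation ℂ P V) (hσ : ∀ n : N, σ ⟨(n : G), hNP n.2⟩ = ρ n) :
    (P.index : ℤ) ∈ extExp N ρ := by
  classical
  set K := P.comap (proj N ρ) with hK
  have hKi : K.index = P.index := P.index_comap_of_surjective hsurj
  have : K.FiniteIndex := ⟨by rw [hKi]; exact Subgroup.index_ne_zero_of_finite⟩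
  have hξ : ∀ p : P, (((p : G), σ.asGroupHom p) : G × (Module.End ℂ V)ˣ) ∈ covering N ρ := by
    intro p n
    simp only [Representation.asGroupHom_apply]
    rw [← hσ, ← hσ, ← map_mul, ← map_mul]
    congr 1
    exact Subtype.ext (by simp [mul_assoc])
  let ξ : P →* covering N ρ := MonoidHom.codRestrict (MonoidHom.prod P.subtype σ.asGroupHom) _ hξ
  have hξp : ∀ p, proj N ρ (ξ p) = p := fun p => rfl
  have hc : ∀ x : K, ∃ c, (x : covering N ρ) = ξ ⟨proj N ρ x, x.2⟩ * scal N ρ c := fun x =>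
    exists_mul_scal N ρ (hξp ⟨proj N ρ x, x.2⟩).symm
  choose c hc using hc
  have hu : ∀ (x : K) (p : P) (a : ℂˣ), (x : covering N ρ) = ξ p * scal N ρ a → c x = a := by
    intro x p a hx
    have hp : (⟨proj N ρ x, x.2⟩ : P) = p :=
      Subtype.ext (show proj N ρ (x : covering N ρ) = (p : G) from by
        rw [hx, map_mul, proj_scal, mul_one, hξp])
    have h := hc x
    rw [hp] at h
    exact scal_injective N ρ (mul_left_cancel (h.symm.trans hx))
  let φ : K →* ℂˣ := MonoidHom.mk' c fun x y => by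
    refine hu (x * y) (⟨proj N ρ x, x.2⟩ * ⟨proj N ρ y, y.2⟩) (c x * c y) ?_
    calc ((x * y : K) : covering N ρ)
        = ξ ⟨proj N ρ x, x.2⟩ * scal N ρ (c x) * (ξ ⟨proj N ρ y, y.2⟩ * scal N ρ (c y)) := by
          rw [← hc x, ← hc y]; rfl
      _ = _ := by
          rw [map_mul ξ, map_mul (scal N ρ), mul_assoc, mul_assoc,
            ← mul_assoc (scal N ρ (c x)) (ξ _), scal_comm N ρ (c x), mul_assoc]
  have hξn : ∀ n : N, ξ ⟨(n : G), hNP n.2⟩ = embN N ρ n := fun n => by
    refine covering_ext N ρ rfl ?_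
    show (σ.asGroupHom _ : Module.End ℂ V) = (oper N ρ (embN N ρ n) : Module.End ℂ V)
    rw [oper_embN, Representation.asGroupHom_apply, hσ]
  have hφn : ∀ (x : K) (n : N), (x : covering N ρ) = embN N ρ n → φ x = 1 := fun x n hx =>
    hu x ⟨(n : G), hNP n.2⟩ 1 (by rw [map_one, mul_one, hξn, hx])
  have hφc : ∀ (x : K) (a : ℂˣ), (x : covering N ρ) = scal N ρ a → φ x = a := fun x a hx =>
    hu x 1 a (by rw [map_one, one_mul, hx])
  refine ⟨φ.transfer, fun n => ?_, fun a => ?_⟩
  · have : Fintype (covering N ρ ⧸ K) := K.fintypeQuotientOfFiniteIndex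
    rw [MonoidHom.transfer_eq_prod_quotient_orbitRel_zpowers_quot]
    refine Finset.prod_eq_one fun q _ => ?_
    refine hφn _ ((MulAut.conjNormal (proj N ρ q.out.out⁻¹) : MulAut N)
      (n ^ Function.minimalPeriod (embN N ρ n • ·) q.out)) ?_
    rw [← embN_normal, inv_inv, map_pow]
  · rw [MonoidHom.transfer_eq_pow]
    · rw [hφc _ (a ^ K.index) (by rw [map_pow]), hKi, zpow_natCast]
    · intro k g _
      rw [← map_pow, mul_assoc, scal_comm, inv_mul_cancel_left]

/-- Determinants give exponents. -/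
theorem det_mem_extExp (μ : G →* ℂˣ) (k : ℕ)
    (hμ : ∀ n : N, (μ n : ℂ) = LinearMap.det (ρ n) ^ k) :
    ((finrank ℂ V * k : ℕ) : ℤ) ∈ extExp N ρ := by
  let δ : covering N ρ →* ℂˣ := (Units.map LinearMap.det).comp (oper N ρ)
  refine ⟨δ ^ k * (μ.comp (proj N ρ))⁻¹, fun n => ?_, fun c => ?_⟩
  · apply Units.ext
    simp only [MonoidHom.mul_apply, MonoidHom.inv_apply, MonoidHom.comp_apply, proj_embN,
      MonoidHom.pow_apply]
    rw [mul_inv_eq_one.mpr]
    apply Units.ext
    rw [hμ, Units.val_pow_eq_pow_val]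
    show LinearMap.det ((oper N ρ (embN N ρ n)) : Module.End ℂ V) ^ k = _
    rw [oper_embN]
  · apply Units.ext
    simp only [MonoidHom.mul_apply, MonoidHom.inv_apply, MonoidHom.comp_apply, proj_scal, map_one,
      inv_one, mul_one, MonoidHom.pow_apply, Units.val_pow_eq_pow_val, zpow_natCast]
    show LinearMap.det ((oper N ρ (scal N ρ c)) : Module.End ℂ V) ^ k = _
    rw [oper_scal, Algebra.algebraMap_eq_smul_one, LinearMap.det_smul, map_one, mul_one, ← pow_mul]

theorem one_mem_of_forall_prime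
    (h : ∀ p : ℕ, p.Prime → ∃ m ∈ extExp N ρ, ¬ (p : ℤ) ∣ m) : (1 : ℤ) ∈ extExp N ρ := by
  obtain ⟨d, hd⟩ := Int.subgroup_cyclic (extExp N ρ)
  have hdiv : ∀ m ∈ extExp N ρ, d ∣ m := fun m hm => by
    rw [hd, AddSubgroup.mem_closure_singleton] at hm
    obtain ⟨k, rfl⟩ := hm
    exact Dvd.intro_left k (by simp)
  by_cases h1 : d.natAbs = 1
  · have hmem : d ∈ extExp N ρ := by rw [hd]; exact AddSubgroup.subset_closure rfl
    rcases Int.natAbs_eq d with e | e <;> rw [h1] at e
    · simpa [e] using hmem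
    · simpa [e] using neg_mem hmem
  · obtain ⟨p, hp, hpd⟩ := Nat.exists_prime_and_dvd h1
    obtain ⟨m, hm, hpm⟩ := h p hp
    exact absurd ((Int.natCast_dvd.mpr hpd).trans (hdiv m hm)) hpm

/-- For a cyclic quotient `1` is an exponent. -/
theorem one_mem_of_cyclic [Finite G] (hsurj : Function.Surjective (proj N ρ))
    (hcyc : IsCyclic (G ⧸ N)) : (1 : ℤ) ∈ extExp N ρ := by
  classical
  obtain ⟨gbar, hgbar⟩ := hcyc.exists_generator
  obtain ⟨g, rfl⟩ := QuotientGroup.mk'_surjective N gbar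
  obtain ⟨x, hx⟩ := hsurj g
  set m := orderOf (QuotientGroup.mk' N g) with hm
  have hm0 : 0 < m := orderOf_pos _
  have hgm : g ^ m ∈ N := by
    rw [← QuotientGroup.eq_one_iff]
    exact pow_orderOf_eq_one (QuotientGroup.mk' N g)
  obtain ⟨lam, hlam⟩ := exists_mul_scal N ρ (x := x ^ m) (y := embN N ρ ⟨g ^ m, hgm⟩)
    (by simp [hx])
  obtain ⟨μ, hμ⟩ := IsAlgClosed.exists_pow_nat_eq (lam : ℂ) hm0
  have hμ0 : μ ≠ 0 := fun e => lam.ne_zero (by rw [← hμ, e, zero_pow hm0.ne'])
  set y := x * scal N ρ (Units.mk0 μ hμ0)⁻¹ with hy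
  have hyp : proj N ρ y = g := by simp [hy, hx]
  have hym : y ^ m = embN N ρ ⟨g ^ m, hgm⟩ := by
    rw [hy, (show Commute x _ from (scal_comm N ρ _ x).symm).mul_pow, hlam, ← map_pow, mul_assoc,
      ← map_mul]
    have : lam * (Units.mk0 μ hμ0)⁻¹ ^ m = 1 := by
      rw [inv_pow, mul_inv_eq_one]; exact Units.ext hμ.symm
    rw [this, map_one, mul_one]
  have hE : (embN N ρ).range.Normal := ⟨fun a ha z => by
    obtain ⟨n, rfl⟩ := ha
    exact ⟨_, (embN_normal N ρ z n).symm⟩⟩
  set H := Subgroup.zpowers y ⊔ (embN N ρ).range with hH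
  have hmem : ∀ z ∈ H, ∃ (i : ℤ) (n : N), z = y ^ i * embN N ρ n := by
    intro z hz
    rw [hH, Subgroup.mem_sup_of_normal_right] at hz
    obtain ⟨a, ⟨i, rfl⟩, b, ⟨n, rfl⟩, rfl⟩ := hz
    exact ⟨i, n, rfl⟩
  let Ψ : H × ℂˣ →* covering N ρ :=
    MonoidHom.noncommCoprod H.subtype (scal N ρ) (fun h c => (scal_comm N ρ c _).symm)
  have hbij : Function.Bijective Ψ := by
    constructor
    · rw [injective_iff_map_eq_one]
      rintro ⟨⟨z, hz⟩, c⟩ (e : z * scal N ρ c = 1)
      obtain ⟨i, n, rfl⟩ := hmem z hz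
      have h1 := congrArg (proj N ρ) e
      simp only [map_mul, map_zpow, hyp, proj_embN, proj_scal, mul_one, map_one] at h1
      have hi : (m : ℤ) ∣ i := by
        rw [orderOf_dvd_iff_zpow_eq_one, ← map_zpow, QuotientGroup.mk'_apply,
          QuotientGroup.eq_one_iff]
        rw [eq_inv_of_mul_eq_one_left h1]
        exact N.inv_mem n.2
      obtain ⟨j, rfl⟩ := hi
      rw [zpow_mul, zpow_natCast, hym, ← map_zpow, ← map_mul] at e
      have h2 := congrArg (proj N ρ) e
      simp only [map_mul, proj_embN, proj_scal, mul_one, map_one] at h2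
      rw [show (⟨g ^ m, hgm⟩ : N) ^ j * n = 1 from Subtype.ext (by simpa using h2), map_one,
        one_mul] at e
      obtain rfl : c = 1 := scal_injective N ρ (e.trans (map_one _).symm)
      refine Prod.ext (Subtype.ext ?_) rfl
      show y ^ ((m : ℤ) * j) * embN N ρ n = 1
      rw [zpow_mul, zpow_natCast, hym, ← map_zpow, ← map_mul,
        show (⟨g ^ m, hgm⟩ : N) ^ j * n = 1 from Subtype.ext (by simpa using h2), map_one]
    · intro z
      obtain ⟨i, hi⟩ := hgbar (QuotientGroup.mk' N (proj N ρ z))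
      change (QuotientGroup.mk' N g) ^ i = _ at hi
      rw [← map_zpow, QuotientGroup.mk'_apply, QuotientGroup.mk'_apply, QuotientGroup.eq] at hi
      obtain ⟨c, hc⟩ := exists_mul_scal N ρ (x := z) (y := y ^ i * embN N ρ ⟨_, hi⟩)
        (by simp [hyp])
      exact ⟨(⟨_, Subgroup.mul_mem_sup (Subgroup.zpow_mem_zpowers y i) ⟨_, rfl⟩⟩, c), hc.symm⟩
  refine ⟨(MonoidHom.snd H ℂˣ).comp (MulEquiv.ofBijective Ψ hbij).symm.toMonoidHom,
    fun n => ?_, fun c => ?_⟩
  · show ((MulEquiv.ofBijective Ψ hbij).symm (embN N ρ n)).2 = 1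
    rw [show embN N ρ n = (MulEquiv.ofBijective Ψ hbij)
      (⟨_, Subgroup.mem_sup_right ⟨n, rfl⟩⟩, 1) by
        show _ = embN N ρ n * scal N ρ 1
        rw [map_one, mul_one], MulEquiv.symm_apply_apply]
  · show ((MulEquiv.ofBijective Ψ hbij).symm (scal N ρ c)).2 = c ^ (1 : ℤ)
    rw [show scal N ρ c = (MulEquiv.ofBijective Ψ hbij) (1, c) by
        show _ = (1 : covering N ρ) * scal N ρ c
        rw [one_mul], MulEquiv.symm_apply_apply, zpow_one]

end Irreducible

section Invariant

theorem proj_surjective [Finite G]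
    (hinv : ∀ (g : G) (n : N), ρ.character ((MulAut.conjNormal g : MulAut N) n) = ρ.character n) :
    Function.Surjective (proj N ρ) := by
  intro g
  let ρ' : Representation ℂ N V := ρ.comp (MulAut.conjNormal g : MulAut N).toMonoidHom
  obtain ⟨e⟩ := equiv_of_character_eq ρ ρ' (funext fun n => (hinv g n).symm)
  refine ⟨⟨(g, LinearMap.GeneralLinearGroup.ofLinearEquiv e.toLinearEquiv), fun n => ?_⟩, rfl⟩
  exact e.toIntertwiningMap.isIntertwining' n

end Invariant

end CfsgLib.Char
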