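import Cfsg.Agent.Lib.Char.BrauerInd
import Cfsg.Agent.Lib.Char.ExtendChar
import Cfsg.Agent.Lib.Char.Artin
import Cfsg.Agent.Lib.Char.Virtual

/-!
# An exponent from a linear constituent on an elementary supplement
-/

set_option autoImplicit false
set_option linter.unusedSectionVars false

namespace CfsgLib.Char

open Module Representation Cfsg
open scoped ComplexConjugate CfsgLib.Char

variable {G : Type*} [Group G] [Fintype G] (N : Subgroup G) [hN : N.Normal]

/-- A homomorphism on a supplement of a normal subgroup, trivial on the intersection, extends. -/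
theorem exists_hom_of_supplement {C A : Type*} [Group C] [CommGroup A] (E0 K : Subgroup C)
    [E0.Normal] (hsup : ∀ w : C, ∃ z ∈ K, ∃ e ∈ E0, w = z * e) (f : K →* A)
    (hf : ∀ z : K, (z : C) ∈ E0 → f z = 1) :
    ∃ R : C →* A, (∀ e ∈ E0, R e = 1) ∧ ∀ z : K, R z = f z := by
  classical
  choose zf hz ef he hwe using hsup
  have huniq : ∀ (z : K) (e : C), e ∈ E0 → f ⟨zf ((z : C) * e), hz _⟩ = f z := by
    intro z e hemem
    have h : ((⟨zf ((z : C) * e), hz _⟩ : K)⁻¹ * z : K).1 ∈ E0 := by
      show (zf ((z : C) * e))⁻¹ * (z : C) ∈ E0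
      have h1 := hwe ((z : C) * e)
      rw [show (zf ((z : C) * e))⁻¹ * (z : C) = (zf ((z : C) * e))⁻¹ * ((z : C) * e) * e⁻¹ by group]
      conv => arg 2; arg 1; arg 2; rw [h1]
      rw [inv_mul_cancel_left]
      exact E0.mul_mem (he _) (E0.inv_mem hemem)
    have h2 := hf _ h
    rwa [map_mul, map_inv, inv_mul_eq_one] at h2
  refine ⟨MonoidHom.mk' (fun w => f ⟨zf w, hz w⟩) fun a b => ?_, fun e hemem => ?_, fun z => ?_⟩
  · have e1 : a * b = ((⟨zf a, hz a⟩ * ⟨zf b, hz b⟩ : K) : C) *
        ((zf b)⁻¹ * ef a * zf b * ef b) := by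
      conv_lhs => rw [hwe a, hwe b]
      show _ = zf a * zf b * ((zf b)⁻¹ * ef a * zf b * ef b)
      group
    rw [← map_mul]
    refine (congrArg (fun w => f ⟨zf w, hz w⟩) e1).trans (huniq _ _ ?_)
    refine E0.mul_mem ?_ (he b)
    have := Subgroup.Normal.conj_mem ‹E0.Normal› _ (he a) (zf b)⁻¹
    rwa [inv_inv] at this
  · show f ⟨zf e, hz e⟩ = 1
    have h := huniq 1 e hemem
    simp only [OneMemClass.coe_one, one_mul, map_one] at h
    exact h
  · show f ⟨zf (z : C), hz _⟩ = f z
    have h := huniq z 1 E0.one_mem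
    simp only [mul_one] at h
    exact h

variable {V : Type*} [AddCommGroup V] [Module ℂ V] [FiniteDimensional ℂ V]
  (ρ : Representation ℂ N V)

/-- If a subgroup `E` supplements `N` and centralises its intersection with `N`, and a homomorphism
of `E` is given, then the multiplicity of its restriction in `ρ` is an exponent. -/
theorem multiplicity_mem_extExp [hρ : ρ.IsIrreducible] (hsurj : Function.Surjective (proj N ρ))
    (E : Subgroup G) (hsup : N ⊔ E = ⊤)
    (hcent : ∀ (n : N) (e : E), (n : G) ∈ E → (e : G) * n = n * e) (α : E →* ℂˣ)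
    [Fintype (E.subgroupOf N)] (m : ℕ)
    (hm : classInner (fun u : E.subgroupOf N => ρ.character (u : N))
      (fun u : E.subgroupOf N => (α ⟨((u : N) : G), u.2⟩ : ℂ)) = (m : ℂ)) :
    (m : ℤ) ∈ extExp N ρ := by
  classical
  set U := E.subgroupOf N with hU
  let lam : U →* ℂˣ := α.comp
    { toFun := fun u => ⟨((u : N) : G), u.2⟩, map_one' := rfl, map_mul' := fun _ _ => rfl }
  set P : Module.End ℂ V := (Nat.card U : ℂ)⁻¹ • ∑ u : U, ((lam u : ℂ))⁻¹ • ρ (u : N) with hP
  set W : Submodule ℂ V :=
    { carrier := {v | ∀ u : U, ρ (u : N) v = (lam u : ℂ) • v}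
      add_mem' := fun {a b} ha hb u => by rw [map_add, ha u, hb u, smul_add]
      zero_mem' := fun u => by simp
      smul_mem' := fun c a ha u => by rw [map_smul, ha u, smul_comm] } with hW
  have hPW : LinearMap.IsProj W P := by
    refine ⟨fun v u => ?_, fun v hv => ?_⟩
    · simp only [hP, LinearMap.smul_apply, LinearMap.sum_apply, map_smul, map_sum, Finset.smul_sum]
      refine Fintype.sum_equiv (Equiv.mulLeft u) _ _ fun w => ?_
      simp only [Equiv.coe_mulLeft, Subgroup.coe_mul, map_mul, Units.val_mul, Module.End.mul_apply,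
        smul_smul]
      congr 1
      field_simp [Units.ne_zero]
    · simp only [hP, LinearMap.smul_apply, LinearMap.sum_apply]
      rw [Finset.sum_congr rfl (g := fun _ => v) fun u _ => by
        rw [hv u, smul_smul, inv_mul_cancel₀ (Units.ne_zero _), one_smul], Finset.sum_const,
        Finset.card_univ, ← Nat.card_eq_fintype_card, ← Nat.cast_smul_eq_nsmul ℂ, smul_smul,
        inv_mul_cancel₀ (Nat.cast_ne_zero.mpr Nat.card_pos.ne'), one_smul]
  have hdim : finrank ℂ W = m := by
    have h := hPW.trace
    rw [hP, map_smul, map_sum, smul_eq_mul] at h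
    simp only [map_smul, smul_eq_mul] at h
    have h1 : (m : ℂ) = (finrank ℂ W : ℂ) := by
      rw [← hm, ← h]
      simp only [classInner]
      congr 1
      refine Finset.sum_congr (Finset.ext fun _ => by simp) fun u _ => ?_
      have hinv : conj (lam u : ℂ) = (lam u : ℂ)⁻¹ := by
        obtain ⟨k, hk0, hk⟩ := isOfFinOrder_iff_pow_eq_one.mp (lam.isOfFinOrder (isOfFinOrder_of_finite u))
        have hn1 : ‖(lam u : ℂ)‖ = 1 := Complex.norm_eq_one_of_pow_eq_one (n := k)
          (by rw [← Units.val_pow_eq_pow_val, hk, Units.val_one]) hk0.ne'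
        rw [Complex.inv_def, Complex.normSq_eq_norm_sq, hn1]
        simp
      show ρ.character (u : N) * conj (lam u : ℂ) = _
      rw [hinv, mul_comm]
      rfl
    exact_mod_cast h1.symm
  set K := E.comap (proj N ρ) with hK
  have hinv : ∀ z : K, ∀ v ∈ W, (oper N ρ z : Module.End ℂ V) v ∈ W := by
    intro z v hv u
    have hcomm : (oper N ρ (z : covering N ρ) : Module.End ℂ V) * ρ (u : N) =
        ρ (u : N) * (oper N ρ (z : covering N ρ) : Module.End ℂ V) := by
      have h := (z : covering N ρ).2 (u : N)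
      have e : (MulAut.conjNormal (z : covering N ρ).1.1 : MulAut N) (u : N) = (u : N) := Subtype.ext (by
        rw [MulAut.conjNormal_apply]
        have h2 := hcent (u : N) ⟨proj N ρ z, z.2⟩ u.2
        show (z : covering N ρ).1.1 * ((u : N) : G) * (z : covering N ρ).1.1⁻¹ = _
        rw [show (z : covering N ρ).1.1 * ((u : N) : G) = ((u : N) : G) * (z : covering N ρ).1.1 from h2,
          mul_inv_cancel_right])
      rw [e] at h
      exact h
    have h3 := LinearMap.congr_fun hcomm v
    simp only [Module.End.mul_apply] at h3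
    rw [← h3, hv u, map_smul]
  let res : K →* Module.End ℂ W :=
    { toFun := fun z => (oper N ρ z : Module.End ℂ V).restrict (hinv z)
      map_one' := LinearMap.ext fun v => Subtype.ext (by simp [LinearMap.restrict_apply])
      map_mul' := fun a b => LinearMap.ext fun v => Subtype.ext (by
        simp [LinearMap.restrict_apply, Module.End.mul_apply]) }
  let δ : K →* ℂˣ := (LinearMap.det.comp res).toHomUnits
  let π : K →* E :=
    { toFun := fun z => ⟨proj N ρ z, z.2⟩
      map_one' := Subtype.ext (map_one _)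
      map_mul' := fun a b => Subtype.ext (map_mul _ _ _) }
  haveI : (embN N ρ).range.Normal := ⟨fun a ha z => by
    obtain ⟨n, rfl⟩ := ha
    exact ⟨_, (embN_normal N ρ z n).symm⟩⟩
  have hsup' : ∀ w : covering N ρ, ∃ z ∈ K, ∃ e ∈ (embN N ρ).range, w = z * e := by
    intro w
    obtain ⟨y, hy, n, hn, hyn⟩ := Subgroup.mem_sup_of_normal_right.mp
      (show proj N ρ w ∈ E ⊔ N by rw [sup_comm, hsup]; exact Subgroup.mem_top _)
    refine ⟨w * (embN N ρ ⟨n, hn⟩)⁻¹, ?_, _, ⟨⟨n, hn⟩, rfl⟩, (inv_mul_cancel_right _ _).symm⟩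
    rw [hK, Subgroup.mem_comap, map_mul, map_inv, proj_embN]
    show proj N ρ w * n⁻¹ ∈ E
    rw [← hyn, mul_inv_cancel_right]
    exact hy
  have hres : ∀ (z : K) (c : ℂ), (∀ v ∈ W, (oper N ρ (z : covering N ρ) : Module.End ℂ V) v = c • v) →
      ((δ z : ℂˣ) : ℂ) = c ^ m := by
    intro z c hc
    show LinearMap.det (res z) = c ^ m
    rw [show res z = c • (1 : Module.End ℂ W) from LinearMap.ext fun v => Subtype.ext (by
      show (oper N ρ (z : covering N ρ) : Module.End ℂ V) (v : V) = _
      rw [hc _ v.2]; rfl), LinearMap.det_smul, map_one, mul_one, hdim]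
  obtain ⟨R, hR1, hR2⟩ := exists_hom_of_supplement (embN N ρ).range K hsup'
    (δ * ((α.comp π) ^ m)⁻¹) (fun z hz => by
      obtain ⟨n, hn⟩ := hz
      have hnE : (n : G) ∈ E := by
        have := Subgroup.mem_comap.mp z.2
        rw [← hn, proj_embN] at this
        exact this
      rw [MonoidHom.mul_apply, MonoidHom.inv_apply, MonoidHom.pow_apply, mul_inv_eq_one]
      refine Units.ext ?_
      rw [hres z (lam (⟨n, hnE⟩ : U)) (fun v hv => ?_), Units.val_pow_eq_pow_val]
      · congr 2
        exact congrArg α (Subtype.ext (show (n : G) = proj N ρ (z : covering N ρ) by rw [← hn, proj_embN]))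
      · rw [← hn, oper_embN]
        exact hv ⟨n, hnE⟩)
  refine ⟨R, fun n => hR1 _ ⟨n, rfl⟩, fun c => ?_⟩
  have hcK : scal N ρ c ∈ K := by
    rw [hK, Subgroup.mem_comap, proj_scal]
    exact E.one_mem
  have h4 := hR2 ⟨scal N ρ c, hcK⟩
  rw [h4, MonoidHom.mul_apply, MonoidHom.inv_apply, MonoidHom.pow_apply, MonoidHom.comp_apply,
    show π ⟨scal N ρ c, hcK⟩ = 1 from Subtype.ext (proj_scal N ρ c), map_one, one_pow, inv_one, mul_one,
    zpow_natCast]
  refine Units.ext ?_
  rw [hres _ (c : ℂ) (fun v _ => by rw [oper_scal]; simp [Algebra.algebraMap_eq_smul_one]),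
    Units.val_pow_eq_pow_val]

/-- For an invariant character and a quotient of `p`-power order some elementary subgroup supplements
`N` and carries a constituent of multiplicity prime to `p`. -/
theorem exists_elementary_supplement [Fintype N] {p : ℕ} (hp : p.Prime) (hind : ∃ k : ℕ, N.index = p ^ k)
    {ϑ : N → ℂ} (hϑ : IsIrrCharacter N ϑ) (hinv : ∀ g, conjBy N ϑ g = ϑ) :
    ∃ (E : Subgroup G) (_ : Fintype (E.subgroupOf N)) (ψ : IrrCharacter (E.subgroupOf N)) (m : ℕ),
      IsElementary p E ∧ N ⊔ E = ⊤ ∧ ¬ p ∣ m ∧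
      classInner (fun u : E.subgroupOf N => ϑ (u : N)) (ψ : E.subgroupOf N → ℂ) = m := by
  classical
  haveI := Fact.mk hp
  by_contra hno
  push_neg at hno
  obtain ⟨M, hM, hmem⟩ := brauer_local (G := G) p hp
  set F := indFun N (fun n : N => ϑ n * conj (ϑ n)) with hF
  have hFcl : IsClassFunction G F := isClassFunction_indFun N _
  have hFN : ∀ n : N, F (n : G) = (N.index : ℂ) * (ϑ n * conj (ϑ n)) := by
    intro n
    rw [hF, indFun_apply_of_normal, Finset.sum_congr rfl (g := fun _ => ϑ n * conj (ϑ n))
      (fun x _ => by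
        have := congrFun (hinv x) n
        rw [conjBy_apply] at this
        rw [this]), Finset.sum_const, Finset.card_univ, nsmul_eq_mul, ← Nat.card_eq_fintype_card,
      ← N.card_mul_index, Nat.cast_mul, ← mul_assoc, inv_mul_cancel_left₀ (Nat.cast_ne_zero.mpr Nat.card_pos.ne')]
  have hdiv : ∀ f ∈ elemSpan (G := G) p, ∃ z : ℤ, classInner f F = (p : ℂ) * z := by
    intro f hf
    induction hf using AddSubgroup.closure_induction with
    | zero => exact ⟨0, by rw [classInner_zero_left]; simp⟩
    | add a b _ _ ha hb =>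
      obtain ⟨x, hx⟩ := ha
      obtain ⟨y, hy⟩ := hb
      exact ⟨x + y, by rw [classInner_add_left, hx, hy]; push_cast; ring⟩
    | neg a _ ha =>
      obtain ⟨x, hx⟩ := ha
      exact ⟨-x, by rw [classInner_neg_left, hx]; push_cast; ring⟩
    | mem f hf =>
      obtain ⟨E, φ, hE, hφ, rfl⟩ := hf
      haveI : Fintype E := Fintype.ofFinite E
      haveI : Fintype (E.subgroupOf N) := Fintype.ofFinite _
      rw [frobenius_reciprocity E φ hFcl]
      set T := N ⊔ E with hT
      set U := E.subgroupOf N with hU
      set φU : U → ℂ := fun u => φ ⟨((u : N) : G), u.2⟩ with hφU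
      have hφUc : IsCharacter U φU := by
        let fU : U →* E :=
          { toFun := fun u => ⟨((u : N) : G), u.2⟩, map_one' := rfl, map_mul' := fun _ _ => rfl }
        exact isCharacter_comp fU hφ
      have hϑU : IsCharacter U (fun u : U => ϑ (u : N)) := isCharacter_restrict U (isCharacter_of_isIrr hϑ)
      -- move the inner product to the intersection
      have hsum : ∑ e : E, φ e * conj (F e) =
          (N.index : ℂ) * ∑ u : U, φU u * conj (ϑ (u : N)) * ϑ (u : N) := by
        rw [← Finset.sum_filter_add_sum_filter_not Finset.univ (fun e : E => (e : G) ∈ N),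
          Finset.sum_eq_zero (s := Finset.univ.filter fun e : E => ¬ (e : G) ∈ N) (fun e he => by
            rw [hF, indFun_notMem_of_normal N _ (Finset.mem_filter.mp he).2, map_zero, mul_zero]),
          add_zero, Finset.mul_sum]
        refine Finset.sum_bij (fun e he => (⟨⟨(e : G), (Finset.mem_filter.mp he).2⟩, e.2⟩ : U))
          (fun e _ => Finset.mem_univ _)
          (fun a _ b _ h => Subtype.ext (congrArg (fun u : U => ((u : N) : G)) h))
          (fun u _ => ⟨⟨((u : N) : G), u.2⟩, Finset.mem_filter.mpr ⟨Finset.mem_univ _, (u : N).2⟩, rfl⟩)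
          (fun e he => ?_)
        show φ e * conj (F (e : G)) = (N.index : ℂ) * (φU ⟨⟨(e : G), _⟩, e.2⟩ * _ * _)
        have h := hFN ⟨(e : G), (Finset.mem_filter.mp he).2⟩
        rw [show F (e : G) = _ from h, map_mul, map_mul, Complex.conj_conj, Complex.conj_natCast]
        simp only [hφU]
        ring
      obtain ⟨k, hk⟩ := hind
      have hidx : N.index = T.index * (U.map N.subtype).relIndex E := by
        rw [← Subgroup.relIndex_mul_index (le_sup_left : N ≤ T), mul_comm, hT, Subgroup.relIndex_sup_left,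
          hU, Subgroup.subgroupOf_map_subtype, inf_comm, Subgroup.inf_relIndex_right]
      have hEcard : (Nat.card E : ℂ) = ((U.map N.subtype).relIndex E : ℂ) * (Nat.card U : ℂ) := by
        rw [← Nat.cast_mul]
        congr 1
        rw [← Subgroup.card_map_of_injective (K := U) N.subtype_injective]
        have hle : U.map N.subtype ≤ E := by
          rw [hU, Subgroup.subgroupOf_map_subtype]; exact inf_le_left
        rw [← Nat.card_congr (Subgroup.subgroupOfEquivOfLe hle).toEquiv, mul_comm]
        exact ((U.map N.subtype).subgroupOf E).card_mul_index.symm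
      have hkey : classInner φ (fun e : E => F e) =
          (T.index : ℂ) * classInner (fun u : U => φU u * ϑ (u : N)) (fun u : U => ϑ (u : N)) := by
        rw [classInner, hsum, classInner, hidx, hEcard, Nat.cast_mul]
        have h1 : ((U.map N.subtype).relIndex E : ℂ) ≠ 0 := by
          refine Nat.cast_ne_zero.mpr fun h => ?_
          have := hidx
          rw [h, mul_zero] at this
          exact Subgroup.index_ne_zero_of_finite this
        have h2 : (Nat.card U : ℂ) ≠ 0 := Nat.cast_ne_zero.mpr Nat.card_pos.ne'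
        field_simp
        rw [Finset.mul_sum, Finset.mul_sum]
        exact Finset.sum_congr rfl fun u _ => by ring
      rw [hkey]
      obtain ⟨a, ha⟩ := exists_nat_classInner (isCharacter_mul hφUc hϑU) hϑU
      by_cases hTtop : T = ⊤
      · choose b hb using fun ψ : IrrCharacter U => exists_nat_classInner hϑU (isCharacter_of_isIrr ψ.2)
        obtain ⟨c, hc⟩ := exists_multiplicities (isCharacter_mul hφUc hϑU)
        have hb' : ∀ ψ : IrrCharacter U, p ∣ b ψ := fun ψ => by
          by_contra h
          exact hno E inferInstance ψ (b ψ) hE hTtop h (hb ψ)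
        choose b' hb'' using fun ψ => hb' ψ
        refine ⟨(T.index : ℤ) * ∑ ψ, (c ψ : ℤ) * (b' ψ : ℤ), ?_⟩
        rw [show (fun u : U => φU u * ϑ (u : N)) = ∑ ψ : IrrCharacter U, (c ψ : ℂ) • (ψ : U → ℂ) from hc,
          classInner_sum_left]
        push_cast
        rw [← mul_assoc, mul_comm (p : ℂ), mul_assoc, Finset.mul_sum (a := (p : ℂ))]
        congr 1
        refine Finset.sum_congr rfl fun ψ _ => ?_
        rw [classInner_smul_left, ← classInner_conj_symm, hb ψ, hb'' ψ, Complex.conj_natCast, Nat.cast_mul]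
        ring
      · have hTdvd : T.index ∣ p ^ k := hk ▸ Subgroup.index_dvd_of_le le_sup_left
        obtain ⟨i, -, hi⟩ := (Nat.dvd_prime_pow hp).mp hTdvd
        obtain ⟨i', rfl⟩ : ∃ i', i = i' + 1 := by
          refine ⟨i - 1, ?_⟩
          rcases Nat.eq_zero_or_pos i with rfl | h
          · exact absurd (Subgroup.index_eq_one.mp (by rw [hi, pow_zero])) hTtop
          · omega
        refine ⟨(p : ℤ) ^ i' * a, ?_⟩
        rw [show classInner (fun u : U => φU u * ϑ (u : N)) (fun u : U => ϑ (u : N)) = (a : ℂ) from ha,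
          hi, pow_succ]
        push_cast
        ring
  obtain ⟨z, hz⟩ := hdiv _ hmem
  have hval : classInner (fun _ : G => (M : ℂ)) F = (M : ℂ) := by
    rw [show (fun _ : G => (M : ℂ)) = (M : ℂ) • (fun _ : G => (1 : ℂ)) from funext fun _ => (mul_one _).symm,
      classInner_smul_left, ← classInner_conj_symm, hF,
      frobenius_reciprocity N _ (isClassFunction_of_isCharacter isCharacter_one)]
    rw [show classInner (fun n : N => ϑ n * conj (ϑ n)) (fun _ : N => (1 : ℂ)) = classInner ϑ ϑ by
      simp [classInner], classInner_irr_self hϑ, map_one, mul_one]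
  rw [hval] at hz
  exact hM ⟨z, by exact_mod_cast hz⟩

end CfsgLib.Char
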