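import Cfsg.Agent.Lib.Char.TINilpotent
import Cfsg.Agent.Lib.Char.CoherenceIrr
import Cfsg.Agent.Lib.Char.TICoherent
import Cfsg.Agent.S0033

/-!
# Feit's coherence theorem for a Frobenius group
-/

set_option autoImplicit false
set_option linter.unusedSectionVars false
set_option linter.style.haveILetI false

namespace CfsgLib.Char.FeitFrobenius

open Cfsg
open scoped ComplexConjugate CfsgLib.Char
open CfsgLib.Char.TINilpotent (deg deg_cast deg_pos deg_triv triv pair pair_deg pair_injective pair_surjective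
  pair_triv TrivOn pair_trivOn_left pair_trivOn_right exists_decomp)

section Equal

variable {L : Type*} [Group L] [Fintype L] {G : Type*} [Group G] [Fintype G]

/-- Irreducible characters of one degree, at least two of them, are coherent for every isometry. -/
theorem coherent_equal_degree (S : Finset (L → ℂ)) (hirr : ∀ φ ∈ S, IsIrrCharacter L φ) (e : ℕ)
    (he : 0 < e) (hdeg : ∀ φ ∈ S, φ 1 = (e : ℂ)) {φ₀ φ₁ : L → ℂ} (h₀ : φ₀ ∈ S) (h₁ : φ₁ ∈ S)
    (hne : φ₁ ≠ φ₀) (τ : (L → ℂ) → (G → ℂ)) (hτ : IsLinearIsometryOn (zspanOn (↑S : Set (L → ℂ)) {1}ᶜ) τ)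
    (hτ1 : ∀ α ∈ zspanOn (↑S : Set (L → ℂ)) {1}ᶜ, τ α 1 = 0) :
    IsCoherent (↑S : Set (L → ℂ)) {1}ᶜ τ := by
  classical
  have hmem : ∀ φ ∈ S, φ - φ₀ ∈ zspanOn (↑S : Set (L → ℂ)) {1}ᶜ := fun φ hφ =>
    Coherence.sub_mem_zspanOn (Finset.mem_coe.mpr hφ) (Finset.mem_coe.mpr h₀) (by rw [hdeg φ hφ, hdeg φ₀ h₀])
  have hz := hmem φ₀ h₀
  have hτ0 : τ 0 = 0 := by
    have h := hτ.2.1 _ hz 0
    simpa using h
  obtain ⟨ε, hε, μ, hμ, hμi, hμτ⟩ := exceptional_family (ι := {φ // φ ∈ S}) ⟨φ₀, h₀⟩
    (fun i => τ (i.1 - φ₀)) (fun i _ => hτ.2.2.2 _ (hmem i.1 i.2)) (fun i _ => hτ1 _ (hmem i.1 i.2))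
    (by simp [hτ0]) (fun i j hi hj => by
      have ei : i.1 ≠ φ₀ := fun h => hi (Subtype.ext h)
      have ej : j.1 ≠ φ₀ := fun h => hj (Subtype.ext h)
      have hin := hτ.2.2.1 _ (hmem i.1 i.2) _ (hmem j.1 j.2)
      constructor
      · rintro rfl
        rw [hin, classInner_sub_left, classInner_sub_right, classInner_sub_right,
          classInner_irr_self (hirr _ i.2), classInner_irr_self (hirr _ h₀),
          classInner_irr_ne (hirr _ i.2) (hirr _ h₀) ei, classInner_irr_ne (hirr _ h₀) (hirr _ i.2) ei.symm]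
        norm_num
      · intro hij
        rw [hin, classInner_sub_left, classInner_sub_right, classInner_sub_right,
          classInner_irr_self (hirr _ h₀), classInner_irr_ne (hirr _ i.2) (hirr _ h₀) ei,
          classInner_irr_ne (hirr _ h₀) (hirr _ j.2) ej.symm,
          classInner_irr_ne (hirr _ i.2) (hirr _ j.2) (fun h => hij (Subtype.ext h))]
        norm_num)
  have hirr' : ∀ φ ∈ (↑S : Set (L → ℂ)), IsIrrCharacter L φ := hirr
  have hεε : ε * conj ε = 1 := by rcases hε with rfl | rfl <;> simp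
  obtain ⟨f, hf, hfiso⟩ := Coherence.exists_isometry (Coherence.orth_irr hirr') (Coherence.irr_ne_zero hirr')
    (fun φ => if h : φ ∈ S then ε • μ ⟨φ, h⟩ else 0)
    (fun φ hφ => by
      rw [dif_pos (Finset.mem_coe.mp hφ)]
      rcases hε with rfl | rfl
      · rw [one_smul]; exact isGeneralized_of_isIrr (hμ _)
      · rw [neg_smul, one_smul]; exact isGeneralized_neg (isGeneralized_of_isIrr (hμ _)))
    (fun φ hφ ψ hψ => by
      rw [dif_pos (Finset.mem_coe.mp hφ), dif_pos (Finset.mem_coe.mp hψ), classInner_smul_left,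
        classInner_smul_right, classInner_irr (hμ _) (hμ _), classInner_irr (hirr' φ hφ) (hirr' ψ hψ),
        ← mul_assoc, hεε, one_mul]
      exact if_congr (hμi.eq_iff.trans Subtype.ext_iff) rfl rfl)
  refine ⟨⟨φ₁ - φ₀, hmem φ₁ h₁, sub_ne_zero.mpr hne⟩, f, hfiso, ?_⟩
  have key : ∀ θ ∈ zspan (↑S : Set (L → ℂ)), ∃ k : ℤ, θ 1 = (k : ℂ) * e ∧
      θ - k • φ₀ ∈ zspanOn (↑S : Set (L → ℂ)) {1}ᶜ ∧ f (θ - k • φ₀) = τ (θ - k • φ₀) := by
    intro θ hθ
    induction hθ using Submodule.span_induction with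
    | mem φ hφ =>
      refine ⟨1, by rw [hdeg φ hφ]; simp, by rw [one_smul]; exact hmem φ hφ, ?_⟩
      rw [one_smul, map_sub, hf φ hφ, hf φ₀ (Finset.mem_coe.mpr h₀), dif_pos (Finset.mem_coe.mp hφ),
        dif_pos h₀, ← smul_sub]
      exact (hμτ ⟨φ, Finset.mem_coe.mp hφ⟩).symm
    | zero =>
      refine ⟨0, by simp, ?_, by simp [hτ0]⟩
      simpa using Coherence.zspanOn_zsmul 0 hz
    | add a b _ _ ha hb =>
      obtain ⟨k, k1, k2, k3⟩ := ha
      obtain ⟨l, l1, l2, l3⟩ := hb
      have hsum : a + b - (k + l) • φ₀ = (a - k • φ₀) + (b - l • φ₀) := by rw [add_smul]; abel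
      refine ⟨k + l, by rw [Pi.add_apply, k1, l1]; push_cast; ring, ?_, ?_⟩
      · rw [hsum]; exact Coherence.zspanOn_add k2 l2
      · rw [hsum, map_add, hτ.1 _ k2 _ l2, k3, l3]
    | smul n a _ ha =>
      obtain ⟨k, k1, k2, k3⟩ := ha
      have hsum : n • a - (n * k) • φ₀ = n • (a - k • φ₀) := by rw [smul_sub, smul_smul]
      refine ⟨n * k, by rw [Pi.smul_apply, k1, zsmul_eq_mul]; push_cast; ring, ?_, ?_⟩
      · rw [hsum]; exact Coherence.zspanOn_zsmul n k2
      · rw [hsum, map_zsmul, hτ.2.1 _ k2, k3]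
  intro θ hθ
  obtain ⟨hθz, hθ1⟩ := Coherence.mem_zspanOn_iff.mp hθ
  obtain ⟨k, k1, -, k3⟩ := key θ hθz
  rw [hθ1] at k1
  have hk0 : k = 0 := Int.cast_eq_zero.mp
    ((mul_eq_zero.mp k1.symm).resolve_right (Nat.cast_ne_zero.mpr he.ne'))
  simpa [hk0] using k3

end Equal

/-- Degrees are prime powers and the squares below a degree are divisible. -/
theorem weight_pgroup {M : Type*} [Group M] [Fintype M] (H : Subgroup M) [Fintype H] {p : ℕ} [Fact p.Prime]
    (hA : IsPGroup p H) (θ : IrrCharacter H) :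
    (deg θ) ^ 2 ≤ ∑ η ∈ (Finset.univ : Finset (IrrCharacter H)).filter (fun η => deg η < deg θ), deg η ^ 2 ∨
      deg θ = 1 := by
  classical
  obtain ⟨m, hm⟩ := hA.exists_card_eq
  have hdeg : ∀ α : IrrCharacter H, ∃ i, deg α = p ^ i := fun α => by
    obtain ⟨n, hn, -, hdvd⟩ := exists_degree_dvd_card α.2
    rw [deg_cast, Nat.cast_inj] at hn
    rw [hm, ← hn] at hdvd
    obtain ⟨i, -, hi⟩ := (Nat.dvd_prime_pow Fact.out).mp hdvd
    exact ⟨i, hi⟩
  by_cases h1 : deg θ = 1
  · exact Or.inr h1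
  left
  have h2 : 1 < deg θ := by have := deg_pos θ; omega
  set a := deg θ with ha
  set X := (Finset.univ : Finset (IrrCharacter H)).filter (fun η => deg η < a) with hX
  have hpos : 0 < ∑ η ∈ X, deg η ^ 2 :=
    Finset.sum_pos' (fun _ _ => Nat.zero_le _) ⟨triv, by simp [hX, deg_triv, h2], by simp [deg_triv]⟩
  have htot : ∑ η : IrrCharacter H, deg η ^ 2 = Nat.card H := by
    have h := sum_sq_degree (G := H)
    simp only [deg_cast] at h
    exact_mod_cast h
  obtain ⟨i, hi⟩ := hdeg θ
  rw [← ha] at hi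
  have hp1 := (Fact.out : p.Prime).one_lt
  have hdvd : a ^ 2 ∣ Nat.card H := by
    have hle : a ^ 2 ≤ Nat.card H :=
      htot ▸ Finset.single_le_sum (f := fun x => deg x ^ 2) (fun _ _ => Nat.zero_le _) (Finset.mem_univ θ)
    rw [hi, ← pow_mul, hm] at hle ⊢
    exact pow_dvd_pow p ((Nat.pow_le_pow_iff_right hp1).mp hle)
  refine Nat.le_of_dvd hpos ?_
  rw [← htot, ← Finset.sum_filter_add_sum_filter_not Finset.univ (fun η => deg η < a), ← hX] at hdvd
  refine (Nat.dvd_add_iff_left (Finset.dvd_sum fun η hη => ?_)).mpr hdvd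
  rw [Finset.mem_filter, not_lt] at hη
  obtain ⟨j, hj⟩ := hdeg η
  rw [hi, hj] at hη ⊢
  rw [← pow_mul, ← pow_mul]
  exact pow_dvd_pow p (Nat.mul_le_mul_right 2 ((Nat.pow_le_pow_iff_right hp1).mp hη.2))

universe u

variable {N : Type u} [Group N] [Fintype N] (H : Subgroup N) [hH : H.Normal]
  (hC : ∀ k ∈ H, k ≠ 1 → ∀ x : N, x * k = k * x → x ∈ H)

include hC in
/-- The kernel is nilpotent. -/
theorem kernel_nilpotent (hH1 : H ≠ ⊥) (hH2 : H ≠ ⊤) : Group.IsNilpotent H := by
  obtain ⟨x, hx⟩ : ∃ x : N, x ∉ H := by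
    by_contra h
    push Not at h
    exact hH2 ((Subgroup.eq_top_iff' _).2 h)
  have hpow : ∀ n : ℕ, x ^ n ∈ H → x ^ n = 1 := by
    intro n hn
    by_contra h1
    exact hx (hC _ hn h1 x ((Commute.refl x).pow_right n).eq)
  have ho1 : orderOf x ≠ 1 := fun h => hx (by rw [orderOf_eq_one_iff.1 h]; exact one_mem _)
  obtain ⟨r, hr, s, hs⟩ := Nat.exists_prime_and_dvd ho1
  have hy : orderOf (x ^ s) = r := by
    have hspos : 0 < s := Nat.pos_of_ne_zero fun h0 => by
      have := orderOf_pos x; rw [hs, h0, mul_zero] at this; omega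
    rw [orderOf_pow, hs, Nat.gcd_eq_right (Dvd.intro_left r rfl), Nat.mul_div_cancel _ hspos]
  have hyK : x ^ s ∉ H := fun h => by
    rw [hpow s h, orderOf_one] at hy
    exact hr.ne_one hy.symm
  let φ : MulAut H := MulAut.conjNormal (x ^ s)
  have hφr : φ ^ r = 1 := by rw [← map_pow, ← hy, pow_orderOf_eq_one, map_one]
  have hfix : ∀ k, φ k = k → k = 1 := by
    intro k hk
    by_contra h1
    refine hyK (hC _ k.2 (fun h => h1 (Subtype.ext h)) _ ?_)
    exact mul_inv_eq_iff_eq_mul.1 (Subtype.ext_iff.1 hk)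
  have := Fact.mk hr
  refine Cfsg.Agent.S0033.result φ (fun g h => hfix g h) r hr (orderOf_eq_prime hφr fun h1 => ?_)
  obtain ⟨k, hk⟩ := Subgroup.ne_bot_iff_exists_ne_one.1 hH1
  exact hk (hfix k (by rw [h1]; rfl))

variable [Fintype H]

include hC in
theorem card_orbit {θ : IrrCharacter H} (hθ : θ ≠ triv) : (orbit H (θ : H → ℂ)).card = H.index := by
  rw [card_orbit_eq_index, inertia_eq_of_centralizer H hC θ.2 fun e => hθ (Subtype.ext e)]

theorem orbit_deg {θ φ : IrrCharacter H} (h : (φ : H → ℂ) ∈ orbit H (θ : H → ℂ)) : deg φ = deg θ := by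
  obtain ⟨g, hg⟩ := (mem_orbit H).mp h
  have := congrFun hg 1
  rw [conjBy_apply_one, deg_cast, deg_cast, Nat.cast_inj] at this
  exact this.symm

theorem orbit_trivOn {n : ℕ} {θ φ : IrrCharacter H} (h : (φ : H → ℂ) ∈ orbit H (θ : H → ℂ))
    (ht : TrivOn n θ) : TrivOn n φ := by
  obtain ⟨g, hg⟩ := (mem_orbit H).mp h
  intro u hu
  rw [← hg, conjBy_apply, conjBy_apply_one]
  refine ht _ ?_
  rwa [show (⟨g * u * g⁻¹, hH.conj_mem u u.2 g⟩ : H) = MulAut.conjNormal g u from rfl, MulEquiv.orderOf_eq]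

theorem indFun_eq_mem_orbit {θ φ : H → ℂ} (hθ : IsIrrCharacter H θ) (hφ : IsIrrCharacter H φ)
    (h : indFun H φ = indFun H θ) : φ ∈ orbit H θ := by
  classical
  have h1 := classInner_indFun_indFun H hθ hθ
  rw [if_pos (self_mem_orbit H θ)] at h1
  have h2 := classInner_indFun_indFun H hθ hφ
  rw [h, h1] at h2
  by_contra hne
  rw [if_neg hne, div_eq_zero_iff] at h2
  rcases h2 with h2 | h2 <;> exact absurd (Nat.cast_eq_zero.mp h2) Nat.card_pos.ne'

open Classical in
/-- The members of the family of smaller degree. -/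
noncomputable def fam : Finset (N → ℂ) :=
  (Finset.univ.filter fun θ : IrrCharacter H => θ ≠ triv).image fun θ : IrrCharacter H => indFun H (θ : H → ℂ)

open Classical in
include hC in
theorem sum_sq_filter (P : ℕ → Prop) [DecidablePred P] (d : (N → ℂ) → ℕ)
    (hd : ∀ θ : IrrCharacter H, θ ≠ triv → d (indFun H (θ : H → ℂ)) = H.index * deg θ) :
    ∑ φ ∈ (fam H).filter (fun φ => P (d φ)), d φ ^ 2 =
      H.index * ∑ θ ∈ Finset.univ.filter (fun θ : IrrCharacter H => θ ≠ triv ∧ P (H.index * deg θ)),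
        deg θ ^ 2 := by
  rw [← Finset.sum_fiberwise_of_maps_to (g := fun θ : IrrCharacter H => indFun H (θ : H → ℂ))
    (t := (fam H).filter (fun φ => P (d φ))) (fun θ hθ => by
      obtain ⟨-, h1, h2⟩ := Finset.mem_filter.mp hθ
      exact Finset.mem_filter.mpr ⟨Finset.mem_image_of_mem _ (Finset.mem_filter.mpr ⟨Finset.mem_univ _, h1⟩),
        by rw [hd θ h1]; exact h2⟩), Finset.mul_sum]
  refine Finset.sum_congr rfl fun φ hφ => ?_
  obtain ⟨hφ1, hφ2⟩ := Finset.mem_filter.mp hφ
  obtain ⟨θ, hθ, rfl⟩ := Finset.mem_image.mp hφ1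
  have hθ1 := (Finset.mem_filter.mp hθ).2
  rw [hd θ hθ1] at hφ2
  set F := (Finset.univ.filter (fun η : IrrCharacter H => η ≠ triv ∧ P (H.index * deg η))).filter
    (fun η : IrrCharacter H => indFun H (η : H → ℂ) = indFun H (θ : H → ℂ)) with hF
  have hmem : ∀ η : IrrCharacter H, η ∈ F ↔ (η : H → ℂ) ∈ orbit H (θ : H → ℂ) := by
    intro η
    simp only [hF, Finset.mem_filter, Finset.mem_univ, true_and]
    refine ⟨fun h => indFun_eq_mem_orbit H θ.2 η.2 h.2, fun h => ⟨⟨fun e => hθ1 ?_, ?_⟩, ?_⟩⟩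
    · obtain ⟨g, hg⟩ := (mem_orbit H).mp h
      have hh : conjBy H (conjBy H (θ : H → ℂ) g) g⁻¹ = θ := by
        rw [← conjBy_mul, mul_inv_cancel, conjBy_one]
      rw [hg, e] at hh
      exact Subtype.ext hh.symm
    · rw [orbit_deg H h]; exact hφ2
    · obtain ⟨g, hg⟩ := (mem_orbit H).mp h
      rw [← hg, indFun_conjBy]
  have hcard : F.card = H.index := by
    rw [← card_orbit H hC hθ1, ← Finset.card_image_of_injective F (Subtype.val_injective)]
    congr 1
    ext f
    simp only [Finset.mem_image, hmem]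
    refine ⟨fun ⟨η, h1, h2⟩ => h2 ▸ h1, fun h => ?_⟩
    obtain ⟨g, hg⟩ := (mem_orbit H).mp h
    exact ⟨⟨f, hg ▸ isIrrCharacter_conjBy H θ.2 g⟩, h, rfl⟩
  rw [Finset.sum_congr rfl (g := fun _ => deg θ ^ 2) (fun η hη => by rw [orbit_deg H ((hmem η).mp hη)]),
    Finset.sum_const, smul_eq_mul, hcard, hd θ hθ1]
  ring

open Classical in
include hC in
/-- The weight below a degree in a nilpotent kernel which is not of prime power order. -/
theorem weight_composite [Group.IsNilpotent H] (hnp : ¬ ∃ p : ℕ, p.Prime ∧ IsPGroup p H)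
    (θ : IrrCharacter H) (hθ : 1 < deg θ) :
    H.index * deg θ ^ 2 + 4 ≤
      ∑ η ∈ (Finset.univ : Finset (IrrCharacter H)).filter (fun η => deg η < deg θ), deg η ^ 2 := by
  obtain ⟨p, hp, hpd⟩ := Nat.exists_prime_and_dvd hθ.ne'
  haveI := Fact.mk hp
  obtain ⟨A, B, e, hA, hB, -⟩ := exists_decomp (U := H) p
  haveI : Fintype A := Fintype.ofFinite A
  haveI : Fintype B := Fintype.ofFinite B
  obtain ⟨m, hm⟩ := hA.exists_card_eq
  have hcop : (Nat.card A).Coprime (Nat.card B) := hm ▸ Nat.Coprime.pow_left m hB.symm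
  haveI : Nontrivial B := Finite.one_lt_card_iff_nontrivial.mp <| by
    by_contra h
    have h1 : Nat.card B = 1 := by have := Nat.card_pos (α := B); omega
    refine hnp ⟨p, hp, IsPGroup.of_card (n := m) ?_⟩
    rw [← hm, ← mul_one (Nat.card A), ← h1, ← Nat.card_prod, Nat.card_congr e.toEquiv]
  obtain ⟨⟨α, β⟩, rfl⟩ := pair_surjective e θ
  rw [pair_deg] at hpd hθ ⊢
  simp only at hpd hθ ⊢
  have hdegA : ∀ α' : IrrCharacter A, ∃ i, deg α' = p ^ i := fun α' => by
    obtain ⟨n, hn, -, hdvd⟩ := exists_degree_dvd_card α'.2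
    rw [deg_cast, Nat.cast_inj] at hn
    rw [hm, ← hn] at hdvd
    obtain ⟨i, -, hi⟩ := (Nat.dvd_prime_pow Fact.out).mp hdvd
    exact ⟨i, hi⟩
  have hb : ¬ p ∣ deg β := fun h => by
    obtain ⟨n, hn, -, hdvd⟩ := exists_degree_dvd_card β.2
    rw [deg_cast, Nat.cast_inj] at hn
    exact hp.one_lt.ne' (Nat.eq_one_of_dvd_coprimes hB (h.trans (hn ▸ hdvd)) dvd_rfl)
  have ha2 : 2 ≤ deg α := hp.two_le.trans (Nat.le_of_dvd (deg_pos α) ((hp.dvd_mul.mp hpd).resolve_right hb))
  have hXa := (weight_pgroup A hA α).resolve_right (by omega)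
  set a := deg α with ha
  set b := deg β with hb'
  have hbpos : 1 ≤ b := deg_pos β
  obtain ⟨β₀, hβ₀, hβ₀b⟩ : ∃ β₀ : IrrCharacter B, β₀ ≠ triv ∧ deg β₀ = b := by
    by_cases h : β = triv
    · have hb1 : b = 1 := by rw [hb', h, deg_triv]
      by_contra hno
      push Not at hno
      have hsub : (Finset.univ.filter fun β₀ : IrrCharacter B => (β₀ : B → ℂ) 1 = 1) ⊆ {triv} := by
        intro β₀ hβ₀
        rw [Finset.mem_filter, ← TINilpotent.deg_eq_one_iff] at hβ₀
        rw [Finset.mem_singleton]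
        by_contra hne
        exact hno β₀ hne (hb1 ▸ hβ₀.2)
      have := Finset.card_le_card hsub
      rw [TINilpotent.linear_count, Finset.card_singleton] at this
      have := TINilpotent.linear_count_gt (A := B)
      omega
    · exact ⟨β, h, rfl⟩
  set Z : Finset (IrrCharacter B) := Finset.univ.filter fun β' => deg β' = b ∧ β' ≠ triv with hZ
  have hne : pair e ((triv : IrrCharacter A), β₀) ≠ triv := fun h => hβ₀ (by
    rw [← pair_triv e] at h; exact (Prod.ext_iff.mp (pair_injective e h)).2)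
  have hZk : H.index ≤ Z.card := by
    rw [← card_orbit H hC hne]
    refine (Finset.card_le_card (fun f hf => ?_)).trans
      (Finset.card_image_le (f := fun β' => (pair e ((triv : IrrCharacter A), β') : H → ℂ)))
    obtain ⟨g, hg⟩ := (mem_orbit H).mp hf
    let φ : IrrCharacter H := ⟨f, hg ▸ isIrrCharacter_conjBy H (pair e ((triv : IrrCharacter A), β₀)).2 g⟩
    have hφ : (φ : H → ℂ) ∈ orbit H (pair e ((triv : IrrCharacter A), β₀) : H → ℂ) := hf
    obtain ⟨⟨α', β'⟩, hy⟩ := pair_surjective e φ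
    obtain rfl : α' = triv := (pair_trivOn_left e hcop (α', β')).mp
      (hy ▸ orbit_trivOn H hφ ((pair_trivOn_left e hcop (triv, β₀)).mpr rfl))
    refine Finset.mem_image.mpr ⟨β', Finset.mem_filter.mpr ⟨Finset.mem_univ _, ?_, fun hh => ?_⟩,
      congrArg Subtype.val hy⟩
    · have := orbit_deg H hφ
      rw [← hy, pair_deg, pair_deg, deg_triv, one_mul, one_mul] at this
      rw [this, hβ₀b]
    · subst hh
      rw [pair_triv] at hy
      refine hne ?_
      have hg' : conjBy H (pair e ((triv : IrrCharacter A), β₀) : H → ℂ) g = (triv : IrrCharacter H) := by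
        rw [hg, congrArg Subtype.val hy]
      have hh : conjBy H (conjBy H (pair e ((triv : IrrCharacter A), β₀) : H → ℂ) g) g⁻¹ =
          pair e ((triv : IrrCharacter A), β₀) := by rw [← conjBy_mul, mul_inv_cancel, conjBy_one]
      rw [hg'] at hh
      exact Subtype.ext hh.symm
  set Y : Finset (IrrCharacter B) := insert triv Z with hY
  have hYb : H.index * b ^ 2 + 1 ≤ ∑ β' ∈ Y, deg β' ^ 2 := by
    rw [hY, Finset.sum_insert (by simp [hZ]), deg_triv, Finset.sum_congr rfl (fun β' hβ' => by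
      rw [(Finset.mem_filter.mp hβ').2.1] : ∀ β' ∈ Z, deg β' ^ 2 = b ^ 2), Finset.sum_const, smul_eq_mul]
    have := Nat.mul_le_mul_right (b ^ 2) hZk
    omega
  set X : Finset (IrrCharacter A) := Finset.univ.filter fun α' => deg α' < a with hX
  have hmain : (∑ α' ∈ X, deg α' ^ 2) * (∑ β' ∈ Y, deg β' ^ 2) ≤
      ∑ η ∈ (Finset.univ : Finset (IrrCharacter H)).filter (fun η => deg η < a * b), deg η ^ 2 := by
    rw [Finset.sum_mul_sum, ← Finset.sum_product']
    calc ∑ x ∈ X ×ˢ Y, deg x.1 ^ 2 * deg x.2 ^ 2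
        = ∑ η ∈ (X ×ˢ Y).image (pair e), deg η ^ 2 := by
          rw [Finset.sum_image fun x _ y _ h => pair_injective e h]
          exact Finset.sum_congr rfl fun x _ => by rw [pair_deg]; ring
      _ ≤ _ := Finset.sum_le_sum_of_subset fun η hη => by
          obtain ⟨⟨α', β'⟩, hx, rfl⟩ := Finset.mem_image.mp hη
          simp only [Finset.mem_product, hX, hY, Finset.mem_filter, Finset.mem_univ, true_and,
            Finset.mem_insert] at hx
          have hb'' : deg β' ≤ b := by
            rcases hx.2 with rfl | h'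
            · rw [deg_triv]; exact hbpos
            · rw [(Finset.mem_filter.mp h').2.1]
          refine Finset.mem_filter.mpr ⟨Finset.mem_univ _, ?_⟩
          rw [pair_deg]
          calc deg α' * deg β' ≤ deg α' * b := Nat.mul_le_mul_left _ hb''
            _ < a * b := Nat.mul_lt_mul_of_pos_right hx.1 hbpos
  refine le_trans ?_ ((Nat.mul_le_mul hXa hYb).trans hmain)
  nlinarith [Nat.mul_le_mul ha2 ha2]

variable {G : Type*} [Group G] [Fintype G]

open Classical in
include hC in
/-- **Feit's coherence theorem**, with the exceptional shape of the kernel. -/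
theorem coherent (hH1 : H ≠ ⊥) (hH2 : H ≠ ⊤) (he : Nat.card H ≠ H.index + 1)
    (τ : (N → ℂ) → (G → ℂ))
    (hτ : IsLinearIsometryOn (zspanOn {χ : N → ℂ | IsIrrCharacter N χ ∧ ∃ h ∈ H, χ h ≠ χ 1} {1}ᶜ) τ)
    (hτ1 : ∀ α ∈ zspanOn {χ : N → ℂ | IsIrrCharacter N χ ∧ ∃ h ∈ H, χ h ≠ χ 1} {1}ᶜ, τ α 1 = 0)
    (hex : ∀ p : ℕ, p.Prime → IsPGroup p H → (commutator H).index ≠ Nat.card H →
      4 * H.index ^ 2 + 1 < (commutator H).index) :
    IsCoherent {χ : N → ℂ | IsIrrCharacter N χ ∧ ∃ h ∈ H, χ h ≠ χ 1} {1}ᶜ τ := by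
  haveI := kernel_nilpotent H hC hH1 hH2
  haveI : Nontrivial H := (Subgroup.nontrivial_iff_ne_bot H).mpr hH1
  have hidx2 : 2 ≤ H.index := by
    have h0 : H.index ≠ 0 := Subgroup.index_ne_zero_of_finite
    have h1 : H.index ≠ 1 := fun h => hH2 (Subgroup.index_eq_one.mp h)
    omega
  have hne_triv : ∀ {θ : IrrCharacter H}, θ ≠ triv → (θ : H → ℂ) ≠ fun _ => 1 :=
    fun {θ} h e => h (Subtype.ext e)
  set S := fam H with hSdef
  have hSset : {χ : N → ℂ | IsIrrCharacter N χ ∧ ∃ h ∈ H, χ h ≠ χ 1} = ↑S := by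
    ext χ
    simp only [hSdef, fam, Set.mem_setOf_eq, Finset.coe_image, Set.mem_image, Finset.mem_coe,
      Finset.mem_filter, Finset.mem_univ, true_and]
    constructor
    · rintro ⟨hχ, k, hk, hne⟩
      obtain ⟨θ, h0, h1, rfl⟩ := exists_induced_of_nonconstant H hC hχ ⟨k, hk, hne⟩
      exact ⟨⟨θ, h0⟩, fun e => h1 (congrArg Subtype.val e), rfl⟩
    · rintro ⟨θ, hθ, rfl⟩
      obtain ⟨h1, k, hk, hne⟩ := TIKernel.nonconstant_indFun H hC θ.2 (hne_triv hθ)
      exact ⟨h1, k, hk, hne⟩
  rw [hSset] at hτ hτ1 ⊢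
  have hmemS : ∀ {φ}, φ ∈ S → ∃ θ : IrrCharacter H, θ ≠ triv ∧ indFun H (θ : H → ℂ) = φ := fun {φ} h => by
    obtain ⟨θ, hθ, rfl⟩ := Finset.mem_image.mp h
    exact ⟨θ, (Finset.mem_filter.mp hθ).2, rfl⟩
  have hirr : ∀ φ ∈ S, IsIrrCharacter N φ := fun φ hφ => by
    obtain ⟨θ, hθ, rfl⟩ := hmemS hφ
    exact irreducible_induced_of_centralizer H hC θ.2 (hne_triv hθ)
  choose d _ hd using fun φ : N → ℂ => show ∃ n : ℕ, (φ ∈ S → 0 < n) ∧ (φ ∈ S → φ 1 = (n : ℂ)) from
    if h : φ ∈ S then (exists_nat_degree_irr (hirr φ h)).imp fun _ hn => ⟨fun _ => hn.1, fun _ => hn.2⟩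
    else ⟨0, fun h' => absurd h' h, fun h' => absurd h' h⟩
  have hdθ : ∀ θ : IrrCharacter H, θ ≠ triv → d (indFun H (θ : H → ℂ)) = H.index * deg θ := fun θ hθ => by
    have := hd _ (Finset.mem_image_of_mem _ (Finset.mem_filter.mpr ⟨Finset.mem_univ θ, hθ⟩))
    rw [indFun_one, deg_cast, ← Nat.cast_mul, Nat.cast_inj] at this
    exact this.symm
  have hlinS : ∀ θ : IrrCharacter H, deg θ = 1 → θ ≠ triv →
      indFun H (θ : H → ℂ) ∈ S.filter fun φ => d φ = H.index := fun θ h1 h2 =>
    Finset.mem_filter.mpr ⟨Finset.mem_image_of_mem _ (Finset.mem_filter.mpr ⟨Finset.mem_univ _, h2⟩),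
      by rw [hdθ θ h2, h1, mul_one]⟩
  set q := (commutator H).index with hq
  have hlincard : ((Finset.univ : Finset (IrrCharacter H)).filter fun θ => deg θ = 1).card = q := by
    rw [hq, ← TINilpotent.linear_count]
    exact congrArg Finset.card (Finset.filter_congr fun θ _ => TINilpotent.deg_eq_one_iff)
  -- two orbits of linear characters
  obtain ⟨φ₀, hφ₀, φ₁, hφ₁, hne01⟩ : ∃ φ₀ ∈ S.filter (fun φ => d φ = H.index),
      ∃ φ₁ ∈ S.filter (fun φ => d φ = H.index), φ₁ ≠ φ₀ := by
    have h1q : 1 < q := TINilpotent.linear_count_gt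
    have hexists : ∃ θ : IrrCharacter H, deg θ = 1 ∧ θ ≠ triv := by
      by_contra h
      push Not at h
      have := Finset.card_le_card (show ((Finset.univ : Finset (IrrCharacter H)).filter fun θ => deg θ = 1) ⊆ {triv}
        from fun θ hθ => Finset.mem_singleton.mpr (h θ (Finset.mem_filter.mp hθ).2))
      rw [hlincard, Finset.card_singleton] at this
      omega
    obtain ⟨θ, hθ1, hθ⟩ := hexists
    refine ⟨_, hlinS θ hθ1 hθ, ?_⟩
    by_cases hbigq : H.index + 1 < q
    · obtain ⟨η, hη, hηn⟩ : ∃ η ∈ ((Finset.univ : Finset (IrrCharacter H)).filter fun θ => deg θ = 1),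
          η ≠ triv ∧ (η : H → ℂ) ∉ orbit H (θ : H → ℂ) := by
        by_contra h
        push Not at h
        have := Finset.card_le_card (show (((Finset.univ : Finset (IrrCharacter H)).filter fun θ => deg θ = 1).erase triv).image
            Subtype.val ⊆ orbit H (θ : H → ℂ) from fun f hf => by
          obtain ⟨η, hη, rfl⟩ := Finset.mem_image.mp hf
          exact h η (Finset.mem_of_mem_erase hη) (Finset.ne_of_mem_erase hη))
        rw [Finset.card_image_of_injective _ Subtype.val_injective, card_orbit H hC hθ,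
          Finset.card_erase_of_mem (show (triv : IrrCharacter H) ∈ Finset.univ.filter (fun θ : IrrCharacter H => deg θ = 1)
            from Finset.mem_filter.mpr ⟨Finset.mem_univ _, deg_triv⟩), hlincard] at this
        omega
      exact ⟨_, hlinS η (Finset.mem_filter.mp hη).2 hηn.1, fun e => hηn.2 (indFun_eq_mem_orbit H θ.2 η.2 e)⟩
    · -- `H` is not of prime power order
      have hnp : ¬ ∃ p : ℕ, p.Prime ∧ IsPGroup p H := by
        rintro ⟨p, hp, hpH⟩
        by_cases hab : q = Nat.card H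
        · have hdvd : H.index ∣ q - 1 := by
            rw [← hlincard, ← Finset.card_erase_of_mem (a := (triv : IrrCharacter H))
              (Finset.mem_filter.mpr ⟨Finset.mem_univ _, deg_triv⟩)]
            set F := ((Finset.univ : Finset (IrrCharacter H)).filter fun θ => deg θ = 1).erase triv with hF
            have hsum := sum_sq_filter H hC (fun n => n = H.index) d hdθ
            have hF' : Finset.univ.filter (fun θ : IrrCharacter H => θ ≠ triv ∧ H.index * deg θ = H.index) = F := by
              ext η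
              simp only [hF, Finset.mem_filter, Finset.mem_univ, true_and, Finset.mem_erase]
              exact and_congr_right fun _ => ⟨fun h => (mul_eq_left₀ (by omega)).mp h, fun h => by rw [h, mul_one]⟩
            have hF1 : ∀ η ∈ F, deg η ^ 2 = 1 := fun η hη => by
              rw [hF] at hη
              rw [(Finset.mem_filter.mp (Finset.mem_of_mem_erase hη)).2, one_pow]
            have hS2 : ∀ φ ∈ (fam H).filter (fun φ => d φ = H.index), d φ ^ 2 = H.index ^ 2 := fun φ hφ => by
              rw [(Finset.mem_filter.mp hφ).2]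
            rw [hF', Finset.sum_congr rfl hF1, Finset.sum_congr rfl hS2, Finset.sum_const, Finset.sum_const,
              smul_eq_mul, smul_eq_mul, mul_one] at hsum
            exact ⟨((fam H).filter fun φ => d φ = H.index).card,
              Nat.eq_of_mul_eq_mul_left (n := H.index) (by omega) (by rw [← hsum]; ring)⟩
          obtain ⟨c, hc⟩ := hdvd
          rcases c with _ | _ | c
          · omega
          · omega
          · have : 2 * H.index ≤ H.index * (c + 1 + 1) := by nlinarith
            omega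
        · have := hex p hp hpH hab
          nlinarith
      obtain ⟨p, hp, hpd⟩ := Nat.exists_prime_and_dvd (Finite.one_lt_card (α := H)).ne'
      haveI := Fact.mk hp
      obtain ⟨A, B, e, hA, hB, -⟩ := exists_decomp (U := H) p
      haveI : Fintype A := Fintype.ofFinite A
      haveI : Fintype B := Fintype.ofFinite B
      obtain ⟨m, hm⟩ := hA.exists_card_eq
      have hcop : (Nat.card A).Coprime (Nat.card B) := hm ▸ Nat.Coprime.pow_left m hB.symm
      have hcard : Nat.card A * Nat.card B = Nat.card H := by rw [← Nat.card_prod, Nat.card_congr e.toEquiv]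
      haveI : Nontrivial A := Finite.one_lt_card_iff_nontrivial.mp <| by
        by_contra h
        have h1 : Nat.card A = 1 := by have := Nat.card_pos (α := A); omega
        rw [h1, one_mul] at hcard
        exact hp.one_lt.ne' (Nat.eq_one_of_dvd_coprimes hB (hcard ▸ hpd) dvd_rfl)
      haveI : Nontrivial B := Finite.one_lt_card_iff_nontrivial.mp <| by
        by_contra h
        have h1 : Nat.card B = 1 := by have := Nat.card_pos (α := B); omega
        rw [h1, mul_one, hm] at hcard
        exact hnp ⟨p, hp, IsPGroup.of_card hcard.symm⟩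
      have hlin1 : ∀ (C : Subgroup H) [Fintype C] [Nontrivial C], ∃ γ : IrrCharacter C, γ ≠ triv ∧ deg γ = 1 := by
        intro C _ _
        by_contra h
        push Not at h
        have hs : (Finset.univ.filter fun γ : IrrCharacter C => (γ : C → ℂ) 1 = 1) ⊆ {triv} := fun γ hγ => by
          rw [Finset.mem_filter, ← TINilpotent.deg_eq_one_iff] at hγ
          rw [Finset.mem_singleton]
          by_contra hne
          exact h γ hne hγ.2
        have := Finset.card_le_card hs
        rw [TINilpotent.linear_count, Finset.card_singleton] at this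
        have := TINilpotent.linear_count_gt (A := C)
        omega
      obtain ⟨α, hα, hα1⟩ := hlin1 A
      obtain ⟨β, hβ, hβ1⟩ := hlin1 B
      have hpa : pair e (α, (triv : IrrCharacter B)) ≠ triv := fun h => hα (by
        rw [← pair_triv e] at h; exact (Prod.ext_iff.mp (pair_injective e h)).1)
      have hpb : pair e ((triv : IrrCharacter A), β) ≠ triv := fun h => hβ (by
        rw [← pair_triv e] at h; exact (Prod.ext_iff.mp (pair_injective e h)).2)
      have hda : deg (pair e (α, (triv : IrrCharacter B))) = 1 := by rw [pair_deg, hα1, deg_triv]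
      have hdb : deg (pair e ((triv : IrrCharacter A), β)) = 1 := by rw [pair_deg, hβ1, deg_triv]
      by_cases ha' : indFun H (pair e (α, (triv : IrrCharacter B)) : H → ℂ) = indFun H (θ : H → ℂ)
      · refine ⟨_, hlinS _ hdb hpb, fun eq => hβ ?_⟩
        have hmem := indFun_eq_mem_orbit H (pair e (α, (triv : IrrCharacter B))).2
          (pair e ((triv : IrrCharacter A), β)).2 (eq.trans ha'.symm)
        exact (pair_trivOn_right e hcop (triv, β)).mp
          (orbit_trivOn H hmem ((pair_trivOn_right e hcop (α, triv)).mpr rfl))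
      · exact ⟨_, hlinS _ hda hpa, ha'⟩
  set Y := S.filter fun φ => d φ = H.index with hY
  have hsubτ : ∀ T : Finset (N → ℂ), T ⊆ S →
      IsLinearIsometryOn (zspanOn (↑T : Set (N → ℂ)) {1}ᶜ) τ ∧
        ∀ α ∈ zspanOn (↑T : Set (N → ℂ)) {1}ᶜ, τ α 1 = 0 := by
    intro T hT
    have hT' : (↑T : Set (N → ℂ)) ⊆ ↑S := Finset.coe_subset.mpr hT
    exact ⟨⟨fun x hx y hy => hτ.1 x (Coherence.zspanOn_mono hT' hx) y (Coherence.zspanOn_mono hT' hy),
      fun x hx k => hτ.2.1 x (Coherence.zspanOn_mono hT' hx) k,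
      fun x hx y hy => hτ.2.2.1 x (Coherence.zspanOn_mono hT' hx) y (Coherence.zspanOn_mono hT' hy),
      fun x hx => hτ.2.2.2 x (Coherence.zspanOn_mono hT' hx)⟩,
      fun x hx => hτ1 x (Coherence.zspanOn_mono hT' hx)⟩
  have hbase : IsCoherent (↑Y : Set (N → ℂ)) {1}ᶜ τ :=
    coherent_equal_degree Y (fun φ h => hirr φ (Finset.mem_filter.mp h).1) H.index (by omega)
      (fun φ h => by rw [hd φ (Finset.mem_filter.mp h).1, (Finset.mem_filter.mp h).2]) hφ₀ hφ₁ hne01 τ
      (hsubτ Y (Finset.filter_subset _ _)).1 (hsubτ Y (Finset.filter_subset _ _)).2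
  have hall : ∀ T : Finset (N → ℂ), T ⊆ S → Disjoint T Y →
      (∀ φ ∈ T, ∀ ξ ∈ S, d ξ < d φ → ξ ∈ Y ∪ T) → IsCoherent (↑(Y ∪ T) : Set (N → ℂ)) {1}ᶜ τ := by
    intro T
    induction T using Finset.induction_on_max_value d with
    | empty => intro _ _ _; rwa [Finset.union_empty]
    | insert χ T hχT hmax ih =>
      intro hTS hdisj hdown
      obtain ⟨hχS, hTS'⟩ := Finset.insert_subset_iff.mp hTS
      have hχY : χ ∉ Y := fun h => Finset.disjoint_left.mp hdisj (Finset.mem_insert_self _ _) h
      have hih := ih hTS' (hdisj.mono_left (Finset.subset_insert _ _)) (fun φ hφ ξ hξ hlt => by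
        have h := hdown φ (Finset.mem_insert_of_mem hφ) ξ hξ hlt
        rw [Finset.union_insert] at h
        exact (Finset.mem_insert.mp h).resolve_left fun e => absurd (hmax φ hφ) (by rw [← e]; omega))
      have hsub' : insert χ (Y ∪ T) ⊆ S :=
        Finset.insert_subset hχS (Finset.union_subset (Finset.filter_subset _ _) hTS')
      rw [Finset.union_insert]
      refine Coherence.feit_criterion (Y ∪ T) (fun ξ h => hirr ξ (hsub' (Finset.mem_insert_of_mem h)))
        (hirr χ hχS) (fun h => (Finset.mem_union.mp h).elim hχY hχT) d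
        (fun ξ h => hd ξ (hsub' h)) τ (hsubτ _ hsub').1 (hsubτ _ hsub').2 hih
        (Finset.mem_union_left _ hφ₀) ?_ ?_
      · obtain ⟨θ, hθ, rfl⟩ := hmemS hχS
        rw [(Finset.mem_filter.mp hφ₀).2, hdθ θ hθ]
        exact dvd_mul_right _ _
      · obtain ⟨θ, hθ, rfl⟩ := hmemS hχS
        set t := deg θ with ht
        have ht1 : 1 < t := by
          have h1 := deg_pos θ
          have h2 : t ≠ 1 := fun h => hχY (hlinS θ h hθ)
          omega
        have hle : ∑ φ ∈ S.filter (fun φ => d φ < H.index * t), d φ ^ 2 ≤ ∑ ξ ∈ Y ∪ T, d ξ ^ 2 := by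
          refine Finset.sum_le_sum_of_subset fun ξ hξ => ?_
          obtain ⟨h1, h2⟩ := Finset.mem_filter.mp hξ
          rw [← hdθ θ hθ] at h2
          have h := hdown _ (Finset.mem_insert_self _ _) ξ h1 h2
          rw [Finset.union_insert] at h
          exact (Finset.mem_insert.mp h).resolve_left fun e => by rw [e] at h2; omega
        refine lt_of_lt_of_le ?_ hle
        rw [sum_sq_filter H hC (fun n => n < H.index * t) d hdθ, (Finset.mem_filter.mp hφ₀).2, hdθ θ hθ, ← ht,
          show 2 * H.index * (H.index * t) = H.index * (2 * H.index * t) by ring]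
        refine Nat.mul_lt_mul_of_pos_left ?_ (by omega)
        have hset : Finset.univ.filter (fun η : IrrCharacter H => η ≠ triv ∧ H.index * deg η < H.index * t) =
            ((Finset.univ : Finset (IrrCharacter H)).filter fun η => deg η < t).erase triv := by
          ext η
          simp only [Finset.mem_filter, Finset.mem_univ, true_and, Finset.mem_erase]
          exact and_congr_right fun _ => Nat.mul_lt_mul_left (by omega)
        have hsum : ∑ η ∈ (Finset.univ : Finset (IrrCharacter H)).filter (fun η => deg η < t), deg η ^ 2 =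
            1 + ∑ η ∈ ((Finset.univ : Finset (IrrCharacter H)).filter fun η => deg η < t).erase triv, deg η ^ 2 := by
          rw [← Finset.add_sum_erase _ _ (show (triv : IrrCharacter H) ∈ Finset.univ.filter (fun η => deg η < t) from
            Finset.mem_filter.mpr ⟨Finset.mem_univ _, by rw [deg_triv]; omega⟩), deg_triv, one_pow]
        rw [hset]
        by_cases hp : ∃ p : ℕ, p.Prime ∧ IsPGroup p H
        · obtain ⟨p, hp, hpH⟩ := hp
          haveI := Fact.mk hp
          have hqne : q ≠ Nat.card H := by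
            intro hab
            have htot : ∑ η : IrrCharacter H, deg η ^ 2 = Nat.card H := by
              have h := sum_sq_degree (G := H)
              simp only [deg_cast] at h
              exact_mod_cast h
            rw [← Finset.sum_filter_add_sum_filter_not Finset.univ (fun η : IrrCharacter H => deg η = 1),
              Finset.sum_congr rfl (g := fun _ => 1) (fun η hη => by rw [(Finset.mem_filter.mp hη).2, one_pow]),
              ← Finset.card_eq_sum_ones, hlincard, hab] at htot
            have h0 : ∑ η ∈ Finset.univ.filter (fun η : IrrCharacter H => ¬ deg η = 1), deg η ^ 2 = 0 := by omega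
            have := Finset.sum_eq_zero_iff.mp h0 θ (Finset.mem_filter.mpr ⟨Finset.mem_univ _, by omega⟩)
            rw [← ht] at this
            have : t = 0 := by simpa using this
            omega
          have hbig := hex p hp hpH hqne
          have hw := (weight_pgroup H hpH θ).resolve_right (by omega)
          rw [← ht, hsum] at hw
          by_cases hts : t ≤ 2 * H.index
          · have h1 : q ≤ ∑ η ∈ (Finset.univ : Finset (IrrCharacter H)).filter (fun η => deg η < t), deg η ^ 2 := by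
              rw [← hlincard, Finset.card_eq_sum_ones]
              refine (Finset.sum_le_sum fun η _ => Nat.one_le_pow _ _ (deg_pos η)).trans
                (Finset.sum_le_sum_of_subset fun η hη => ?_)
              simp only [Finset.mem_filter, Finset.mem_univ, true_and] at hη ⊢
              omega
            rw [hsum] at h1
            nlinarith
          · nlinarith
        · have hw := weight_composite H hC hp θ (by omega)
          rw [← ht, hsum] at hw
          have h2 : 2 * H.index * t ≤ H.index * t ^ 2 := by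
            rw [sq, show 2 * H.index * t = H.index * (2 * t) by ring]
            exact Nat.mul_le_mul_left _ (Nat.mul_le_mul_right _ (by omega))
          omega
  have hfull : Y ∪ (S \ Y) = S := Finset.union_sdiff_of_subset (Finset.filter_subset _ _)
  rw [← hfull]
  exact hall _ Finset.sdiff_subset Finset.sdiff_disjoint fun φ _ ξ hξ _ => by rw [hfull]; exact hξ

end CfsgLib.Char.FeitFrobenius
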