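import Cfsg.Agent.Lib.Char.Table
import Cfsg.Agent.Lib.Char.Constituents
import Cfsg.Agent.Lib.Char.Central

/-!
# An involutory automorphism of a group of even order fixes a nontrivial character of odd degree
-/

set_option autoImplicit false

namespace CfsgLib.Char

open Cfsg
open scoped ComplexConjugate CfsgLib.Char

theorem exists_fixed_odd_degree {H : Type*} [Group H] [Finite H] (heven : Even (Nat.card H))
    (θ : H ≃* H) (hθ : ∀ h, θ (θ h) = h) :
    ∃ (l : IrrCharacter H) (e : ℕ), (l : H → ℂ) 1 = e ∧ Odd e ∧ (∀ h, (l : H → ℂ) (θ h) = (l : H → ℂ) h) ∧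
      (l : H → ℂ) ≠ (fun _ => 1) ∧ e ∣ Nat.card H ∧ e * e < Nat.card H := by
  classical
  haveI := Fintype.ofFinite H
  haveI : Fact (Nat.Prime 2) := ⟨Nat.prime_two⟩
  choose deg hdeg hpos hdvd using fun l : IrrCharacter H => exists_degree_dvd_card (G := H) l.2
  have hsum : ∑ l : IrrCharacter H, deg l * deg l = Nat.card H := by
    have h := sum_sq_degree (G := H)
    simp only [hdeg, sq] at h
    exact_mod_cast h
  let S := {l : IrrCharacter H // Odd (deg l)}
  have hS : 2 ∣ Fintype.card S := by
    have h2 : Even (∑ l : IrrCharacter H, deg l * deg l) := hsum ▸ heven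
    have h3 : ((∑ l : IrrCharacter H, deg l * deg l : ℕ) : ZMod 2) =
        (((Finset.univ.filter fun l : IrrCharacter H => Odd (deg l)).card : ℕ) : ZMod 2) := by
      rw [Nat.cast_sum, Finset.natCast_card_filter]
      refine Finset.sum_congr rfl fun l _ => ?_
      split_ifs with h
      · exact ZMod.natCast_eq_one_iff_odd.mpr (h.mul h)
      · exact ZMod.natCast_eq_zero_iff_even.mpr ((Nat.not_odd_iff_even.mp h).mul_left _)
    rw [Fintype.card_subtype, ← even_iff_two_dvd, ← ZMod.natCast_eq_zero_iff_even, ← h3]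
    exact ZMod.natCast_eq_zero_iff_even.mpr h2
  let f : IrrCharacter H → IrrCharacter H := fun l =>
    ⟨fun h => (l : H → ℂ) (θ h), isIrrCharacter_comp_mulEquiv θ l.2⟩
  have hf : ∀ l, deg (f l) = deg l := fun l => by
    have e : ((deg (f l) : ℕ) : ℂ) = deg l := by
      rw [← hdeg, ← hdeg]
      show (l : H → ℂ) (θ 1) = _
      rw [map_one]
    exact_mod_cast e
  let σ : Equiv.Perm S := Function.Involutive.toPerm (fun l => ⟨f l.1, (hf l.1).symm ▸ l.2⟩)
    (fun l => Subtype.ext (Subtype.ext (funext fun h => congrArg (l.1 : H → ℂ) (hθ h))))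
  let one : IrrCharacter H := ⟨fun _ => 1, isIrrCharacter_one⟩
  have hone : deg one = 1 := by
    have e : ((deg one : ℕ) : ℂ) = 1 := (hdeg one).symm
    exact_mod_cast e
  have hσ : σ ^ 2 ^ 1 = 1 := by
    rw [pow_one, pow_two]
    exact Equiv.ext fun l => Function.Involutive.toPerm_involutive _ l
  obtain ⟨⟨l, hl⟩, hfix, hne⟩ := Equiv.Perm.exists_fixed_point_of_prime' hS hσ
    (a := ⟨one, hone.symm ▸ odd_one⟩) (Subtype.ext (Subtype.ext rfl))
  refine ⟨l, deg l, hdeg l, hl, fun h => ?_, fun e => hne (Subtype.ext (Subtype.ext e)), hdvd l, ?_⟩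
  · exact congrFun (congrArg Subtype.val (congrArg Subtype.val hfix)) h
  · have hlne : l ≠ one := fun e => hne (Subtype.ext e)
    have h := Finset.sum_le_sum_of_subset (f := fun l => deg l * deg l)
      (Finset.subset_univ ({l, one} : Finset (IrrCharacter H)))
    rw [hsum, Finset.sum_pair hlne, hone] at h
    omega

end CfsgLib.Char
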