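import Mathlib
import Cfsg.Agent.Lib.Coprime.Action

/-!
# Fixed points of a Frobenius group acting coprimely

A representation of coprime order over `ZMod p` lifts to `ZMod (p ^ N)`, where the trace of the
averaging idempotent of a subgroup is the dimension of its fixed points; the class function
identity of a Frobenius group then becomes the order formula for the fixed points.
-/

set_option autoImplicit false

namespace CfsgLib.FrobAction

open Matrix

/-- The fixed points of a set of group elements. -/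
def fixSub {K V Y : Type*} [Field K] [AddCommGroup V] [Module K V] [Monoid Y]
    (ρ : Y →* Module.End K V) (A : Set Y) : Submodule K V where
  carrier := {v | ∀ a ∈ A, ρ a v = v}
  add_mem' := fun hv hw a ha => by rw [map_add, hv a ha, hw a ha]
  zero_mem' := fun a _ => map_zero _
  smul_mem' := fun c v hv a ha => by rw [map_smul, hv a ha]

theorem mem_fixSub {K V Y : Type*} [Field K] [AddCommGroup V] [Module K V] [Monoid Y]
    {ρ : Y →* Module.End K V} {A : Set Y} {v : V} :
    v ∈ fixSub ρ A ↔ ∀ a ∈ A, ρ a v = v := Iff.rfl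

/-- A class function on a Frobenius group: the sum over the group. -/
theorem sum_frobenius {Y R : Type*} [Group Y] [Fintype Y] [CommRing R] (U E : Subgroup Y)
    [Fintype U] [Fintype E] (hc : Subgroup.IsComplement' U E)
    (hUn : ∀ e ∈ E, ∀ u ∈ U, e * u * e⁻¹ ∈ U)
    (hfpf : ∀ e ∈ E, e ≠ 1 → ∀ u ∈ U, e * u = u * e → u = 1)
    (f : Y → R) (hf : ∀ x y, f (x * y * x⁻¹) = f y) :
    ∑ y : Y, f y + (Fintype.card U : R) * f 1
      = ∑ u : U, f u + (Fintype.card U : R) * ∑ e : E, f e := by
  classical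
  have h1 : ∑ y : Y, f y = ∑ e : E, ∑ u : U, f (u * e) := by
    rw [← (Equiv.ofBijective _ hc).sum_comp, Fintype.sum_prod_type, Finset.sum_comm]
    rfl
  have h2 : ∀ e : E, e ≠ 1 → ∑ u : U, f (u * e) = (Fintype.card U : R) * f e := by
    intro e he
    let φ : U → U := fun u => ⟨u * (e * (u : Y)⁻¹ * (e : Y)⁻¹),
      U.mul_mem u.2 (hUn _ e.2 _ (U.inv_mem u.2))⟩
    have hinj : Function.Injective φ := by
      intro u v h
      have h' : (u : Y) * e * (u : Y)⁻¹ = v * e * (v : Y)⁻¹ := by
        have h'' := congrArg (fun z : U => (z : Y) * e) h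
        simpa [φ, mul_assoc] using h''
      have hcomm : (e : Y) * ((v : Y)⁻¹ * u) = (v : Y)⁻¹ * u * e := by
        calc (e : Y) * ((v : Y)⁻¹ * u) = (v : Y)⁻¹ * (v * e * (v : Y)⁻¹) * u := by group
          _ = (v : Y)⁻¹ * u * e := by rw [← h']; group
      have := hfpf _ e.2 (fun h0 => he (Subtype.ext h0)) _ (U.mul_mem (U.inv_mem v.2) u.2) hcomm
      exact Subtype.ext (inv_mul_eq_one.mp this).symm
    rw [← (Equiv.ofBijective φ (Finite.injective_iff_bijective.mp hinj)).sum_comp]
    have : ∀ u : U, f ((φ u : Y) * e) = f e := by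
      intro u
      rw [← hf (u : Y) e]
      congr 1
      simp [φ, mul_assoc]
    simp only [Equiv.ofBijective_apply, this]
    simp
  rw [h1, ← Finset.add_sum_erase _ _ (Finset.mem_univ (1 : E)), Finset.sum_congr rfl
    (fun e he => h2 e (Finset.ne_of_mem_erase he)), ← Finset.mul_sum]
  rw [← Finset.add_sum_erase _ (fun e : E => f e) (Finset.mem_univ (1 : E))]
  simp only [OneMemClass.coe_one, mul_one]
  ring

variable {p N : ℕ} [hp : Fact p.Prime]

theorem isUnit_of_map_ne_zero (hN : N ≠ 0) (a : ZMod (p ^ N))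
    (h : ZMod.castHom (dvd_pow_self p hN) (ZMod p) a ≠ 0) : IsUnit a := by
  haveI : NeZero (p ^ N) := ⟨pow_ne_zero _ hp.out.ne_zero⟩
  rw [← ZMod.natCast_zmod_val a] at h ⊢
  rw [map_natCast, Ne, ZMod.natCast_eq_zero_iff] at h
  exact (ZMod.isUnit_iff_coprime _ _).mpr
    (((hp.out.coprime_iff_not_dvd).mpr h).symm.pow_right N)

theorem isUnit_matrix_of_map (hN : N ≠ 0) {n : Type*} [Fintype n] [DecidableEq n]
    (G : Matrix n n (ZMod (p ^ N)))
    (h : IsUnit (G.map (ZMod.castHom (dvd_pow_self p hN) (ZMod p)))) : IsUnit G := by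
  rw [Matrix.isUnit_iff_isUnit_det] at h ⊢
  refine isUnit_of_map_ne_zero hN _ ?_
  rw [RingHom.map_det]
  exact h.ne_zero

/-- A matrix congruent to the identity mod `p` has `p`-power order in `ZMod (p ^ N)`. -/
theorem pow_eq_one_of_map_eq_one (hN : N ≠ 0) {n : Type*} [Fintype n] [DecidableEq n]
    (G : Matrix n n (ZMod (p ^ N)))
    (h : G.map (ZMod.castHom (dvd_pow_self p hN) (ZMod p)) = 1) : G ^ p ^ N = 1 := by
  haveI : NeZero (p ^ N) := ⟨pow_ne_zero _ hp.out.ne_zero⟩
  set π := ZMod.castHom (dvd_pow_self p hN) (ZMod p) with hπ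
  have hd : ∀ i j, ∃ m : ZMod (p ^ N), (G - 1) i j = (p : ZMod (p ^ N)) * m := by
    intro i j
    have h0 : π ((G - 1) i j) = 0 := by
      have h' : (G - 1).map π = 0 := by
        rw [← RingHom.mapMatrix_apply, map_sub, RingHom.mapMatrix_apply, h, map_one, sub_self]
      exact congrFun (congrFun h' i) j
    rw [← ZMod.natCast_zmod_val ((G - 1) i j), map_natCast, ZMod.natCast_eq_zero_iff] at h0
    obtain ⟨m, hm⟩ := h0
    exact ⟨m, by rw [← ZMod.natCast_zmod_val ((G - 1) i j), hm, Nat.cast_mul]⟩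
  choose m hm using hd
  have hG : G = 1 + (p : ZMod (p ^ N)) • Matrix.of m := by
    ext i j
    rw [Matrix.add_apply, Matrix.smul_apply, Matrix.of_apply, smul_eq_mul, ← hm, Matrix.sub_apply]
    ring
  have key : (1 + Polynomial.C (p : ZMod (p ^ N)) * Polynomial.X) ^ p ^ N = 1 := by
    have hdv : (p : Polynomial (ZMod (p ^ N))) ∣
        (1 + Polynomial.C (p : ZMod (p ^ N)) * Polynomial.X) - 1 :=
      ⟨Polynomial.X, by rw [Polynomial.C_eq_natCast]; ring⟩
    have := dvd_sub_pow_of_dvd_sub hdv N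
    have hz : (p : Polynomial (ZMod (p ^ N))) ^ (N + 1) = 0 := by
      rw [pow_succ, ← Nat.cast_pow, ← Polynomial.C_eq_natCast, ZMod.natCast_self, map_zero,
        zero_mul]
    rw [hz, zero_dvd_iff, one_pow, sub_eq_zero] at this
    exact this
  have := congrArg (Polynomial.aeval (Matrix.of m)) key
  simpa [hG, Algebra.smul_def] using this

/-- A representation of coprime order over `ZMod p` lifts to `ZMod (p ^ N)`. -/
theorem exists_lift {Y : Type*} [Group Y] [Finite Y] (hcop : p.Coprime (Nat.card Y))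
    (hN : N ≠ 0) {n : Type*} [Fintype n] [DecidableEq n]
    (ρ : Y →* Matrix n n (ZMod p)) :
    ∃ σ : Y →* Matrix n n (ZMod (p ^ N)),
      ∀ y, (σ y).map (ZMod.castHom (dvd_pow_self p hN) (ZMod p)) = ρ y := by
  classical
  haveI : NeZero (p ^ N) := ⟨pow_ne_zero _ hp.out.ne_zero⟩
  set π := ZMod.castHom (dvd_pow_self p hN) (ZMod p) with hπ
  let Pi' : (Matrix n n (ZMod (p ^ N)))ˣ →* (Matrix n n (ZMod p))ˣ :=
    Units.map (RingHom.mapMatrix π).toMonoidHom
  let ρ₀ : Y →* (Matrix n n (ZMod p))ˣ := ρ.toHomUnits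
  set Γ : Subgroup (Y × (Matrix n n (ZMod (p ^ N)))ˣ) :=
    (ρ₀.comp (MonoidHom.fst _ _)).eqLocus (Pi'.comp (MonoidHom.snd _ _)) with hΓ
  let φ : Γ →* Y := (MonoidHom.fst _ _).comp Γ.subtype
  have hφ : Function.Surjective φ := by
    intro y
    choose l hl using fun i j => ZMod.castHom_surjective (dvd_pow_self p hN) ((ρ y) i j)
    have hl' : (Matrix.of l).map π = ρ y := by ext i j; exact hl i j
    have hu : IsUnit (Matrix.of l) := isUnit_matrix_of_map hN _ (by
      rw [hl']; exact (Group.isUnit y).map ρ)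
    exact ⟨⟨(y, hu.unit), Units.ext (show ρ y = _ from hl'.symm)⟩, rfl⟩
  have hker : IsPGroup p φ.ker := by
    rintro ⟨⟨⟨y, g⟩, hg⟩, hy⟩
    refine ⟨N, Subtype.ext (Subtype.ext (Prod.ext ?_ (Units.ext ?_)))⟩
    · have : y = 1 := hy
      simp [this]
    · have hy1 : y = 1 := hy
      have : ρ y = (g : Matrix n n (ZMod (p ^ N))).map π := congrArg Units.val hg
      rw [hy1, map_one] at this
      simpa using pow_eq_one_of_map_eq_one hN _ this.symm
  obtain ⟨k, hk⟩ := IsPGroup.iff_card.mp hker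
  have hidx : φ.ker.index = Nat.card Y := by
    rw [Subgroup.index_ker, MonoidHom.range_eq_top.mpr hφ, Subgroup.card_top]
  obtain ⟨B, hB⟩ := Subgroup.exists_right_complement'_of_coprime (N := φ.ker)
    (by rw [hk, hidx]; exact hcop.pow_left k)
  have hbij : Function.Bijective (φ.comp B.subtype) := by
    rw [Nat.bijective_iff_injective_and_card]
    refine ⟨?_, ?_⟩
    · rw [injective_iff_map_eq_one]
      intro b hb
      have hb' : (b : Γ) ∈ φ.ker ⊓ B := ⟨hb, b.2⟩
      rw [hB.disjoint.eq_bot, Subgroup.mem_bot] at hb'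
      exact Subtype.ext hb'
    · rw [← hidx]
      exact hB.symm.index_eq_card.symm
  let e : B ≃* Y := MulEquiv.ofBijective _ hbij
  refine ⟨((Units.coeHom _).comp ((MonoidHom.snd _ _).comp (Γ.subtype.comp B.subtype))).comp
    e.symm.toMonoidHom, fun y => ?_⟩
  have h1 : ((e.symm y : B) : Γ).1.1 = y := e.apply_symm_apply y
  have h2 := congrArg Units.val ((e.symm y : B) : Γ).2
  exact h2.symm.trans (by
    show ρ ((e.symm y : B) : Γ).1.1 = ρ y
    rw [h1])

omit hp in
/-- The average of a finite subgroup is idempotent. -/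
theorem average_isIdempotentElem {Y R S : Type*} [Group Y] [CommRing R] [Ring S] [Algebra R S]
    (σ : Y →* S) (A : Subgroup Y) [Fintype A] (c : R) (hc : c * (Fintype.card A : R) = 1) :
    IsIdempotentElem (c • ∑ a : A, σ a) := by
  have h : ∀ a : A, σ a * ∑ b : A, σ b = ∑ b : A, σ b := by
    intro a
    rw [Finset.mul_sum]
    simp only [← map_mul, ← Subgroup.coe_mul]
    exact Fintype.sum_equiv (Equiv.mulLeft a) _ _ fun _ => rfl
  rw [IsIdempotentElem, smul_mul_smul_comm, Finset.sum_mul]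
  simp only [h, Finset.sum_const, Finset.card_univ]
  rw [← Nat.cast_smul_eq_nsmul R, smul_smul, mul_assoc, hc, mul_one]

/-- The trace of an idempotent lift is the rank of the reduction. -/
theorem trace_eq_finrank {V : Type*} [AddCommGroup V] [Module (ZMod p) V]
    [FiniteDimensional (ZMod p) V] (hN : N ≠ 0) {n : Type*} [Fintype n] [DecidableEq n]
    (b : Module.Basis n (ZMod p) V) (P : Matrix n n (ZMod (p ^ N))) (hP : IsIdempotentElem P)
    (Q : Module.End (ZMod p) V) (W : Submodule (ZMod p) V) (hQ : LinearMap.IsProj W Q)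
    (hPQ : P.map (ZMod.castHom (dvd_pow_self p hN) (ZMod p)) = LinearMap.toMatrix b b Q) :
    P.trace = (Module.finrank (ZMod p) W : ZMod (p ^ N)) := by
  classical
  haveI : NeZero (p ^ N) := ⟨pow_ne_zero _ hp.out.ne_zero⟩
  set π := ZMod.castHom (dvd_pow_self p hN) (ZMod p) with hπ
  let b₁ := Module.finBasis (ZMod p) W
  let b₂ := Module.finBasis (ZMod p) (LinearMap.ker Q)
  let bs := (b₁.prod b₂).map (Submodule.prodEquivOfIsCompl W (LinearMap.ker Q) hQ.isCompl)
  let ix : n ≃ Fin (Module.finrank (ZMod p) W) ⊕ Fin (Module.finrank (ZMod p) (LinearMap.ker Q)) :=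
    b.indexEquiv bs
  let b' : Module.Basis n (ZMod p) V := bs.reindex ix.symm
  let d : n → Bool := fun i => (ix i).isLeft
  let dR : n → ZMod (p ^ N) := fun i => if d i then 1 else 0
  let dF : n → ZMod p := fun i => if d i then 1 else 0
  have hQb : ∀ j, Q (b' j) = dF j • b' j := by
    intro j
    rw [show b' j = bs (ix j) by simp [b']]
    rcases hj : ix j with i | i
    · have : bs (Sum.inl i) ∈ W := by simp [bs]
      rw [hQ.map_id _ this]
      simp [dF, d, hj]
    · have : bs (Sum.inr i) ∈ LinearMap.ker Q := by simp [bs]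
      rw [LinearMap.mem_ker.mp this]
      simp [dF, d, hj]
  set g := b.toMatrix b' with hg
  have hgu : IsUnit g := by
    rw [Matrix.isUnit_iff_isUnit_det]
    exact Matrix.isUnit_det_of_left_inverse (b'.toMatrix_mul_toMatrix_flip b)
  have hPg : LinearMap.toMatrix b b Q * g = g * Matrix.diagonal dF := by
    rw [hg, linearMap_toMatrix_mul_basis_toMatrix]
    ext i j
    rw [LinearMap.toMatrix_apply, hQb, Matrix.mul_diagonal, Module.Basis.toMatrix_apply]
    simp [mul_comm]
  choose l hl using fun i j => ZMod.castHom_surjective (dvd_pow_self p hN) (g i j)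
  set L := Matrix.of l
  have hL : L.map π = g := by ext i j; exact hl i j
  set D := Matrix.diagonal dR with hD
  have hDD : D * D = D := by
    rw [hD, Matrix.diagonal_mul_diagonal]
    congr 1; ext i; simp only [dR]; split_ifs <;> simp
  have hDπ : D.map π = Matrix.diagonal dF := by
    rw [hD, Matrix.diagonal_map (map_zero π)]
    congr 1; ext i; simp only [Function.comp_apply, dR, dF, apply_ite π, map_one, map_zero]
  set G := P * L * D + (1 - P) * L * (1 - D) with hG
  have hGu : IsUnit G := by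
    refine isUnit_matrix_of_map hN _ ?_
    change IsUnit (G.map π)
    rw [hG, Matrix.map_add _ (map_add π), Matrix.map_mul, Matrix.map_mul, Matrix.map_mul,
      Matrix.map_mul, Matrix.map_sub _ (map_sub π), Matrix.map_sub _ (map_sub π),
      Matrix.map_one _ (map_zero π) (map_one π), hPQ, hL, hDπ, hPg, sub_mul 1, one_mul, hPg,
      sub_mul, mul_sub, mul_sub, mul_one, mul_one, mul_assoc g, Matrix.diagonal_mul_diagonal]
    have : (fun i => dF i * dF i) = dF := by
      ext i; simp only [dF]; split_ifs <;> simp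
    rw [this]
    simpa using hgu
  have hPG : P * G = G * D := by
    have hP1 : P * (1 - P) = 0 := by rw [mul_sub, mul_one, hP.eq, sub_self]
    have hD1 : (1 - D) * D = 0 := by rw [sub_mul, one_mul, hDD, sub_self]
    rw [hG, mul_add, add_mul, ← mul_assoc P, ← mul_assoc P P, hP.eq, ← mul_assoc P (_ * L),
      ← mul_assoc P (1 - P), hP1, mul_assoc (P * L) D D, hDD, mul_assoc ((1 - P) * L) (1 - D) D,
      hD1]
    simp
  obtain ⟨u, hu⟩ := hGu
  have hP' : P = (u : Matrix n n (ZMod (p ^ N))) * D * (↑u⁻¹ : Matrix n n (ZMod (p ^ N))) := by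
    rw [hu, ← hPG, mul_assoc, ← hu, Units.mul_inv, mul_one]
  rw [hP', Matrix.trace_units_conj, hD, Matrix.trace_diagonal]
  simp only [dR]
  rw [← Equiv.sum_comp ix.symm]
  simp only [d, Equiv.apply_symm_apply]
  rw [Fintype.sum_sum_type]
  simp

/-- The order formula for a module of a Frobenius group in coprime characteristic. -/
theorem card_fixSub {Y V : Type*} [Group Y] [Fintype Y] [AddCommGroup V] [Module (ZMod p) V]
    [Finite V] (hcop : p.Coprime (Nat.card Y)) (U E : Subgroup Y)
    (hc : Subgroup.IsComplement' U E) (hUn : ∀ e ∈ E, ∀ u ∈ U, e * u * e⁻¹ ∈ U)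
    (hfpf : ∀ e ∈ E, e ≠ 1 → ∀ u ∈ U, e * u = u * e → u = 1)
    (ρ : Y →* Module.End (ZMod p) V) :
    Nat.card (fixSub ρ ((⊤ : Subgroup Y) : Set Y)) ^ Nat.card E * Nat.card V
      = Nat.card (fixSub ρ (E : Set Y)) ^ Nat.card E * Nat.card (fixSub ρ (U : Set Y)) := by
  classical
  haveI : Fintype U := Fintype.ofFinite _
  haveI : Fintype E := Fintype.ofFinite _
  haveI : FiniteDimensional (ZMod p) V := Module.Finite.of_finite
  set n := Module.finrank (ZMod p) V with hn
  let b : Module.Basis (Fin n) (ZMod p) V := Module.finBasis _ _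
  obtain ⟨e₀, hN, hbig⟩ : ∃ N : ℕ, N ≠ 0 ∧ Nat.card E * n + n < p ^ N :=
    ⟨Nat.card E * n + n + 1, Nat.succ_ne_zero _,
      lt_trans (Nat.lt_succ_self _) (Nat.lt_pow_self hp.out.one_lt)⟩
  haveI : NeZero (p ^ e₀) := ⟨pow_ne_zero _ hp.out.ne_zero⟩
  obtain ⟨σ, hσ⟩ := exists_lift hcop hN ((LinearMap.toMatrixAlgEquiv b).toMonoidHom.comp ρ)
  set π := ZMod.castHom (dvd_pow_self p hN) (ZMod p) with hπ
  have huA : ∀ A : Subgroup Y, IsUnit ((Nat.card A : ℕ) : ZMod (p ^ e₀)) := fun A => by
    rw [ZMod.isUnit_iff_coprime]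
    exact ((hcop.coprime_dvd_right (Subgroup.card_subgroup_dvd_card A)).symm).pow_right _
  have hr : ∀ (A : Subgroup Y) [Fintype A],
      ∑ a : A, (σ a).trace = (Nat.card A : ZMod (p ^ e₀)) *
        (Module.finrank (ZMod p) (fixSub ρ (A : Set Y)) : ZMod (p ^ e₀)) := by
    intro A _
    obtain ⟨u, hu⟩ := huA A
    set c : ZMod (p ^ e₀) := ↑u⁻¹ with hcdef
    have hc1 : c * (Fintype.card A : ZMod (p ^ e₀)) = 1 := by
      rw [← Nat.card_eq_fintype_card, ← hu]; exact u.inv_mul
    have hc2 : π c * (Fintype.card A : ZMod p) = 1 := by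
      rw [← map_natCast π, ← map_mul, hc1, map_one]
    set Q : Module.End (ZMod p) V := π c • ∑ a : A, ρ a with hQdef
    have hQ : LinearMap.IsProj (fixSub ρ (A : Set Y)) Q := by
      constructor
      · intro v a ha
        simp only [hQdef, LinearMap.smul_apply, LinearMap.sum_apply, map_smul, map_sum]
        congr 1
        refine Fintype.sum_equiv (Equiv.mulLeft (⟨a, ha⟩ : A)) _ _ fun x => ?_
        simp only [Equiv.coe_mulLeft, Subgroup.coe_mul, map_mul, Module.End.mul_apply]
      · intro v hv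
        simp only [hQdef, LinearMap.smul_apply, LinearMap.sum_apply]
        rw [Finset.sum_congr rfl fun (a : A) _ => mem_fixSub.mp hv a a.2, Finset.sum_const,
          Finset.card_univ, ← Nat.cast_smul_eq_nsmul (ZMod p), smul_smul, hc2, one_smul]
    have hPQ : (c • ∑ a : A, σ a).map π = LinearMap.toMatrix b b Q := by
      have e1 : LinearMap.toMatrixAlgEquiv b Q = π c • ∑ a : A, (σ a).map π := by
        rw [hQdef, map_smul, map_sum]
        simp only [hσ]
        rfl
      refine Eq.trans ?_ (e1.symm.trans rfl)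
      ext i j
      simp [Matrix.sum_apply, map_sum, map_mul]
    have ht := trace_eq_finrank hN b _ (average_isIdempotentElem σ A c hc1) Q _ hQ hPQ
    rw [Matrix.trace_smul, Matrix.trace_sum] at ht
    rw [← ht, smul_eq_mul, ← mul_assoc, Nat.card_eq_fintype_card, mul_comm _ c, hc1, one_mul]
  have htop := hr ⊤
  have hsum := sum_frobenius U E hc hUn hfpf (fun y => (σ y).trace) (fun x y => by
    rw [map_mul, map_mul, Matrix.trace_mul_cycle, ← map_mul, inv_mul_cancel, map_one, one_mul])
  have h1 : (σ 1).trace = (n : ZMod (p ^ e₀)) := by simp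
  rw [hr U, hr E, h1] at hsum
  have htop' : ∑ y : Y, (σ y).trace = ∑ a : (⊤ : Subgroup Y), (σ a).trace :=
    (Fintype.sum_equiv Subgroup.topEquiv.toEquiv _ _ fun _ => rfl).symm
  rw [htop', htop, Subgroup.card_top, ← hc.card_mul] at hsum
  set rY := Module.finrank (ZMod p) (fixSub ρ ((⊤ : Subgroup Y) : Set Y))
  set rE := Module.finrank (ZMod p) (fixSub ρ (E : Set Y))
  set rU := Module.finrank (ZMod p) (fixSub ρ (U : Set Y))
  have hcast : ((Nat.card E * rY + n : ℕ) : ZMod (p ^ e₀))
      = ((Nat.card E * rE + rU : ℕ) : ZMod (p ^ e₀)) := by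
    refine (huA U).mul_left_cancel ?_
    rw [← Nat.card_eq_fintype_card] at hsum
    push_cast at hsum ⊢
    linear_combination hsum
  have hle : ∀ W : Submodule (ZMod p) V, Module.finrank (ZMod p) W ≤ n :=
    fun W => Submodule.finrank_le W
  have hnat : Nat.card E * rY + n = Nat.card E * rE + rU := by
    rw [ZMod.natCast_eq_natCast_iff', Nat.mod_eq_of_lt, Nat.mod_eq_of_lt] at hcast
    · exact hcast
    · exact lt_of_le_of_lt (add_le_add (Nat.mul_le_mul_left _ (hle _)) (hle _)) hbig
    · exact lt_of_le_of_lt (add_le_add (Nat.mul_le_mul_left _ (hle _)) le_rfl) hbig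
  have hpow : ∀ W : Submodule (ZMod p) V, Nat.card W = p ^ Module.finrank (ZMod p) W := fun W => by
    rw [Module.natCard_eq_pow_finrank (K := ZMod p) (V := W), Nat.card_zmod]
  have hV : Nat.card V = p ^ n := by
    rw [Module.natCard_eq_pow_finrank (K := ZMod p) (V := V), Nat.card_zmod]
  rw [hV, hpow, hpow, hpow]
  rw [← pow_mul, ← pow_mul, ← pow_add, ← pow_add, mul_comm _ (Nat.card E), hnat,
    mul_comm (Nat.card E)]

theorem zmod_module_exists {Q : Type*} [CommGroup Q] (h : ∀ x : Q, x ^ p = 1) :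
    Nonempty (Module (ZMod p) (Additive Q)) :=
  ⟨AddCommGroup.zmodModule fun x => congrArg Additive.ofMul (h x.toMul)⟩

/-- The multiplicative form of `card_fixSub`. -/
theorem card_fixed_points {Y Q : Type*} [Group Y] [Fintype Y] [CommGroup Q] [Finite Q]
    (hexp : ∀ x : Q, x ^ p = 1) (hcop : p.Coprime (Nat.card Y)) (U E : Subgroup Y)
    (hc : Subgroup.IsComplement' U E) (hUn : ∀ e ∈ E, ∀ u ∈ U, e * u * e⁻¹ ∈ U)
    (hfpf : ∀ e ∈ E, e ≠ 1 → ∀ u ∈ U, e * u = u * e → u = 1)
    (f : Y → Q →* Q) (h1 : ∀ x, f 1 x = x) (hmul : ∀ y z x, f (y * z) x = f y (f z x)) :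
    Nat.card {x : Q // ∀ a ∈ (⊤ : Subgroup Y), f a x = x} ^ Nat.card E * Nat.card Q
      = Nat.card {x : Q // ∀ a ∈ E, f a x = x} ^ Nat.card E
        * Nat.card {x : Q // ∀ a ∈ U, f a x = x} := by
  obtain ⟨inst⟩ := zmod_module_exists hexp
  let ρ : Y →* Module.End (ZMod p) (Additive Q) :=
    { toFun := fun y => (MonoidHom.toAdditive (f y)).toZModLinearMap p
      map_one' := LinearMap.ext fun v => congrArg Additive.ofMul (h1 v.toMul)
      map_mul' := fun y z => LinearMap.ext fun v => congrArg Additive.ofMul (hmul y z v.toMul) }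
  have key : ∀ A : Subgroup Y,
      Nat.card {x : Q // ∀ a ∈ A, f a x = x} = Nat.card (fixSub ρ (A : Set Y)) := fun A =>
    Nat.card_congr (Equiv.subtypeEquiv Additive.ofMul fun x =>
      ⟨fun h a ha => congrArg Additive.ofMul (h a ha),
        fun h a ha => Additive.ofMul.injective (h a ha)⟩)
  rw [key, key, key, ← Nat.card_congr (Additive.toMul (α := Q))]
  exact card_fixSub hcop U E hc hUn hfpf ρ

end CfsgLib.FrobAction
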