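import Cfsg.Agent.Lib.Char.GlaubermanSolvable
import Cfsg.Agent.Lib.Coprime.Action

/-!
# Fixed classes and the fixed-point subgroup; real characters
-/

set_option autoImplicit false
set_option linter.unusedSectionVars false

namespace CfsgLib.Char.Glauberman

open Cfsg
open scoped ComplexConjugate CfsgLib.Char

/-- Points of the conjugation action. -/
structure CPt (Γ : Type*) where
  /-- The element. -/
  val : Γ

instance {Γ : Type*} [Group Γ] : MulAction Γ (CPt Γ) where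
  smul a x := ⟨a * x.val * a⁻¹⟩
  one_smul x := by
    show (⟨1 * x.val * 1⁻¹⟩ : CPt Γ) = x
    simp
  mul_smul a b x := by
    show (⟨a * b * x.val * (a * b)⁻¹⟩ : CPt Γ) = ⟨a * (b * x.val * b⁻¹) * a⁻¹⟩
    simp [mul_assoc]

theorem cpt_smul {Γ : Type*} [Group Γ] (a x : Γ) : a • (⟨x⟩ : CPt Γ) = ⟨a * x * a⁻¹⟩ := rfl

variable {Γ : Type*} [Group Γ] [Finite Γ] {K S : Subgroup Γ}
  (hS : S ≤ Subgroup.normalizer (K : Set Γ)) (hcop : (Nat.card K).Coprime (Nat.card S))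
  (hsolv : Group.IsSolvable S)

include hS hcop hsolv in
/-- An invariant class meets the fixed points. -/
theorem exists_conj_mem_fix {g : Γ} (hg : g ∈ K)
    (h : ∀ s ∈ S, ∃ k ∈ K, s * g * s⁻¹ = k * g * k⁻¹) : ∃ k ∈ K, k * g * k⁻¹ ∈ fix K S := by
  obtain ⟨k, hk, hkf⟩ := CfsgLib.Coprime.exists_fixed_of_coprime hS hcop.symm (Or.inl hsolv)
    (⟨g⟩ : CPt Γ) (fun s hs => by
      obtain ⟨k, hk, e⟩ := h s hs
      exact ⟨k, hk, by rw [cpt_smul, cpt_smul, e]⟩)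
  refine ⟨k, hk, Subgroup.mem_inf.mpr ⟨K.mul_mem (K.mul_mem hk hg) (K.inv_mem hk),
    Subgroup.mem_centralizer_iff.mpr fun s hs => ?_⟩⟩
  have h1 := congrArg CPt.val (hkf s hs)
  rw [cpt_smul, cpt_smul] at h1
  exact mul_inv_eq_iff_eq_mul.mp h1

include hS hcop hsolv in
/-- Fixed points conjugate under `K` are conjugate by a fixed point. -/
theorem exists_fix_conj {a b k : Γ} (ha : a ∈ fix K S) (hb : b ∈ fix K S) (hk : k ∈ K)
    (h : k * a * k⁻¹ = b) : ∃ c ∈ fix K S, c * a * c⁻¹ = b := by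
  have hfx : ∀ z ∈ fix K S, ∀ s ∈ S, s • (⟨z⟩ : CPt Γ) = ⟨z⟩ := fun z hz s hs => by
    rw [cpt_smul, Subgroup.mem_centralizer_iff.mp (Subgroup.mem_inf.mp hz).2 s hs, mul_inv_cancel_right]
  obtain ⟨c, hc, hce⟩ := CfsgLib.Coprime.exists_centralizer_smul hS hcop.symm (Or.inl hsolv)
    (ω := (⟨a⟩ : CPt Γ)) (hfx a ha) hk (fun s hs => by rw [cpt_smul k, h]; exact hfx b hb s hs)
  exact ⟨c, hc, (congrArg CPt.val hce).trans h⟩

include hS hcop hsolv in
/-- Real invariant classes are the real classes of the fixed points. -/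
theorem card_real_fixed_classes :
    Nat.card {C : ConjClasses (fix K S) // ∀ c, ConjClasses.mk c = C → IsConj c c⁻¹} =
      Nat.card {C : ConjClasses K // (∀ k : K, ConjClasses.mk k = C → IsConj k k⁻¹) ∧
        ∀ k : K, ConjClasses.mk k = C → ∀ x ∈ S, ∀ k' : K, (k' : Γ) = x * (k : Γ) * x⁻¹ →
          ConjClasses.mk k' = C} := by
  classical
  have hle : fix K S ≤ K := inf_le_left
  set j := Subgroup.inclusion hle with hj
  have hfixed : ∀ c : ↥(fix K S), ∀ k : K, ConjClasses.mk k = ConjClasses.mk (j c) → ∀ x ∈ S,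
      ∀ k' : K, (k' : Γ) = x * (k : Γ) * x⁻¹ → ConjClasses.mk k' = ConjClasses.mk (j c) := by
    intro c k hk x hx k' e
    obtain ⟨y, hy⟩ := isConj_iff.mp (ConjClasses.mk_eq_mk_iff_isConj.mp hk)
    have hy' : (y : Γ) * k * (y : Γ)⁻¹ = c := congrArg Subtype.val hy
    refine ConjClasses.mk_eq_mk_iff_isConj.mpr (isConj_iff.mpr
      ⟨⟨x * y * x⁻¹, (Subgroup.mem_normalizer_iff.mp (hS hx) _).mp y.2⟩, Subtype.ext ?_⟩)
    show x * (y : Γ) * x⁻¹ * k' * (x * (y : Γ) * x⁻¹)⁻¹ = c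
    rw [e, show x * (y : Γ) * x⁻¹ * (x * k * x⁻¹) * (x * (y : Γ) * x⁻¹)⁻¹ =
      x * ((y : Γ) * k * (y : Γ)⁻¹) * x⁻¹ by group, hy',
      Subgroup.mem_centralizer_iff.mp (Subgroup.mem_inf.mp c.2).2 x hx, mul_inv_cancel_right]
  have hconj : ∀ a b : ↥(fix K S), IsConj (j a) (j b) → IsConj a b := fun a b hab => by
    obtain ⟨k, hk⟩ := isConj_iff.mp hab
    obtain ⟨c, hc, e⟩ := exists_fix_conj hS hcop hsolv a.2 b.2 k.2 (congrArg Subtype.val hk)
    exact isConj_iff.mpr ⟨⟨c, hc⟩, Subtype.ext e⟩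
  refine Nat.card_eq_of_bijective (fun C => ⟨C.1.map j, ?_⟩) ⟨fun A B hAB => ?_, fun C => ?_⟩
  · obtain ⟨c, hc⟩ := ConjClasses.exists_rep C.1
    have e : C.1.map j = ConjClasses.mk (j c) := by rw [← hc]; rfl
    rw [e]
    refine ⟨fun k hk => ?_, hfixed c⟩
    have h1 : IsConj (j c) (j c)⁻¹ := by
      rw [← map_inv]; exact MonoidHom.map_isConj j (C.2 c hc)
    have h2 := ConjClasses.mk_eq_mk_iff_isConj.mp hk
    refine h2.trans (h1.trans ?_)
    obtain ⟨y, hy⟩ := isConj_iff.mp h2.symm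
    exact isConj_iff.mpr ⟨y, by rw [← hy]; group⟩
  · obtain ⟨a, ha⟩ := ConjClasses.exists_rep A.1
    obtain ⟨b, hb⟩ := ConjClasses.exists_rep B.1
    have e := congrArg Subtype.val hAB
    simp only [← ha, ← hb] at e
    exact Subtype.ext (by
      rw [← ha, ← hb]
      exact ConjClasses.mk_eq_mk_iff_isConj.mpr (hconj a b (ConjClasses.mk_eq_mk_iff_isConj.mp e)))
  · obtain ⟨g, hg⟩ := ConjClasses.exists_rep C.1
    obtain ⟨k, hk, hkf⟩ := exists_conj_mem_fix hS hcop hsolv g.2 fun s hs => by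
      obtain ⟨y, hy⟩ := isConj_iff.mp (ConjClasses.mk_eq_mk_iff_isConj.mp
        (hg.trans (C.2.2 g hg s hs ⟨s * g * s⁻¹,
          (Subgroup.mem_normalizer_iff.mp (hS hs) _).mp g.2⟩ rfl).symm))
      exact ⟨y, y.2, (congrArg Subtype.val hy).symm⟩
    set c : ↥(fix K S) := ⟨k * g * k⁻¹, hkf⟩ with hc
    have e : ConjClasses.mk (j c) = C.1 := by
      rw [← hg]
      exact (ConjClasses.mk_eq_mk_iff_isConj.mpr (isConj_iff.mpr ⟨⟨k, hk⟩, Subtype.ext rfl⟩)).symm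
    refine ⟨⟨ConjClasses.mk c, fun d hd => ?_⟩, Subtype.ext e⟩
    have h1 : IsConj (j c) (j c⁻¹) := by rw [map_inv]; exact C.2.1 (j c) e
    have h2 := ConjClasses.mk_eq_mk_iff_isConj.mp hd
    refine h2.trans ((hconj _ _ h1).trans ?_)
    obtain ⟨y, hy⟩ := isConj_iff.mp h2.symm
    exact isConj_iff.mpr ⟨y, by rw [← hy]; group⟩

/-- Real invariant characters correspond to real characters of the fixed points. -/
theorem card_real_invariant {Γ : Type*} [Group Γ] [Fintype Γ] {K P : Subgroup Γ} {p : ℕ}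
    (hp : p.Prime) (hP : IsPGroup p P) (hK : ¬ p ∣ Nat.card K)
    (hPK : P ≤ Subgroup.normalizer (K : Set Γ)) :
    Nat.card {θ : IrrCharacter K // (∀ k : K, ((θ : K → ℂ) k).im = 0) ∧ Inv K P (θ : K → ℂ)} =
      Nat.card {β : IrrCharacter (fix K P) // ∀ c, ((β : fix K P → ℂ) c).im = 0} := by
  classical
  haveI := Fact.mk hp
  haveI := Fintype.ofFinite K
  haveI := Fintype.ofFinite (fix K P)
  obtain ⟨a, ha⟩ := IsPGroup.iff_card.mp hP
  obtain ⟨F, hF, hI⟩ := hasCorr_of_isPGroup hp (G := K) (Nat.card P) P rfl hPK hP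
    (by rw [ha]; exact ((hp.coprime_iff_not_dvd.mpr hK).pow_left a).symm) (fix K P) inf_le_left rfl
  have hconj : ∀ χ : {χ : IrrCharacter K // Inv K P (χ : K → ℂ)},
      ∃ χ' : {χ : IrrCharacter K // Inv K P (χ : K → ℂ)},
        (χ'.1 : K → ℂ) = (fun k => conj ((χ.1 : K → ℂ) k)) ∧
        (F χ' : fix K P → ℂ) = fun c => conj ((F χ : fix K P → ℂ) c) := by
    intro χ
    refine ⟨⟨conjPerm χ.1, fun s hs g g' e => ?_⟩, funext fun k => conjPerm_apply χ.1 k, ?_⟩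
    · rw [conjPerm_apply, conjPerm_apply, χ.2 s hs g g' e]
    · funext c
      rw [← conjPerm_apply (F χ) c]
      refine congrArg (fun b : IrrCharacter (fix K P) => (b : fix K P → ℂ) c) ?_
      obtain ⟨m, hm, hnd⟩ := (hI χ).multiplicity hp (isCharacter_of_isIrr χ.1.2)
      refine ((hI _).eq_of_not_dvd (m := m) ?_ hnd).symm
      rw [← Complex.conj_natCast m, ← hm]
      simp only [classInner, res, conjPerm_apply, map_mul, map_sum, map_inv₀, map_natCast,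
        Complex.conj_conj]
  refine Nat.card_eq_of_bijective (fun θ => ⟨F ⟨θ.1, θ.2.2⟩, fun c => ?_⟩) ⟨fun x y e => ?_, fun β => ?_⟩
  · obtain ⟨χ', h1, h2⟩ := hconj ⟨θ.1, θ.2.2⟩
    have e : χ' = ⟨θ.1, θ.2.2⟩ := Subtype.ext (Subtype.ext (h1.trans (funext fun k =>
      Complex.conj_eq_iff_im.mpr (θ.2.1 k))))
    rw [e] at h2
    exact Complex.conj_eq_iff_im.mp (congrFun h2 c).symm
  · exact Subtype.ext (congrArg (fun z : {χ : IrrCharacter K // Inv K P (χ : K → ℂ)} => z.1)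
      (hF.1 (congrArg Subtype.val e)))
  · obtain ⟨χ, hχ⟩ := hF.2 β.1
    obtain ⟨χ', h1, h2⟩ := hconj χ
    have e : χ' = χ := hF.1 (Subtype.ext (h2.trans (funext fun c => by
      rw [hχ]; exact Complex.conj_eq_iff_im.mpr (β.2 c))))
    rw [e] at h1
    exact ⟨⟨χ.1, fun k => Complex.conj_eq_iff_im.mp (congrFun h1 k).symm, χ.2⟩, Subtype.ext hχ⟩

end CfsgLib.Char.Glauberman
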