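import Cfsg.Agent.Lib.Char.GlaubermanPGroup

/-!
# Compatibility of the `p`-group correspondence with invariant normal subgroups

If `N ⊴ G` is `S`-invariant then an invariant `χ` of `G` lies over an invariant `θ` of `N` iff the
correspondent of `χ` lies over the correspondent of `θ`.
-/

set_option autoImplicit false
set_option linter.unusedSectionVars false

namespace CfsgLib.Char.Glauberman

open Cfsg
open scoped ComplexConjugate CfsgLib.Char

universe u
variable {Γ : Type u} [Group Γ]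

/-- Weighted fixed point congruence for a `p`-group. -/
theorem sum_modEq_sum_fixed {p : ℕ} [Fact p.Prime] {P : Type*} [Group P] [Finite P] (hP : IsPGroup p P)
    {X : Type*} [Fintype X] [MulAction P X] (f : X → ℕ) (hf : ∀ (s : P) (x : X), f (s • x) = f x)
    [DecidablePred fun x : X => ∀ s : P, s • x = x] :
    ∑ x, f x ≡ ∑ x ∈ Finset.univ.filter (fun x : X => ∀ s : P, s • x = x), f x [MOD p] := by
  classical
  letI : MulAction P (Σ x : X, Fin (f x)) :=
    { smul := fun s y => ⟨s • y.1, Fin.cast (hf s y.1).symm y.2⟩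
      one_smul := by
        rintro ⟨x, i⟩
        refine Sigma.ext (one_smul P x) ?_
        exact (Fin.heq_ext_iff (congrArg f (one_smul P x))).mpr rfl
      mul_smul := by
        rintro a b ⟨x, i⟩
        refine Sigma.ext (mul_smul a b x) ?_
        exact (Fin.heq_ext_iff (congrArg f (mul_smul a b x))).mpr rfl }
  have h1 := hP.card_modEq_card_fixedPoints (α := Σ x : X, Fin (f x))
  have e : Nat.card (MulAction.fixedPoints P (Σ x : X, Fin (f x))) =
      ∑ x ∈ Finset.univ.filter (fun x : X => ∀ s : P, s • x = x), f x := by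
    have e1 : MulAction.fixedPoints P (Σ x : X, Fin (f x)) =
        {y | ∀ s : P, s • y.1 = y.1} := by
      ext ⟨x, i⟩
      simp only [MulAction.mem_fixedPoints, Set.mem_setOf_eq]
      refine forall_congr' fun s => ⟨fun h => congrArg Sigma.fst h, fun h => ?_⟩
      refine Sigma.ext h ?_
      exact (Fin.heq_ext_iff (congrArg f h)).mpr rfl
    rw [e1]
    refine (Nat.card_congr (Equiv.subtypeSigmaEquiv (fun x => Fin (f x))
      (fun x : X => ∀ s : P, s • x = x))).trans ?_
    rw [Nat.card_sigma]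
    simp only [Nat.card_eq_fintype_card, Fintype.card_fin]
    exact (Finset.sum_subtype _ (fun x => by simp) f).symm
  rw [e] at h1
  simpa using h1

variable [Fintype Γ]

section

variable {G N : Subgroup Γ} [Fintype G] [Fintype N] (hNG : N ≤ G)
  (hGN : G ≤ Subgroup.normalizer (N : Set Γ))

include hGN in
/-- Constituents of the restriction to an invariant subgroup are conjugate. -/
theorem exists_conj_constituent {χ : G → ℂ} (hχ : IsIrrCharacter G χ) {θ φ : N → ℂ}
    (hθ : IsIrrCharacter N θ) (hφ : IsIrrCharacter N φ) (hcθ : classInner (res hNG χ) θ ≠ 0)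
    (hcφ : classInner (res hNG χ) φ ≠ 0) :
    ∃ (g : Γ) (hg : g ∈ G), φ = fun n => θ (conjEquiv (hGN hg) n) := by
  classical
  haveI : (N.subgroupOf G).Normal := (Subgroup.normal_subgroupOf_iff_le_normalizer hNG).mpr hGN
  set e := Subgroup.subgroupOfEquivOfLe hNG with he
  have h : ∀ ψ : N → ℂ, classInner (fun n : N.subgroupOf G => χ n) (fun n => ψ (e n)) =
      classInner (res hNG χ) ψ := fun ψ => classInner_comp_mulEquiv e (res hNG χ) ψ
  obtain ⟨g, hg⟩ := exists_conjBy_of_constituents (N.subgroupOf G) hχ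
    (isIrrCharacter_comp_mulEquiv e hθ) (isIrrCharacter_comp_mulEquiv e hφ)
    (by rw [h]; exact hcθ) (by rw [h]; exact hcφ)
  refine ⟨g, g.2, funext fun n => ?_⟩
  have := congrFun hg (e.symm n)
  simp only [MulEquiv.apply_symm_apply] at this
  exact this.symm

include hGN in
/-- The multiplicity in the restriction to a normal subgroup divides the order of the group. -/
theorem multiplicity_dvd {χ : G → ℂ} (hχ : IsIrrCharacter G χ) {θ : N → ℂ}
    (hθ : IsIrrCharacter N θ) {m : ℕ} (hm : classInner (res hNG χ) θ = m) (hm0 : m ≠ 0) :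
    m ∣ Nat.card G := by
  classical
  haveI : (N.subgroupOf G).Normal := (Subgroup.normal_subgroupOf_iff_le_normalizer hNG).mpr hGN
  set e := Subgroup.subgroupOfEquivOfLe hNG with he
  have h : classInner (fun n : N.subgroupOf G => χ n) (fun n => θ (e n)) = m :=
    (classInner_comp_mulEquiv e (res hNG χ) θ).trans hm
  have hd := clifford_degree (N.subgroupOf G) hχ (isIrrCharacter_comp_mulEquiv e hθ)
    (by rw [h]; exact Nat.cast_ne_zero.mpr hm0)
  obtain ⟨d, hd1, -, hdd⟩ := exists_degree_dvd_card hχ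
  obtain ⟨t, ht, -, -⟩ := exists_degree_dvd_card (isIrrCharacter_comp_mulEquiv e hθ)
  rw [h, hd1, ht] at hd
  exact (Dvd.intro _ (by exact_mod_cast hd.symm : m * ((orbit _ _).card * t) = d)).trans hdd

end

variable {p : ℕ} [hp : Fact p.Prime] {G N C D S : Subgroup Γ} [Fintype G] [Fintype N] [Fintype C]
  [Fintype D]

/-- Conjugation action of a normalising subgroup on irreducible characters. -/
@[reducible] noncomputable def charAction (hS : S ≤ Subgroup.normalizer (N : Set Γ)) :
    MulAction S (IrrCharacter N) where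
  smul s φ := ⟨fun n => (φ : N → ℂ) ((conjEquiv (hS s.2)).symm n), isIrrCharacter_comp_mulEquiv _ φ.2⟩
  one_smul φ := Subtype.ext (funext fun n => congrArg (φ : N → ℂ) (Subtype.ext (by simp [conjEquiv])))
  mul_smul a b φ := Subtype.ext (funext fun n =>
    congrArg (φ : N → ℂ) (Subtype.ext (by simp [conjEquiv, mul_assoc])))

theorem classInner_res_conj (hNG : N ≤ G) {χ : G → ℂ} (φ : N → ℂ) {y : Γ}
    (hyG : y ∈ Subgroup.normalizer (G : Set Γ)) (hyN : y ∈ Subgroup.normalizer (N : Set Γ)) :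
    classInner (res hNG fun g => χ (conjEquiv hyG g)) (fun n => φ (conjEquiv hyN n)) =
      classInner (res hNG χ) φ :=
  classInner_comp_mulEquiv (conjEquiv hyN) (res hNG χ) φ

theorem inv_iff_fixed (hS : S ≤ Subgroup.normalizer (N : Set Γ)) (φ : IrrCharacter N) :
    (∀ s : S, @HSMul.hSMul S _ _ (@instHSMul _ _ (charAction hS).toSMul) s φ = φ) ↔
      Inv N S (φ : N → ℂ) := by
  letI := charAction hS
  refine ⟨fun h s hs g g' e => ?_, fun h s => Subtype.ext (funext fun n => ?_)⟩
  · have h1 := congrFun (congrArg Subtype.val (h ⟨s, hs⟩)) g'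
    refine h1.symm.trans (congrArg (φ : N → ℂ) (Subtype.ext ?_))
    show s⁻¹ * (g' : Γ) * s = g
    rw [e]; group
  · refine h (s : Γ)⁻¹ (inv_mem s.2) n _ ?_
    show (s : Γ)⁻¹ * (n : Γ) * s = _
    rw [inv_inv]

/-- **Compatibility** of the correspondence with an invariant normal subgroup. -/
theorem isCorr_compat (hNG : N ≤ G) (hGN : G ≤ Subgroup.normalizer (N : Set Γ))
    (hSG : S ≤ Subgroup.normalizer (G : Set Γ)) (hSN : S ≤ Subgroup.normalizer (N : Set Γ))
    (hpS : IsPGroup p S) (hcop : ¬ p ∣ Nat.card G) (hCG : C ≤ G) (hDN : D ≤ N) (hDC : D ≤ C)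
    (hCD : C ≤ Subgroup.normalizer (D : Set Γ)) (hCS : ∀ c ∈ C, ∀ s ∈ S, c * s = s * c)
    {FN : {θ : IrrCharacter N // Inv N S (θ : N → ℂ)} → IrrCharacter D}
    (hinj : Function.Injective FN) (hFN : ∀ θ, IsCorr p hDN ((θ.1 : IrrCharacter N) : N → ℂ) (FN θ))
    {χ : IrrCharacter G} (hχ : Inv G S (χ : G → ℂ)) {β : IrrCharacter C}
    (hβ : IsCorr p hCG (χ : G → ℂ) β) (θ : {θ : IrrCharacter N // Inv N S (θ : N → ℂ)}) :
    classInner (res hNG (χ : G → ℂ)) (θ.1 : N → ℂ) ≠ 0 ↔
      classInner (res hDC (β : C → ℂ)) (FN θ : D → ℂ) ≠ 0 := by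
  classical
  letI := charAction hSN
  choose a ha using fun φ : IrrCharacter N => exists_nat_classInner
    (isCharacter_res hNG (isCharacter_of_isIrr χ.2)) (isCharacter_of_isIrr φ.2)
  have hfix : ∀ (s : S) (φ : IrrCharacter N), a (s • φ) = a φ := by
    intro s φ
    have e : (fun g => (χ : G → ℂ) (conjEquiv (hSG s.2) g)) = χ :=
      funext fun g => hχ s s.2 _ _ rfl
    have e2 : (fun n => ((s • φ : IrrCharacter N) : N → ℂ) (conjEquiv (hSN s.2) n)) = φ :=
      funext fun n => congrArg (φ : N → ℂ) (MulEquiv.symm_apply_apply _ n)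
    have := classInner_res_conj hNG (χ := (χ : G → ℂ)) ((s • φ : IrrCharacter N) : N → ℂ)
      (hSG s.2) (hSN s.2)
    rw [e, e2, ha, ha, Nat.cast_inj] at this
    exact this.symm
  have hexp : res hNG (χ : G → ℂ) = ∑ φ : IrrCharacter N, (a φ : ℂ) • (φ : N → ℂ) := by
    refine (classFunction_expansion (isClassFunction_of_isCharacter
      (isCharacter_res hNG (isCharacter_of_isIrr χ.2)))).trans (Finset.sum_congr rfl fun φ _ => ?_)
    rw [ha]
  -- an invariant constituent
  obtain ⟨θ0, hθ0⟩ : ∃ θ0 : {θ : IrrCharacter N // Inv N S (θ : N → ℂ)}, a θ0.1 ≠ 0 := by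
    choose d hd hd' hdd using fun φ : IrrCharacter N => exists_degree_dvd_card φ.2
    obtain ⟨e, he, -, hed⟩ := exists_degree_dvd_card χ.2
    have hsum : ∑ φ, a φ * d φ = e := by
      have h1 := congrFun hexp 1
      simp only [res, Finset.sum_apply, Pi.smul_apply, smul_eq_mul, hd] at h1
      have : (χ : G → ℂ) 1 = (e : ℂ) := he
      rw [show (⟨((1 : N) : Γ), hNG (1 : N).2⟩ : G) = 1 from rfl, this] at h1
      exact_mod_cast h1.symm
    have hmod := sum_modEq_sum_fixed hpS (fun φ => a φ * d φ) fun s φ => by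
      show a (s • φ) * d (s • φ) = a φ * d φ
      congr 1
      · exact hfix s φ
      · have h1 := hd (s • φ)
        rw [show ((s • φ : IrrCharacter N) : N → ℂ) 1 = (φ : N → ℂ) 1 from
          congrArg (φ : N → ℂ) (map_one _), hd, Nat.cast_inj] at h1
        exact h1.symm
    by_contra h
    push_neg at h
    rw [hsum, Finset.sum_eq_zero fun φ hφ => by
      rw [Finset.mem_filter] at hφ
      rw [h ⟨φ, (inv_iff_fixed hSN φ).mp hφ.2⟩, zero_mul]] at hmod
    exact hcop ((Nat.modEq_zero_iff_dvd.mp hmod).trans hed)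
  -- forward direction
  have fwd : ∀ θ : {θ : IrrCharacter N // Inv N S (θ : N → ℂ)}, a θ.1 ≠ 0 →
      classInner (res hDC (β : C → ℂ)) (FN θ : D → ℂ) ≠ 0 := by
    intro θ hθ h0
    choose k hk using fun φ : IrrCharacter N => exists_nat_classInner
      (isCharacter_res hDN (isCharacter_of_isIrr φ.2)) (isCharacter_of_isIrr (FN θ).2)
    have hk' : ∀ (s : S) (φ : IrrCharacter N), k (s • φ) = k φ := by
      intro s φ
      have : res hDN ((s • φ : IrrCharacter N) : N → ℂ) = res hDN (φ : N → ℂ) := by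
        funext d
        refine congrArg (φ : N → ℂ) (Subtype.ext ?_)
        show (s : Γ)⁻¹ * (d : Γ) * s = d
        rw [mul_assoc, hCS d (hDC d.2) s s.2, inv_mul_cancel_left]
      have h1 := hk (s • φ)
      rw [this, hk, Nat.cast_inj] at h1
      exact h1.symm
    obtain ⟨b, hb⟩ := exists_multiplicities (isCharacter_res hCG (isCharacter_of_isIrr χ.2))
    choose q hq using fun γ : IrrCharacter C => exists_nat_classInner
      (isCharacter_res hDC (isCharacter_of_isIrr γ.2)) (isCharacter_of_isIrr (FN θ).2)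
    have e1 : classInner (res (hDN.trans hNG) (χ : G → ℂ)) (FN θ : D → ℂ) =
        ((∑ φ, a φ * k φ : ℕ) : ℂ) := by
      rw [show res (hDN.trans hNG) (χ : G → ℂ) =
          ∑ φ : IrrCharacter N, (a φ : ℂ) • res hDN (φ : N → ℂ) from funext fun d => by
        have := congrFun hexp ⟨d, hDN d.2⟩
        simpa [res, Finset.sum_apply] using this, classInner_sum_left]
      simp [classInner_smul_left, hk]
    have e2 : classInner (res (hDC.trans hCG) (χ : G → ℂ)) (FN θ : D → ℂ) =
        ((∑ γ, b γ * q γ : ℕ) : ℂ) := by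
      rw [show res (hDC.trans hCG) (χ : G → ℂ) =
          ∑ γ : IrrCharacter C, (b γ : ℂ) • res hDC (γ : C → ℂ) from funext fun d => by
        have := congrFun hb ⟨d, hDC d.2⟩
        simpa [res, Finset.sum_apply] using this, classInner_sum_left]
      simp [classInner_smul_left, hq]
    have hEq : ∑ φ, a φ * k φ = ∑ γ, b γ * q γ := Nat.cast_inj.mp (e1.symm.trans e2)
    have hR : p ∣ ∑ γ, b γ * q γ := Finset.dvd_sum fun γ _ => by
      by_cases hg : γ = β
      · subst hg
        rw [hq, Nat.cast_eq_zero] at h0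
        simp [h0]
      · exact dvd_mul_of_dvd_left ((hβ γ (b γ) (by rw [hb, classInner_sum_smul_irr])).1 hg) _
    have hmod := sum_modEq_sum_fixed hpS (fun φ => a φ * k φ) fun s φ => by
      show a (s • φ) * k (s • φ) = a φ * k φ
      rw [hfix, hk']
    rw [hEq, ← Finset.add_sum_erase _ _ (show θ.1 ∈ _ from
      Finset.mem_filter.mpr ⟨Finset.mem_univ _, (inv_iff_fixed hSN θ.1).mpr θ.2⟩)] at hmod
    have hrest : p ∣ ∑ φ ∈ (Finset.univ.filter fun φ : IrrCharacter N =>
        ∀ s : S, s • φ = φ).erase θ.1, a φ * k φ := by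
      refine Finset.dvd_sum fun φ hφ => ?_
      rw [Finset.mem_erase, Finset.mem_filter] at hφ
      refine dvd_mul_of_dvd_right ((hFN ⟨φ, (inv_iff_fixed hSN φ).mp hφ.2.2⟩ (FN θ) (k φ) (hk φ)).1
        fun e => hφ.1 ?_) _
      exact congrArg Subtype.val (hinj e).symm
    have h3 : p ∣ a θ.1 * k θ.1 :=
      (Nat.dvd_add_left hrest).mp
        (Nat.modEq_zero_iff_dvd.mp (hmod.symm.trans (Nat.modEq_zero_iff_dvd.mpr hR)))
    rcases (Nat.Prime.dvd_mul hp.out).mp h3 with h4 | h4
    · exact hcop (h4.trans (multiplicity_dvd hNG hGN χ.2 θ.1.2 (ha θ.1) hθ))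
    · exact not_dvd_of_sign hp.out ((hFN θ (FN θ) (k θ.1) (hk θ.1)).2 rfl) h4
  refine ⟨fun h => fwd θ (by rw [ha, Nat.cast_ne_zero] at h; exact h), fun h => ?_⟩
  obtain ⟨c, hc, hce⟩ := exists_conj_constituent hDC hCD β.2 (FN θ0).2 (FN θ).2 (fwd θ0 hθ0) h
  have hcN : c ∈ Subgroup.normalizer (N : Set Γ) := hGN (hCG hc)
  set θ1 : IrrCharacter N :=
    ⟨fun n => (θ0.1 : N → ℂ) (conjEquiv hcN n), isIrrCharacter_comp_mulEquiv _ θ0.1.2⟩ with hθ1
  have hi : Inv N S (θ1 : N → ℂ) := by
    intro s hs g g' e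
    refine θ0.2 s hs _ _ ?_
    show c * (g' : Γ) * c⁻¹ = s * (c * (g : Γ) * c⁻¹) * s⁻¹
    have h1 := hCS c hc s hs
    have h2 : s⁻¹ * c⁻¹ = c⁻¹ * s⁻¹ := by rw [← mul_inv_rev, ← mul_inv_rev, h1]
    rw [e, show s * (c * (g : Γ) * c⁻¹) * s⁻¹ = (s * c) * g * (c⁻¹ * s⁻¹) by group, ← h1, ← h2]
    group
  have hF1 : FN ⟨θ1, hi⟩ = FN θ := by
    refine (((hFN θ0).conj hcN (hCD hc)).unique hp.out (isCharacter_of_isIrr θ1.2)
      (hFN ⟨θ1, hi⟩)).trans ?_
    exact Subtype.ext hce.symm
  have e : θ.1 = θ1 := congrArg Subtype.val (hinj hF1).symm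
  have e3 : (fun g => (χ : G → ℂ) (conjEquiv (Subgroup.le_normalizer (hCG hc)) g)) = χ :=
    funext fun g => isClassFunction_of_isCharacter (isCharacter_of_isIrr χ.2) g ⟨c, hCG hc⟩
  have h5 := classInner_res_conj hNG (χ := (χ : G → ℂ)) (θ0.1 : N → ℂ)
    (Subgroup.le_normalizer (hCG hc)) hcN
  rw [e3] at h5
  rw [e, hθ1]
  show classInner _ (fun n => (θ0.1 : N → ℂ) (conjEquiv hcN n)) ≠ 0
  rw [h5, ha, Nat.cast_ne_zero]
  exact hθ0

end CfsgLib.Char.Glauberman
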