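import Cfsg.Agent.Lib.Char.ExtensionCoset
import Cfsg.Agent.Lib.Char.Twist

/-!
# Cyclic coprime action: the coset of a generator

`N` is normal in `Γ`, `Γ = N⟨s⟩`, `orderOf s` is prime to `|N|` and `C = C_N(s)`. Class functions are
summed over `Ns` by summing over `Cs`; extensions of different irreducible characters are
orthogonal there, and `c ↦ χ(c sⁱ)` has coefficients which are evaluations of one polynomial with
natural coefficients at powers of a root of unity.
-/

set_option autoImplicit false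
set_option linter.unusedSectionVars false

namespace CfsgLib.Char.Glauberman

open Cfsg
open scoped ComplexConjugate CfsgLib.Char

variable {Γ : Type*} [Group Γ] [Fintype Γ] {N C : Subgroup Γ} {s : Γ}

theorem exists_pow_eq_left (hcop : (Nat.card N).Coprime (orderOf s)) :
    ∃ k : ℕ, s ^ k = s ∧ ∀ c ∈ N, c ^ k = 1 := by
  obtain ⟨k, h1, h2⟩ := Nat.chineseRemainder hcop.symm 1 0
  refine ⟨k, ?_, fun c hc => ?_⟩
  · conv_rhs => rw [← pow_one s]
    exact pow_eq_pow_iff_modEq.mpr h1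
  · exact orderOf_dvd_iff_pow_eq_one.mp
      ((Subgroup.orderOf_dvd_natCard _ hc).trans (Nat.modEq_zero_iff_dvd.mp h2))

/-- An element conjugating `cs` to `c's` fixes `s` and conjugates `c` to `c'`. -/
theorem conj_split (hC : ∀ c, c ∈ C ↔ c ∈ N ∧ c * s = s * c)
    (hcop : (Nat.card N).Coprime (orderOf s)) {g c c' : Γ} (hc : c ∈ C) (hc' : c' ∈ C)
    (h : g * (c * s) * g⁻¹ = c' * s) : g * s = s * g ∧ g * c * g⁻¹ = c' := by
  obtain ⟨k, hk, hkN⟩ := exists_pow_eq_left hcop
  have e : ∀ d ∈ C, (d * s) ^ k = s := fun d hd => by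
    rw [Commute.mul_pow ((hC d).mp hd).2, hkN d ((hC d).mp hd).1, one_mul, hk]
  have h1 := congrArg (· ^ k) h
  simp only [conj_pow, e c hc, e c' hc'] at h1
  have h2 : g * s = s * g := by
    have := congrArg (· * g) h1
    simpa [mul_assoc] using this
  rw [show g * (c * s) * g⁻¹ = g * c * g⁻¹ * (g * s * g⁻¹) by group, h1] at h
  exact ⟨h2, mul_right_cancel h⟩

variable [Fintype N] [Fintype C] [hN : N.Normal]

/-- Summing a class function over the coset of `s` reduces to the centraliser of `s`. -/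
theorem card_mul_sum_coset (hC : ∀ c, c ∈ C ↔ c ∈ N ∧ c * s = s * c)
    (hcop : (Nat.card N).Coprime (orderOf s)) {F : Γ → ℂ} (hF : IsClassFunction Γ F) :
    (Nat.card C : ℂ) * ∑ n : N, F ((n : Γ) * s) = (Nat.card N : ℂ) * ∑ c : C, F ((c : Γ) * s) := by
  classical
  have hmem : ∀ p : N × C, (p.1 : Γ) * ((p.2 : Γ) * s) * (p.1 : Γ)⁻¹ * s⁻¹ ∈ N := by
    rintro ⟨n, c⟩
    rw [show (n : Γ) * ((c : Γ) * s) * (n : Γ)⁻¹ * s⁻¹ = n * (c * (s * (n : Γ)⁻¹ * s⁻¹)) by group]
    exact N.mul_mem n.2 (N.mul_mem ((hC c).mp c.2).1 (hN.conj_mem _ (N.inv_mem n.2) s))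
  set Φ : N × C → N := fun p => ⟨_, hmem p⟩ with hΦ
  have hfib : ∀ x : N, (Finset.univ.filter fun p => Φ p = x).card ≤ Fintype.card C := by
    intro x
    rcases (Finset.univ.filter fun p => Φ p = x).eq_empty_or_nonempty with h0 | ⟨⟨n0, c0⟩, h0⟩
    · rw [h0]; simp
    · rw [Finset.mem_filter] at h0
      have key : ∀ p ∈ Finset.univ.filter fun p => Φ p = x,
          (n0 : Γ)⁻¹ * p.1 ∈ C ∧ ((n0 : Γ)⁻¹ * p.1) * p.2 * ((n0 : Γ)⁻¹ * p.1)⁻¹ = (c0 : Γ) := by
        rintro ⟨n, c⟩ hp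
        rw [Finset.mem_filter] at hp
        have e : (n : Γ) * ((c : Γ) * s) * (n : Γ)⁻¹ * s⁻¹ =
            (n0 : Γ) * ((c0 : Γ) * s) * (n0 : Γ)⁻¹ * s⁻¹ :=
          congrArg Subtype.val (hp.2.trans h0.2.symm)
        have e' := mul_right_cancel e
        have h1 : ((n0 : Γ)⁻¹ * n) * ((c : Γ) * s) * ((n0 : Γ)⁻¹ * n)⁻¹ = c0 * s := by
          rw [show ((n0 : Γ)⁻¹ * n) * ((c : Γ) * s) * ((n0 : Γ)⁻¹ * n)⁻¹ =
            (n0 : Γ)⁻¹ * ((n : Γ) * ((c : Γ) * s) * (n : Γ)⁻¹) * n0 by group, e']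
          group
        obtain ⟨h2, h3⟩ := conj_split hC hcop c.2 c0.2 h1
        exact ⟨(hC _).mpr ⟨N.mul_mem (N.inv_mem n0.2) n.2, h2⟩, h3⟩
      refine (Finset.card_le_card_of_injOn (fun p => if h : (n0 : Γ)⁻¹ * p.1 ∈ C then
        (⟨_, h⟩ : C) else 1) (t := Finset.univ) (fun p _ => Finset.mem_univ _) ?_).trans
        (le_of_eq Finset.card_univ)
      intro p hp q hq e
      simp only [Finset.mem_coe] at hp hq
      simp only [dif_pos (key p hp).1, dif_pos (key q hq).1, Subtype.mk.injEq] at e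
      have h1 : (p.1 : Γ) = q.1 := mul_left_cancel e
      refine Prod.ext (Subtype.ext h1) (Subtype.ext ?_)
      have h2 := (key p hp).2.trans (key q hq).2.symm
      rw [h1] at h2
      exact mul_left_cancel (mul_right_cancel h2)
  have hfull : ∀ x : N, (Finset.univ.filter fun p => Φ p = x).card = Fintype.card C := fun x => by
    refine (Finset.sum_eq_sum_iff_of_le fun x _ => hfib x).mp ?_ x (Finset.mem_univ x)
    rw [← Finset.card_eq_sum_card_fiberwise (fun p _ => Finset.mem_univ (Φ p)), Finset.sum_const,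
      Finset.card_univ, Finset.card_univ, Fintype.card_prod, smul_eq_mul]
  have h1 : ∑ p : N × C, F ((p.2 : Γ) * s) = (Nat.card N : ℂ) * ∑ c : C, F ((c : Γ) * s) := by
    rw [Fintype.sum_prod_type]
    dsimp only
    rw [Finset.sum_const, Finset.card_univ, nsmul_eq_mul, Nat.card_eq_fintype_card]
  rw [← h1, Finset.mul_sum,
    ← Finset.sum_fiberwise_of_maps_to (t := Finset.univ) (fun p _ => Finset.mem_univ (Φ p))]
  refine Finset.sum_congr rfl fun x _ => ?_
  rw [Finset.sum_congr rfl (g := fun _ => F ((x : Γ) * s)), Finset.sum_const, hfull, nsmul_eq_mul,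
    Nat.card_eq_fintype_card]
  intro p hp
  rw [Finset.mem_filter] at hp
  rw [← hp.2, ← hF ((p.2 : Γ) * s) (p.1 : Γ)]
  simp [hΦ]

omit hN in
theorem isClassFunction_coset (hC : ∀ c, c ∈ C ↔ c ∈ N ∧ c * s = s * c) {F : Γ → ℂ}
    (hF : IsClassFunction Γ F) : IsClassFunction C (fun c => F ((c : Γ) * s)) := by
  intro c h
  show F ((h : Γ) * c * (h : Γ)⁻¹ * s) = F ((c : Γ) * s)
  conv_rhs => rw [← hF _ (h : Γ)]
  congr 1
  have e : s * (h : Γ)⁻¹ = (h : Γ)⁻¹ * s := (Commute.inv_left ((hC h).mp h.2).2).eq.symm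
  simp only [mul_assoc, e]

/-- Coset orthogonality transferred to the centraliser. -/
theorem classInner_coset (hC : ∀ c, c ∈ C ↔ c ∈ N ∧ c * s = s * c)
    (hcop : (Nat.card N).Coprime (orderOf s)) {θ θ' : N → ℂ} {η η' : Γ → ℂ}
    (hθ : IsIrrCharacter N θ) (hθ' : IsIrrCharacter N θ') (hη : IsIrrCharacter Γ η)
    (hη' : IsIrrCharacter Γ η') (hext : ∀ n : N, η n = θ n) (hext' : ∀ n : N, η' n = θ' n) :
    (θ ≠ θ' → classInner (fun c : C => η ((c : Γ) * s)) (fun c : C => η' ((c : Γ) * s)) = 0) ∧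
    classInner (fun c : C => η ((c : Γ) * s)) (fun c : C => η ((c : Γ) * s)) = 1 := by
  classical
  have hNc : (Nat.card N : ℂ) ≠ 0 := Nat.cast_ne_zero.mpr Nat.card_pos.ne'
  have hCc : (Nat.card C : ℂ) ≠ 0 := Nat.cast_ne_zero.mpr Nat.card_pos.ne'
  have key : ∀ η' : Γ → ℂ, IsIrrCharacter Γ η' →
      classInner (fun c : C => η ((c : Γ) * s)) (fun c : C => η' ((c : Γ) * s)) =
        avgN N (fun g => η g * conj (η' g)) s := by
    intro η' hη'
    have h := card_mul_sum_coset hC hcop (F := fun g => η g * conj (η' g)) fun g h => by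
      simp only [isClassFunction_of_isCharacter (isCharacter_of_isIrr hη) g h,
        isClassFunction_of_isCharacter (isCharacter_of_isIrr hη') g h]
    simp only [classInner, avgN]
    field_simp
    linear_combination h.symm
  refine ⟨fun hne => ?_, ?_⟩
  · rw [key η' hη', avgN_mul_conj_extension_eq_zero N hθ' hη' hext' (isCharacter_of_isIrr hη)
      (by rw [show (fun n : N => η n) = θ from funext hext, classInner_irr_ne hθ hθ' hne])]
    rfl
  · rw [key η hη, avgN_mul_conj_extension_self N hθ hη hext]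

omit [Fintype N] hN in
/-- The coefficient of `β` in `c ↦ χ(c sⁱ)` is a natural combination of powers of a root of unity. -/
theorem exists_eigen_multiplicity (hC : ∀ c ∈ C, c * s = s * c) {χ : Γ → ℂ}
    (hχ : IsCharacter Γ χ) {β : C → ℂ} (hβ : IsCharacter C β) {ω : ℂ}
    (hω : IsPrimitiveRoot ω (orderOf s)) :
    ∃ a : Fin (orderOf s) → ℕ, ∀ i : ℕ,
      classInner (fun c : C => χ ((c : Γ) * s ^ i)) β = ∑ j, (a j : ℂ) * (ω ^ i) ^ (j : ℕ) := by
  classical
  set m := orderOf s with hm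
  have hm0 : m ≠ 0 := (orderOf_pos s).ne'
  haveI := Fintype.ofFinite (Subgroup.zpowers s)
  set g0 : Subgroup.zpowers s := ⟨s, Subgroup.mem_zpowers s⟩ with hg0
  have hgen : ∀ x : Subgroup.zpowers s, x ∈ Subgroup.zpowers g0 := by
    rintro ⟨x, hx⟩
    obtain ⟨k, rfl⟩ := Subgroup.mem_zpowers_iff.mp hx
    exact Subgroup.mem_zpowers_iff.mpr ⟨k, Subtype.ext (by simp [hg0])⟩
  set u : ℂˣ := (hω.isUnit hm0).unit with hu
  have hord : orderOf g0 = m := by rw [hm, ← Subgroup.orderOf_coe]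
  have hu' : IsPrimitiveRoot u m := IsPrimitiveRoot.coe_units_iff.mp hω
  set μ : Subgroup.zpowers s →* ℂˣ := monoidHomOfForallMemZpowers hgen (g' := u)
    (by rw [hord, hu'.eq_orderOf]) with hμ
  have hμg : μ g0 = u := monoidHomOfForallMemZpowers_apply_gen _ _
  have hμi : ∀ i : ℕ, ((μ (g0 ^ i) : ℂˣ) : ℂ) = ω ^ i := fun i => by
    rw [map_pow, hμg]; simp [hu]
  have comm : ∀ (c : C) (x : Subgroup.zpowers s), Commute (c : Γ) (x : Γ) := by
    rintro c ⟨x, hx⟩
    obtain ⟨k, rfl⟩ := Subgroup.mem_zpowers_iff.mp hx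
    exact Commute.zpow_right (hC c c.2) k
  set f : C × Subgroup.zpowers s →* Γ :=
    C.subtype.noncommCoprod (Subgroup.zpowers s).subtype comm with hf
  choose a ha using fun j : Fin m => exists_nat_classInner (isCharacter_comp f hχ)
    (isCharacter_mul (isCharacter_comp (MonoidHom.fst C (Subgroup.zpowers s)) hβ)
      (isCharacter_monoidHom ((μ.comp (MonoidHom.snd C (Subgroup.zpowers s))) ^ (j : ℕ))))
  refine ⟨a, fun i => ?_⟩
  simp only [← ha, classInner, Pi.mul_apply, MonoidHom.pow_apply, MonoidHom.comp_apply,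
    MonoidHom.coe_fst, MonoidHom.coe_snd, Units.val_pow_eq_pow_val, map_mul, map_pow,
    Finset.mul_sum, Finset.sum_mul, Fintype.sum_prod_type]
  rw [Finset.sum_comm]
  refine Finset.sum_congr rfl fun c _ => ?_
  rw [Finset.sum_comm, Nat.card_prod]
  have hz : ∀ x : Subgroup.zpowers s, ∑ j : Fin m, (conj ((μ x : ℂˣ) : ℂ) * ω ^ i) ^ (j : ℕ) =
      if x = g0 ^ i then (m : ℂ) else 0 := by
    intro x
    obtain ⟨l, rfl⟩ : ∃ l : ℕ, g0 ^ l = x := by
      have := (mem_powers_iff_mem_zpowers).mpr (hgen x)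
      exact this
    have hn : ‖ω‖ = 1 := Complex.norm_eq_one_of_pow_eq_one hω.pow_eq_one hm0
    rw [hμi, map_pow, ← Complex.inv_eq_conj hn, inv_pow]
    split_ifs with h
    · have h2 : ω ^ l = ω ^ i := by
        rw [← hμi l, ← hμi i, h]
      rw [h2, inv_mul_cancel₀ (pow_ne_zero _ (hω.ne_zero hm0))]
      simp
    · rw [Fin.sum_univ_eq_sum_range (fun j => ((ω ^ l)⁻¹ * ω ^ i) ^ j),
        geom_sum_eq, mul_pow, inv_pow, ← pow_mul, ← pow_mul, mul_comm l, mul_comm i, pow_mul,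
        pow_mul, hω.pow_eq_one]
      · simp
      · intro h1
        apply h
        rw [pow_eq_pow_iff_modEq, hord]
        have h2 : ω ^ l = ω ^ i := by
          have h3 := congrArg (fun z => ω ^ l * z) h1
          simp only [mul_one] at h3
          rw [← mul_assoc, mul_inv_cancel₀ (pow_ne_zero _ (hω.ne_zero hm0)), one_mul] at h3
          exact h3.symm
        have h4 := congrArg (fun z : ℂ => z) h2
        rw [← hμi l, ← hμi i] at h4
        have h5 : u ^ l = u ^ i := by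
          rw [← hμg, ← map_pow, ← map_pow]; exact Units.ext h4
        rw [pow_eq_pow_iff_modEq, ← hu'.eq_orderOf] at h5
        exact h5
  have hsum : ∀ x : Subgroup.zpowers s,
      ∑ j : Fin m, ((Nat.card C * Nat.card (Subgroup.zpowers s) : ℕ) : ℂ)⁻¹ *
          (χ (f (c, x)) * (conj (β c) * conj ((μ x : ℂˣ) : ℂ) ^ (j : ℕ))) * (ω ^ i) ^ (j : ℕ) =
        ((Nat.card C * Nat.card (Subgroup.zpowers s) : ℕ) : ℂ)⁻¹ * (χ (f (c, x)) * conj (β c)) *
          if x = g0 ^ i then (m : ℂ) else 0 := by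
    intro x
    rw [← hz x, Finset.mul_sum]
    exact Finset.sum_congr rfl fun j _ => by rw [mul_pow]; ring
  rw [Finset.sum_congr rfl fun x _ => hsum x]
  simp only [mul_ite, mul_zero, Finset.sum_ite_eq', Finset.mem_univ, if_true]
  rw [Nat.card_zpowers, ← hm]
  have hmc : (m : ℂ) ≠ 0 := Nat.cast_ne_zero.mpr hm0
  rw [show f (c, g0 ^ i) = (c : Γ) * s ^ i from rfl]
  push_cast
  field_simp

end CfsgLib.Char.Glauberman
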