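import Cfsg.Agent.Lib.Char.GlaubermanCoset
import Cfsg.Agent.Lib.Char.CanonicalExtension

/-!
# The Glauberman correspondence for a cyclic group

On the coset of the generator the canonical extensions of the invariant irreducible characters of
`N` are, up to sign, exactly the irreducible characters of `C = C_N(s)`; when `orderOf s` is a power
of `p` the sign is the multiplicity modulo `p`.
-/

set_option autoImplicit false
set_option linter.unusedSectionVars false

namespace CfsgLib.Char.Glauberman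

open Cfsg CfsgLib.Char.Canonical
open scoped ComplexConjugate CfsgLib.Char

variable {Γ : Type*} [Group Γ] [Fintype Γ] {N C : Subgroup Γ} {s : Γ}
  [Fintype N] [Fintype C] [hN : N.Normal]
  (htop : N ⊔ Subgroup.zpowers s = ⊤) (hcop : (Nat.card N).Coprime (orderOf s))
  (hC : ∀ c, c ∈ C ↔ c ∈ N ∧ c * s = s * c)

include htop hcop hC in
theorem classInner_coset_int {θ : N → ℂ} (hθ : IsIrrCharacter N θ) {η : Γ → ℂ}
    (h : IsCanonical N s θ η) (β : IrrCharacter C) :
    ∃ z : ℤ, classInner (fun c : C => η ((c : Γ) * s)) (β : C → ℂ) = z := by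
  classical
  obtain ⟨ω, hω⟩ := exists_primitiveRoot_qbar (orderOf s) (orderOf_pos s).ne'
  obtain ⟨a, ha⟩ := exists_eigen_multiplicity (fun c hc => ((hC c).mp hc).2)
    (isCharacter_of_isIrr h.1) (isCharacter_of_isIrr β.2) hω
  set z : QBar := ∑ j, (a j : QBar) * ω ^ (j : ℕ) with hz
  have hzc : (z : ℂ) = classInner (fun c : C => η ((c : Γ) * s)) (β : C → ℂ) := by
    have := ha 1
    simp only [pow_one] at this
    rw [this, hz]
    push_cast
    rfl
  obtain ⟨q, hq⟩ := exists_rat_of_fixed z fun ψ => by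
    have h2 : IsPrimitiveRoot ω (orderOf s) :=
      IsPrimitiveRoot.of_map_of_injective (f := algebraMap QBar ℂ) hω (algebraMap QBar ℂ).injective
    have h3 := h2.map_of_injective ψ.injective
    haveI : NeZero (orderOf s) := ⟨(orderOf_pos s).ne'⟩
    obtain ⟨k, -, hk, hke⟩ := hω.isPrimitiveRoot_iff.mp h3
    have h4 : (fun c : C => η ((c : Γ) * s ^ k)) = fun c : C => η ((c : Γ) * s) := funext fun c =>
      canonical_coset htop hcop hθ h ((hC c).mp c.2).1 ((hC c).mp c.2).2 hk
    rw [hzc, ← h4, ha k, hz, map_sum]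
    exact Finset.sum_congr rfl fun j _ => by rw [map_mul, map_natCast, map_pow, hke]; rfl
  have hint : IsIntegral ℤ (q : ℂ) := by
    rw [← hq, hz]
    push_cast
    exact IsIntegral.sum _ fun j _ =>
      IsIntegral.mul (isIntegral_natCast _) ((hω.isIntegral (orderOf_pos s)).pow _)
  obtain ⟨n, rfl⟩ := exists_int_of_isIntegral_rat hint
  exact ⟨n, by rw [← hzc, hq]; push_cast; rfl⟩

include htop hcop hC in
/-- On the coset of the generator the canonical extension is a signed irreducible of `C`. -/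
theorem exists_sign {θ : N → ℂ} (hθ : IsIrrCharacter N θ) {η : Γ → ℂ}
    (h : IsCanonical N s θ η) :
    ∃ (β : IrrCharacter C) (ε : ℤ), (ε = 1 ∨ ε = -1) ∧
      ∀ c : C, η ((c : Γ) * s) = (ε : ℂ) * (β : C → ℂ) c := by
  classical
  haveI := finite_irrCharacter (G := C)
  choose z hz using classInner_coset_int htop hcop hC hθ h
  set F := fun c : C => η ((c : Γ) * s) with hF
  have hexp := classFunction_expansion
    (isClassFunction_coset hC (isClassFunction_of_isCharacter (isCharacter_of_isIrr h.1)))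
  have hn := (classInner_coset hC hcop hθ hθ h.1 h.1 h.2.1 h.2.1).2
  have hexp' : F = ∑ β : IrrCharacter C, ((z β : ℤ) : ℂ) • (β : C → ℂ) := by
    refine hexp.trans (Finset.sum_congr rfl fun β _ => ?_)
    rw [hz]
  rw [show (fun c : C => η ((c : Γ) * s)) = F from rfl, hexp', classInner_sum_smul_sum_smul] at hn
  simp only [map_intCast] at hn
  have hsum : ∑ β : IrrCharacter C, z β * z β = 1 := by exact_mod_cast hn
  obtain ⟨β, hβ⟩ : ∃ β, z β ≠ 0 := by
    by_contra h0
    push_neg at h0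
    simp [h0] at hsum
  have hge : (1 : ℤ) ≤ z β * z β := by
    rcases lt_or_gt_of_ne hβ with h' | h' <;> nlinarith
  have hrest : ∀ γ, γ ≠ β → z γ = 0 := by
    intro γ hγ
    have hle := Finset.sum_le_univ_sum_of_nonneg (s := {γ, β})
      (fun ξ : IrrCharacter C => mul_self_nonneg (z ξ))
    rw [Finset.sum_pair hγ, hsum] at hle
    have h0 : z γ * z γ = 0 := le_antisymm (by linarith) (mul_self_nonneg _)
    exact mul_self_eq_zero.mp h0
  rw [Finset.sum_eq_single β (fun γ _ hγ => by simp [hrest γ hγ])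
    (fun h => absurd (Finset.mem_univ _) h)] at hsum hexp'
  refine ⟨β, z β, mul_self_eq_one_iff.mp hsum, fun c => ?_⟩
  show F c = _
  rw [hexp']
  simp

omit hN in
theorem isPos_sign {ε : ℤ} (h : ε = 1 ∨ ε = -1) : (ε : ℂ) ≠ 0 := by
  rcases h with rfl | rfl <;> norm_num

include hcop hC in
/-- Distinct invariant characters give distinct characters of `C`. -/
theorem sign_injective {θ θ' : N → ℂ} (hθ : IsIrrCharacter N θ) (hθ' : IsIrrCharacter N θ')
    {η η' : Γ → ℂ} (h : IsCanonical N s θ η) (h' : IsCanonical N s θ' η') {β : IrrCharacter C}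
    {ε ε' : ℤ} (hε : ε = 1 ∨ ε = -1) (hε' : ε' = 1 ∨ ε' = -1)
    (e : ∀ c : C, η ((c : Γ) * s) = (ε : ℂ) * (β : C → ℂ) c)
    (e' : ∀ c : C, η' ((c : Γ) * s) = (ε' : ℂ) * (β : C → ℂ) c) : θ = θ' := by
  by_contra hne
  have h0 := (classInner_coset hC hcop hθ hθ' h.1 h'.1 h.2.1 h'.2.1).1 hne
  rw [show (fun c : C => η ((c : Γ) * s)) = (ε : ℂ) • (β : C → ℂ) from funext e,
    show (fun c : C => η' ((c : Γ) * s)) = (ε' : ℂ) • (β : C → ℂ) from funext e',
    classInner_smul_left, classInner_smul_right, classInner_irr_self β.2, map_intCast, mul_one] at h0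
  exact mul_ne_zero (isPos_sign hε) (isPos_sign hε') h0

include htop in
/-- Irreducibles over non-invariant characters vanish on the coset of the generator. -/
theorem vanish_of_not_invariant {ω : Γ → ℂ} (hω : IsIrrCharacter Γ ω) {θ : N → ℂ}
    (hθ : IsIrrCharacter N θ) (hcon : classInner (fun n : N => ω n) θ ≠ 0)
    (hne : conjBy N θ s ≠ θ) {n : Γ} (hn : n ∈ N) : ω (n * s) = 0 := by
  classical
  haveI := Fintype.ofFinite (inertia N θ)
  have hθc := isClassFunction_of_isCharacter (isCharacter_of_isIrr hθ)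
  obtain ⟨ψ, -, rfl, -⟩ := clifford_correspondence_surjective N (inertia N θ) hθ
    (fun g => mem_inertia N) (le_inertia N hθc) hω hcon
  simp only [indFun]
  refine mul_eq_zero_of_right _ (Finset.sum_eq_zero fun x _ => extendByZero_notMem _ _ fun hx => hne ?_)
  obtain ⟨m, hm, i, rfl⟩ := exists_eq_mul_zpow htop x
  have hconj : (m * s ^ i)⁻¹ * (n * s) * (m * s ^ i) * s⁻¹ ∈ N := by
    rw [show (m * s ^ i)⁻¹ * (n * s) * (m * s ^ i) * s⁻¹ =
      (s ^ i)⁻¹ * (m⁻¹ * (n * (s * m * s⁻¹))) * ((s ^ i)⁻¹)⁻¹ by group]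
    exact hN.conj_mem _ (N.mul_mem (N.inv_mem hm) (N.mul_mem hn (hN.conj_mem m hm s))) _
  have h1 := (inertia N θ).mul_mem
    ((inertia N θ).inv_mem (le_inertia N hθc hconj)) hx
  rw [show ((m * s ^ i)⁻¹ * (n * s) * (m * s ^ i) * s⁻¹)⁻¹ * ((m * s ^ i)⁻¹ * (n * s) * (m * s ^ i))
    = s by group] at h1
  exact h1

include htop hcop hC in
/-- Every irreducible character of `C` occurs. -/
theorem sign_surjective (β : IrrCharacter C) :
    ∃ (θ : N → ℂ) (η : Γ → ℂ), IsIrrCharacter N θ ∧ conjBy N θ s = θ ∧ IsCanonical N s θ η ∧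
      ∃ ε : ℤ, (ε = 1 ∨ ε = -1) ∧ ∀ c : C, η ((c : Γ) * s) = (ε : ℂ) * (β : C → ℂ) c := by
  classical
  by_contra hno
  push_neg at hno
  have hsC : ∀ c : C, (c : Γ) * s = s * (c : Γ) := fun c => ((hC c).mp c.2).2
  -- every irreducible of `Γ` is orthogonal to `β` on the coset
  have horth : ∀ ω : IrrCharacter Γ,
      classInner (fun c : C => (ω : Γ → ℂ) ((c : Γ) * s)) (β : C → ℂ) = 0 := by
    intro ω
    obtain ⟨θ, hcon⟩ := exists_constituent N (isCharacter_of_isIrr ω.2) (irr_degree_ne_zero ω.2)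
    by_cases hinv : conjBy N (θ : N → ℂ) s = θ
    · obtain ⟨η, hη⟩ := exists_canonical htop hcop θ.2 hinv
      obtain ⟨γ, ε, hε, he⟩ := exists_sign htop hcop hC θ.2 hη
      have hinv' := invariant_of_fixed htop
        (isClassFunction_of_isCharacter (isCharacter_of_isIrr θ.2)) hinv
      have h1 : (fun _ : N => (1 : ℂ)) * (θ : N → ℂ) = θ := funext fun n => one_mul ((θ : N → ℂ) n)
      have hbij := gallagher N (φ := fun _ : N => (1 : ℂ)) (θ := (θ : N → ℂ)) isIrrCharacter_one
        (fun g => rfl) hinv' (by rw [h1]; exact θ.2) hη.1 hη.2.1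
      rw [h1] at hbij
      obtain ⟨b, ⟨hb, hbn⟩, e⟩ := hbij.surjOn (show (ω : Γ → ℂ) ∈ {ψ : Γ → ℂ | IsIrrCharacter Γ ψ ∧
          classInner (indFun N (θ : N → ℂ)) ψ ≠ 0} from ⟨ω.2, by
        rw [frobenius_reciprocity N _ (isClassFunction_of_isCharacter (isCharacter_of_isIrr ω.2))]
        intro h0
        apply hcon
        rw [← classInner_conj_symm, h0, map_zero]⟩)
      have hbs : ∀ c : C, b ((c : Γ) * s) = b s := by
        intro c
        rcases avgN_dichotomy N hb with ⟨-, hc⟩ | ⟨h0, -⟩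
        · exact hc ⟨c, ((hC c).mp c.2).1⟩ s
        · exfalso
          apply hbn
          rw [frobenius_reciprocity N _ (isClassFunction_of_isCharacter (isCharacter_of_isIrr hb)),
            show classInner (fun _ : N => (1 : ℂ)) (fun n : N => b n) = conj (avgN N b 1) by
              simp [classInner, avgN],
            h0, Pi.zero_apply, map_zero]
      have hne : γ ≠ β := fun e' => by
        obtain ⟨c, hc⟩ := hno θ η θ.2 hinv hη ε hε
        exact hc (e' ▸ he c)
      rw [show (fun c : C => (ω : Γ → ℂ) ((c : Γ) * s)) = (b s * ε) • (γ : C → ℂ) from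
        funext fun c => by
          rw [← e]; simp [hbs c, he c, mul_assoc],
        classInner_smul_left, classInner_irr_ne γ.2 β.2 fun e' => hne (Subtype.ext e'), mul_zero]
    · rw [show (fun c : C => (ω : Γ → ℂ) ((c : Γ) * s)) = (0 : C → ℂ) from funext fun c =>
        vanish_of_not_invariant htop ω.2 θ.2 hcon hinv ((hC c).mp c.2).1, classInner_zero_left]
  -- the class function concentrated on the coset
  set T : Γ → ℂ := fun x => ∑ g : Γ,
    if h : g * x * g⁻¹ * s⁻¹ ∈ C then (β : C → ℂ) ⟨_, h⟩ else 0 with hT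
  have hTcl : IsClassFunction Γ T := by
    intro x h
    simp only [hT]
    refine Fintype.sum_equiv (Equiv.mulRight h) _ _ fun g => ?_
    simp only [Equiv.coe_mulRight, mul_inv_rev, mul_assoc]
  have hTs : ∀ x, T x ≠ 0 → x * s⁻¹ ∈ N := by
    intro x hx
    obtain ⟨g, -, hg⟩ := Finset.exists_ne_zero_of_sum_ne_zero hx
    split_ifs at hg with h
    · obtain ⟨m, hm, i, rfl⟩ := exists_eq_mul_zpow htop g
      have h2 := ((hC _).mp h).1
      rw [show m * s ^ i * x * (m * s ^ i)⁻¹ * s⁻¹ =
        (m * (s ^ i * (x * s⁻¹) * (s ^ i)⁻¹)) * (s * m⁻¹ * s⁻¹) by group] at h2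
      rw [N.mul_mem_cancel_right (hN.conj_mem _ (N.inv_mem hm) s), N.mul_mem_cancel_left hm] at h2
      have h3 := hN.conj_mem _ h2 (s ^ i)⁻¹
      rwa [show (s ^ i)⁻¹ * (s ^ i * (x * s⁻¹) * (s ^ i)⁻¹) * ((s ^ i)⁻¹)⁻¹ = x * s⁻¹ by group] at h3
    · exact absurd rfl hg
  have hTc : ∀ c : C,
      T ((c : Γ) * s) = (Finset.univ.filter fun g : Γ => g * s = s * g).card * (β : C → ℂ) c := by
    intro c
    have key : ∀ g : Γ, (if h : g * ((c : Γ) * s) * g⁻¹ * s⁻¹ ∈ C then (β : C → ℂ) ⟨_, h⟩ else 0) =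
        if g * s = s * g then (β : C → ℂ) c else 0 := by
      intro g
      by_cases hg : g * s = s * g
      · obtain ⟨m, hm, i, rfl⟩ := exists_eq_mul_zpow htop g
        have hms : m * s = s * m := by
          have h1 : s ^ i * s = s * s ^ i := (Commute.self_zpow s i).eq.symm
          rw [mul_assoc, h1, ← mul_assoc, ← mul_assoc] at hg
          exact mul_right_cancel hg
        have hmC : m ∈ C := (hC m).mpr ⟨hm, hms⟩
        have hci : s ^ i * (c : Γ) = (c : Γ) * s ^ i := (Commute.zpow_left (hsC c).symm i).eq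
        have e : m * s ^ i * ((c : Γ) * s) * (m * s ^ i)⁻¹ * s⁻¹ = m * c * m⁻¹ := by
          rw [show m * s ^ i * ((c : Γ) * s) * (m * s ^ i)⁻¹ * s⁻¹ =
            m * (s ^ i * (c : Γ)) * (s ^ i)⁻¹ * (s * m⁻¹ * s⁻¹) by group, hci,
            show s * m⁻¹ * s⁻¹ = m⁻¹ by rw [← (Commute.inv_left hms).eq, mul_inv_cancel_right]]
          group
        have hmem : m * s ^ i * ((c : Γ) * s) * (m * s ^ i)⁻¹ * s⁻¹ ∈ C := by
          rw [e]; exact C.mul_mem (C.mul_mem hmC c.2) (C.inv_mem hmC)
        rw [dif_pos hmem, if_pos hg,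
          show (⟨_, hmem⟩ : C) = ⟨m, hmC⟩ * c * (⟨m, hmC⟩ : C)⁻¹ from Subtype.ext e,
          isClassFunction_of_isCharacter (isCharacter_of_isIrr β.2)]
      · rw [dif_neg, if_neg hg]
        intro hmem
        exact hg (conj_split hC hcop c.2 hmem (by group)).1
    simp only [hT]
    rw [Finset.sum_congr rfl fun g _ => key g, ← Finset.sum_filter, Finset.sum_const, nsmul_eq_mul]
  set K := (Finset.univ.filter fun g : Γ => g * s = s * g).card with hK
  have hKpos : K ≠ 0 := Finset.card_ne_zero.mpr ⟨1, by simp⟩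
  have hzero : T = 0 := by
    refine eq_zero_of_orthogonal hTcl fun ω => ?_
    have h1 : ∑ x : Γ, T x * conj ((ω : Γ → ℂ) x) =
        ∑ n : N, T ((n : Γ) * s) * conj ((ω : Γ → ℂ) ((n : Γ) * s)) := by
      refine (Finset.sum_bij_ne_zero (fun (n : N) _ _ => (n : Γ) * s) (fun _ _ _ => Finset.mem_univ _)
        (fun a _ _ b _ _ e => Subtype.ext (mul_right_cancel e)) (fun x _ hx => ?_)
        (fun _ _ _ => rfl)).symm
      refine ⟨⟨x * s⁻¹, hTs x (left_ne_zero_of_mul hx)⟩, Finset.mem_univ _, ?_, ?_⟩ <;> simp [hx]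
    have h2 := card_mul_sum_coset hC hcop (F := fun x => T x * conj ((ω : Γ → ℂ) x)) fun g h => by
      simp only [hTcl g h, isClassFunction_of_isCharacter (isCharacter_of_isIrr ω.2) g h]
    simp only [classInner]
    rw [h1]
    have h3 : ∑ c : C, T ((c : Γ) * s) * conj ((ω : Γ → ℂ) ((c : Γ) * s)) = 0 := by
      have h4 := congrArg conj (horth ω)
      rw [classInner_conj_symm, map_zero] at h4
      simp only [classInner, mul_eq_zero, inv_eq_zero, Nat.cast_eq_zero, Nat.card_pos.ne',
        false_or] at h4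
      simp only [hTc, mul_assoc, ← Finset.mul_sum, h4, mul_zero]
    rw [h3, mul_zero, mul_eq_zero] at h2
    rw [h2.resolve_left (Nat.cast_ne_zero.mpr Nat.card_pos.ne'), mul_zero]
  have h0 : (β : C → ℂ) 1 = 0 := by
    have := hTc 1
    rw [hzero] at this
    simpa [hKpos] using this.symm
  exact irr_degree_ne_zero β.2 h0

omit hN in
/-- The sign character is a constituent of the restriction to `C`; its multiplicity is congruent to
the sign when the generator has prime power order. -/
theorem multiplicity_of_sign (hC : ∀ c, c ∈ C ↔ c ∈ N ∧ c * s = s * c) {η : Γ → ℂ}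
    (hη : IsCharacter Γ η) (β : IrrCharacter C) {z : ℤ}
    (hz : classInner (fun c : C => η ((c : Γ) * s)) (β : C → ℂ) = z) :
    ∃ M : ℕ, classInner (fun c : C => η (c : Γ)) (β : C → ℂ) = M ∧ (z ≠ 0 → M ≠ 0) ∧
      ∀ p k : ℕ, p.Prime → orderOf s = p ^ k → (M : ℤ) ≡ z [ZMOD p] := by
  classical
  have hm := (orderOf_pos s).ne'
  have hω := Complex.isPrimitiveRoot_exp (orderOf s) hm
  set ω := Complex.exp (2 * Real.pi * Complex.I / (orderOf s : ℕ)) with hω'
  obtain ⟨a, ha⟩ := exists_eigen_multiplicity (fun c hc => ((hC c).mp hc).2) hη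
    (isCharacter_of_isIrr β.2) hω
  have h0 := ha 0
  have h1 := ha 1
  simp only [pow_zero, mul_one, one_pow] at h0
  simp only [pow_one, hz] at h1
  refine ⟨∑ j, a j, by rw [h0]; push_cast; rfl, fun hz0 hM => hz0 ?_, fun p k hp hk => ?_⟩
  · rw [Finset.sum_eq_zero_iff] at hM
    have : (z : ℂ) = 0 := by
      rw [h1]; exact Finset.sum_eq_zero fun j hj => by simp [hM j hj]
    exact_mod_cast this
  rcases k with _ | k
  · rw [pow_zero] at hk
    have : (z : ℂ) = ((∑ j, a j : ℕ) : ℂ) := by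
      rw [h1]; push_cast
      exact Finset.sum_congr rfl fun j _ => by
        have : (j : ℕ) = 0 := by have := j.2; omega
        simp [this]
    have h2 : z = ((∑ j, a j : ℕ) : ℤ) := by exact_mod_cast this
    rw [h2]
  haveI := Fact.mk hp
  set P : Polynomial ℤ := (∑ j, Polynomial.C (a j : ℤ) * Polynomial.X ^ (j : ℕ)) - Polynomial.C z with hP
  have hP0 : Polynomial.aeval ω P = 0 := by
    rw [hP, map_sub, map_sum, Polynomial.aeval_C]
    simp only [map_mul, map_pow, Polynomial.aeval_X, Polynomial.aeval_C, algebraMap_int_eq, eq_intCast, Int.cast_natCast, map_natCast]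
    rw [← h1, sub_self]
  have hd := minpoly.isIntegrallyClosed_dvd (hω.isIntegral (Nat.pos_of_ne_zero hm)) hP0
  rw [← Polynomial.cyclotomic_eq_minpoly hω (Nat.pos_of_ne_zero hm), hk] at hd
  have h2 := Polynomial.eval_dvd (x := (1 : ℤ)) hd
  rw [Polynomial.eval_one_cyclotomic_prime_pow] at h2
  simp [hP, Polynomial.eval_finsetSum] at h2
  rw [Int.modEq_comm, Int.modEq_iff_dvd]
  push_cast
  exact h2

end CfsgLib.Char.Glauberman
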