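import Cfsg.Agent.Lib.Char.GlaubermanCyclic

/-!
# The cyclic correspondence when every nontrivial element has the same fixed points

A function on a cyclic group of order `m` with natural Fourier coefficients and squared norms at
most one in total off the identity is, off the identity, zero or a signed linear character.
-/

set_option autoImplicit false
set_option linter.unusedSectionVars false

namespace CfsgLib.Char.Glauberman

open Cfsg
open scoped ComplexConjugate CfsgLib.Char

/-- Integer rigidity. -/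
theorem rigid_of_small {m : ℕ} (hm : 2 ≤ m) (a : Fin m → ℕ) {t : ℤ}
    (ht : (m : ℤ) * ∑ j, (a j : ℤ) ^ 2 - (∑ j, (a j : ℤ)) ^ 2 = t) (ht' : t ≤ (m : ℤ) - 1) :
    (t = 0 ∧ ∃ q : ℕ, ∀ j, a j = q) ∨
      (t = (m : ℤ) - 1 ∧ ∃ (q : ℕ) (ε : ℤ) (j0 : Fin m), (ε = 1 ∨ ε = -1) ∧
        ∀ j, (a j : ℤ) = q + if j = j0 then ε else 0) := by
  classical
  set A := ∑ j, a j with hA
  set q := A / m with hq
  set r : ℤ := ((A % m : ℕ) : ℤ) with hr
  have hAq : (A : ℤ) = m * q + r := by
    rw [hr, hq]; exact_mod_cast (Nat.div_add_mod A m).symm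
  set b : Fin m → ℤ := fun j => (a j : ℤ) - q with hb
  have hsum : ∑ j, b j = r := by
    simp only [hb, Finset.sum_sub_distrib, Finset.sum_const, Finset.card_univ, Fintype.card_fin,
      nsmul_eq_mul, hA, Nat.cast_sum] at hAq ⊢
    linarith
  have hAa : (∑ j, (a j : ℤ)) = m * q + r := by rw [← hAq, hA]; push_cast; rfl
  have hsq : ∑ j, (a j : ℤ) ^ 2 = ∑ j, b j ^ 2 + 2 * q * r + m * q ^ 2 := by
    have : ∀ j, (a j : ℤ) ^ 2 = b j ^ 2 + 2 * q * b j + q ^ 2 := fun j => by simp [hb]; ring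
    simp only [this, Finset.sum_add_distrib, ← Finset.mul_sum, hsum, Finset.sum_const,
      Finset.card_univ, Fintype.card_fin, nsmul_eq_mul]
  have ht2 : t = m * ∑ j, b j ^ 2 - r ^ 2 := by rw [← ht, hsq, hAa]; ring
  have hge : ∀ j, 0 ≤ b j ^ 2 - b j := fun j => by
    have : b j ≤ b j ^ 2 := Int.le_self_sq _
    omega
  have hle : r ≤ ∑ j, b j ^ 2 := hsum ▸ Finset.sum_le_sum fun j _ => Int.le_self_sq _
  have hr0 : 0 ≤ r := by omega
  have hrm : r ≤ (m : ℤ) - 1 := by
    have := Nat.mod_lt A (show 0 < m by omega); omega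
  have hB0 : 0 ≤ ∑ j, b j ^ 2 := Finset.sum_nonneg fun j _ => sq_nonneg _
  rcases eq_or_lt_of_le hr0 with h0 | hpos
  · have hB : ∑ j, b j ^ 2 = 0 := by nlinarith
    refine Or.inl ⟨by rw [ht2, hB, ← h0]; ring, q, fun j => ?_⟩
    have := (Finset.sum_eq_zero_iff_of_nonneg fun j _ => sq_nonneg (b j)).mp hB j (Finset.mem_univ j)
    have hbj : b j = 0 := by simpa using this
    simp only [hb] at hbj
    omega
  · have hkey : 0 ≤ (r - 1) * ((m : ℤ) - 1 - r) := by
      apply mul_nonneg <;> omega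
    have hBr : ∑ j, b j ^ 2 = r := by nlinarith
    have hr' : r = 1 ∨ r = (m : ℤ) - 1 := by
      have : (r - 1) * ((m : ℤ) - 1 - r) = 0 := by nlinarith
      rcases mul_eq_zero.mp this with h | h
      · left; linarith
      · right; linarith
    have h01 : ∀ j, b j = 0 ∨ b j = 1 := fun j => by
      have h := (Finset.sum_eq_zero_iff_of_nonneg fun j _ => hge j).mp
        (by rw [Finset.sum_sub_distrib, hBr, hsum, sub_self]) j (Finset.mem_univ j)
      have : b j * (b j - 1) = 0 := by linarith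
      rcases mul_eq_zero.mp this with h | h
      · exact Or.inl h
      · exact Or.inr (by linarith)
    refine Or.inr ⟨by rw [ht2, hBr]; rcases hr' with e | e <;> rw [e] <;> ring, ?_⟩
    have hcard : ((Finset.univ.filter fun j => b j = 1).card : ℤ) = r := by
      rw [← hsum, Finset.card_filter, Nat.cast_sum]
      exact Finset.sum_congr rfl fun j _ => by rcases h01 j with e | e <;> simp [e]
    rcases hr' with e | e
    · obtain ⟨j0, hj0⟩ := Finset.card_eq_one.mp
        (show (Finset.univ.filter fun j => b j = 1).card = 1 by omega)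
      refine ⟨q, 1, j0, Or.inl rfl, fun j => ?_⟩
      have hj : b j = 1 ↔ j = j0 := by
        simpa using Finset.ext_iff.mp hj0 j
      simp only [hb] at hj h01
      by_cases h : j = j0
      · rw [if_pos h]
        have := hj.mpr h
        rcases h01 j with e' | e' <;> omega
      · rw [if_neg h]
        rcases h01 j with e' | e'
        · first
            | omega
            | exact absurd (hj.mp (by omega)) h
        · first
            | exact absurd (hj.mp (by omega)) h
            | omega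
    · obtain ⟨j0, hj0⟩ := Finset.card_eq_one.mp
        (show (Finset.univ.filter fun j => ¬ b j = 1).card = 1 by
          have := Finset.card_filter_add_card_filter_not (s := (Finset.univ : Finset (Fin m)))
            (fun j => b j = 1)
          rw [Finset.card_univ, Fintype.card_fin] at this
          omega)
      refine ⟨q + 1, -1, j0, Or.inr rfl, fun j => ?_⟩
      have hj : ¬ b j = 1 ↔ j = j0 := by
        simpa using Finset.ext_iff.mp hj0 j
      simp only [hb] at hj h01
      push_cast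
      by_cases h : j = j0
      · rw [if_pos h]
        have := hj.mpr h
        rcases h01 j with e' | e' <;> omega
      · rw [if_neg h]
        rcases h01 j with e' | e'
        · first
            | omega
            | exact absurd (hj.mp (by omega)) h
        · first
            | exact absurd (hj.mp (by omega)) h
            | omega

/-- Parseval on a cyclic group. -/
theorem parseval {m : ℕ} (hm : m ≠ 0) {ω : ℂ} (hω : IsPrimitiveRoot ω m) (a : Fin m → ℕ) :
    ∑ i ∈ Finset.range m, (∑ j, (a j : ℂ) * (ω ^ i) ^ (j : ℕ)) *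
        conj (∑ j, (a j : ℂ) * (ω ^ i) ^ (j : ℕ)) = (m : ℂ) * ∑ j, (a j : ℂ) ^ 2 := by
  classical
  have hn : ‖ω‖ = 1 := Complex.norm_eq_one_of_pow_eq_one hω.pow_eq_one hm
  have hw : ω ≠ 0 := hω.ne_zero hm
  have key : ∀ j l : Fin m, ∑ i ∈ Finset.range m, (ω ^ i) ^ (j : ℕ) * conj ((ω ^ i) ^ (l : ℕ)) =
      if j = l then (m : ℂ) else 0 := by
    intro j l
    have e : ∀ i : ℕ, (ω ^ i) ^ (j : ℕ) * conj ((ω ^ i) ^ (l : ℕ)) =
        (ω ^ (j : ℕ) * (ω ^ (l : ℕ))⁻¹) ^ i := fun i => by
      rw [map_pow, map_pow, ← Complex.inv_eq_conj hn, mul_pow, ← inv_pow]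
      simp only [← pow_mul, mul_comm i]
    simp only [e]
    split_ifs with h
    · subst h; rw [mul_inv_cancel₀ (pow_ne_zero _ hw)]; simp
    · rw [geom_sum_eq, mul_pow, inv_pow, ← pow_mul, ← pow_mul, mul_comm (j : ℕ), mul_comm (l : ℕ),
        pow_mul, pow_mul, hω.pow_eq_one]
      · simp
      · intro h1
        exact h (Fin.ext (hω.pow_inj j.2 l.2
          (mul_inv_eq_one₀ (pow_ne_zero _ hw) |>.mp h1)))
  simp only [map_sum, map_mul, map_natCast, Finset.sum_mul, Finset.mul_sum]
  rw [Finset.sum_comm]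
  refine Finset.sum_congr rfl fun j _ => ?_
  rw [Finset.sum_comm, Finset.sum_eq_single j]
  · rw [Finset.sum_congr rfl fun i _ => (show _ = (a j : ℂ) ^ 2 *
      ((ω ^ i) ^ (j : ℕ) * conj ((ω ^ i) ^ (j : ℕ))) by simp only [map_pow]; ring),
      ← Finset.mul_sum, key, if_pos rfl]
    ring
  · intro l _ hl
    rw [Finset.sum_congr rfl fun i _ => (show _ = ((a j : ℂ) * a l) *
      ((ω ^ i) ^ (l : ℕ) * conj ((ω ^ i) ^ (j : ℕ))) by simp only [map_pow]; ring),
      ← Finset.mul_sum]
    first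
      | rw [key, if_neg (Ne.symm hl), mul_zero]
      | rw [key, if_neg hl, mul_zero]
  · intro h; exact absurd (Finset.mem_univ _) h

variable {Γ : Type*} [Group Γ] [Fintype Γ] {N C : Subgroup Γ} {s : Γ} [Fintype N] [Fintype C]
  [hN : N.Normal]

/-- All values off the identity. -/
theorem fpf_values (hcop : (Nat.card N).Coprime (orderOf s))
    (hC : ∀ i, 0 < i → i < orderOf s → ∀ c, c ∈ C ↔ c ∈ N ∧ c * s ^ i = s ^ i * c)
    (hm : 2 ≤ orderOf s) {θ : N → ℂ} {η : Γ → ℂ} (hθ : IsIrrCharacter N θ)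
    (hη : IsIrrCharacter Γ η) (hext : ∀ n : N, η n = θ n) (β : IrrCharacter C) {ε0 : ℤ}
    (hε0 : ε0 = 1 ∨ ε0 = -1) (hβ : ∀ c : C, η ((c : Γ) * s) = (ε0 : ℂ) * (β : C → ℂ) c) :
    ∃ ε z : ℤ, (ε = 1 ∨ ε = -1) ∧ (z = 1 ∨ z = -1) ∧ (z : ℂ) ^ orderOf s = 1 ∧
      (∀ i, 0 < i → i < orderOf s →
        ∀ c : C, η ((c : Γ) * s ^ i) = (ε : ℂ) * (β : C → ℂ) c * (z : ℂ) ^ i) ∧
      ∃ ϑ : C → ℂ, IsCharacter C ϑ ∧
        (fun c : C => η (c : Γ)) = fun c => (orderOf s : ℂ) * ϑ c + (ε : ℂ) * (β : C → ℂ) c := by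
  classical
  set m := orderOf s with hmdef
  have hm0 : m ≠ 0 := by omega
  have hω := Complex.isPrimitiveRoot_exp m hm0
  set ω := Complex.exp (2 * Real.pi * Complex.I / (m : ℕ)) with hω'
  have hC1 := hC 1 one_pos (by omega)
  simp only [pow_one] at hC1
  choose a ha using fun γ : IrrCharacter C =>
    exists_eigen_multiplicity (fun c hc => ((hC1 c).mp hc).2) (isCharacter_of_isIrr hη)
      (isCharacter_of_isIrr γ.2) hω
  set f : IrrCharacter C → ℕ → ℂ := fun γ i => ∑ j, (a γ j : ℂ) * (ω ^ i) ^ (j : ℕ) with hf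
  have hexp : ∀ i, 0 < i → i < m →
      (fun c : C => η ((c : Γ) * s ^ i)) = ∑ γ : IrrCharacter C, f γ i • (γ : C → ℂ) := by
    intro i h0 hi
    refine (classFunction_expansion (isClassFunction_coset (hC i h0 hi)
      (isClassFunction_of_isCharacter (isCharacter_of_isIrr hη)))).trans
      (Finset.sum_congr rfl fun γ _ => ?_)
    rw [ha γ i]
  have hnorm : ∀ i, 0 < i → i < m → ∑ γ : IrrCharacter C, Complex.normSq (f γ i) = 1 := by
    intro i h0 hi
    have h := (classInner_coset (hC i h0 hi)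
      (hcop.coprime_dvd_right (orderOf_pow_dvd i)) hθ hθ hη hη hext hext).2
    rw [hexp i h0 hi, classInner_sum_smul_sum_smul] at h
    simp only [Complex.mul_conj] at h
    exact_mod_cast h
  set T : IrrCharacter C → ℝ := fun γ => ∑ i ∈ Finset.Ico 1 m, Complex.normSq (f γ i) with hT
  have hTsum : ∑ γ, T γ = (m : ℝ) - 1 := by
    simp only [hT]
    rw [Finset.sum_comm, Finset.sum_congr rfl fun i hi => hnorm i
      (by simp at hi; omega) (by simp at hi; omega)]
    simp [Nat.cast_sub (show 1 ≤ m by omega)]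
  have hTint : ∀ γ, T γ = (((m : ℤ) * ∑ j, (a γ j : ℤ) ^ 2 - (∑ j, (a γ j : ℤ)) ^ 2 : ℤ) : ℝ) := by
    intro γ
    have h := parseval hm0 hω (a γ)
    rw [Finset.range_eq_Ico, Finset.sum_eq_sum_Ico_succ_bot (show 0 < m by omega)] at h
    simp only [pow_zero, one_pow, mul_one, map_sum, map_natCast] at h
    have h2 : ((T γ : ℝ) : ℂ) = (m : ℂ) * ∑ j, (a γ j : ℂ) ^ 2 - (∑ j, (a γ j : ℂ)) ^ 2 := by
      rw [← h]
      simp only [hT, hf, Complex.ofReal_sum, ← Complex.mul_conj, map_sum]
      ring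
    apply Complex.ofReal_injective
    rw [h2]; push_cast; rfl
  have hTnn : ∀ γ, 0 ≤ T γ := fun γ => Finset.sum_nonneg fun i _ => Complex.normSq_nonneg _
  have hsmall : ∀ γ, ((m : ℤ) * ∑ j, (a γ j : ℤ) ^ 2 - (∑ j, (a γ j : ℤ)) ^ 2) ≤ (m : ℤ) - 1 := by
    intro γ
    have h := Finset.single_le_sum (fun γ _ => hTnn γ) (Finset.mem_univ γ)
    rw [hTsum, hTint] at h
    exact_mod_cast h
  have hf1 : f β 1 = (ε0 : ℂ) := by
    rw [hf]; dsimp only
    rw [← ha β 1]
    simp only [pow_one]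
    rw [show (fun c : C => η ((c : Γ) * s)) = (ε0 : ℂ) • (β : C → ℂ) from funext hβ,
      classInner_smul_left, classInner_irr_self β.2, mul_one]
  have hTβ : 0 < T β := by
    refine Finset.sum_pos' (fun i _ => Complex.normSq_nonneg _) ⟨1, by simp; omega, ?_⟩
    rw [hf1]
    exact Complex.normSq_pos.mpr (isPos_sign hε0)
  rcases rigid_of_small hm (a β) rfl (hsmall β) with ⟨h0, -⟩ | ⟨htop, q, ε, j0, hε, haj⟩
  · rw [hTint, h0] at hTβ; simp at hTβ
  have hother : ∀ γ, γ ≠ β → T γ = 0 := by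
    intro γ hγ
    have h := Finset.sum_le_univ_sum_of_nonneg (s := {γ, β}) hTnn
    rw [Finset.sum_pair hγ, hTsum, hTint β, htop] at h
    push_cast at h
    linarith [hTnn γ]
  have hfγ : ∀ γ, γ ≠ β → ∀ i, 0 < i → i < m → f γ i = 0 := fun γ hγ i h0 hi =>
    Complex.normSq_eq_zero.mp ((Finset.sum_eq_zero_iff_of_nonneg fun i _ =>
      Complex.normSq_nonneg _).mp (hother γ hγ) i (by simp; omega))
  have hcoef : ∀ j, (a β j : ℂ) = q + if j = j0 then (ε : ℂ) else 0 := fun j => by
    have := congrArg (Int.cast : ℤ → ℂ) (haj j)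
    push_cast at this
    exact this
  have hfβ : ∀ i, 0 < i → i < m → f β i = (ε : ℂ) * (ω ^ (j0 : ℕ)) ^ i := by
    intro i h0 hi
    simp only [hf, hcoef, add_mul, Finset.sum_add_distrib, ← Finset.mul_sum, ite_mul, zero_mul,
      Finset.sum_ite_eq', Finset.mem_univ, if_true]
    rw [Fin.sum_univ_eq_sum_range (fun j => (ω ^ i) ^ j), geom_sum_eq
      (hω.pow_ne_one_of_pos_of_lt h0.ne' hi), ← pow_mul, mul_comm i m, pow_mul, hω.pow_eq_one]
    simp [← pow_mul, mul_comm i]
  have hz : ω ^ (j0 : ℕ) = ((ε * ε0 : ℤ) : ℂ) := by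
    have h := hfβ 1 one_pos (by omega)
    rw [hf1, pow_one] at h
    push_cast
    rw [h, ← mul_assoc]
    rcases hε with rfl | rfl <;> simp
  refine ⟨ε, ε * ε0, hε, ?_, ?_, fun i h0 hi c => ?_, ?_⟩
  · rcases hε with rfl | rfl <;> rcases hε0 with rfl | rfl <;> simp
  · rw [← hz, ← pow_mul, mul_comm, pow_mul, hω.pow_eq_one, one_pow]
  · have := congrFun (hexp i h0 hi) c
    rw [Finset.sum_eq_single β (fun γ _ hγ => by rw [hfγ γ hγ i h0 hi, zero_smul])
      (fun h => absurd (Finset.mem_univ _) h)] at this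
    rw [this, Pi.smul_apply, smul_eq_mul, hfβ i h0 hi, hz]
    ring
  · choose qq hqq using fun γ (hγ : γ ≠ β) => show ∃ r : ℕ, ∀ j, a γ j = r from by
      rcases rigid_of_small hm (a γ) rfl (hsmall γ) with ⟨-, h⟩ | ⟨h1, -⟩
      · exact h
      · exfalso
        have := hother γ hγ
        rw [hTint, h1] at this
        push_cast at this
        have : (2 : ℝ) ≤ m := by exact_mod_cast hm
        linarith
    set Q : IrrCharacter C → ℕ := fun γ => if h : γ = β then q else qq γ h with hQ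
    refine ⟨∑ γ, (Q γ : ℂ) • (γ : C → ℂ), isCharacter_sum _ _ fun γ _ =>
      isCharacter_natCast_smul (isCharacter_of_isIrr γ.2) _, ?_⟩
    have hC0 : ∀ c ∈ C, c ∈ N := fun c hc => ((hC1 c).mp hc).1
    have h0 : (fun c : C => η (c : Γ)) =
        ∑ γ : IrrCharacter C, f γ 0 • (γ : C → ℂ) := by
      refine (classFunction_expansion (isClassFunction_of_isCharacter
        (isCharacter_restrict C (isCharacter_of_isIrr hη)))).trans
        (Finset.sum_congr rfl fun γ _ => ?_)
      have := ha γ 0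
      simp only [pow_zero, mul_one] at this
      simp only [hf, pow_zero]
      rw [this]
    rw [h0]
    funext c
    simp only [Finset.sum_apply, Pi.smul_apply, smul_eq_mul, Finset.mul_sum]
    rw [← Finset.add_sum_erase _ _ (Finset.mem_univ β), ← Finset.add_sum_erase _
      (fun γ => (m : ℂ) * ((Q γ : ℂ) * (γ : C → ℂ) c)) (Finset.mem_univ β)]
    rw [Finset.sum_congr rfl (fun γ hγ => show f γ 0 * (γ : C → ℂ) c =
      (m : ℂ) * ((Q γ : ℂ) * (γ : C → ℂ) c) by
        simp [hf, hqq γ (Finset.ne_of_mem_erase hγ), hQ, Finset.ne_of_mem_erase hγ]; ring)]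
    simp [hf, hcoef, Finset.sum_add_distrib, hQ]
    ring

end CfsgLib.Char.Glauberman
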