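import Cfsg.Agent.Lib.Char.GlaubermanCompat
import Cfsg.Agent.Lib.Char.PResidual
import Cfsg.Agent.Lib.Coprime.SchurZassenhaus

/-!
# The Glauberman correspondence for a solvable group acting coprimely

For solvable `S` there is a family of bijections, one for every `S`-invariant `G` of coprime order,
from the invariant irreducible characters of `G` onto those of `C_G(S)`; it commutes with the
normaliser of `S` and with lying over invariant normal subgroups.
-/

set_option autoImplicit false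
set_option linter.unusedSectionVars false

namespace CfsgLib.Char.Glauberman

open Cfsg
open scoped ComplexConjugate CfsgLib.Char

universe u
variable {Γ : Type u} [Group Γ]

/-- The fixed points of `S` in `G`. -/
abbrev fix (G S : Subgroup Γ) : Subgroup Γ := G ⊓ Subgroup.centralizer (S : Set Γ)

theorem mem_normalizer_fix {G S : Subgroup Γ} {y : Γ} (hG : y ∈ Subgroup.normalizer (G : Set Γ))
    (hS : y ∈ Subgroup.normalizer (S : Set Γ)) :
    y ∈ Subgroup.normalizer (fix G S : Set Γ) := by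
  have key : ∀ y, y ∈ Subgroup.normalizer (G : Set Γ) → y ∈ Subgroup.normalizer (S : Set Γ) →
      ∀ x ∈ fix G S, y * x * y⁻¹ ∈ fix G S := by
    intro y hG hS x hx
    obtain ⟨hxG, hxS⟩ := Subgroup.mem_inf.mp hx
    refine Subgroup.mem_inf.mpr ⟨(Subgroup.mem_normalizer_iff.mp hG x).mp hxG,
      Subgroup.mem_centralizer_iff.mpr fun t ht => ?_⟩
    have ht' : y⁻¹ * t * y ∈ S := by
      have := (Subgroup.mem_normalizer_iff.mp (inv_mem hS) t).mp ht
      simpa using this
    have h2 := congrArg (fun z => y * z * y⁻¹) (Subgroup.mem_centralizer_iff.mp hxS _ ht')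
    simpa [mul_assoc] using h2
  refine Subgroup.mem_normalizer_iff.mpr fun x => ⟨key y hG hS x, fun hx => ?_⟩
  have := key y⁻¹ (inv_mem hG) (inv_mem hS) _ hx
  simpa [mul_assoc] using this

theorem mem_normalizer_of_commute {S : Subgroup Γ} {y : Γ} (h : ∀ s ∈ S, y * s = s * y) :
    y ∈ Subgroup.normalizer (S : Set Γ) := by
  refine Subgroup.mem_normalizer_iff.mpr fun x => ⟨fun hx => ?_, fun hx => ?_⟩
  · rwa [h x hx, mul_inv_cancel_right]
  · have h1 := h _ hx
    rw [inv_mul_cancel_right] at h1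
    have h2 : x = y * x * y⁻¹ := mul_left_cancel h1.symm |>.symm.trans rfl |>.symm
    rwa [h2]

/-- The stabiliser of a function on `G` among the normalising elements. -/
def stab (G : Subgroup Γ) (χ : G → ℂ) : Subgroup Γ where
  carrier := {y | ∃ hy : y ∈ Subgroup.normalizer (G : Set Γ), ∀ g, χ (conjEquiv hy g) = χ g}
  one_mem' := ⟨Subgroup.one_mem _, fun g => congrArg χ (Subtype.ext (by simp))⟩
  mul_mem' := by
    rintro a b ⟨ha, ha'⟩ ⟨hb, hb'⟩
    refine ⟨Subgroup.mul_mem _ ha hb, fun g => ?_⟩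
    rw [show conjEquiv (Subgroup.mul_mem _ ha hb) g = conjEquiv ha (conjEquiv hb g) from
      Subtype.ext (by simp [mul_assoc]), ha', hb']
  inv_mem' := by
    rintro a ⟨ha, ha'⟩
    refine ⟨Subgroup.inv_mem _ ha, fun g => ?_⟩
    rw [← ha' (conjEquiv (Subgroup.inv_mem _ ha) g)]
    exact congrArg χ (Subtype.ext (by simp [mul_assoc]))

theorem inv_iff_le_stab {G S : Subgroup Γ} (hS : S ≤ Subgroup.normalizer (G : Set Γ)) {χ : G → ℂ} :
    Inv G S χ ↔ S ≤ stab G χ :=
  ⟨fun h s hs => ⟨hS hs, fun g => h s hs g _ rfl⟩, fun h s hs g g' e => by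
    obtain ⟨hs', hs''⟩ := h hs
    rw [show g' = conjEquiv hs' g from Subtype.ext e]
    exact hs'' g⟩

variable [Fintype Γ]

/-- `χ` lies over `θ`. -/
def Over {G N : Subgroup Γ} (h : N ≤ G) (χ : G → ℂ) (θ : N → ℂ) : Prop :=
  letI := Fintype.ofFinite N
  classInner (res h χ) θ ≠ 0

theorem over_iff {G N : Subgroup Γ} [Fintype N] (h : N ≤ G) (χ : G → ℂ) (θ : N → ℂ) :
    Over h χ θ ↔ classInner (res h χ) θ ≠ 0 := by
  obtain rfl : ‹Fintype N› = Fintype.ofFinite N := Subsingleton.elim _ _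
  exact Iff.rfl

theorem fix_mono {G N : Subgroup Γ} (h : N ≤ G) (S : Subgroup Γ) : fix N S ≤ fix G S :=
  inf_le_inf_right _ h

/-- A family of correspondences for `S`. -/
structure Family (S : Subgroup Γ) where
  /-- The correspondence on each invariant subgroup. -/
  F : ∀ G : Subgroup Γ, S ≤ Subgroup.normalizer (G : Set Γ) → (Nat.card G).Coprime (Nat.card S) →
    {χ : IrrCharacter G // Inv G S (χ : G → ℂ)} → IrrCharacter (fix G S)
  bij : ∀ (G : Subgroup Γ) hS hc, Function.Bijective (F G hS hc)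
  equiv : ∀ (G : Subgroup Γ) hS hc (y : Γ) (hyG : y ∈ Subgroup.normalizer (G : Set Γ))
    (hyS : y ∈ Subgroup.normalizer (S : Set Γ)) (χ χ' : {χ : IrrCharacter G // Inv G S (χ : G → ℂ)}),
    ((χ'.1 : IrrCharacter G) : G → ℂ) = (fun g => (χ.1 : G → ℂ) (conjEquiv hyG g)) →
    (F G hS hc χ' : fix G S → ℂ) =
      fun c => (F G hS hc χ : fix G S → ℂ) (conjEquiv (mem_normalizer_fix hyG hyS) c)
  compat : ∀ (G : Subgroup Γ) hS hc (N : Subgroup Γ) hS' hc' (hNG : N ≤ G), G ≤ Subgroup.normalizer (N : Set Γ) →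
    ∀ (χ : {χ : IrrCharacter G // Inv G S (χ : G → ℂ)}) (θ : {θ : IrrCharacter N // Inv N S (θ : N → ℂ)}),
      Over hNG (χ.1 : G → ℂ) (θ.1 : N → ℂ) ↔
        Over (fix_mono hNG S) (F G hS hc χ : fix G S → ℂ) (F N hS' hc' θ : fix N S → ℂ)

theorem fix_bot (G : Subgroup Γ) : fix G ⊥ = G :=
  inf_eq_left.mpr fun g _ => Subgroup.mem_centralizer_iff.mpr fun h hh => by
    rw [SetLike.mem_coe, Subgroup.mem_bot] at hh
    simp [hh]

/-- The trivial family. -/
noncomputable def familyBot : Family (⊥ : Subgroup Γ) where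
  F G _ _ χ := ⟨fun c => (χ.1 : G → ℂ) (MulEquiv.subgroupCongr (fix_bot G) c),
    isIrrCharacter_comp_mulEquiv _ χ.1.2⟩
  bij G _ _ := by
    refine ⟨fun a b h => Subtype.ext (Subtype.ext (funext fun g => ?_)), fun β => ?_⟩
    · have := congrFun (congrArg Subtype.val h) ((MulEquiv.subgroupCongr (fix_bot G)).symm g)
      simpa using this
    · refine ⟨⟨⟨fun g => (β : fix G ⊥ → ℂ) ((MulEquiv.subgroupCongr (fix_bot G)).symm g),
        isIrrCharacter_comp_mulEquiv _ β.2⟩, fun s hs g g' e => ?_⟩, ?_⟩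
      · rw [Subgroup.mem_bot] at hs; subst hs
        exact congrArg _ (Subtype.ext (by simpa using e))
      · exact Subtype.ext (funext fun c => by simp)
  equiv G _ _ y hyG hyS χ χ' h := funext fun c => by
    show (χ'.1 : G → ℂ) _ = (χ.1 : G → ℂ) _
    rw [h]
    exact congrArg (χ.1 : G → ℂ) (Subtype.ext rfl)
  compat G _ _ N _ _ hNG _ χ θ := by
    letI := Fintype.ofFinite N
    letI := Fintype.ofFinite (fix N ⊥)
    rw [over_iff, over_iff, ← classInner_comp_mulEquiv (MulEquiv.subgroupCongr (fix_bot N))]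
    exact Iff.rfl

/-- A proper invariant subgroup with complementary `p`-subgroup. -/
theorem exists_step {S : Subgroup Γ} (hsolv : Group.IsSolvable S) (hS : S ≠ ⊥) :
    ∃ p : ℕ, p.Prime ∧ p ∣ Nat.card S ∧ ∃ T P : Subgroup Γ, T < S ∧ P ≤ S ∧ IsPGroup p P ∧
      T ⊔ P = S ∧ ∀ y ∈ Subgroup.normalizer (S : Set Γ), y ∈ Subgroup.normalizer (T : Set Γ) := by
  classical
  haveI : Nontrivial S := (Subgroup.nontrivial_iff_ne_bot S).mpr hS
  have hidx : (commutator S).index ≠ 1 := fun h =>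
    (Group.IsSolvable.commutator_lt_top_of_nontrivial (G := S)).ne (Subgroup.index_eq_one.mp h)
  obtain ⟨p, hp, hpd⟩ := Nat.exists_prime_and_dvd hidx
  haveI := Fact.mk hp
  refine ⟨p, hp, hpd.trans (Subgroup.index_dvd_card _), ?_⟩
  set A : Set Γ := {x | x ∈ S ∧ (orderOf x).Coprime p} with hA
  have hTS : Subgroup.closure A ≤ S := (Subgroup.closure_le S).mpr fun x hx => hx.1
  have hlt : Subgroup.closure A < S := by
    refine lt_of_le_of_ne hTS fun e => PResidual.not_dvd_commutator_index (K := S) p ?_ hpd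
    apply Subgroup.map_injective S.subtype_injective
    rw [MonoidHom.map_closure, ← MonoidHom.range_eq_map, S.range_subtype]
    conv_rhs => rw [← e]
    congr 1
    ext x
    simp only [Set.mem_image, Set.mem_setOf_eq, hA, Subgroup.coe_subtype]
    exact ⟨fun ⟨y, hy, e⟩ => e ▸ ⟨y.2, by rwa [Subgroup.orderOf_coe]⟩,
      fun ⟨h1, h2⟩ => ⟨⟨x, h1⟩, by rwa [← Subgroup.orderOf_coe], rfl⟩⟩
  obtain ⟨P0⟩ : Nonempty (Sylow p S) := inferInstance
  refine ⟨Subgroup.closure A, (P0 : Subgroup S).map S.subtype, hlt, Subgroup.map_subtype_le _,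
    P0.isPGroup'.map _, ?_, ?_⟩
  · refine Subgroup.eq_of_le_of_card_ge (sup_le hTS (Subgroup.map_subtype_le _))
      (Nat.le_of_dvd Nat.card_pos ?_)
    rw [Nat.dvd_iff_prime_pow_dvd_dvd]
    intro q j hq hqj
    haveI := Fact.mk hq
    rcases eq_or_ne q p with rfl | hqp
    · have h1 : q ^ j ∣ Nat.card ((P0 : Subgroup S).map S.subtype) := by
        rw [Subgroup.card_map_of_injective S.subtype_injective, P0.card_eq_multiplicity]
        exact pow_dvd_pow q ((hq.pow_dvd_iff_le_factorization Nat.card_pos.ne').mp hqj)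
      exact h1.trans (Subgroup.card_dvd_of_le le_sup_right)
    · obtain ⟨Q, hQ⟩ := Sylow.exists_subgroup_card_pow_prime q (G := S) hqj
      have hle : Q.map S.subtype ≤ Subgroup.closure A := by
        rintro _ ⟨y, hy, rfl⟩
        refine Subgroup.subset_closure ⟨y.2, ?_⟩
        rw [Subgroup.coe_subtype, Subgroup.orderOf_coe]
        have h1 : orderOf y ∣ q ^ j := hQ ▸ Subgroup.orderOf_dvd_natCard Q hy
        exact (Nat.Coprime.pow_left j ((Nat.coprime_primes hq hp).mpr hqp)).coprime_dvd_left h1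
      have h2 := Subgroup.card_dvd_of_le (hle.trans
        (le_sup_left : _ ≤ Subgroup.closure A ⊔ (P0 : Subgroup S).map S.subtype))
      rwa [Subgroup.card_map_of_injective S.subtype_injective, hQ] at h2
  · intro y hy
    have key : ∀ y ∈ Subgroup.normalizer (S : Set Γ), ∀ x ∈ Subgroup.closure A,
        y * x * y⁻¹ ∈ Subgroup.closure A := by
      intro y hy x hx
      induction hx using Subgroup.closure_induction with
      | mem z hz =>
        refine Subgroup.subset_closure ⟨(Subgroup.mem_normalizer_iff.mp hy z).mp hz.1, ?_⟩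
        rw [← MulAut.conj_apply, MulEquiv.orderOf_eq]
        exact hz.2
      | one => simp
      | mul a b _ _ ha hb => rw [← conj_mul]; exact Subgroup.mul_mem _ ha hb
      | inv a _ ha => rw [← conj_inv]; exact Subgroup.inv_mem _ ha
    refine Subgroup.mem_normalizer_iff.mpr fun x => ⟨key y hy x, fun hx => ?_⟩
    have := key y⁻¹ (inv_mem hy) _ hx
    simpa [mul_assoc] using this

/-- The correspondence `IsCorr` with a chosen instance. -/
def Corr (p : ℕ) {G C : Subgroup Γ} (hCG : C ≤ G) (χ : G → ℂ) (β : IrrCharacter C) : Prop :=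
  letI := Fintype.ofFinite C
  IsCorr p hCG χ β

theorem exists_pcorr {p : ℕ} (hp : p.Prime) {G P C : Subgroup Γ}
    (hP : P ≤ Subgroup.normalizer (G : Set Γ)) (hpP : IsPGroup p P) (hcop : ¬ p ∣ Nat.card G)
    (hC : C = fix G P) (hCG : C ≤ G) :
    ∃ F : {χ : IrrCharacter G // Inv G P (χ : G → ℂ)} → IrrCharacter C,
      Function.Bijective F ∧ ∀ χ, Corr p hCG ((χ.1 : IrrCharacter G) : G → ℂ) (F χ) := by
  classical
  haveI := Fact.mk hp
  letI := Fintype.ofFinite C
  letI := Fintype.ofFinite G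
  obtain ⟨k, hk⟩ := IsPGroup.iff_card.mp hpP
  exact hasCorr_of_isPGroup hp (Nat.card P) P rfl hP hpP
    (by rw [hk]; exact ((hp.coprime_iff_not_dvd.mpr hcop).pow_left k).symm) C hCG hC

/-- **Glauberman correspondence** for a solvable group. -/
theorem nonempty_family : ∀ (n : ℕ) (S : Subgroup Γ), Nat.card S = n → Group.IsSolvable S →
    Nonempty (Family S) := by
  classical
  intro n
  induction n using Nat.strong_induction_on with
  | _ n ih =>
  intro S hn hsolv
  by_cases hbot : S = ⊥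
  · subst hbot; exact ⟨familyBot⟩
  obtain ⟨p, hp, hpS, T, P, hT, hPS, hP, hsup, hnT⟩ := exists_step hsolv hbot
  haveI := Fact.mk hp
  have hTn : Nat.card T < n := by
    rw [← hn]
    refine lt_of_le_of_ne (Subgroup.card_le_of_le hT.le) fun e => hT.ne ?_
    exact Subgroup.eq_of_le_of_card_ge hT.le e.ge
  obtain ⟨Φ⟩ := ih _ hTn T rfl
    (CfsgLib.Coprime.isSolvable_of_le hT.le hsolv)
  have hcopT : ∀ {G : Subgroup Γ}, (Nat.card G).Coprime (Nat.card S) →
      (Nat.card G).Coprime (Nat.card T) := fun h =>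
    h.coprime_dvd_right (Subgroup.card_dvd_of_le hT.le)
  have hpG : ∀ {G : Subgroup Γ}, (Nat.card G).Coprime (Nat.card S) →
      ¬ p ∣ Nat.card (fix G T) := fun h hd =>
    hp.one_lt.ne' (Nat.eq_one_of_dvd_coprimes h
      (hd.trans (Subgroup.card_dvd_of_le inf_le_left)) hpS)
  have hPfix : ∀ {G : Subgroup Γ}, S ≤ Subgroup.normalizer (G : Set Γ) →
      P ≤ Subgroup.normalizer (fix G T : Set Γ) := fun h y hy =>
    mem_normalizer_fix (h (hPS hy)) (hnT y (Subgroup.le_normalizer (hPS hy)))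
  have hfix : ∀ G : Subgroup Γ, fix G S = fix (fix G T) P := fun G => by
    rw [fix, fix, fix, inf_assoc]
    congr 1
    refine le_antisymm (le_inf (Subgroup.centralizer_le (SetLike.coe_subset_coe.mpr (hsup ▸ le_sup_left)))
      (Subgroup.centralizer_le (SetLike.coe_subset_coe.mpr hPS))) fun x hx => ?_
    obtain ⟨h1, h2⟩ := Subgroup.mem_inf.mp hx
    have hle : T ⊔ P ≤ Subgroup.centralizer ({x} : Set Γ) := sup_le
      (fun t ht => Subgroup.mem_centralizer_singleton_iff.mpr (Subgroup.mem_centralizer_iff.mp h1 t ht))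
      (fun t ht => Subgroup.mem_centralizer_singleton_iff.mpr (Subgroup.mem_centralizer_iff.mp h2 t ht))
    rw [hsup] at hle
    exact Subgroup.mem_centralizer_iff.mpr fun t ht =>
      Subgroup.mem_centralizer_singleton_iff.mp (hle ht)
  have hle : ∀ G : Subgroup Γ, fix G S ≤ fix G T := fun G =>
    inf_le_inf_left _ (Subgroup.centralizer_le (SetLike.coe_subset_coe.mpr hT.le))
  have hinv : ∀ {G : Subgroup Γ} (hS : S ≤ Subgroup.normalizer (G : Set Γ))
      (hc : (Nat.card G).Coprime (Nat.card S)) (χ : {χ : IrrCharacter G // Inv G T (χ : G → ℂ)}),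
      Inv G S (χ.1 : G → ℂ) ↔
        Inv (fix G T) P (Φ.F G (hT.le.trans hS) (hcopT hc) χ : fix G T → ℂ) := by
    intro G hS hc χ
    have hj : ∀ (y : Γ) (hy : y ∈ P),
        ∃ χ' : {χ : IrrCharacter G // Inv G T (χ : G → ℂ)},
          ((χ'.1 : IrrCharacter G) : G → ℂ) =
            fun g => (χ.1 : G → ℂ) (conjEquiv (hS (hPS hy)) g) := by
      intro y hy
      refine ⟨⟨⟨_, isIrrCharacter_comp_mulEquiv (conjEquiv (hS (hPS hy))) χ.1.2⟩, ?_⟩, rfl⟩
      intro t ht g g' e
      exact χ.2 (y * t * y⁻¹) ((Subgroup.mem_normalizer_iff.mp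
        (hnT y (Subgroup.le_normalizer (hPS hy))) t).mp ht) _ _ (by simp [e, mul_assoc])
    refine ⟨fun h => fun y hy c c' e => ?_, fun h => ?_⟩
    · obtain ⟨χ', hχ'⟩ := hj y hy
      have h1 := Φ.equiv G (hT.le.trans hS) (hcopT hc) y (hS (hPS hy))
        (hnT y (Subgroup.le_normalizer (hPS hy))) χ χ' hχ'
      rw [show χ' = χ from Subtype.ext (Subtype.ext (hχ'.trans
        (funext fun g => h y (hPS hy) _ _ rfl)))] at h1
      refine Eq.trans ?_ (congrFun h1 c).symm
      exact congrArg _ (Subtype.ext e)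
    · rw [inv_iff_le_stab hS, ← hsup]
      refine sup_le ((inv_iff_le_stab (hT.le.trans hS)).mp χ.2) fun y hy => ?_
      obtain ⟨χ', hχ'⟩ := hj y hy
      have h1 := Φ.equiv G (hT.le.trans hS) (hcopT hc) y (hS (hPS hy))
        (hnT y (Subgroup.le_normalizer (hPS hy))) χ χ' hχ'
      have h2 : χ' = χ := (Φ.bij G _ _).1 (Subtype.ext (h1.trans (funext fun c => h y hy _ _ rfl)))
      rw [h2] at hχ'
      exact ⟨hS (hPS hy), fun g => (congrFun hχ' g).symm⟩
  choose Q hQb hQ using fun (G : Subgroup Γ) (hS : S ≤ Subgroup.normalizer (G : Set Γ))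
    (hc : (Nat.card G).Coprime (Nat.card S)) =>
    exists_pcorr hp (hPfix hS) hP (hpG hc) (hfix G) (hle G)
  refine ⟨{
    F := fun G hS hc χ =>
      Q G hS hc ⟨Φ.F G (hT.le.trans hS) (hcopT hc) ⟨χ.1, inv_mono hT.le χ.2⟩,
        (hinv hS hc ⟨χ.1, inv_mono hT.le χ.2⟩).mp χ.2⟩
    bij := ?_
    equiv := ?_
    compat := ?_ }⟩
  · intro G hS hc
    refine ⟨fun χ χ' e => ?_, fun β => ?_⟩
    · have h := (Φ.bij G _ _).1 (congrArg Subtype.val ((hQb G hS hc).1 e))
      exact Subtype.ext (congrArg (fun x : {χ : IrrCharacter G // Inv G T (χ : G → ℂ)} => x.1) h)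
    · obtain ⟨γ, rfl⟩ := (hQb G hS hc).2 β
      obtain ⟨χ, hχ⟩ := (Φ.bij G (hT.le.trans hS) (hcopT hc)).2 γ.1
      exact ⟨⟨χ.1, (hinv hS hc χ).mpr (hχ ▸ γ.2)⟩, congrArg (Q G hS hc) (Subtype.ext hχ)⟩
  · intro G hS hc y hyG hyS χ χ' h
    letI := Fintype.ofFinite (fix G S)
    letI := Fintype.ofFinite (fix G T)
    have h1 := Φ.equiv G (hT.le.trans hS) (hcopT hc) y hyG (hnT y hyS) ⟨χ.1, inv_mono hT.le χ.2⟩
      ⟨χ'.1, inv_mono hT.le χ'.2⟩ h
    have h2 := hQ G hS hc ⟨_, (hinv hS hc ⟨χ'.1, inv_mono hT.le χ'.2⟩).mp χ'.2⟩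
    have h3 := hQ G hS hc ⟨_, (hinv hS hc ⟨χ.1, inv_mono hT.le χ.2⟩).mp χ.2⟩
    simp only [Corr] at h2 h3
    have h4 := IsCorr.conj h3 (mem_normalizer_fix hyG (hnT y hyS)) (mem_normalizer_fix hyG hyS)
    try dsimp only at h2
    rw [← h1] at h4
    exact congrArg Subtype.val (IsCorr.unique hp (isCharacter_of_isIrr
      (Φ.F G (hT.le.trans hS) (hcopT hc) ⟨χ'.1, inv_mono hT.le χ'.2⟩).2) h4 h2)
  · intro G hS hc N hS' hc' hNG hGN χ θ
    rw [Φ.compat G (hT.le.trans hS) (hcopT hc) N (hT.le.trans hS') (hcopT hc') hNG hGN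
      ⟨χ.1, inv_mono hT.le χ.2⟩ ⟨θ.1, inv_mono hT.le θ.2⟩]
    letI := Fintype.ofFinite (fix G T)
    letI := Fintype.ofFinite (fix N T)
    letI := Fintype.ofFinite (fix G S)
    letI := Fintype.ofFinite (fix N S)
    rw [over_iff, over_iff]
    have hcom : ∀ {K : Subgroup Γ}, ∀ c ∈ fix K S, ∀ s ∈ S, c * s = s * c := fun c hc s hs =>
      (Subgroup.mem_centralizer_iff.mp (Subgroup.mem_inf.mp hc).2 s hs).symm
    exact isCorr_compat (fix_mono hNG T)
      (fun c hc => mem_normalizer_fix (hGN (Subgroup.mem_inf.mp hc).1)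
        (mem_normalizer_of_commute fun t ht =>
          (Subgroup.mem_centralizer_iff.mp (Subgroup.mem_inf.mp hc).2 t ht).symm))
      (hPfix hS) (hPfix hS') hP (hpG hc) (hle G) (hle N) (fix_mono hNG S)
      (fun c hc => mem_normalizer_fix (hGN (Subgroup.mem_inf.mp hc).1)
        (mem_normalizer_of_commute fun s hs => hcom c hc s hs))
      (fun c hc s hs => hcom c hc s (hPS hs)) (hQb N hS' hc').1 (hQ N hS' hc')
      ((hinv hS hc ⟨χ.1, inv_mono hT.le χ.2⟩).mp χ.2)
      (hQ G hS hc ⟨_, (hinv hS hc ⟨χ.1, inv_mono hT.le χ.2⟩).mp χ.2⟩)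
      ⟨_, (hinv hS' hc' ⟨θ.1, inv_mono hT.le θ.2⟩).mp θ.2⟩

/-- As many invariant irreducible characters as irreducible characters of the fixed points. -/
theorem card_invariant {G S : Subgroup Γ} (hS : S ≤ Subgroup.normalizer (G : Set Γ))
    (hsolv : Group.IsSolvable S) (hcop : (Nat.card G).Coprime (Nat.card S)) :
    Nat.card {χ : IrrCharacter G // Inv G S (χ : G → ℂ)} = Nat.card (ConjClasses (fix G S)) := by
  classical
  obtain ⟨Φ⟩ := nonempty_family (Nat.card S) S rfl hsolv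
  rw [Nat.card_eq_of_bijective _ (Φ.bij G hS hcop)]
  exact card_irr_eq_card_conjClasses

/-- An invariant character of an invariant normal subgroup has an invariant constituent above. -/
theorem exists_invariant_over {G N S : Subgroup Γ} (hS : S ≤ Subgroup.normalizer (G : Set Γ))
    (hSN : S ≤ Subgroup.normalizer (N : Set Γ)) (hNG : N ≤ G)
    (hGN : G ≤ Subgroup.normalizer (N : Set Γ)) (hsolv : Group.IsSolvable S)
    (hcop : (Nat.card G).Coprime (Nat.card S)) {θ : IrrCharacter N} (hθ : Inv N S (θ : N → ℂ)) :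
    ∃ χ : IrrCharacter G, Over hNG (χ : G → ℂ) (θ : N → ℂ) ∧ Inv G S (χ : G → ℂ) := by
  classical
  obtain ⟨Φ⟩ := nonempty_family (Nat.card S) S rfl hsolv
  have hc' := hcop.coprime_dvd_left (Subgroup.card_dvd_of_le hNG)
  letI := Fintype.ofFinite (fix G S)
  letI := Fintype.ofFinite (fix N S)
  set δ := Φ.F N hSN hc' ⟨θ, hθ⟩ with hδ
  set e := Subgroup.subgroupOfEquivOfLe (fix_mono hNG S) with he
  haveI : Fintype ((fix N S).subgroupOf (fix G S)) := Fintype.ofFinite _
  have hδ' := isIrrCharacter_comp_mulEquiv e δ.2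
  obtain ⟨β, hβ⟩ : ∃ β : IrrCharacter (fix G S),
      classInner (res (fix_mono hNG S) (β : fix G S → ℂ)) (δ : fix N S → ℂ) ≠ 0 := by
    by_contra h
    push_neg at h
    set I := indFun ((fix N S).subgroupOf (fix G S)) (fun n => (δ : fix N S → ℂ) (e n)) with hI
    have h0 : ∀ β : IrrCharacter (fix G S), classInner I (β : fix G S → ℂ) = 0 := fun β => by
      rw [hI, frobenius_reciprocity _ _ (isClassFunction_of_isCharacter (isCharacter_of_isIrr β.2)),
        ← classInner_conj_symm]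
      rw [show classInner (fun n : (fix N S).subgroupOf (fix G S) => (β : fix G S → ℂ) n)
          (fun n => (δ : fix N S → ℂ) (e n)) =
          classInner (res (fix_mono hNG S) (β : fix G S → ℂ)) (δ : fix N S → ℂ) from
        classInner_comp_mulEquiv e (res (fix_mono hNG S) (β : fix G S → ℂ)) δ, h, map_zero]
    have hIc := isCharacter_indFun ((fix N S).subgroupOf (fix G S)) (isCharacter_of_isIrr hδ')
    have hI0 := classFunction_expansion (isClassFunction_of_isCharacter hIc)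
    rw [← hI] at hI0
    simp only [h0, zero_smul, Finset.sum_const_zero] at hI0
    have h1 := congrFun hI0 1
    rw [hI, indFun_one, Pi.zero_apply] at h1
    exact mul_ne_zero (Nat.cast_ne_zero.mpr Subgroup.index_ne_zero_of_finite)
      (irr_degree_ne_zero hδ') h1
  obtain ⟨⟨χ, hχ⟩, rfl⟩ := (Φ.bij G hS hcop).2 β
  exact ⟨χ, (Φ.compat G hS hcop N hSN hc' hNG hGN ⟨χ, hχ⟩ ⟨θ, hθ⟩).mpr ((over_iff _ _ _).mpr hβ), hχ⟩

end CfsgLib.Char.Glauberman
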