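import Cfsg.Agent.Lib.Char.PiPart
import Cfsg.Agent.Lib.Coprime.SchurZassenhaus
import Cfsg.Agent.Lib.Char.Kernel
import Cfsg.Agent.Lib.Coprime.Action
import Cfsg.Agent.Lib.Char.Table

/-!
# Extending characters from a Hall subgroup controlling fusion (Brauer–Suzuki)
-/

set_option autoImplicit false

namespace CfsgLib.Char.HallExtend

open Cfsg CfsgLib.Char.PiPart
open scoped ComplexConjugate CfsgLib.Char

variable {G : Type*} [Group G] [Finite G] (H : Subgroup G)

/-- A cyclic group is elementary. -/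
theorem exists_elementary_zpowers (y : G) :
    ∃ p : ℕ, p.Prime ∧ IsElementary p (Subgroup.zpowers y) := by
  obtain ⟨p, hp, hpp⟩ := Nat.exists_infinite_primes (Nat.card G + 1)
  refine ⟨p, hpp, ⟨y, Subgroup.mem_zpowers y⟩, ?_, ?_, 0, ?_⟩
  · rw [Subgroup.mem_center_iff]
    intro z
    obtain ⟨i, hi⟩ := Subgroup.mem_zpowers_iff.mp z.2
    refine Subtype.ext ?_
    show (z : G) * y = y * z
    rw [← hi]
    exact ((Commute.refl y).zpow_left i).eq
  · rw [Subgroup.orderOf_mk, Nat.coprime_comm, hpp.coprime_iff_not_dvd]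
    intro h
    have h1 := Nat.le_of_dvd (orderOf_pos y) h
    have h2 := Nat.le_of_dvd Nat.card_pos (orderOf_dvd_natCard y)
    omega
  · rw [pow_zero, Subgroup.index_eq_one, eq_top_iff]
    intro z _
    obtain ⟨i, hi⟩ := Subgroup.mem_zpowers_iff.mp z.2
    exact Subgroup.mem_zpowers_iff.mpr ⟨i, Subtype.ext hi⟩

variable (hHall : Nat.Coprime (Nat.card H) H.index)
  (hfus : ∀ x ∈ H, ∀ y ∈ H, IsConj x y → ∃ h ∈ H, h * x * h⁻¹ = y)
  (helem : ∀ (E : Subgroup G) (p : ℕ), p.Prime → IsElementary p E → Nat.card E ∣ Nat.card H →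
    ∃ g : G, E.map (MulAut.conj g).toMonoidHom ≤ H)

include hHall hfus helem in
/-- Sylow subgroups of centralisers of elements of `H` are found inside `H`. -/
theorem pow_dvd_card_centralizer {h : G} (hh : h ∈ H) {p : ℕ} [hp : Fact p.Prime]
    (hpH : p ∣ Nat.card H) {j : ℕ} (hj : p ^ j ∣ Nat.card (Subgroup.centralizer ({h} : Set G))) :
    p ^ j ∣ Nat.card ↥(H ⊓ Subgroup.centralizer ({h} : Set G)) := by
  classical
  set C := Subgroup.centralizer ({h} : Set G) with hC
  obtain ⟨Q₀⟩ : Nonempty (Sylow p C) := inferInstance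
  set Q : Subgroup G := (Q₀ : Subgroup C).map C.subtype with hQ
  have hQC : Q ≤ C := Subgroup.map_subtype_le _
  have hQcard : Nat.card Q = p ^ (Nat.card C).factorization p := by
    rw [hQ, Subgroup.card_map_of_injective C.subtype_injective, Sylow.card_eq_multiplicity]
  suffices hdvd : Nat.card Q ∣ Nat.card ↥(H ⊓ C) by
    refine (pow_dvd_pow p ?_).trans (hQcard ▸ hdvd)
    exact (hp.out.pow_dvd_iff_le_factorization Nat.card_pos.ne').mp hj
  set N := Nat.card G with hN
  have hN0 : N ≠ 0 := Nat.card_pos.ne'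
  set P := p ^ N.factorization p with hP
  set R := N / P with hR
  have hPR : P * R = N := Nat.ordProj_mul_ordCompl_eq_self N p
  have hpR : ¬ p ∣ R := Nat.not_dvd_ordCompl hp.out hN0
  have hcop : P.Coprime R := (Nat.Coprime.pow_left _ (hp.out.coprime_iff_not_dvd.mpr hpR))
  obtain ⟨a, b, -, hRa, hPb, hab⟩ := exists_exponent hcop
  have hh_eq : h = h ^ a * h ^ b := by
    rw [← pow_add]
    conv_lhs => rw [← pow_one h]
    exact (pow_eq_pow_iff_modEq.mpr (hab.of_dvd (by rw [hPR]; exact orderOf_dvd_natCard h))).symm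
  -- the `p`-part lies in `Q`
  have haQ : h ^ a ∈ Q := by
    have haC : h ^ a ∈ C := Subgroup.mem_centralizer_singleton_iff.mpr
      ((Commute.refl h).pow_left a).eq
    have hpow : (⟨h ^ a, haC⟩ : C) ^ P = 1 := Subtype.ext (by
      rw [SubmonoidClass.coe_pow, OneMemClass.coe_one]
      exact part_pow (by rw [hPR]) hRa h)
    have hZ : IsPGroup p (Subgroup.zpowers (⟨h ^ a, haC⟩ : C)) := by
      obtain ⟨i, -, hi⟩ := (Nat.dvd_prime_pow hp.out).mp (orderOf_dvd_of_pow_eq_one hpow)
      exact IsPGroup.of_card (n := i) (by rw [Nat.card_zpowers, hi])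
    haveI : (Subgroup.zpowers (⟨h ^ a, haC⟩ : C)).Normal := ⟨fun z hz c => by
      obtain ⟨i, rfl⟩ := Subgroup.mem_zpowers_iff.mp hz
      have hc : Commute c (⟨h ^ a, haC⟩ : C) := Subtype.ext
        ((show Commute (c : G) h from Subgroup.mem_centralizer_singleton_iff.mp c.2).pow_right a).eq
      rw [(hc.zpow_right i).eq, mul_inv_cancel_right]
      exact hz⟩
    have hsup := IsPGroup.to_sup_of_normal_right Q₀.isPGroup' hZ
    have hle := Q₀.is_maximal' hsup le_sup_left
    refine ⟨⟨h ^ a, haC⟩, ?_, rfl⟩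
    exact hle.le (Subgroup.mem_sup_right (Subgroup.mem_zpowers _))
  set x := h ^ b with hx
  have hcomm : ∀ q ∈ Q, Commute q x := fun q hq =>
    ((show Commute q h from Subgroup.mem_centralizer_singleton_iff.mp (hQC hq))).pow_right b
  have hQn : Q ≤ Subgroup.normalizer (Subgroup.zpowers x : Set G) :=
    le_trans (fun q hq => CfsgLib.Coprime.mem_centralizer_singleton_zpowers
      (Subgroup.mem_centralizer_singleton_iff.mpr (hcomm q hq).eq))
      (Subgroup.centralizer_le_normalizer _)
  have hxR : orderOf x ∣ R := orderOf_dvd_of_pow_eq_one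
    (part_pow (by rw [mul_comm, hPR]) hPb h)
  have hxp : (orderOf x).Coprime p :=
    ((hp.out.coprime_iff_not_dvd.mpr hpR).symm).coprime_dvd_left hxR
  have hcop' : (Nat.card (Subgroup.zpowers x)).Coprime (Nat.card Q) := by
    rw [Nat.card_zpowers, hQcard]
    exact hxp.pow_right _
  set E := Subgroup.zpowers x ⊔ Q with hE
  have hEcard : Nat.card E = orderOf x * Nat.card Q := by
    rw [hE, CfsgLib.Coprime.card_sup_of_coprime hQn hcop', Nat.card_zpowers]
  have hxE : x ∈ E := Subgroup.mem_sup_left (Subgroup.mem_zpowers x)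
  have hhE : h ∈ E := by
    rw [hh_eq]
    exact E.mul_mem (Subgroup.mem_sup_right haQ) hxE
  have hEel : IsElementary p E := by
    refine ⟨⟨x, hxE⟩, ?_, by rwa [Subgroup.orderOf_mk], (Nat.card C).factorization p, ?_⟩
    · rw [Subgroup.mem_center_iff]
      intro z
      have hle : E ≤ Subgroup.centralizer ({x} : Set G) :=
        sup_le (Subgroup.zpowers_le.mpr (Subgroup.mem_centralizer_singleton_iff.mpr rfl))
          (fun q hq => Subgroup.mem_centralizer_singleton_iff.mpr (hcomm q hq).eq)
      exact Subtype.ext (Subgroup.mem_centralizer_singleton_iff.mp (hle z.2))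
    · have h1 := (Subgroup.zpowers (⟨x, hxE⟩ : E)).card_mul_index
      rw [Nat.card_zpowers, Subgroup.orderOf_mk, hEcard] at h1
      rw [Nat.eq_of_mul_eq_mul_left (orderOf_pos x) h1, hQcard]
  have hEdvd : Nat.card E ∣ Nat.card H := by
    rw [hEcard]
    refine Nat.Coprime.mul_dvd_of_dvd_of_dvd (by rw [← Nat.card_zpowers]; exact hcop') ?_ ?_
    · exact (orderOf_pow_dvd b).trans (Subgroup.orderOf_dvd_natCard H hh)
    · have hpn : p.Coprime H.index := hHall.coprime_dvd_left hpH
      rw [hQcard]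
      refine (hpn.pow_left _).dvd_of_dvd_mul_right ?_
      rw [H.card_mul_index, ← hQcard]
      exact Subgroup.card_subgroup_dvd_card Q
  obtain ⟨g, hg⟩ := helem E p hp.out hEel hEdvd
  have hgh : g * h * g⁻¹ ∈ H := hg ⟨h, hhE, rfl⟩
  obtain ⟨k, hk, hkh⟩ := hfus _ hgh h hh (isConj_iff.mpr ⟨g⁻¹, by group⟩)
  have hmap : Q.map (MulAut.conj (k * g)).toMonoidHom ≤ H ⊓ C := by
    rintro _ ⟨q, hq, rfl⟩
    show k * g * q * (k * g)⁻¹ ∈ H ⊓ C
    refine Subgroup.mem_inf.mpr ⟨?_, ?_⟩
    · rw [show k * g * q * (k * g)⁻¹ = k * (g * q * g⁻¹) * k⁻¹ by group]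
      exact H.mul_mem (H.mul_mem hk (hg ⟨q, Subgroup.mem_sup_right hq, rfl⟩)) (H.inv_mem hk)
    · rw [hC, Subgroup.mem_centralizer_singleton_iff]
      have hc : q * h = h * q := Subgroup.mem_centralizer_singleton_iff.mp (hQC hq)
      conv_lhs => arg 2; rw [← hkh]
      conv_rhs => arg 1; rw [← hkh]
      calc k * g * q * (k * g)⁻¹ * (k * (g * h * g⁻¹) * k⁻¹) = k * g * (q * h) * (k * g)⁻¹ := by group
        _ = k * g * (h * q) * (k * g)⁻¹ := by rw [hc]
        _ = _ := by group
  have := Subgroup.card_dvd_of_le hmap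
  rwa [Subgroup.card_map_of_injective (MulEquiv.injective _)] at this

include hHall hfus helem in
/-- Every irreducible character of `H` extends to `G`, with values given by the parts of elements. -/
theorem exists_extensions [Fintype G] [Fintype H] :
    ∃ a : ℕ, (∀ x ∈ H, x ^ a = x) ∧
      Nat.card {x : G // x ^ a = 1} = H.index ∧
      (∀ x : G, ∃ h : H, IsConj (x ^ a) (h : G)) ∧
      ∀ θ : IrrCharacter H, ∃ χ : IrrCharacter G,
        ∀ (x : G) (h : H), IsConj (x ^ a) (h : G) → (χ : G → ℂ) x = (θ : H → ℂ) h := by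
  classical
  set m := Nat.card H with hm
  set n := H.index with hn
  have hmn : Nat.card G = m * n := H.card_mul_index.symm
  obtain ⟨a, b, ha, hna, -, -⟩ := exists_exponent hHall
  have hN : Nat.card G ∣ m * n := dvd_of_eq hmn
  have hpartH : ∀ x ∈ H, x ^ a = x := fun x hx => part_eq_self ha
    (orderOf_dvd_iff_pow_eq_one.mp (Subgroup.orderOf_dvd_natCard H hx))
  have hex : ∀ x : G, ∃ h : H, IsConj (x ^ a) (h : G) := by
    intro x
    obtain ⟨p, hp, hel⟩ := exists_elementary_zpowers (x ^ a)
    obtain ⟨g, hg⟩ := helem _ p hp hel (by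
      rw [Nat.card_zpowers]; exact orderOf_dvd_of_pow_eq_one (part_pow hN hna x))
    exact ⟨⟨_, hg ⟨x ^ a, Subgroup.mem_zpowers _, rfl⟩⟩, isConj_iff.mpr ⟨g, rfl⟩⟩
  choose rep hrep using hex
  let cl : G → ConjClasses H := fun x => ConjClasses.mk (rep x)
  have huniq : ∀ (x : G) (h : H), IsConj (x ^ a) (h : G) → cl x = ConjClasses.mk h := by
    intro x h hc
    obtain ⟨k, hk, e⟩ := hfus _ (rep x).2 _ h.2 ((hrep x).symm.trans hc)
    exact ConjClasses.mk_eq_mk_iff_isConj.mpr (isConj_iff.mpr ⟨⟨k, hk⟩, Subtype.ext e⟩)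
  have hclx : ∀ (x : G) (h : H), cl x = ConjClasses.mk h → IsConj (x ^ a) (h : G) := by
    intro x h e
    obtain ⟨k, hk⟩ := isConj_iff.mp (ConjClasses.mk_eq_mk_iff_isConj.mp e)
    exact (hrep x).trans (isConj_iff.mpr ⟨(k : G), congrArg Subtype.val hk⟩)
  -- the fibres
  have hlow : ∀ C : ConjClasses H,
      n * (Finset.univ.filter fun u : H => ConjClasses.mk u = C).card ≤
        (Finset.univ.filter fun x : G => cl x = C).card := by
    intro C
    obtain ⟨h, rfl⟩ := ConjClasses.exists_rep C
    set D := Subgroup.centralizer ({(h : G)} : Set G) with hD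
    set nr := Nat.card {z : D // z ^ n = 1}
    have hfib : (Finset.univ.filter fun x : G => cl x = ConjClasses.mk h).card = D.index * nr := by
      rw [← card_isConj_eq_index (h : G), Nat.card_eq_fintype_card, Fintype.card_subtype,
        Finset.card_eq_sum_card_fiberwise (f := fun x : G => x ^ a)
          (t := Finset.univ.filter fun y : G => IsConj y (h : G))
          (fun x hx => Finset.mem_coe.mpr (Finset.mem_filter.mpr ⟨Finset.mem_univ _,
            hclx x h (Finset.mem_filter.mp (Finset.mem_coe.mp hx)).2⟩)),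
        Finset.sum_congr rfl (g := fun _ => nr), Finset.sum_const, smul_eq_mul]
      intro y hy
      have hy' := (Finset.mem_filter.mp hy).2
      obtain ⟨c, hc⟩ := isConj_iff.mp hy'
      rw [Finset.filter_filter, ← Fintype.card_subtype, ← Nat.card_eq_fintype_card]
      show _ = Nat.card {z : D // z ^ n = 1}
      rw [← card_fibre hN ha hna hHall (orderOf_dvd_iff_pow_eq_one.mp
        (Subgroup.orderOf_dvd_natCard H h.2) : (h : G) ^ m = 1)]
      refine Nat.card_congr ((MulAut.conj c).toEquiv.subtypeEquiv fun x => ?_)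
      show _ ↔ (c * x * c⁻¹) ^ a = (h : G)
      rw [conj_pow, ← hc, mul_left_inj, mul_right_inj]
      exact ⟨fun e => e.2, fun e => ⟨huniq x h (e ▸ hy'), e⟩⟩
    have hnr : (Nat.card D).gcd n ≤ nr := by
      have hsplit : Nat.card D = (Nat.card D).gcd m * (Nat.card D).gcd n := by
        rw [← Nat.Coprime.gcd_mul _ hHall, ← hmn,
          Nat.gcd_eq_left (Subgroup.card_subgroup_dvd_card D)]
      haveI : Fintype D := Fintype.ofFinite D
      have h1 := dvd_card_roots hsplit ((hHall.coprime_dvd_left (Nat.gcd_dvd_right _ _)).coprime_dvd_right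
        (Nat.gcd_dvd_right _ _))
      have e : Nat.card {z : D // z ^ (Nat.card D).gcd n = 1} = nr :=
        Nat.card_congr (Equiv.subtypeEquivRight fun z => by
          rw [← orderOf_dvd_iff_pow_eq_one, ← orderOf_dvd_iff_pow_eq_one, Nat.dvd_gcd_iff]
          exact ⟨fun h => h.2, fun h => ⟨orderOf_dvd_natCard z, h⟩⟩)
      haveI : Nonempty {z : D // z ^ (Nat.card D).gcd n = 1} := ⟨⟨1, one_pow _⟩⟩
      exact e ▸ Nat.le_of_dvd Nat.card_pos h1
    have hC' : (Nat.card D).gcd m ∣ Nat.card ↥(H ⊓ D) := by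
      rw [Nat.dvd_iff_prime_pow_dvd_dvd]
      intro q j hq hqj
      rcases Nat.eq_zero_or_pos j with rfl | hj
      · simp
      haveI := Fact.mk hq
      exact pow_dvd_card_centralizer H hHall hfus helem h.2
        ((dvd_pow_self q hj.ne').trans (hqj.trans (Nat.gcd_dvd_right _ _)))
        (hqj.trans (Nat.gcd_dvd_left _ _))
    set Dh := Subgroup.centralizer ({h} : Set H) with hDh
    have hDcard : Nat.card Dh = Nat.card ↥(H ⊓ D) := by
      rw [← Subgroup.card_map_of_injective H.subtype_injective]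
      congr 1
      rw [show Dh.map H.subtype = H ⊓ D from ?_]
      ext x
      constructor
      · rintro ⟨u, hu, rfl⟩
        exact ⟨u.2, Subgroup.mem_centralizer_singleton_iff.mpr
          (congrArg Subtype.val (Subgroup.mem_centralizer_singleton_iff.mp hu))⟩
      · rintro ⟨hx, hxD⟩
        exact ⟨⟨x, hx⟩, Subgroup.mem_centralizer_singleton_iff.mpr
          (Subtype.ext (Subgroup.mem_centralizer_singleton_iff.mp hxD)), rfl⟩
    have hclass : (Finset.univ.filter fun u : H => ConjClasses.mk u = ConjClasses.mk h).card = Dh.index := by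
      rw [← card_isConj_eq_index h, Nat.card_eq_fintype_card, Fintype.card_subtype]
      exact congrArg Finset.card (Finset.filter_congr fun u _ => ConjClasses.mk_eq_mk_iff_isConj)
    rw [hclass, hfib]
    refine Nat.le_of_mul_le_mul_right ?_ (Nat.card_pos (α := Dh))
    rw [mul_assoc n, mul_comm Dh.index, Dh.card_mul_index, hDcard]
    calc n * m = D.index * ((Nat.card D).gcd n * (Nat.card D).gcd m) := by
          rw [mul_comm ((Nat.card D).gcd n), ← Nat.Coprime.gcd_mul _ hHall, ← hmn,
            Nat.gcd_eq_left (Subgroup.card_subgroup_dvd_card D), mul_comm n, ← hmn, D.index_mul_card]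
      _ ≤ D.index * (nr * Nat.card ↥(H ⊓ D)) := Nat.mul_le_mul_left _
          (Nat.mul_le_mul hnr (Nat.le_of_dvd Nat.card_pos hC'))
      _ = _ := (mul_assoc _ _ _).symm
  have htot : ∑ C : ConjClasses H, n * (Finset.univ.filter fun u : H => ConjClasses.mk u = C).card =
      ∑ C : ConjClasses H, (Finset.univ.filter fun x : G => cl x = C).card := by
    rw [← Finset.mul_sum,
      ← Finset.card_eq_sum_card_fiberwise (f := ConjClasses.mk) (s := (Finset.univ : Finset H))
        (t := Finset.univ) (fun _ _ => Finset.mem_coe.mpr (Finset.mem_univ _)),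
      ← Finset.card_eq_sum_card_fiberwise (f := cl) (s := (Finset.univ : Finset G))
        (t := Finset.univ) (fun _ _ => Finset.mem_coe.mpr (Finset.mem_univ _)),
      Finset.card_univ, Finset.card_univ, ← Nat.card_eq_fintype_card, ← Nat.card_eq_fintype_card,
      mul_comm, ← hm, ← hmn]
  have hfibre := (Finset.sum_eq_sum_iff_of_le fun C _ => hlow C).mp htot
  refine ⟨a, hpartH, ?_, fun x => ⟨rep x, hrep x⟩, fun θ => ?_⟩
  · have h1 := hfibre (ConjClasses.mk (1 : H)) (Finset.mem_univ _)
    have e1 : (Finset.univ.filter fun u : H => ConjClasses.mk u = ConjClasses.mk (1 : H)) = {1} := by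
      ext u
      simp only [Finset.mem_filter, Finset.mem_univ, true_and, Finset.mem_singleton,
        ConjClasses.mk_eq_mk_iff_isConj, isConj_one_left]
    rw [e1, Finset.card_singleton, mul_one] at h1
    rw [Nat.card_eq_fintype_card, Fintype.card_subtype]
    refine Eq.trans ?_ h1.symm
    refine congrArg Finset.card (Finset.filter_congr fun x _ => ⟨fun hx => huniq x 1 (by
      rw [hx, OneMemClass.coe_one]), fun hx => ?_⟩)
    have := hclx x 1 hx
    rwa [OneMemClass.coe_one, isConj_one_left] at this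
  let F : G → ℂ := fun x => (θ : H → ℂ) (rep x)
  have hF : ∀ (x : G) (h : H), IsConj (x ^ a) (h : G) → F x = (θ : H → ℂ) h := fun x h hc =>
    eq_of_isConj (isClassFunction_irr θ) (ConjClasses.mk_eq_mk_iff_isConj.mp (huniq x h hc))
  have hFcl : IsClassFunction G F := fun x g => hF _ _ (by
    rw [conj_pow]
    exact (isConj_iff.mpr ⟨g, rfl⟩ : IsConj (x ^ a) (g * x ^ a * g⁻¹)).symm.trans (hrep x))
  have hgen : IsGeneralizedCharacter G F := by
    refine brauer_characterisation hFcl fun E p hp hE => isGeneralized_of_isCharacter ?_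
    haveI := isNilpotent_of_isElementary hp hE
    have hNE : Nat.card E ∣ m * n := hmn ▸ Subgroup.card_subgroup_dvd_card E
    let r : E →* E :=
      { toFun := fun x => x ^ a
        map_one' := one_pow a
        map_mul' := part_hom hNE ha hna hHall }
    have hrd := card_range_dvd hNE ha hna hHall r fun x => rfl
    obtain ⟨g, hg⟩ := helem (r.range.map E.subtype) p hp
      (isElementary_equiv (Subgroup.equivMapOfInjective _ _ E.subtype_injective)
        (isElementary_subgroup hp hE r.range))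
      (by rw [Subgroup.card_map_of_injective E.subtype_injective]; exact hrd)
    let φ : E →* H := (((MulAut.conj g).toMonoidHom.comp E.subtype).comp r).codRestrict H
      fun e => hg ⟨_, ⟨r e, ⟨e, rfl⟩, rfl⟩, rfl⟩
    have he : (fun e : E => F e) = fun e => (θ : H → ℂ) (φ e) := funext fun e => hF _ _ (by
      show IsConj ((e : G) ^ a) (g * ((e ^ a : E) : G) * g⁻¹)
      rw [SubmonoidClass.coe_pow]
      exact isConj_iff.mpr ⟨g, rfl⟩)
    rw [he]
    exact isCharacter_comp φ (isCharacter_of_isIrr θ.2)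
  have hnorm : classInner F F = 1 := by
    rw [classInner, inv_mul_eq_one₀ (Nat.cast_ne_zero.mpr Nat.card_pos.ne')]
    have hθ := classInner_irr_self θ.2
    rw [classInner, inv_mul_eq_one₀ (Nat.cast_ne_zero.mpr Nat.card_pos.ne')] at hθ
    symm
    calc ∑ x : G, F x * conj (F x)
        = ∑ C : ConjClasses H, ∑ x ∈ Finset.univ.filter (fun x => cl x = C), F x * conj (F x) :=
          (Finset.sum_fiberwise _ _ _).symm
      _ = ∑ C : ConjClasses H, (n : ℂ) * ∑ u ∈ Finset.univ.filter (fun u : H => ConjClasses.mk u = C),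
            (θ : H → ℂ) u * conj ((θ : H → ℂ) u) := by
          refine Finset.sum_congr rfl fun C _ => ?_
          obtain ⟨h, rfl⟩ := ConjClasses.exists_rep C
          have hc1 : ∀ x ∈ Finset.univ.filter (fun x => cl x = ConjClasses.mk h),
              F x * conj (F x) = (θ : H → ℂ) h * conj ((θ : H → ℂ) h) := fun x hx => by
            rw [hF x h (hclx x h (Finset.mem_filter.mp hx).2)]
          have hc2 : ∀ u ∈ Finset.univ.filter (fun u : H => ConjClasses.mk u = ConjClasses.mk h),
              (θ : H → ℂ) u * conj ((θ : H → ℂ) u) = (θ : H → ℂ) h * conj ((θ : H → ℂ) h) := fun u hu => by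
            rw [eq_of_isConj (isClassFunction_irr θ) (ConjClasses.mk_eq_mk_iff_isConj.mp (Finset.mem_filter.mp hu).2)]
          rw [Finset.sum_congr rfl hc1, Finset.sum_congr rfl hc2, Finset.sum_const, Finset.sum_const,
            ← hfibre (ConjClasses.mk h) (Finset.mem_univ _), mul_nsmul', nsmul_eq_mul]
      _ = (Nat.card G : ℂ) := by
          rw [← Finset.mul_sum, Finset.sum_fiberwise, ← hθ, hmn, Nat.cast_mul, mul_comm]
  obtain ⟨ε, hε, χ, hχ⟩ := exists_of_norm_one hgen hnorm
  have hε1 : ε = 1 := by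
    rcases hε with e | e
    · exact e
    · exfalso
      have h1 := hF 1 1 (by rw [one_pow, OneMemClass.coe_one])
      rw [hχ, e, Pi.smul_apply, smul_eq_mul, neg_one_mul] at h1
      obtain ⟨d, -, hd⟩ := exists_nat_degree_irr θ.2
      obtain ⟨d', -, hd'⟩ := exists_nat_degree_irr χ.2
      rw [hd, hd'] at h1
      have h2 : (d : ℂ) + d' = 0 := by rw [← h1]; ring
      have h3 : d + d' = 0 := by exact_mod_cast h2
      exact irr_degree_ne_zero θ.2 (by rw [hd, show d = 0 by omega, Nat.cast_zero])
  refine ⟨χ, fun x h hc => ?_⟩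
  rw [← hF x h hc, hχ, hε1, one_smul]

end CfsgLib.Char.HallExtend
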