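import Cfsg.Agent.Lib.Char.Clifford
import Cfsg.Agent.Lib.Char.Gallagher
import Cfsg.Agent.Lib.Char.Indicator
import Cfsg.Agent.Lib.Char.AbelianQuotient
import Cfsg.Agent.Lib.Char.Counting
import Cfsg.Agent.Lib.Char.Solomon
import Mathlib.LinearAlgebra.Matrix.Kronecker

/-!
# The indicator of a character induced from an inertia group, and linear twists
-/

set_option autoImplicit false
set_option linter.unusedSectionVars false
set_option linter.style.haveILetI false

namespace CfsgLib.Char

open Cfsg
open scoped ComplexConjugate CfsgLib.Char Kronecker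

/-- The mixed products of matrix entries of two representations with orthogonal characters sum to
zero. -/
theorem sum_entries_eq_zero {N : Type*} [Group N] [Fintype N] {d : ℕ}
    (A B : N →* Matrix (Fin d) (Fin d) ℂ)
    (h : ∑ n : N, (A n).trace * (B n).trace = 0) (a b c e : Fin d) :
    ∑ n : N, A n a b * B n c e = 0 := by
  classical
  set S : Matrix (Fin d × Fin d) (Fin d × Fin d) ℂ := ∑ n : N, A n ⊗ₖ B n with hS
  have hmul : ∀ m : N, (A m ⊗ₖ B m) * S = S := fun m => by
    rw [hS, Finset.mul_sum]
    exact Fintype.sum_equiv (Equiv.mulLeft m) _ _ fun n => by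
      simp [← Matrix.mul_kronecker_mul]
  have hN : (Fintype.card N : ℂ) ≠ 0 := Nat.cast_ne_zero.mpr Fintype.card_ne_zero
  set T := (Fintype.card N : ℂ)⁻¹ • S with hT
  have hSS : S * S = (Fintype.card N : ℂ) • S := by
    conv_lhs => arg 1; rw [hS]
    rw [Finset.sum_mul, Finset.sum_congr rfl fun m _ => hmul m, Finset.sum_const, Finset.card_univ,
      ← Nat.cast_smul_eq_nsmul ℂ]
  have hidem : IsIdempotentElem T := by
    rw [IsIdempotentElem, hT, Matrix.smul_mul, Matrix.mul_smul, hSS, smul_smul, smul_smul]
    congr 1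
    field_simp
  have htr : T.trace = 0 := by
    rw [hT, Matrix.trace_smul, hS, Matrix.trace_sum,
      Finset.sum_congr rfl fun n _ => Matrix.trace_kronecker (A n) (B n), h, smul_zero]
  have hT0 : Matrix.toLin' T = 0 := by
    have hid : IsIdempotentElem (Matrix.toLin' T) := by
      have h1 : T * T = T := hidem
      rw [IsIdempotentElem, Module.End.mul_eq_comp, ← Matrix.toLin'_mul, h1]
    obtain ⟨p, hp⟩ := LinearMap.isProj_iff_isIdempotentElem _ |>.mpr hid
    have h2 := hp.trace
    rw [LinearMap.trace_eq_matrix_trace ℂ (Pi.basisFun ℂ (Fin d × Fin d)),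
      LinearMap.toMatrix_eq_toMatrix', LinearMap.toMatrix'_toLin', htr] at h2
    have hp0 : p = ⊥ := Submodule.finrank_eq_zero.mp (Nat.cast_eq_zero.mp h2.symm)
    refine LinearMap.ext fun v => ?_
    have := hp.map_mem v
    rw [hp0, Submodule.mem_bot] at this
    exact this
  have hS0 : S = 0 := by
    have h1 : T = 0 := Matrix.toLin'.map_eq_zero_iff.mp hT0
    rwa [hT, smul_eq_zero, or_iff_right (inv_ne_zero hN)] at h1
  have := congrFun (congrFun hS0 (a, c)) (b, e)
  simpa [hS, Matrix.sum_apply] using this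

variable {G : Type*} [Group G] [Fintype G]

/-- Induction from an inertia group of a normal subgroup keeps the indicator, if no conjugate
outside the inertia group is the complex conjugate. -/
theorem indicator_indFun (N I : Subgroup G) [N.Normal] [Fintype N] [Fintype I] (hNI : N ≤ I)
    {ψ : I → ℂ} (hψ : IsIrrCharacter I ψ)
    (hout : ∀ g, g ∉ I → classInner (conjBy N (resTo N I hNI ψ) g)
      (fun n => conj (resTo N I hNI ψ n)) = 0) :
    indicator (indFun I ψ) = indicator ψ := by
  classical
  set φ := resTo N I hNI ψ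
  set F : G → ℂ := fun g => extendByZero I ψ (g * g) with hF
  have hind : ∑ g : G, indFun I ψ (g * g) = (I.index : ℂ) * ∑ g : G, F g := by
    simp only [indFun]
    rw [← Finset.mul_sum, Finset.sum_comm,
      Finset.sum_congr rfl fun x _ => show ∑ g : G, extendByZero I ψ (x⁻¹ * (g * g) * x) =
        ∑ g : G, F g from Fintype.sum_equiv (MulAut.conj x⁻¹).toEquiv _ _ fun g => by
          simp [hF, mul_assoc],
      Finset.sum_const, Finset.card_univ, ← Nat.card_eq_fintype_card, nsmul_eq_mul, ← mul_assoc]
    congr 1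
    rw [← I.card_mul_index, Nat.cast_mul, ← mul_assoc,
      inv_mul_cancel₀ (Nat.cast_ne_zero.mpr Nat.card_pos.ne'), one_mul]
  obtain ⟨d, ρ, hρ, hχ⟩ := id hψ
  let A : I →* Matrix (Fin d) (Fin d) ℂ :=
    (LinearMap.toMatrixAlgEquiv' (R := ℂ) (n := Fin d)).toMonoidHom.comp ρ
  have htr : ∀ i : I, (A i).trace = ψ i := fun i => by
    rw [← hχ]
    show _ = LinearMap.trace ℂ _ (ρ i)
    rw [LinearMap.trace_eq_matrix_trace ℂ (Pi.basisFun ℂ (Fin d)), LinearMap.toMatrix_eq_toMatrix']
    rfl
  have hzero : ∀ g, g ∉ I → ∑ n : N, F (g * n) = 0 := by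
    intro g hg
    by_cases hg2 : g * g ∈ I
    · let c : N →* I :=
        (Subgroup.inclusion hNI).comp (MulAut.conjNormal g : MulAut N).toMonoidHom
      have hc : ∀ n : N, ((c n : I) : G) = g * n * g⁻¹ := fun n => by
        simp [c, MulAut.conjNormal_apply]
      have he : ∀ n : N, F (g * n) =
          ((A ⟨g * g, hg2⟩ * A.comp (Subgroup.inclusion hNI) n) * A.comp c n).trace := fun n => by
        have hx : g * n * (g * n) = ((c n * (⟨g * g, hg2⟩ * Subgroup.inclusion hNI n) : I) : G) := by
          push_cast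
          rw [hc, Subgroup.coe_inclusion]
          group
        rw [Matrix.trace_mul_comm]
        simp only [MonoidHom.comp_apply, ← map_mul, htr, hF]
        rw [hx, extendByZero_coe]
      have hsum : ∀ a b c' e, ∑ n : N, A.comp (Subgroup.inclusion hNI) n a b * A.comp c n c' e = 0 := by
        intro a b c' e
        rw [Finset.sum_congr rfl fun n _ => mul_comm _ _]
        refine sum_entries_eq_zero _ _ ?_ c' e a b
        have h := hout g hg
        simp only [classInner, mul_eq_zero, inv_eq_zero, Nat.cast_eq_zero, Nat.card_pos.ne',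
          false_or] at h
        rw [← h]
        refine Fintype.sum_equiv (Equiv.refl _) _ _ fun n => ?_
        simp only [MonoidHom.comp_apply, htr, Equiv.refl_apply, Complex.conj_conj, conjBy]
        congr 1
      rw [Finset.sum_congr rfl fun n _ => he n]
      simp only [Matrix.trace, Matrix.diag_apply, Matrix.mul_apply, mul_assoc]
      rw [Finset.sum_comm]
      refine Finset.sum_eq_zero fun i _ => ?_
      rw [Finset.sum_comm]
      refine Finset.sum_eq_zero fun j _ => ?_
      rw [← Finset.mul_sum, Finset.sum_comm, Finset.sum_eq_zero (fun k _ => hsum _ _ _ _), mul_zero]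
    · refine Finset.sum_eq_zero fun n _ => extendByZero_notMem I ψ fun h => hg2 ?_
      have hn : (g * n * g⁻¹) ∈ I := hNI (Subgroup.Normal.conj_mem inferInstance _ n.2 g)
      have h1 := I.mul_mem (I.inv_mem hn) (I.mul_mem h (I.inv_mem (hNI n.2)))
      simpa [mul_assoc] using h1
  have hsplit : ∑ g : G, F g = ∑ i : I, ψ (i * i) := by
    have h1 : (Nat.card N : ℂ) * ∑ g ∈ Finset.univ.filter (fun g => g ∉ I), F g = 0 := by
      have h2 : ∀ n : N, ∑ g ∈ Finset.univ.filter (fun g => g ∉ I), F (g * n) =
          ∑ g ∈ Finset.univ.filter (fun g => g ∉ I), F g := fun n =>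
        Finset.sum_nbij' (fun g => g * n) (fun g => g * (n : G)⁻¹)
          (fun g hg => by simpa [I.mul_mem_cancel_right (hNI n.2)] using hg)
          (fun g hg => by simpa [I.mul_mem_cancel_right (I.inv_mem (hNI n.2))] using hg)
          (fun g _ => by simp) (fun g _ => by simp) (fun g _ => rfl)
      have h3 : ∑ g ∈ Finset.univ.filter (fun g => g ∉ I), ∑ n : N, F (g * n) = 0 :=
        Finset.sum_eq_zero fun g hg => hzero g (Finset.mem_filter.mp hg).2
      rw [Finset.sum_comm, Finset.sum_congr rfl fun n _ => h2 n, Finset.sum_const, Finset.card_univ,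
        nsmul_eq_mul, ← Nat.card_eq_fintype_card] at h3
      exact h3
    rw [← Finset.sum_filter_add_sum_filter_not Finset.univ (fun g => g ∈ I) F,
      (mul_eq_zero.mp h1).resolve_left (Nat.cast_ne_zero.mpr Nat.card_pos.ne'), add_zero,
      Finset.sum_subtype (Finset.univ.filter (fun g => g ∈ I)) (p := fun g => g ∈ I) (by simp)]
    exact Finset.sum_congr rfl fun i _ => by
      show extendByZero I ψ ((i : G) * i) = _
      rw [← Subgroup.coe_mul, extendByZero_coe]
  rw [indicator, indicator, hind, hsplit, ← I.card_mul_index, Nat.cast_mul]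
  have h1 : (Nat.card I : ℂ) ≠ 0 := Nat.cast_ne_zero.mpr Nat.card_pos.ne'
  have h2 : (I.index : ℂ) ≠ 0 := Nat.cast_ne_zero.mpr I.index_ne_zero_of_finite
  field_simp

/-- An irreducible character extending `φ` induces irreducibly from the inertia group of `φ`, and
the twists by linear characters trivial on the normal subgroup determine their restriction. -/
theorem linear_twist_restrict_eq (N I : Subgroup G) [N.Normal] [Fintype N] [Fintype I] (hNI : N ≤ I)
    {φ : N → ℂ} (hφ : IsIrrCharacter N φ) (hI : ∀ g, g ∈ I ↔ conjBy N φ g = φ)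
    {ψ : I → ℂ} (hψ : IsIrrCharacter I ψ) (hext : ∀ n : N, ψ (Subgroup.inclusion hNI n) = φ n)
    (lam mu : G →* ℂˣ) (hlam : ∀ n ∈ N, lam n = 1) (hmu : ∀ n ∈ N, mu n = 1)
    (he : (fun g => (lam g : ℂ) * indFun I ψ g) = fun g => (mu g : ℂ) * indFun I ψ g) :
    ∀ i ∈ I, lam i = mu i := by
  classical
  have hres : ∀ (l : G →* ℂˣ), (∀ n ∈ N, l n = 1) →
      resTo N I hNI (fun i : I => (l i : ℂ) * ψ i) = φ := fun l hl => by
    funext n
    have := hext n
    simp only [Subgroup.inclusion] at this
    simp [resTo, hl n n.2, ← this]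
  have hirr : ∀ l : G →* ℂˣ, IsIrrCharacter I (fun i : I => (l i : ℂ) * ψ i) := fun l =>
    isIrrCharacter_linear_mul hψ (l.comp I.subtype)
  have hind : ∀ l : G →* ℂˣ, indFun I (fun i : I => (l i : ℂ) * ψ i) =
      fun g => (l g : ℂ) * indFun I ψ g := fun l => by
    have hl : IsClassFunction G (fun g => (l g : ℂ)) := fun g x => by simp [mul_comm]
    funext g
    have := congrFun (indFun_mul_restrict I ψ hl) g
    simp only [mul_comm ((l g : ℂ))]
    rw [show (fun i : I => (l i : ℂ) * ψ i) = fun i : I => ψ i * (l i : ℂ) from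
      funext fun i => mul_comm _ _]
    exact this
  have hcc := (clifford_correspondence N I hφ hI hNI (hirr lam)
    (by rw [hres lam hlam, classInner_irr_self hφ]; exact one_ne_zero)).2.2 _ (hirr mu)
    (by rw [hres mu hmu, classInner_irr_self hφ]; exact one_ne_zero) (by rw [hind, hind, he])
  -- Gallagher inside the inertia group
  set N' := N.subgroupOf I
  obtain ⟨e, hec⟩ : ∃ e : N' ≃* N, ∀ x : N', (e x : G) = ((x : I) : G) :=
    ⟨Subgroup.subgroupOfEquivOfLe hNI, fun x => rfl⟩
  let θ : N' → ℂ := fun x => φ (e x)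
  have hθ : IsIrrCharacter N' θ := (isIrrCharacter_comp_equiv e).mpr hφ
  have hθinv : ∀ g : I, conjBy N' θ g = θ := fun g => by
    funext x
    have h1 := congrFun ((hI g).mp g.2) (e x)
    simp only [conjBy] at h1 ⊢
    show φ (e _) = φ (e x)
    rw [← h1]
    exact congrArg φ (Subtype.ext (by simp [hec]))
  have hone : IsIrrCharacter N' (fun _ => (1 : ℂ)) := isIrrCharacter_one
  have hG := gallagher N' (φ := fun _ => 1) (θ := θ) hone (fun g => rfl) hθinv
    (by rwa [show (fun _ : N' => (1 : ℂ)) * θ = θ from funext fun x => one_mul _]) hψ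
    (fun x => by
      show ψ (x : I) = φ (e x)
      rw [← hext (e x)]
      exact congrArg ψ (Subtype.ext (by simp [hec])))
  have hmem : ∀ (l : G →* ℂˣ), (∀ n ∈ N, l n = 1) → (fun i : I => (l i : ℂ)) ∈
      {β : I → ℂ | IsIrrCharacter I β ∧ classInner (indFun N' fun _ => 1) β ≠ 0} := fun l hl => by
    have hb : IsIrrCharacter I (fun i : I => (l i : ℂ)) := by
      have := isIrrCharacter_linear_mul (isIrrCharacter_one (G := I)) (l.comp I.subtype)
      simpa using this
    refine ⟨hb, ?_⟩
    rw [frobenius_reciprocity N' _ (isClassFunction_of_isCharacter (isCharacter_of_isIrr hb))]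
    rw [show (fun x : N' => (l ((x : I) : G) : ℂ)) = fun _ => 1 from funext fun x => by
      rw [hl _ (Subgroup.mem_subgroupOf.mp x.2)]; simp, classInner_irr_self hone]
    exact one_ne_zero
  have hinj := hG.injOn (hmem mu hmu) (hmem lam hlam) hcc
  exact fun i hi => (Units.ext (congrFun hinj ⟨i, hi⟩)).symm

end CfsgLib.Char
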