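import Cfsg.Agent.Lib.Char.FTBlichfeldt
import Cfsg.Agent.Lib.Char.Twist
import Cfsg.Agent.Lib.Char.Extraspecial
import Mathlib.RingTheory.IntegralDomain

/-!
# An abelian Hall subgroup for the primes exceeding the degree by more than one
-/

set_option autoImplicit false
set_option linter.unusedSectionVars false
set_option linter.style.haveILetI false

namespace CfsgLib.Char.LargePrimeHall

open Cfsg Module Representation
open scoped ComplexConjugate CfsgLib.Char
open scoped _root_.Classical
open scoped Pointwise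

universe u

section Kernel

variable {G : Type*} [Group G] [Fintype G]

/-- A `p`-rational character of degree at most `p - 2` has the `p`-elements in its kernel. -/
theorem value_eq_degree_of_prational {p : ℕ} [hp : Fact p.Prime] {χ : G → ℂ} (hχ : IsCharacter G χ)
    {d : ℕ} (hd : χ 1 = d) (hdp : d + 1 < p) (r : ℕ) (hr : ∀ i : ℕ, ¬ p ∣ i → ∃ j : ℕ, r ^ j ≡ i [MOD p])
    (hfix : ∀ y : G, (∃ j : ℕ, orderOf y ∣ p ^ j) → ∃ k : ℕ, k ≡ r [MOD p] ∧ χ (y ^ k) = χ y)
    (j : ℕ) : ∀ x : G, orderOf x ∣ p ^ j → χ x = χ 1 := by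
  induction j with
  | zero => intro x hx; rw [show x = 1 from orderOf_eq_one_iff.mp (Nat.dvd_one.mp (by simpa using hx))]
  | succ j ih =>
    intro x hx
    obtain ⟨K, -, hK, hKmul⟩ := exists_kernel hχ
    have hxp : x ^ p ∈ K := (hK _).mpr (ih _ (orderOf_dvd_of_pow_eq_one (by
      rw [← pow_mul, ← pow_succ', orderOf_dvd_iff_pow_eq_one.mp hx])))
    have hmod : ∀ a b : ℕ, a ≡ b [MOD p] → χ (x ^ a) = χ (x ^ b) := by
      have h1 : ∀ a : ℕ, χ (x ^ a) = χ (x ^ (a % p)) := fun a => by
        conv_lhs => rw [← Nat.div_add_mod a p, pow_add, pow_mul]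
        exact hKmul _ (K.pow_mem hxp _) _
      intro a b hab
      rw [h1 a, h1 b, hab]
    have hcyc : ∀ i : ℕ, χ (x ^ r ^ i) = χ x := by
      intro i
      induction i with
      | zero => simp
      | succ i hi =>
        obtain ⟨k, hk, hky⟩ := hfix (x ^ r ^ i) ⟨j + 1, (orderOf_pow_dvd _).trans hx⟩
        rw [← hi, ← hky, ← pow_mul]
        refine hmod _ _ ?_
        rw [pow_succ]
        exact (Nat.ModEq.mul_left _ hk).symm
    have hall : ∀ i : ℕ, ¬ p ∣ i → χ (x ^ i) = χ x := fun i hi => by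
      obtain ⟨t, ht⟩ := hr i hi
      rw [← hmod _ _ ht, hcyc]
    obtain ⟨k, ρ, rfl⟩ := hχ
    obtain ⟨μ, hμ, hμs⟩ := character_pow_eq_sum ρ x
    have hρp : ρ (x ^ p) = LinearMap.id := (character_eq_finrank_iff ρ _).mp (by
      rw [← Representation.char_one ρ]; exact (hK _).mp hxp)
    have hper : ∀ i : ℕ, ρ.character (x ^ (p + i)) = ρ.character (x ^ i) := fun i => by
      rw [pow_add]
      exact hKmul _ hxp _
    -- the fixed space of `x`
    set E : Module.End ℂ (Fin k → ℂ) := (p : ℂ)⁻¹ • ∑ i ∈ Finset.range p, ρ (x ^ i) with hE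
    have hp0 : (p : ℂ) ≠ 0 := Nat.cast_ne_zero.mpr hp.out.ne_zero
    have hshift : ∀ i : ℕ, ρ (x ^ i) * ∑ l ∈ Finset.range p, ρ (x ^ l) = ∑ l ∈ Finset.range p, ρ (x ^ l) := by
      intro i
      induction i with
      | zero => rw [pow_zero, map_one, one_mul]
      | succ i hi =>
        rw [pow_succ, map_mul, mul_assoc]
        have h1 : ρ x * ∑ l ∈ Finset.range p, ρ (x ^ l) = ∑ l ∈ Finset.range p, ρ (x ^ l) := by
          rw [Finset.mul_sum, Finset.sum_congr rfl fun l _ => by rw [← map_mul, ← pow_succ']]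
          have e1 := Finset.sum_range_succ' (fun l => ρ (x ^ l)) p
          rw [Finset.sum_range_succ, show ρ (x ^ p) = ρ (x ^ 0) by rw [hρp, pow_zero, map_one]; rfl] at e1
          exact (add_right_cancel e1).symm
        rw [h1, hi]
    have hproj : LinearMap.IsProj (LinearMap.range E) E := by
      refine ⟨fun v => LinearMap.mem_range_self E v, ?_⟩
      rintro _ ⟨v, rfl⟩
      have hEE : E * E = E := by
        rw [hE, smul_mul_smul_comm, Finset.sum_mul, Finset.sum_congr rfl fun i _ => hshift i, Finset.sum_const,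
          Finset.card_range, ← Nat.cast_smul_eq_nsmul ℂ, smul_smul, mul_assoc, inv_mul_cancel₀ hp0, mul_one]
      exact LinearMap.congr_fun hEE v
    obtain ⟨m, hm, hmd⟩ : ∃ m : ℕ, LinearMap.trace ℂ _ E = (m : ℂ) ∧ m ≤ k :=
      ⟨_, hproj.trace, (Submodule.finrank_le _).trans_eq (Module.finrank_fin_fun ℂ)⟩
    have hdk : d = k := by
      rw [Representation.char_one, Module.finrank_fin_fun] at hd
      exact_mod_cast hd.symm
    have hsum : (d : ℂ) + ((p : ℂ) - 1) * ρ.character x = (p : ℂ) * m := by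
      rw [← hm, hE, map_smul, map_sum, smul_eq_mul, ← mul_assoc, mul_inv_cancel₀ hp0, one_mul,
        Finset.range_eq_Ico, Finset.sum_eq_sum_Ico_succ_bot hp.out.pos, pow_zero]
      change _ = ρ.character 1 + ∑ i ∈ Finset.Ico (0 + 1) p, ρ.character (x ^ i)
      rw [hd, Finset.sum_congr rfl (g := fun _ => ρ.character x) fun i hi => by
        obtain ⟨h1, h2⟩ := Finset.mem_Ico.mp hi
        exact hall i fun hdvd => absurd (Nat.le_of_dvd (by omega) hdvd) (not_le.mpr h2),
        Finset.sum_const, Nat.card_Ico, nsmul_eq_mul, Nat.cast_sub (by omega)]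
      simp
    have hp1 : ((p : ℂ) - 1) ≠ 0 := by
      rw [sub_ne_zero]; exact_mod_cast hp.out.one_lt.ne'
    have hval : ρ.character x = ((((p : ℤ) * m - d : ℤ) : ℚ) / (((p : ℤ) - 1 : ℤ) : ℚ) : ℚ) := by
      push_cast
      rw [eq_div_iff hp1]
      linear_combination hsum
    obtain ⟨z, hz⟩ := exists_int_of_isIntegral_rat (q := (((p : ℤ) * m - d : ℤ) : ℚ) / (((p : ℤ) - 1 : ℤ) : ℚ))
      (hval ▸ isIntegral_value ⟨k, ρ, rfl⟩ x)
    have hp1' : (((p : ℤ) - 1 : ℤ) : ℚ) ≠ 0 := by
      rw [Int.cast_ne_zero, sub_ne_zero]; exact_mod_cast hp.out.one_lt.ne'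
    rw [div_eq_iff hp1'] at hz
    have hz' : (p : ℤ) * m - d = z * ((p : ℤ) - 1) := by exact_mod_cast hz
    have hdvd : ((p : ℤ) - 1) ∣ ((m : ℤ) - d) := ⟨z - m, by linear_combination hz'⟩
    have hmd' : (m : ℤ) - d = 0 := Int.eq_zero_of_abs_lt_dvd hdvd (by rw [abs_lt]; constructor <;> omega)
    have hmd'' : (m : ℂ) = (d : ℂ) := by exact_mod_cast (sub_eq_zero.mp hmd')
    rw [hd]
    refine mul_left_cancel₀ hp1 ?_
    rw [hmd''] at hsum
    linear_combination hsum

/-- With no commuting elements of orders `p` and `q`, a character of small degree has the `p`-elements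
or the `q`-elements in its kernel. -/
theorem kernel_of_no_pq {p q : ℕ} [hp : Fact p.Prime] [hq : Fact q.Prime] (hpq : p ≠ q)
    {χ : G → ℂ} (hχ : IsIrrCharacter G χ) {d : ℕ} (hd : χ 1 = d) (hdp : d + 1 < p) (hdq : d + 1 < q)
    (hno : ∀ x y : G, orderOf x = p → orderOf y = q → ¬ Commute x y) :
    (∀ (j : ℕ) (x : G), orderOf x ∣ p ^ j → χ x = χ 1) ∨ ∀ (j : ℕ) (x : G), orderOf x ∣ q ^ j → χ x = χ 1 := by
  have key : ∀ (l : ℕ) (_ : Fact l.Prime), ∃ (k r : ℕ), k.Coprime (Nat.card G) ∧ k ≡ r [MOD l] ∧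
      (∀ i : ℕ, ¬ l ∣ i → ∃ j : ℕ, r ^ j ≡ i [MOD l]) ∧ ∀ g : G, ¬ l ∣ orderOf g → g ^ k = g := by
    intro l hl
    obtain ⟨u, hu⟩ := IsCyclic.exists_generator (α := (ZMod l)ˣ)
    have hgen : ∀ i : ℕ, ¬ l ∣ i → ∃ j : ℕ, (u : ZMod l).val ^ j ≡ i [MOD l] := by
      intro i hi
      have hi0 : (i : ZMod l) ≠ 0 := fun e => hi ((ZMod.natCast_eq_zero_iff i l).mp e)
      obtain ⟨j, hj⟩ := (mem_powers_iff_mem_zpowers).mpr (hu (Units.mk0 _ hi0))
      refine ⟨j, (ZMod.natCast_eq_natCast_iff _ _ _).mp ?_⟩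
      rw [Nat.cast_pow, ZMod.natCast_zmod_val]
      exact congrArg Units.val hj
    set a := (Nat.card G).factorization l
    have hmn : (l ^ a).Coprime (Nat.card G / l ^ a) :=
      (Nat.coprime_ordCompl hl.out Nat.card_pos.ne').pow_left a
    have hu1 : ((u : ZMod l).val).Coprime (l ^ a) := by
      refine Nat.Coprime.pow_right a ?_
      rw [Nat.coprime_comm, hl.out.coprime_iff_not_dvd, ← ZMod.natCast_eq_zero_iff, ZMod.natCast_zmod_val]
      exact u.ne_zero
    obtain ⟨k, hk, hk1, hk2⟩ := exists_coprime_exponent (N := Nat.card G) Nat.card_pos.ne' hmn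
      (by rw [Nat.ordProj_mul_ordCompl_eq_self]) hu1
    by_cases ha : a = 0
    · -- the prime does not divide the order
      obtain ⟨c, hc1, hc2⟩ := Nat.chineseRemainder ((hl.out.coprime_iff_not_dvd.mpr fun hd' => by
        have := hl.out.factorization_pos_of_dvd Nat.card_pos.ne' hd'
        omega) : l.Coprime (Nat.card G)) (u : ZMod l).val 1
      refine ⟨c, _, ?_, hc1, hgen, fun g _ => pow_eq_self_of_modEq_one (orderOf_dvd_natCard g) hc2⟩
      rw [Nat.coprime_iff_gcd_eq_one, hc2.gcd_eq, Nat.gcd_one_left]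
    refine ⟨k, _, hk, hk1.of_dvd (dvd_pow_self l ha), hgen, fun g hg => pow_eq_self_of_modEq_one ?_ hk2⟩
    refine Nat.Coprime.dvd_of_dvd_mul_left (m := l ^ a)
      ((hl.out.coprime_iff_not_dvd.mpr hg).symm.pow_right a) ?_
    rw [Nat.ordProj_mul_ordCompl_eq_self]
    exact orderOf_dvd_natCard g
  obtain ⟨k, r, hk, hkr, hr, hkfix⟩ := key p hp
  obtain ⟨l, s, hl, hls, hs, hlfix⟩ := key q hq
  by_cases e1 : (fun g => χ (g ^ k)) = χ
  · exact Or.inl fun j x hx => value_eq_degree_of_prational (isCharacter_of_isIrr hχ) hd hdp r hr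
      (fun y _ => ⟨k, hkr, congrFun e1 y⟩) j x hx
  by_cases e2 : (fun g => χ (g ^ l)) = χ
  · exact Or.inr fun j x hx => value_eq_degree_of_prational (isCharacter_of_isIrr hχ) hd hdq s hs
      (fun y _ => ⟨l, hls, congrFun e2 y⟩) j x hx
  exfalso
  have hk' := isIrrCharacter_pow hk hχ
  have hl' := isIrrCharacter_pow hl hχ
  have hzero : classInner (fun g => χ (g ^ k) - χ g) (fun g => χ (g ^ l) - χ g) = 0 := by
    rw [classInner, Finset.sum_eq_zero fun g _ => ?_, mul_zero]
    by_cases hg : p ∣ orderOf g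
    · have hg' : ¬ q ∣ orderOf g := fun hgq => hno (g ^ (orderOf g / p)) (g ^ (orderOf g / q))
        (orderOf_pow_orderOf_div (orderOf_pos g).ne' hg) (orderOf_pow_orderOf_div (orderOf_pos g).ne' hgq)
        ((Commute.refl g).pow_pow _ _)
      rw [hlfix g hg', sub_self, map_zero, mul_zero]
    · rw [hkfix g hg, sub_self, zero_mul]
  have hexp : classInner (fun g => χ (g ^ k) - χ g) (fun g => χ (g ^ l) - χ g) =
      classInner (fun g => χ (g ^ k)) (fun g => χ (g ^ l)) - classInner (fun g => χ (g ^ k)) χ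
        - classInner χ (fun g => χ (g ^ l)) + classInner χ χ := by
    simp only [classInner, map_sub, mul_sub, sub_mul, Finset.sum_sub_distrib]
    ring
  rw [hexp, classInner_irr hk' hl', classInner_irr_ne hk' hχ e1, classInner_irr_ne hχ hl' (Ne.symm e2),
    classInner_irr_self hχ] at hzero
  split_ifs at hzero <;> norm_num at hzero

/-- In a group with a faithful representation of small degree and two large primes dividing the
order some elements of these orders commute. -/
theorem exists_commute {p q : ℕ} [hp : Fact p.Prime] [hq : Fact q.Prime] (hpq : p ≠ q) {n : ℕ}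
    (ρ : Representation ℂ G (Fin n → ℂ)) (hρ : Function.Injective ρ) (hnp : n + 1 < p) (hnq : n + 1 < q)
    (hpG : p ∣ Nat.card G) (hqG : q ∣ Nat.card G) :
    ∃ x y : G, orderOf x = p ∧ orderOf y = q ∧ Commute x y := by
  by_contra hall
  push Not at hall
  obtain ⟨x, hx⟩ := exists_prime_orderOf_dvd_card' (G := G) p hpG
  obtain ⟨y, hy⟩ := exists_prime_orderOf_dvd_card' (G := G) q hqG
  refine hall x y hx hy (commutatorElement_eq_one_iff_commute.mp ?_)
  refine eq_one_of_constituents ρ hρ _ fun ψ d hψ hd _ hdn => ?_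
  obtain ⟨K, hKn, hK, -⟩ := exists_kernel (isCharacter_of_isIrr hψ)
  refine (hK _).mp ?_
  rw [commutatorElement_def]
  rcases kernel_of_no_pq hpq hψ hd (by omega) (by omega) hall with h | h
  · have hxK : x ∈ K := (hK x).mpr (h 1 x (by rw [hx, pow_one]))
    rw [mul_assoc, mul_assoc]
    refine K.mul_mem hxK ?_
    rw [← mul_assoc]
    exact hKn.conj_mem _ (K.inv_mem hxK) y
  · have hyK : y ∈ K := (hK y).mpr (h 1 y (by rw [hy, pow_one]))
    exact K.mul_mem (hKn.conj_mem _ hyK x) (K.inv_mem hyK)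

end Kernel

/-- An abelian Hall subgroup for the primes above `n + 1`. -/
def IsHall (n : ℕ) {G : Type*} [Group G] (A : Subgroup G) : Prop :=
  (∀ x ∈ A, ∀ y ∈ A, x * y = y * x) ∧ (∀ q : ℕ, q.Prime → q ∣ Nat.card A → n + 1 < q) ∧
    ∀ q : ℕ, q.Prime → n + 1 < q → ¬ q ∣ A.index

theorem hall_of_subgroup {n : ℕ} {G : Type*} [Group G] [Finite G] {C : Subgroup G}
    (hC : ∀ q : ℕ, q.Prime → n + 1 < q → ¬ q ∣ C.index) (h : ∃ B : Subgroup C, IsHall n B) :
    ∃ A : Subgroup G, IsHall n A := by
  obtain ⟨B, h1, h2, h3⟩ := h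
  refine ⟨B.map C.subtype, ?_, fun q hq hd => h2 q hq ?_, fun q hq hn hd => ?_⟩
  · rintro _ ⟨a, ha, rfl⟩ _ ⟨b, hb, rfl⟩
    exact congrArg Subtype.val (h1 a ha b hb)
  · rwa [Subgroup.card_map_of_injective C.subtype_injective] at hd
  · rw [Subgroup.index_map_subtype] at hd
    exact (hq.dvd_mul.mp hd).elim (h3 q hq hn) (hC q hq hn)

theorem exists_hall {n : ℕ} (m : ℕ) : ∀ (G : Type u) [Group G] [Finite G], Nat.card G = m →
    ∀ ρ : Representation ℂ G (Fin n → ℂ), Function.Injective ρ → ∃ A : Subgroup G, IsHall n A := by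
  induction m using Nat.strong_induction_on with
  | _ m ih => ?_
  intro G _ _ hm ρ hρ
  haveI : Fintype G := Fintype.ofFinite G
  have ihsub : ∀ H : Subgroup G, H ≠ ⊤ → ∃ A : Subgroup H, IsHall n A := fun H hH =>
    ih _ (hm ▸ lt_of_le_of_ne (Subgroup.card_le_card_group H) fun e => hH (H.eq_top_of_card_eq e)) H rfl
      (ρ.comp H.subtype) fun a b e => Subtype.ext (hρ e)
  by_cases hnone : ∀ q : ℕ, q.Prime → n + 1 < q → ¬ q ∣ Nat.card G
  · exact ⟨⊥, fun x hx y _ => by rw [Subgroup.mem_bot.mp hx, one_mul, mul_one],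
      fun q hq hd => absurd (Nat.dvd_one.mp (Subgroup.card_bot (G := G) ▸ hd)) hq.ne_one,
      fun q hq hn hd => hnone q hq hn (hd.trans (Subgroup.index_dvd_card _))⟩
  by_cases hcen : ∃ q : ℕ, q.Prime ∧ n + 1 < q ∧ q ∣ Nat.card G ∧
      ∃ P : Sylow q G, (P : Subgroup G) ≤ Subgroup.center G
  · -- a central Sylow subgroup splits off
    obtain ⟨q, hq, hnq, hqG, P, hPZ⟩ := hcen
    haveI := Fact.mk hq
    haveI hPn : (P : Subgroup G).Normal := ⟨fun x hx g => by
      rwa [Subgroup.mem_center_iff.mp (hPZ hx) g, mul_inv_cancel_right]⟩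
    obtain ⟨K, hK⟩ := Subgroup.exists_right_complement'_of_coprime (N := (P : Subgroup G)) P.card_coprime_index
    have hKne : K ≠ ⊤ := by
      intro e
      have h1 := hK.symm.index_eq_card
      rw [e, Subgroup.card_top] at h1
      have h2 := (P : Subgroup G).card_mul_index
      rw [h1] at h2
      have := hq.two_le.trans (Nat.le_of_dvd Nat.card_pos (P.dvd_card_of_dvd_card hqG))
      nlinarith [(Nat.card_pos : 0 < Nat.card G)]
    obtain ⟨B, h1, h2, h3⟩ := ihsub K hKne
    refine ⟨(P : Subgroup G) ⊔ B.map K.subtype, ?_, fun r hr hd => ?_, fun r hr hnr hd => ?_⟩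
    · intro x hx y hy
      obtain ⟨a, ha, b, ⟨b', hb', rfl⟩, rfl⟩ := Subgroup.mem_sup_of_normal_left.mp hx
      obtain ⟨c, hc, d, ⟨d', hd', rfl⟩, rfl⟩ := Subgroup.mem_sup_of_normal_left.mp hy
      have e1 := Subgroup.mem_center_iff.mp (hPZ ha)
      have e2 := Subgroup.mem_center_iff.mp (hPZ hc)
      have e3 : (K.subtype b') * (K.subtype d') = K.subtype d' * K.subtype b' := congrArg Subtype.val (h1 b' hb' d' hd')
      calc a * K.subtype b' * (c * K.subtype d') = a * c * (K.subtype b' * K.subtype d') := by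
            rw [mul_assoc, ← mul_assoc (K.subtype b'), e2 (K.subtype b'), mul_assoc, mul_assoc]
        _ = c * a * (K.subtype d' * K.subtype b') := by rw [e3, e2 a]
        _ = c * K.subtype d' * (a * K.subtype b') := by
            rw [mul_assoc c (K.subtype d'), ← mul_assoc (K.subtype d'), e1 (K.subtype d'), mul_assoc, mul_assoc]
    · have hdvd : Nat.card ((P : Subgroup G) ⊔ B.map K.subtype : Subgroup G) ∣
          Nat.card (P : Subgroup G) * Nat.card (B.map K.subtype) := by
        have h4 := Subgroup.card_mul_index ((P : Subgroup G).subgroupOf ((P : Subgroup G) ⊔ B.map K.subtype))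
        have h5 : (P : Subgroup G).relIndex ((P : Subgroup G) ⊔ B.map K.subtype) ∣ Nat.card (B.map K.subtype) := by
          rw [sup_comm, Subgroup.relIndex_sup_right]
          exact Subgroup.relIndex_dvd_card _ _
        rw [Nat.card_congr (Subgroup.subgroupOfEquivOfLe le_sup_left).toEquiv] at h4
        rw [← h4]
        exact mul_dvd_mul_left _ h5
      rcases hr.dvd_mul.mp (hd.trans hdvd) with h | h
      · obtain ⟨j, hj⟩ := IsPGroup.iff_card.mp P.isPGroup'
        rw [hj] at h
        rwa [(Nat.prime_dvd_prime_iff_eq hr hq).mp (hr.dvd_of_dvd_pow h)]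
      · rw [Subgroup.card_map_of_injective K.subtype_injective] at h
        exact h2 r hr h
    · by_cases hrq : r = q
      · subst hrq
        exact P.not_dvd_index (hd.trans (Subgroup.index_dvd_of_le le_sup_left))
      have h4 := hd.trans (Subgroup.index_dvd_of_le (le_sup_right : B.map K.subtype ≤ _))
      rw [Subgroup.index_map_subtype] at h4
      rcases hr.dvd_mul.mp h4 with h | h
      · exact h3 r hr hnr h
      · rw [hK.index_eq_card] at h
        obtain ⟨j, hj⟩ := IsPGroup.iff_card.mp P.isPGroup'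
        rw [hj] at h
        exact hrq ((Nat.prime_dvd_prime_iff_eq hr hq).mp (hr.dvd_of_dvd_pow h))
  push Not at hcen
  -- the centralizer of a non-central element of large order
  have hcent : ∀ x : G, x ∉ Subgroup.center G → Subgroup.centralizer ({x} : Set G) ≠ ⊤ := fun x hx e =>
    hx (Subgroup.mem_center_iff.mpr fun w =>
      Subgroup.mem_centralizer_singleton_iff.mp (e ▸ Subgroup.mem_top w))
  have hsyl : ∀ (p : ℕ) [Fact p.Prime], n + 1 < p → ∀ x : G, (∃ j : ℕ, orderOf x ∣ p ^ j) →
      ¬ p ∣ (Subgroup.centralizer ({x} : Set G)).index := by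
    intro p hp hnp x ⟨j, hj⟩ hd
    obtain ⟨i, -, hi⟩ := (Nat.dvd_prime_pow hp.out).mp hj
    obtain ⟨R, hR⟩ := (IsPGroup.of_card (p := p) (n := i) (G := Subgroup.zpowers x) (by
      rw [Nat.card_zpowers, hi])).exists_le_sylow
    refine R.not_dvd_index (hd.trans (Subgroup.index_dvd_of_le fun w hw => ?_))
    exact Subgroup.mem_centralizer_singleton_iff.mpr
      (sylow_comm hnp ρ hρ R w hw x (hR (Subgroup.mem_zpowers x)))
  by_cases hperf : commutator G = ⊤
  swap
  · obtain ⟨N, hN, hle⟩ := (eq_top_or_exists_le_coatom (commutator G)).resolve_left hperf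
    haveI hNn : N.Normal := Subgroup.Normal.of_commutator_le G hle
    by_cases hidx : ∀ r : ℕ, r.Prime → n + 1 < r → ¬ r ∣ N.index
    · exact hall_of_subgroup hidx (ihsub N hN.1)
    push Not at hidx
    obtain ⟨r, hr, hnr, hrN⟩ := hidx
    haveI := Fact.mk hr
    obtain ⟨B, hB1, hB2, hB3⟩ := ihsub N hN.1
    by_cases hB : ∃ x ∈ B, (x : G) ∉ Subgroup.center G ∧ orderOf x = r ^ (Nat.log r (orderOf x))
    · obtain ⟨x, hx, hxZ, hxo⟩ := hB
      refine hall_of_subgroup (fun q hq hnq hd => ?_) (ihsub _ (hcent (x : G) hxZ))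
      haveI := Fact.mk hq
      by_cases hqr : q = r
      · subst hqr
        exact hsyl q hnq (x : G) ⟨_, by rw [Subgroup.orderOf_coe]; exact hxo.dvd⟩ hd
      have hBle : B.map N.subtype ≤ Subgroup.centralizer ({(x : G)} : Set G) := by
        rintro _ ⟨w, hw, rfl⟩
        exact Subgroup.mem_centralizer_singleton_iff.mpr (congrArg Subtype.val (hB1 w hw x hx))
      have h4 := hd.trans (Subgroup.index_dvd_of_le hBle)
      rw [Subgroup.index_map_subtype] at h4
      rcases hq.dvd_mul.mp h4 with h | h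
      · exact hB3 q hq hnq h
      · -- the index of `N` is the prime `r`
        haveI : IsSimpleGroup (G ⧸ N) := by
          haveI : Nontrivial (G ⧸ N) := QuotientGroup.nontrivial_iff.mpr hN.1
          refine ⟨fun H _ => ?_⟩
          have hsur := QuotientGroup.mk'_surjective N
          have hle' : N ≤ H.comap (QuotientGroup.mk' N) := fun w hw => by
            rw [Subgroup.mem_comap, show QuotientGroup.mk' N w = 1 from (QuotientGroup.eq_one_iff w).mpr hw]
            exact H.one_mem
          rcases hle'.lt_or_eq with hlt | heq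
          · refine Or.inr (Subgroup.comap_injective hsur ?_)
            rw [Subgroup.comap_top]; exact hN.2 _ hlt
          · refine Or.inl (Subgroup.comap_injective hsur ?_)
            rw [← heq, MonoidHom.comap_bot, QuotientGroup.ker_mk']
        have hc : ∀ a b : G ⧸ N, a * b = b * a := by
          intro a b
          obtain ⟨a, rfl⟩ := QuotientGroup.mk'_surjective N a
          obtain ⟨b, rfl⟩ := QuotientGroup.mk'_surjective N b
          rw [← commutatorElement_eq_one_iff_mul_comm, ← map_commutatorElement]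
          exact (QuotientGroup.eq_one_iff _).mpr (hle (Subgroup.commutator_mem_commutator (Subgroup.mem_top a) (Subgroup.mem_top b)))
        haveI : IsMulCommutative (G ⧸ N) := ⟨⟨hc⟩⟩
        letI : CommGroup (G ⧸ N) := { (inferInstance : Group (G ⧸ N)) with mul_comm := hc }
        have hprime : (Nat.card (G ⧸ N)).Prime := IsSimpleGroup.prime_card
        rw [Subgroup.index_eq_card] at h hrN
        exact hqr (((Nat.prime_dvd_prime_iff_eq hq hprime).mp h).trans
          ((Nat.prime_dvd_prime_iff_eq hr hprime).mp hrN).symm)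
    · exfalso
      push Not at hB
      -- the Sylow subgroup of `N` is central
      haveI : Fintype N := Fintype.ofFinite N
      obtain ⟨Q0, hQ0⟩ : ∃ Q : Sylow r N, ∀ x ∈ (Q : Subgroup N), (x : G) ∈ Subgroup.center G := by
        let S : Sylow r B := default
        have hidx' : ¬ r ∣ ((S : Subgroup B).map B.subtype).index := by
          rw [Subgroup.index_map_subtype]
          exact fun hd => (hr.dvd_mul.mp hd).elim S.not_dvd_index (hB3 r hr hnr)
        refine ⟨(S.isPGroup'.map B.subtype).toSylow hidx', fun x hx => ?_⟩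
        rw [IsPGroup.toSylow_coe] at hx
        obtain ⟨y, hy, rfl⟩ := hx
        by_contra hz
        refine hB _ y.2 hz ?_
        obtain ⟨j, hj⟩ := IsPGroup.iff_orderOf.mp S.isPGroup' ⟨y, hy⟩
        rw [← Subgroup.orderOf_coe] at hj
        have hj2 : orderOf (y : N) = r ^ j := (Subgroup.orderOf_coe y).trans hj
        rw [hj2, Nat.log_pow hr.one_lt]
      haveI hQ0n : (Q0 : Subgroup N).Normal := ⟨fun x hx g => by
        have : g * x * g⁻¹ = x := Subtype.ext (by
          show (g : G) * x * (g : G)⁻¹ = x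
          rw [Subgroup.mem_center_iff.mp (hQ0 x hx) g, mul_inv_cancel_right])
        rwa [this]⟩
      obtain ⟨K0, hK0⟩ := Subgroup.exists_right_complement'_of_coprime (N := (Q0 : Subgroup N)) Q0.card_coprime_index
      have hcard : (Nat.card K0).Coprime (Nat.card (Q0 : Subgroup N)) := by
        rw [← hK0.symm.index_eq_card]; exact Q0.card_coprime_index.symm
      have hK0mem : ∀ x : N, x ∈ K0 ↔ x ^ Nat.card K0 = 1 := by
        intro x
        refine ⟨fun hx => congrArg Subtype.val (pow_card_eq_one' (x := (⟨x, hx⟩ : K0))), fun hx => ?_⟩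
        obtain ⟨⟨a, k⟩, rfl : (a : N) * (k : N) = x⟩ := hK0.2 x
        have hc : Commute (a : N) (k : N) :=
          Subtype.ext (Subgroup.mem_center_iff.mp (hQ0 _ a.2) ((k : N) : G)).symm
        rw [hc.mul_pow, show (k : N) ^ Nat.card K0 = 1 from congrArg Subtype.val (pow_card_eq_one' (x := k)),
          mul_one] at hx
        have ha : (a : N) = 1 := by
          exact orderOf_eq_one_iff.mp (Nat.eq_one_of_dvd_coprimes hcard (orderOf_dvd_of_pow_eq_one hx)
            (Subgroup.orderOf_dvd_natCard _ a.2))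
        rw [ha, one_mul]
        exact k.2
      set K : Subgroup G := K0.map N.subtype with hK
      haveI hKn : K.Normal := ⟨fun x hx g => by
        obtain ⟨k, hk, rfl⟩ := hx
        refine ⟨⟨g * k * g⁻¹, hNn.conj_mem _ k.2 g⟩, (hK0mem _).mpr (Subtype.ext ?_), rfl⟩
        have := congrArg Subtype.val ((hK0mem k).mp hk)
        rw [Subgroup.coe_pow, Subgroup.coe_one] at this ⊢
        rw [conj_pow, this, mul_one, mul_inv_cancel]⟩
      have hrK : ¬ r ∣ Nat.card K := by
        rw [hK, Subgroup.card_map_of_injective N.subtype_injective, ← hK0.symm.index_eq_card]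
        exact Q0.not_dvd_index
      let P : Sylow r G := default
      obtain ⟨y, hyP, hyZ⟩ := SetLike.not_le_iff_exists.mp
        (hcen r hr hnr (hrN.trans (Subgroup.index_dvd_card _)) P)
      obtain ⟨j, hj⟩ := IsPGroup.iff_orderOf.mp P.isPGroup' ⟨y, hyP⟩
      rw [← Subgroup.orderOf_coe] at hj
      -- every `r`-element centralizes `N`
      have hcN : ∀ w ∈ (P : Subgroup G), ∀ g ∈ N, w * g = g * w := by
        intro w hw g hg
        obtain ⟨i, hi⟩ := IsPGroup.iff_orderOf.mp P.isPGroup' ⟨w, hw⟩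
        rw [← Subgroup.orderOf_coe] at hi
        set Γ : Subgroup G := K ⊔ Subgroup.zpowers w with hΓ
        haveI : Fintype Γ := Fintype.ofFinite Γ
        haveI : (K.subgroupOf Γ).Normal := hKn.subgroupOf Γ
        obtain ⟨⟨a, k⟩, e⟩ := hK0.2 ⟨g, hg⟩
        have hkK : ((k : N) : G) ∈ K := ⟨k, k.2, rfl⟩
        have h := commute_of_faithful_small (Γ := Γ) (N := K.subgroupOf Γ)
          (s := ⟨w, Subgroup.mem_sup_right (Subgroup.mem_zpowers w)⟩) (p := r) (k := i)
          (by
            refine Subgroup.map_injective Γ.subtype_injective ?_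
            rw [Subgroup.map_sup, Subgroup.subgroupOf_map_subtype, MonoidHom.map_zpowers,
              ← MonoidHom.range_eq_map, Subgroup.range_subtype, inf_eq_left.mpr le_sup_left]
            rfl)
          (by
            rw [Subgroup.orderOf_mk, Nat.card_congr (Subgroup.subgroupOfEquivOfLe le_sup_left).toEquiv, hi]
            exact ((Nat.Prime.coprime_iff_not_dvd hr).mpr hrK).symm.pow_right i)
          hr (by rw [Subgroup.orderOf_mk, hi]) (ρ.comp Γ.subtype) (fun a b e => Subtype.ext (hρ e)) hnr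
          ⟨⟨_, Subgroup.mem_sup_left hkK⟩, Subgroup.mem_subgroupOf.mpr hkK⟩
        have h' : w * ((k : N) : G) = ((k : N) : G) * w := congrArg Subtype.val h
        have e' : ((a : N) : G) * ((k : N) : G) = g := congrArg Subtype.val e
        rw [← e', ← mul_assoc, Subgroup.mem_center_iff.mp (hQ0 _ a.2) w, mul_assoc, h', mul_assoc]
      refine hyZ (Subgroup.mem_center_iff.mpr fun g => ?_)
      have hNP : N ⊔ (P : Subgroup G) = ⊤ := hN.2 _ (lt_of_le_of_ne le_sup_left fun e => by
        exact P.not_dvd_index (hrN.trans (Subgroup.index_dvd_of_le (e ▸ le_sup_right))))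
      obtain ⟨a, ha, b, hb, rfl⟩ := Subgroup.mem_sup_of_normal_left.mp (hNP ▸ Subgroup.mem_top g)
      rw [mul_assoc, sylow_comm hnr ρ hρ P b hb y hyP, ← mul_assoc, ← hcN y hyP a ha, mul_assoc]
  -- the perfect case
  have hnc : ∀ (p : ℕ) [Fact p.Prime], n + 1 < p → ∀ x : G, orderOf x = p → x ∉ Subgroup.center G := by
    intro p hp hnp x hx hxZ
    refine hp.out.one_lt.ne' (hx.symm.trans (orderOf_eq_one_iff.mpr ?_))
    refine eq_one_of_constituents ρ hρ x fun ψ d hψ hd hd0 hdn => ?_
    obtain ⟨k, σ, hσ, rfl⟩ := hψ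
    haveI := hσ
    let T : IntertwiningMap σ σ := ⟨σ x, fun h => by
      show σ x * σ h = σ h * σ x
      rw [← map_mul, ← map_mul, Subgroup.mem_center_iff.mp hxZ h]⟩
    obtain ⟨c, hc⟩ := (IsIrreducible.algebraMap_intertwiningMap_bijective_of_isAlgClosed (ρ := σ)).2 T
    have hT : σ x = c • LinearMap.id := by
      rw [show σ x = T.toLinearMap from rfl, ← hc, Algebra.algebraMap_eq_smul_one]
      rfl
    have hdk : d = k := by
      rw [Representation.char_one, Module.finrank_fin_fun] at hd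
      exact_mod_cast hd.symm
    subst hdk
    have hdet : c ^ d = 1 := by
      let D : G →* ℂ := LinearMap.det.comp σ
      have h1 : commutator G ≤ D.toHomUnits.ker := Abelianization.commutator_subset_ker _
      rw [hperf] at h1
      have h2 : D x = 1 := by
        have := congrArg Units.val (MonoidHom.mem_ker.mp (h1 (Subgroup.mem_top x)))
        rwa [MonoidHom.coe_toHomUnits, Units.val_one] at this
      have h3 : LinearMap.det (σ x) = 1 := h2
      rwa [hT, LinearMap.det_smul, LinearMap.det_id, mul_one, Module.finrank_fin_fun] at h3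
    have hcp : c ^ p = 1 := by
      have h1 : (σ x) ^ p = 1 := by rw [← map_pow, ← hx, pow_orderOf_eq_one, map_one]
      rw [hT, smul_pow, ← Module.End.one_eq_id, one_pow] at h1
      have h3 := LinearMap.ext_iff.mp h1 (Pi.single (⟨0, hd0⟩ : Fin d) 1)
      have h4 := congrFun h3 ⟨0, hd0⟩
      simpa using h4
    have hc1 : c = 1 := by
      have hcop : Nat.Coprime d p := (hp.out.coprime_iff_not_dvd.mpr
        fun h => absurd (Nat.le_of_dvd hd0 h) (by omega)).symm
      have := pow_gcd_eq_one.mpr ⟨hdet, hcp⟩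
      rwa [hcop, pow_one] at this
    show LinearMap.trace ℂ _ (σ x) = LinearMap.trace ℂ _ (σ 1)
    rw [hT, hc1, one_smul, map_one]
    rfl
  obtain ⟨p, hp, hnp, hpG⟩ : ∃ p : ℕ, p.Prime ∧ n + 1 < p ∧ p ∣ Nat.card G := by
    push Not at hnone; exact hnone
  haveI := Fact.mk hp
  obtain ⟨x, hx⟩ := exists_prime_orderOf_dvd_card' (G := G) p hpG
  refine hall_of_subgroup (fun q hq hnq => ?_) (ihsub _ (hcent x (hnc p hnp x hx)))
  haveI := Fact.mk hq
  by_cases hqG : q ∣ Nat.card G
  swap
  · exact fun hd => hqG (hd.trans (Subgroup.index_dvd_card _))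
  by_cases hqp : q = p
  · subst hqp; exact hsyl q hnq x ⟨1, by rw [hx, pow_one]⟩
  -- a commuting pair gives an abelian subgroup of index prime to `p` and `q`
  obtain ⟨a, b, ha, hb, hab⟩ := exists_commute (p := p) (q := q) (Ne.symm hqp) ρ hρ hnp hnq hpG hqG
  obtain ⟨B, hB1, hB2, hB3⟩ := ihsub _ (hcent a (hnc p hnp a ha))
  have hCa := hsyl p hnp a ⟨1, by rw [ha, pow_one]⟩
  obtain ⟨c, hcB, hc⟩ : ∃ c : Subgroup.centralizer ({a} : Set G), c ∈ B ∧ orderOf c = q := by
    have h1 : q ∣ Nat.card (Subgroup.centralizer ({a} : Set G)) := by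
      rw [← hb, ← Subgroup.orderOf_mk b (Subgroup.mem_centralizer_singleton_iff.mpr hab.symm.eq)]
      exact orderOf_dvd_natCard _
    have h2 : q ∣ Nat.card B := by
      rw [← B.card_mul_index] at h1
      exact (hq.dvd_mul.mp h1).resolve_right (hB3 q hq hnq)
    obtain ⟨⟨c, hcB⟩, hc⟩ := exists_prime_orderOf_dvd_card' (G := B) q h2
    exact ⟨c, hcB, by rwa [Subgroup.orderOf_mk] at hc⟩
  obtain ⟨D, hD1, hD2, hD3⟩ := ihsub _ (hcent (c : G) (hnc q hnq _ (by rw [Subgroup.orderOf_coe]; exact hc)))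
  have hCc : ¬ p ∣ (Subgroup.centralizer ({(c : G)} : Set G)).index ∧
      ¬ q ∣ (Subgroup.centralizer ({(c : G)} : Set G)).index := by
    refine ⟨fun hd => ?_, hsyl q hnq _ ⟨1, by rw [Subgroup.orderOf_coe, hc, pow_one]⟩⟩
    have hle : B.map (Subgroup.centralizer ({a} : Set G)).subtype ≤ Subgroup.centralizer ({(c : G)} : Set G) := by
      rintro _ ⟨w, hw, rfl⟩
      exact Subgroup.mem_centralizer_singleton_iff.mpr (congrArg Subtype.val (hB1 w hw c hcB))
    have h := hd.trans (Subgroup.index_dvd_of_le hle)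
    rw [Subgroup.index_map_subtype] at h
    exact (hp.dvd_mul.mp h).elim (hB3 p hp hnp) hCa
  set E := D.map (Subgroup.centralizer ({(c : G)} : Set G)).subtype with hE
  have hEidx : ¬ p ∣ E.index ∧ ¬ q ∣ E.index := by
    rw [hE, Subgroup.index_map_subtype]
    exact ⟨fun h => (hp.dvd_mul.mp h).elim (hD3 p hp hnp) hCc.1,
      fun h => (hq.dvd_mul.mp h).elim (hD3 q hq hnq) hCc.2⟩
  obtain ⟨S, hS⟩ : ∃ S : Sylow p G, (S : Subgroup G) ≤ E := by
    let S0 : Sylow p E := default
    have hidx' : ¬ p ∣ ((S0 : Subgroup E).map E.subtype).index := by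
      rw [Subgroup.index_map_subtype]
      exact fun hd => (hp.dvd_mul.mp hd).elim S0.not_dvd_index hEidx.1
    exact ⟨(S0.isPGroup'.map E.subtype).toSylow hidx', by rw [IsPGroup.toSylow_coe]; exact Subgroup.map_subtype_le _⟩
  obtain ⟨R, hR⟩ := (IsPGroup.of_card (p := p) (n := 1) (G := Subgroup.zpowers x) (by
    rw [Nat.card_zpowers, hx, pow_one])).exists_le_sylow
  obtain ⟨g, hg⟩ := MulAction.exists_smul_eq G R S
  intro hd
  have hxE : g * x * g⁻¹ ∈ E := hS (by
    rw [← hg, Sylow.coe_subgroup_smul]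
    exact ⟨x, hR (Subgroup.mem_zpowers x), rfl⟩)
  have hle : E ≤ Subgroup.centralizer ({g * x * g⁻¹} : Set G) := by
    obtain ⟨x', hx', ex⟩ := hxE
    rintro _ ⟨w, hw, rfl⟩
    rw [← ex]
    exact Subgroup.mem_centralizer_singleton_iff.mpr (congrArg Subtype.val (hD1 w hw x' hx'))
  have hconj : (Subgroup.centralizer ({g * x * g⁻¹} : Set G)).index = (Subgroup.centralizer ({x} : Set G)).index := by
    have e : Subgroup.centralizer ({g * x * g⁻¹} : Set G) =
        (Subgroup.centralizer ({x} : Set G)).map (MulAut.conj g).toMonoidHom := by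
      ext w
      simp only [Subgroup.mem_centralizer_singleton_iff, Subgroup.mem_map, MulEquiv.coe_toMonoidHom,
        MulAut.conj_apply]
      refine ⟨fun h => ⟨g⁻¹ * w * g, ?_, by group⟩, ?_⟩
      · calc g⁻¹ * w * g * x = g⁻¹ * (w * (g * x * g⁻¹)) * g := by group
          _ = _ := by rw [h]; group
      · rintro ⟨v, hv, rfl⟩
        calc g * v * g⁻¹ * (g * x * g⁻¹) = g * (v * x) * g⁻¹ := by group
          _ = _ := by rw [hv]; group
    rw [e, Subgroup.index_map_of_bijective (MulAut.conj g).bijective]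
  exact hEidx.2 ((hconj ▸ hd).trans (Subgroup.index_dvd_of_le hle))

end CfsgLib.Char.LargePrimeHall
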