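import Cfsg.Agent.Lib.Char.IndicatorInduced
import Cfsg.Agent.Lib.Char.Counting
import Cfsg.Agent.Lib.Blocks.Sylow
import Cfsg.Agent.Lib.Blocks.CentralChar

/-!
# Linear characters against the characters induced from an inertia group
-/

set_option autoImplicit false
set_option linter.unusedSectionVars false
set_option linter.style.haveILetI false

namespace CfsgLib.Char

open Cfsg
open scoped ComplexConjugate CfsgLib.Char commutatorElement

variable {G : Type*} [Group G] [Fintype G]

theorem linearCount_le (N I : Subgroup G) [N.Normal] [Fintype N] [Fintype I] (hN1 : N ≠ ⊥)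
    (hmin : ∀ M : Subgroup G, M.Normal → M ≤ N → M = ⊥ ∨ M = N) (hna : ¬ IsMulCommutative N)
    (hNI : N ≤ I) {φ : IrrCharacter N}
    (hI : ∀ g, g ∈ I ↔ conjBy N (φ : N → ℂ) g = (φ : N → ℂ))
    (ψ : IrrCharacter I) (hext : ∀ n : N, (ψ : I → ℂ) (Subgroup.inclusion hNI n) = (φ : N → ℂ) n)
    (P Q : IrrCharacter G → Prop)
    (hP : ∀ χ, P χ → (χ : G → ℂ) 1 = 1)
    (hPQ : ∀ (χ η : IrrCharacter G), P χ →
      (η : G → ℂ) = (fun g => (χ : G → ℂ) g * indFun I (ψ : I → ℂ) g) → Q η) :
    Nat.card {χ : IrrCharacter G // P χ} ≤ I.index * Nat.card {χ : IrrCharacter G // Q χ} := by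
  classical
  haveI : Finite (IrrCharacter G) := finite_irrCharacter
  have hperf : ⁅N, N⁆ = N := by
    haveI : (⁅N, N⁆ : Subgroup G).Normal := Subgroup.commutator_normal N N
    refine (hmin ⁅N, N⁆ inferInstance (Subgroup.commutator_le_right N N)).resolve_left fun h => hna ?_
    refine ⟨⟨fun a b => Subtype.ext ?_⟩⟩
    have h1 := Subgroup.commutator_mem_commutator a.2 b.2
    rw [h, Subgroup.mem_bot, commutatorElement_eq_one_iff_mul_comm] at h1
    exact h1
  have htriv : ∀ (l : G →* ℂˣ), ∀ n ∈ N, l n = 1 := fun l n hn => by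
    have : ⁅N, N⁆ ≤ l.ker := Subgroup.commutator_le.mpr fun a _ b _ =>
      MonoidHom.mem_ker.mpr (by
        rw [map_commutatorElement, commutatorElement_eq_one_iff_mul_comm]; exact mul_comm _ _)
    exact MonoidHom.mem_ker.mp (this (hperf.symm ▸ hn))
  set Ξ := indFun I (ψ : I → ℂ)
  have hres : resTo N I hNI (ψ : I → ℂ) = (φ : N → ℂ) := funext fun n => hext n
  have hΞ : IsIrrCharacter G Ξ := (clifford_correspondence N I φ.2 hI hNI ψ.2
    (by rw [hres, classInner_irr_self φ.2]; exact one_ne_zero)).1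
  let lh : {χ : IrrCharacter G // P χ} → (G →* ℂˣ) := fun χ =>
    linearHom (isCharacter_of_isIrr χ.1.2) (hP _ χ.2)
  have hlh : ∀ (χ : {χ : IrrCharacter G // P χ}) (g : G), ((lh χ g : ℂˣ) : ℂ) = (χ.1 : G → ℂ) g := fun χ g => linearHom_apply _ _ g
  have hTh : ∀ χ : {χ : IrrCharacter G // P χ}, IsIrrCharacter G (fun g => (χ.1 : G → ℂ) g * Ξ g) := fun χ => by
    have := isIrrCharacter_linear_mul hΞ (lh χ)
    simpa [hlh] using this
  let f : {χ : IrrCharacter G // P χ} → {χ : IrrCharacter G // Q χ} := fun χ =>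
    ⟨⟨_, hTh χ⟩, hPQ χ.1 _ χ.2 rfl⟩
  -- the value on each coset of `I` determines the member of a fibre
  have hfib : ∀ y, Nat.card {χ // f χ = y} ≤ I.index := by
    intro y
    rcases isEmpty_or_nonempty {χ // f χ = y} with he | ⟨⟨χ₀, hχ₀⟩⟩
    · simp
    let K : Subgroup G := (commutator G) ⊔ I
    haveI : K.Normal := Subgroup.Normal.of_commutator_le G le_sup_left
    have hK : ∀ χ : {χ // f χ = y}, ∀ k ∈ K, (lh χ.1 * (lh χ₀)⁻¹) k = 1 := by
      intro χ k hk
      have hle : K ≤ (lh χ.1 * (lh χ₀)⁻¹).ker := by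
        refine sup_le (Abelianization.commutator_subset_ker _) fun i hi => ?_
        have h := linear_twist_restrict_eq N I hNI φ.2 hI ψ.2 hext (lh χ.1) (lh χ₀) (htriv _)
          (htriv _) (by
            have := congrArg (fun z : {χ : IrrCharacter G // Q χ} => (z.1 : G → ℂ)) (χ.2.trans hχ₀.symm)
            simpa [f, hlh] using this) i hi
        simp [h]
      exact MonoidHom.mem_ker.mp (hle hk)
    let q : {χ // f χ = y} → ((G ⧸ K) →* ℂˣ) := fun χ =>
      QuotientGroup.lift K (lh χ.1 * (lh χ₀)⁻¹) fun k hk => MonoidHom.mem_ker.mpr (hK χ k hk)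
    have hq : Function.Injective q := fun a b h => by
      refine Subtype.ext (Subtype.ext (Subtype.ext (funext fun g => ?_)))
      have := DFunLike.congr_fun h (QuotientGroup.mk g)
      simp only [q, QuotientGroup.lift_mk, MonoidHom.mul_apply, mul_left_inj] at this
      rw [← hlh, ← hlh, this]
    letI : CommGroup (G ⧸ K) :=
      { (inferInstance : Group (G ⧸ K)) with
        mul_comm := fun a b => QuotientGroup.induction_on a fun a => QuotientGroup.induction_on b
          fun b => by
            rw [← QuotientGroup.mk_mul, ← QuotientGroup.mk_mul, QuotientGroup.eq]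
            refine le_sup_left (a := commutator G) (b := I) ?_
            have : ((a * b)⁻¹ * (b * a)) = ⁅b⁻¹, a⁻¹⁆ := by simp [commutatorElement_def, mul_assoc]
            rw [this, commutator_def]
            exact Subgroup.commutator_mem_commutator (Subgroup.mem_top _) (Subgroup.mem_top _) }
    haveI : HasEnoughRootsOfUnity ℂ (Monoid.exponent (G ⧸ K)) := inferInstance
    obtain ⟨e⟩ := CommGroup.monoidHom_mulEquiv_of_hasEnoughRootsOfUnity (G ⧸ K) ℂ
    haveI : Finite ((G ⧸ K) →* ℂˣ) := Finite.of_equiv _ e.symm.toEquiv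
    calc Nat.card {χ // f χ = y} ≤ Nat.card ((G ⧸ K) →* ℂˣ) := Nat.card_le_card_of_injective q hq
      _ = Nat.card (G ⧸ K) := Nat.card_congr e.toEquiv
      _ ≤ I.index := Nat.le_of_dvd (Nat.pos_of_ne_zero I.index_ne_zero_of_finite)
          (Subgroup.index_dvd_of_le (le_sup_right : I ≤ K))
  haveI : Fintype {χ : IrrCharacter G // P χ} := Fintype.ofFinite _
  haveI : Fintype {χ : IrrCharacter G // Q χ} := Fintype.ofFinite _
  rw [← Nat.card_congr (Equiv.sigmaFiberEquiv f), Nat.card_sigma, mul_comm I.index,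
    Nat.card_eq_fintype_card (α := {χ : IrrCharacter G // Q χ}), ← smul_eq_mul, ← Finset.card_univ,
    ← Finset.sum_const]
  exact Finset.sum_le_sum fun y _ => hfib y

end CfsgLib.Char
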