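import Cfsg.Agent.Lib.Char.InducedRestrict
import Cfsg.Agent.Lib.Char.Constituents
import Cfsg.Agent.Lib.Char.AbelianQuotient
import Cfsg.Agent.Lib.Char.Gallagher
import Cfsg.Agent.Lib.Hall.Chief
import Cfsg.Agent.Lib.Char.Kernel

/-!
# A character induced irreducibly from a maximal subgroup is not quasi-primitive
-/

set_option autoImplicit false
set_option linter.unusedSectionVars false

namespace CfsgLib.Char

open Cfsg
open scoped ComplexConjugate CfsgLib.Char commutatorElement

variable {G : Type*} [Group G]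

/-- The next step of a chief series above a normal subgroup with solvable quotient. -/
theorem exists_step_over [Finite G] (C : Subgroup G) [C.Normal] (hC : C ≠ ⊤)
    (hsolv : Group.IsSolvable (G ⧸ C)) :
    ∃ (M : Subgroup G) (p k : ℕ), M.Normal ∧ C < M ∧ p.Prime ∧ C.relIndex M = p ^ k ∧
      (∀ N : Subgroup G, N.Normal → C ≤ N → N ≤ M → N = C ∨ N = M) ∧
      ∀ a ∈ M, ∀ b ∈ M, a * b * a⁻¹ * b⁻¹ ∈ C := by
  classical
  haveI := hsolv
  set f := QuotientGroup.mk' C
  have hsurj : Function.Surjective f := QuotientGroup.mk'_surjective C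
  haveI : Nontrivial (G ⧸ C) := QuotientGroup.nontrivial_iff.mpr hC
  haveI : Finite (Subgroup (G ⧸ C)) :=
    Finite.of_injective (fun H => (H : Set (G ⧸ C))) SetLike.coe_injective
  obtain ⟨B, hB, hmin'⟩ := (Set.toFinite {N : Subgroup (G ⧸ C) | N.Normal ∧ N ≠ ⊥}).exists_minimal
    ⟨⊤, inferInstance, top_ne_bot⟩
  haveI := hB.1
  have hmin : ∀ N : Subgroup (G ⧸ C), N.Normal → N ≤ B → N = ⊥ ∨ N = B := fun N hN hle =>
    (em (N = ⊥)).imp_right fun h => le_antisymm hle (hmin' ⟨hN, h⟩ hle)
  obtain ⟨p, hp, hBp⟩ := CfsgLib.Hall.exists_prime_isPGroup_of_minimal hB.2 hmin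
  haveI := Fact.mk hp
  obtain ⟨k, hk⟩ := IsPGroup.iff_card.mp hBp
  have hcomm : ⁅B, B⁆ = ⊥ := by
    rcases hmin _ (Subgroup.commutator_normal B B) (Subgroup.commutator_le_left B B) with h | h
    · exact h
    exfalso
    haveI : Group.IsNilpotent B := hBp.isNilpotent
    have hlt := CfsgLib.Coprime.commutator_lt_of_isNilpotent (X := B) (U := B) (P := B) le_rfl le_rfl
      Subgroup.le_normalizer hB.2
    exact hlt.ne h
  have hCM : C ≤ B.comap f := fun x hx => by
    rw [Subgroup.mem_comap, QuotientGroup.mk'_apply, (QuotientGroup.eq_one_iff x).mpr hx]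
    exact one_mem _
  refine ⟨B.comap f, p, k, inferInstance, lt_of_le_of_ne hCM ?_, hp, ?_, ?_, ?_⟩
  · intro e
    refine hB.2 ?_
    rw [← Subgroup.map_comap_eq_self_of_surjective hsurj B, ← e, QuotientGroup.map_mk'_self]
  · have h1 : C.relIndex (B.comap f) * (B.comap f).index = C.index := Subgroup.relIndex_mul_index hCM
    rw [Subgroup.index_comap_of_surjective _ hsurj, Subgroup.index_eq_card C, ← B.card_mul_index] at h1
    rw [Nat.eq_of_mul_eq_mul_right (Nat.pos_of_ne_zero B.index_ne_zero_of_finite) h1, hk]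
  · intro N hN hCN hNM
    haveI := hN
    have hNe : (N.map f).comap f = N := by
      rw [Subgroup.comap_map_eq, QuotientGroup.ker_mk', sup_eq_left.mpr hCN]
    rcases hmin (N.map f) (hN.map f hsurj) (Subgroup.map_le_iff_le_comap.mpr hNM) with e | e
    · left
      rw [← hNe, e, MonoidHom.comap_bot, QuotientGroup.ker_mk']
    · right
      rw [← hNe, e]
  · intro a ha b hb
    rw [← QuotientGroup.eq_one_iff]
    have h := Subgroup.commutator_mem_commutator (Subgroup.mem_comap.mp ha) (Subgroup.mem_comap.mp hb)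
    rw [hcomm, Subgroup.mem_bot, commutatorElement_def] at h
    simpa [f] using h

variable [Fintype G]

/-- An induced irreducible character from a maximal subgroup with irreducible restriction to a normal
subgroup with solvable quotient is inhomogeneous on some normal subgroup. -/
theorem not_quasiprimitive_of_induced (L H : Subgroup G) [L.Normal] (hLH : L ≤ H)
    (hmax : IsCoatom H) (hsolv : Group.IsSolvable (G ⧸ L)) {ϑ : H → ℂ} (hϑ : IsIrrCharacter H ϑ)
    (hϑL : IsIrrCharacter L (fun x : L => ϑ ⟨(x : G), hLH x.2⟩))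
    (hind : IsIrrCharacter G (indFun H ϑ)) :
    ∃ M : Subgroup G, M.Normal ∧ L ≤ M ∧ ¬ ∃ (φ : M → ℂ) (e : ℕ),
      IsIrrCharacter M φ ∧ (fun m : M => indFun H ϑ m) = (e : ℂ) • φ := by
  classical
  by_contra hcon
  push_neg at hcon
  -- the core
  set C := H.normalCore with hC
  haveI hCn : C.Normal := Subgroup.normalCore_normal H
  have hCH : C ≤ H := Subgroup.normalCore_le H
  have hLC : L ≤ C := Subgroup.normal_le_normalCore.mpr hLH
  haveI : Fintype C := Fintype.ofFinite C
  haveI : Fintype H := Fintype.ofFinite H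
  haveI : Fintype L := Fintype.ofFinite L
  set φ : C → ℂ := fun c => ϑ ⟨(c : G), hCH c.2⟩ with hφdef
  have hϑc := isCharacter_of_isIrr hϑ
  have hφc : IsCharacter C φ := isCharacter_comp (Subgroup.inclusion hCH) hϑc
  have hφirr : IsIrrCharacter C φ := by
    refine isIrr_of_restrict (L.subgroupOf C) hφc ?_
    exact isIrrCharacter_comp_mulEquiv (Subgroup.subgroupOfEquivOfLe hLC) hϑL
  set χ := indFun H ϑ with hχ
  have hχcl := isClassFunction_indFun H ϑ
  -- `φ` is invariant
  have hφinv : ∀ g, conjBy C φ g = φ := by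
    obtain ⟨φ', c, hφ', hres⟩ := hcon C hCn hLC
    have hne : classInner (fun x : C => χ x) φ ≠ 0 := by
      obtain ⟨m, hm⟩ := exists_multiplicities (isCharacter_restrict H (isCharacter_of_isIrr hind))
      choose d hd using fun ξ : IrrCharacter H =>
        exists_nat_classInner (isCharacter_comp (Subgroup.inclusion hCH) (isCharacter_of_isIrr ξ.2))
          (isCharacter_of_isIrr hφirr)
      have h1 : classInner (fun x : H => χ x) ϑ = 1 := by
        rw [← frobenius_reciprocity' H ϑ hχcl]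
        exact classInner_irr_self hind
      set t : IrrCharacter H := ⟨ϑ, hϑ⟩
      have hmt : m t = 1 := by
        rw [hm, show ϑ = (t : H → ℂ) from rfl, classInner_sum_smul_irr] at h1
        exact_mod_cast h1
      have hdt : d t = 1 := by
        have := hd t
        rw [show (fun c : C => (t : H → ℂ) (Subgroup.inclusion hCH c)) = φ from rfl, classInner_irr_self hφirr] at this
        exact_mod_cast this.symm
      have h2 : classInner (fun x : C => χ x) φ = ((∑ ξ, m ξ * d ξ : ℕ) : ℂ) := by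
        rw [show (fun x : C => χ x) = ∑ ξ : IrrCharacter H, (m ξ : ℂ) •
          ((ξ : H → ℂ) ∘ Subgroup.inclusion hCH) from funext fun x => by
            have := congrFun hm (Subgroup.inclusion hCH x)
            simp only [Finset.sum_apply, Pi.smul_apply, Function.comp_apply] at this ⊢
            exact this, classInner_sum_left]
        push_cast
        exact Finset.sum_congr rfl fun ξ _ => by rw [classInner_smul_left, ← hd ξ]; rfl
      rw [h2, Nat.cast_ne_zero]
      intro h0
      have := Finset.sum_eq_zero_iff.mp h0 t (Finset.mem_univ _)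
      rw [hmt, hdt] at this
      exact one_ne_zero this
    rw [hres, classInner_smul_left] at hne
    have he : φ' = φ := by
      by_contra h
      exact hne (by rw [classInner_irr_ne hφ' hφirr h, mul_zero])
    have hc0 : (c : ℂ) ≠ 0 := fun h => hne (by rw [h, zero_mul])
    intro g
    funext x
    refine mul_left_cancel₀ hc0 ?_
    have h1 := congrFun hres ⟨g * x * g⁻¹, hCn.conj_mem _ x.2 g⟩
    have h2 := congrFun hres x
    simp only [Pi.smul_apply, smul_eq_mul, he] at h1 h2
    rw [conjBy_apply, ← h1, ← h2]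
    exact hχcl x g
  -- first step
  have hCtop : C ≠ ⊤ := fun h => hmax.1 (top_le_iff.mp (h ▸ hCH))
  have hsolvC : Group.IsSolvable (G ⧸ C) := by
    haveI := hsolv
    exact Group.isSolvable_of_surjective (f := QuotientGroup.map L C (MonoidHom.id G) hLC)
      (fun q => by
        obtain ⟨g, rfl⟩ := QuotientGroup.mk_surjective q
        exact ⟨QuotientGroup.mk g, rfl⟩)
  obtain ⟨M, p, k, hMn, hCM, hp, hMk, hMmin, hMab⟩ := exists_step_over C hCtop hsolvC
  haveI := hMn
  haveI : Fintype M := Fintype.ofFinite M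
  have hMH : ¬ M ≤ H := fun h => hCM.not_ge (Subgroup.normal_le_normalCore.mpr h)
  have hsup : M ⊔ H = ⊤ :=
    hmax.2 _ (lt_of_le_of_ne le_sup_right fun e => hMH (le_sup_left.trans_eq e.symm))
  have hnormal : ∀ K : Subgroup G, (∀ m ∈ M, ∀ a ∈ K ⊓ H, m * a * m⁻¹ ∈ K ⊓ H) → K.Normal → K ⊓ H = C ∨ ¬ C ≤ K := by
    intro K hK hKn
    by_cases hCK : C ≤ K
    · left
      refine le_antisymm ?_ (le_inf hCK hCH)
      have hn : (K ⊓ H).Normal := ⟨fun a ha g => by
        obtain ⟨m, hm, h, hh, rfl⟩ := Subgroup.mem_sup_of_normal_left.mp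
          (hsup ▸ Subgroup.mem_top g : g ∈ M ⊔ H)
        have h1 : h * a * h⁻¹ ∈ K ⊓ H :=
          Subgroup.mem_inf.mpr ⟨hKn.conj_mem a ha.1 h, H.mul_mem (H.mul_mem hh ha.2) (H.inv_mem hh)⟩
        have h2 := hK m hm _ h1
        rwa [show m * h * a * (m * h)⁻¹ = m * (h * a * h⁻¹) * m⁻¹ by group]⟩
      haveI := hn
      exact Subgroup.normal_le_normalCore.mpr inf_le_right
    · exact Or.inr hCK
  have hinf : M ⊓ H = C := by
    refine (hnormal M (fun m hm a ha => ?_) hMn).resolve_right (not_not.mpr hCM.le)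
    refine Subgroup.mem_inf.mpr ⟨M.mul_mem (M.mul_mem hm ha.1) (M.inv_mem hm), ?_⟩
    rw [show m * a * m⁻¹ = (m * a * m⁻¹ * a⁻¹) * a by group]
    exact H.mul_mem (hCH (hMab m hm a ha.1)) ha.2
  have hrel : ∀ K : Subgroup G, K.Normal → M ≤ K → H.relIndex K = H.index := by
    intro K hK hMK
    haveI := hK
    have hKH : K ⊔ H = ⊤ := top_le_iff.mp (hsup.symm.le.trans (sup_le_sup_right hMK H))
    have h1 := CfsgLib.Coprime.card_sup_mul_card_inf (K := K) (S := H) Subgroup.le_normalizer_of_normal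
    have h2 := CfsgLib.Coprime.relIndex_mul_card_inf H K
    rw [hKH, Subgroup.card_top, inf_comm, ← H.card_mul_index, ← h2] at h1
    refine (Nat.eq_of_mul_eq_mul_right
      (Nat.mul_pos (Nat.card_pos (α := H)) (Nat.card_pos (α := (H ⊓ K : Subgroup G)))) ?_).symm
    linarith
  have hrelM : H.relIndex M = p ^ k := by
    rw [← hMk, ← Subgroup.inf_relIndex_right, inf_comm, hinf]
  -- the restriction to `M`
  set Q₁ := H.subgroupOf M with hQ₁
  have hQ₁C : Q₁ = C.subgroupOf M := by
    ext x
    rw [hQ₁, Subgroup.mem_subgroupOf, Subgroup.mem_subgroupOf, ← hinf]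
    exact ⟨fun h => Subgroup.mem_inf.mpr ⟨x.2, h⟩, fun h => h.2⟩
  haveI hQ₁n : Q₁.Normal := hQ₁C ▸ inferInstance
  haveI : Fintype Q₁ := Fintype.ofFinite Q₁
  set θ₁ : Q₁ → ℂ := fun q => ϑ ⟨((q : M) : G), q.2⟩ with hθ₁
  have hθ₁c : IsCharacter Q₁ θ₁ := by
    let fQ : Q₁ →* H :=
      { toFun := fun q => ⟨((q : M) : G), q.2⟩, map_one' := rfl, map_mul' := fun _ _ => rfl }
    exact isCharacter_comp fQ hϑc
  let ι₁ : Q₁ ≃* C :=
    { toFun := fun q => ⟨((q : M) : G), hinf.le ⟨(q : M).2, q.2⟩⟩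
      invFun := fun c => ⟨⟨(c : G), hCM.le c.2⟩, hCH c.2⟩
      left_inv := fun q => rfl
      right_inv := fun c => rfl
      map_mul' := fun _ _ => rfl }
  have hθ₁irr : IsIrrCharacter Q₁ θ₁ := isIrrCharacter_comp_mulEquiv ι₁ hφirr
  have hθ₁inv : ∀ m, conjBy Q₁ θ₁ m = θ₁ := fun m => funext fun q =>
    congrFun (hφinv (m : G)) (ι₁ q)
  have hresM : (fun x : M => χ x) = indFun Q₁ θ₁ :=
    indFun_restrict_of_sup_eq_top M H hsup (isClassFunction_of_isCharacter hϑc)
  have hnormM : classInner (fun x : M => χ x) (fun x : M => χ x) = (p : ℂ) ^ k := by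
    rw [hresM, classInner_indFun_self_of_invariant Q₁ hθ₁irr hθ₁inv, ← Nat.cast_pow, ← hrelM]
    rfl
  obtain ⟨ψ, e, hψ, hMres⟩ := hcon M hMn (hLC.trans hCM.le)
  have he : e * e = p ^ k := by
    rw [hMres, classInner_smul_left, classInner_smul_right, classInner_irr_self hψ,
      Complex.conj_natCast, mul_one] at hnormM
    exact_mod_cast hnormM
  have he0 : (e : ℂ) ≠ 0 := by
    intro h
    rw [Nat.cast_eq_zero.mp h, zero_mul] at he
    exact (pow_pos hp.pos k).ne he
  by_cases hMtop : M = ⊤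
  · have h1 : classInner (fun x : M => χ x) (fun x : M => χ x) = 1 := by
      subst hMtop
      exact (classInner_comp_mulEquiv Subgroup.topEquiv χ χ).trans (classInner_irr_self hind)
    rw [h1] at hnormM
    have h2 : p ^ k = 1 := by exact_mod_cast hnormM.symm
    rw [← hMk, Subgroup.relIndex_eq_one] at h2
    exact hCM.not_ge h2
  -- second step
  have hsolvM : Group.IsSolvable (G ⧸ M) := by
    haveI := hsolvC
    exact Group.isSolvable_of_surjective (f := QuotientGroup.map C M (MonoidHom.id G) hCM.le)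
      (fun x => by
        obtain ⟨g, rfl⟩ := QuotientGroup.mk_surjective x
        exact ⟨QuotientGroup.mk g, rfl⟩)
  obtain ⟨K, q, l, hKn, hMK, hq, hKl, -, hKab⟩ := exists_step_over M hMtop hsolvM
  haveI := hKn
  haveI : Fintype K := Fintype.ofFinite K
  have hsupK : K ⊔ H = ⊤ := top_le_iff.mp (hsup.symm.le.trans (sup_le_sup_right hMK.le H))
  have hKHC : K ⊓ H ≠ C := by
    intro h
    have h1 := hrel K hKn hMK.le
    rw [← Subgroup.inf_relIndex_right, inf_comm, h, ← hrel M hMn le_rfl, hrelM, ← hMk] at h1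
    have h2 := Subgroup.relIndex_mul_relIndex C M K hCM.le hMK.le
    rw [h1] at h2
    have h3 : M.relIndex K = 1 := by
      refine Nat.eq_of_mul_eq_mul_left (Nat.pos_of_ne_zero (n := C.relIndex M) ?_) (h2.trans (mul_one _).symm)
      rw [hMk]; exact (pow_pos hp.pos k).ne'
    exact hMK.not_ge (Subgroup.relIndex_eq_one.mp h3)
  have hpq : p ≠ q := by
    intro hpq
    subst hpq
    haveI := Fact.mk hp
    set fC := QuotientGroup.mk' C with hfC
    have hsurj : Function.Surjective fC := QuotientGroup.mk'_surjective C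
    set Kb := K.map fC with hKb
    set Mb := M.map fC with hMb
    haveI : Kb.Normal := hKn.map fC hsurj
    haveI : Mb.Normal := hMn.map fC hsurj
    have hKp : IsPGroup p Kb := by
      refine IsPGroup.of_card (n := k + l) ?_
      rw [hKb, ← Subgroup.relIndex_bot_left, ← Subgroup.map_bot fC, Subgroup.relIndex_map_map,
        bot_sup_eq, hfC, QuotientGroup.ker_mk', sup_eq_left.mpr (hCM.le.trans hMK.le), pow_add,
        ← hMk, ← hKl, Subgroup.relIndex_mul_relIndex C M K hCM.le hMK.le]
    have hne : Mb.subgroupOf Kb ≠ ⊥ := by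
      rw [Ne, Subgroup.subgroupOf_eq_bot, disjoint_iff, inf_eq_left.mpr (Subgroup.map_mono hMK.le),
        Subgroup.map_eq_bot_iff, hfC, QuotientGroup.ker_mk']
      exact hCM.not_ge
    obtain ⟨z, hzM, hzZ, hz⟩ := exists_central_of_normal hKp (Mb.subgroupOf Kb) hne
    set Z := M ⊓ (Subgroup.centralizer (Kb : Set (G ⧸ C))).comap fC with hZ
    haveI : (Subgroup.centralizer (Kb : Set (G ⧸ C))).Normal := Subgroup.normal_centralizer
    haveI hZn : Z.Normal := Subgroup.normal_inf_normal _ _
    have hCZ : C ≤ Z := le_inf hCM.le fun x hx => by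
      rw [Subgroup.mem_comap, hfC, QuotientGroup.mk'_apply, (QuotientGroup.eq_one_iff x).mpr hx]
      exact one_mem _
    have hZeq : Z = M := by
      refine (hMmin Z hZn hCZ inf_le_left).resolve_left fun h => ?_
      obtain ⟨m, hm, hmz⟩ := hzM
      have hmZ : m ∈ Z := Subgroup.mem_inf.mpr ⟨hm, Subgroup.mem_comap.mpr fun y hy => by
        have := Subgroup.mem_center_iff.mp hzZ ⟨y, hy⟩
        have h' : y * (z : G ⧸ C) = (z : G ⧸ C) * y := congrArg Subtype.val this
        rw [hmz]
        exact h'⟩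
      rw [h] at hmZ
      have hz1 : z = 1 := Subtype.ext (hmz.symm.trans ((QuotientGroup.eq_one_iff m).mpr hmZ))
      rw [hz1, orderOf_one] at hz
      exact hp.ne_one hz.symm
    refine hKHC ((hnormal K (fun m hm a ha => ?_) hKn).resolve_right (not_not.mpr (hCM.le.trans hMK.le)))
    refine Subgroup.mem_inf.mpr ⟨hKn.conj_mem a ha.1 m, ?_⟩
    rw [← hZeq] at hm
    have hc := Subgroup.mem_comap.mp hm.2 (fC a) ⟨a, ha.1, rfl⟩
    have hcC : m * a * m⁻¹ * a⁻¹ ∈ C := by
      rw [← QuotientGroup.eq_one_iff, ← QuotientGroup.mk'_apply, map_mul, map_mul, map_mul, map_inv,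
        map_inv, ← hfC, ← hc]
      group
    rw [show m * a * m⁻¹ = (m * a * m⁻¹ * a⁻¹) * a by group]
    exact H.mul_mem (hCH hcC) ha.2
  -- the restriction to `K`
  set Q₂ := H.subgroupOf K with hQ₂
  haveI : Fintype Q₂ := Fintype.ofFinite Q₂
  set C₂ := C.subgroupOf K with hC₂
  haveI : Fintype C₂ := Fintype.ofFinite C₂
  set θ₂ : Q₂ → ℂ := fun x => ϑ ⟨((x : K) : G), x.2⟩ with hθ₂
  have hθ₂c : IsCharacter Q₂ θ₂ := by
    let fQ : Q₂ →* H :=
      { toFun := fun x => ⟨((x : K) : G), x.2⟩, map_one' := rfl, map_mul' := fun _ _ => rfl }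
    exact isCharacter_comp fQ hϑc
  have hQ₂n : ¬ Q₂.Normal := fun h => by
    refine hKHC ((hnormal K (fun m hm a ha => ?_) hKn).resolve_right (not_not.mpr (hCM.le.trans hMK.le)))
    exact Subgroup.mem_inf.mpr ⟨hKn.conj_mem a ha.1 m, h.conj_mem ⟨a, ha.1⟩ ha.2 ⟨m, hMK.le hm⟩⟩
  have hlt := classInner_indFun_self_lt C₂ Q₂ (fun x hx => hCH hx) hQ₂n hθ₂c
    (isIrrCharacter_comp_mulEquiv (Subgroup.subgroupOfEquivOfLe (hCM.le.trans hMK.le)) hφirr)
  have hresK : (fun x : K => χ x) = indFun Q₂ θ₂ :=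
    indFun_restrict_of_sup_eq_top K H hsupK (isClassFunction_of_isCharacter hϑc)
  obtain ⟨η, f, hη, hKres⟩ := hcon K hKn (hLC.trans (hCM.le.trans hMK.le))
  rw [← hresK, hKres, classInner_smul_left, classInner_smul_right, classInner_irr_self hη,
    Complex.conj_natCast, mul_one, ← Nat.cast_mul, Complex.natCast_re,
    show Q₂.index = p ^ k from (hrel K hKn hMK.le).trans ((hrel M hMn le_rfl).symm.trans hrelM)] at hlt
  have hff : f * f < e * e := by rw [he]; exact_mod_cast hlt
  -- compare on `M`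
  set M' := M.subgroupOf K with hM'
  haveI : Fintype M' := Fintype.ofFinite M'
  set ι : M' ≃* M := Subgroup.subgroupOfEquivOfLe hMK.le with hι
  set ψ' : M' → ℂ := fun x => ψ (ι x) with hψ'
  have hψ'irr : IsIrrCharacter M' ψ' := isIrrCharacter_comp_mulEquiv ι hψ
  have hψ'inv : ∀ x, conjBy M' ψ' x = ψ' := by
    intro x
    funext y
    refine mul_left_cancel₀ he0 ?_
    have h1 := congrFun hMres (ι ⟨x * (y : K) * x⁻¹, Subgroup.Normal.conj_mem inferInstance _ y.2 x⟩)
    have h2 := congrFun hMres (ι y)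
    simp only [Pi.smul_apply, smul_eq_mul] at h1 h2
    rw [conjBy_apply]
    simp only [hψ']
    rw [← h1, ← h2]
    exact hχcl ((y : K) : G) (x : G)
  have hcompare : ∀ y : M', (f : ℂ) * η (y : K) = (e : ℂ) * ψ' y := by
    intro y
    have h1 := congrFun hKres (y : K)
    have h2 := congrFun hMres (ι y)
    simp only [Pi.smul_apply, smul_eq_mul] at h1 h2
    simp only [hψ']
    rw [← h1, ← h2]
    rfl
  obtain ⟨j, hj⟩ := exists_nat_classInner (isCharacter_restrict M' (isCharacter_of_isIrr hη))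
    (isCharacter_of_isIrr hψ'irr)
  have hfj : f * j = e := by
    have h : (f : ℂ) * classInner (fun y : M' => η y) ψ' = (e : ℂ) := by
      rw [← classInner_smul_left, show (f : ℂ) • (fun y : M' => η y) = (e : ℂ) • ψ' from funext hcompare,
        classInner_smul_left, classInner_irr_self hψ'irr, mul_one]
    rw [hj] at h
    exact_mod_cast h
  have hKab' : ∀ x y : K, x * y * x⁻¹ * y⁻¹ ∈ M' := fun x y => by
    rw [hM', Subgroup.mem_subgroupOf]
    simpa using hKab _ x.2 _ y.2
  have hj0 : j ≠ 0 := fun h => he0 (by rw [← hfj, h, mul_zero, Nat.cast_zero])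
  obtain ⟨j', Cs, -, hj', -, hjidx, -, -⟩ := invariant_decomposition M' hKab' hψ'irr hψ'inv hη
    (by convert (hj ▸ Nat.cast_ne_zero.mpr hj0 : classInner (fun y : M' => η y) ψ' ≠ 0))
  replace hj' : j = j' := Nat.cast_injective (R := ℂ) (hj.symm.trans (by convert hj'))
  subst hj'
  have hj1 : j = 1 := by
    have hjq : j ∣ q ^ l := by
      rw [← hKl, ← show M'.index = M.relIndex K from rfl, ← hjidx, sq, mul_assoc]
      exact dvd_mul_right j _
    have hjp : j ∣ p ^ k := by
      rw [← he]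
      exact (Dvd.intro_left f hfj).mul_right e
    exact Nat.eq_one_of_dvd_coprimes (((Nat.coprime_primes hp hq).mpr hpq).pow k l) hjp hjq
  rw [hj1, mul_one] at hfj
  exact hff.ne (by rw [hfj])

end CfsgLib.Char
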