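import Cfsg.Agent.Lib.Char.Constituents
import Cfsg.Agent.Lib.Char.Counting
import Cfsg.Agent.Lib.Char.Twist
import Cfsg.Agent.Lib.Char.ExtendChar
import Cfsg.Agent.Lib.Char.Gallagher
import Cfsg.Agent.Lib.Char.AbelianQuotient
import Cfsg.Agent.Lib.Char.Induced

/-!
# Galois-fixed characters over a normal subgroup of odd index

`k` is an exponent prime to the order of the group inducing on the characters an automorphism of
`2`-power order that inverts the elements of odd order.
-/

set_option autoImplicit false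
set_option linter.unusedSectionVars false
set_option linter.style.haveILetI false

namespace CfsgLib.Char.OddFixed

open Cfsg
open scoped ComplexConjugate CfsgLib.Char

/-- The hypotheses on the exponent. -/
structure Twisting (G : Type*) [Group G] (k e : ℕ) : Prop where
  coprime : Nat.Coprime k (Nat.card G)
  period : ∀ g : G, g ^ k ^ 2 ^ e = g
  inverts : ∀ g : G, Odd (orderOf g) → g ^ k = g⁻¹

theorem Twisting.subgroup {G : Type*} [Group G] [Finite G] {k e : ℕ} (h : Twisting G k e)
    (H : Subgroup G) : Twisting H k e :=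
  ⟨h.coprime.coprime_dvd_right (Subgroup.card_subgroup_dvd_card H),
    fun g => Subtype.ext (by simpa using h.period g),
    fun g hg => Subtype.ext (by simpa using h.inverts g (by rwa [Subgroup.orderOf_coe]))⟩

/-- A commuting pair of permutations, one of period prime to that of the other, has as common
fixed points the fixed points of the product. -/
theorem fixed_split {α : Type*} (s c : Equiv.Perm α) (hsc : Commute s c) {e m : ℕ} (hm : Odd m)
    (hs : s ^ 2 ^ e = 1) (hc : c ^ m = 1) (a : α) : (s * c) a = a ↔ s a = a ∧ c a = a := by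
  refine ⟨fun h => ?_, fun ⟨h1, h2⟩ => by rw [Equiv.Perm.mul_apply, h2, h1]⟩
  have h1 : ∀ n : ℕ, ((s * c) ^ n) a = a := by
    intro n
    induction n with
    | zero => simp
    | succ n ih => rw [pow_succ', Equiv.Perm.mul_apply, ih, h]
  have hsm : (s ^ m) a = a := by
    have := h1 m
    rwa [hsc.mul_pow, hc, mul_one] at this
  have hst : ∀ n : ℕ, (s ^ (m * n)) a = a := by
    intro n
    induction n with
    | zero => simp
    | succ n ih => rw [Nat.mul_succ, pow_add, Equiv.Perm.mul_apply, hsm, ih]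
  obtain ⟨n, -, hn⟩ := Nat.exists_mul_mod_eq_one_of_coprime
    (Nat.Coprime.symm ((Nat.coprime_two_left.mpr hm).pow_left (e + 1))) (Nat.one_lt_two_pow (Nat.succ_ne_zero e))
  have hs1 : s a = a := by
    have h2 := hst n
    have h3 : s ^ (m * n) = s := by
      conv_rhs => rw [← pow_one s]
      rw [← Nat.div_add_mod (m * n) (2 ^ (e + 1)), hn, pow_add, pow_mul, pow_succ, pow_mul, hs,
        one_pow, one_pow, one_mul]
    rwa [h3] at h2
  refine ⟨hs1, ?_⟩
  have h4 : (c * s) a = a := hsc.eq ▸ h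
  rwa [Equiv.Perm.mul_apply, hs1] at h4

variable {G : Type*} [Group G] [Fintype G] {k e : ℕ}

/-- The power map on the irreducible characters. -/
noncomputable def powIrr (hk : Nat.Coprime k (Nat.card G)) : Equiv.Perm (IrrCharacter G) :=
  haveI : Finite (IrrCharacter G) := finite_irrCharacter
  Equiv.ofBijective (fun χ => (⟨fun g => (χ : G → ℂ) (g ^ k), isIrrCharacter_pow hk χ.2⟩ : IrrCharacter G))
    (Finite.injective_iff_bijective.mp fun χ χ' h => Subtype.ext (funext fun x => by
      obtain ⟨y, rfl⟩ := (powCoprime hk.symm).surjective x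
      exact congrFun (congrArg Subtype.val h) y))

theorem powIrr_apply (hk : Nat.Coprime k (Nat.card G)) (χ : IrrCharacter G) (g : G) :
    (powIrr hk χ : G → ℂ) g = (χ : G → ℂ) (g ^ k) := rfl

theorem powIrr_pow_apply (hk : Nat.Coprime k (Nat.card G)) (n : ℕ) (χ : IrrCharacter G) (g : G) :
    ((powIrr hk ^ n) χ : G → ℂ) g = (χ : G → ℂ) (g ^ k ^ n) := by
  induction n generalizing g with
  | zero => simp
  | succ n ih =>
    rw [pow_succ' (powIrr hk), Equiv.Perm.mul_apply, powIrr_apply, ih, ← pow_mul, ← pow_succ']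

theorem powIrr_pow_period (h : Twisting G k e) : powIrr h.coprime ^ 2 ^ e = 1 :=
  Equiv.ext fun χ => Subtype.ext (funext fun g => by
    rw [powIrr_pow_apply, h.period, Equiv.Perm.one_apply])

/-- The power map on the conjugacy classes. -/
noncomputable def powClass (hk : Nat.Coprime k (Nat.card G)) : Equiv.Perm (ConjClasses G) :=
  Equiv.ofBijective (fun C => Quotient.liftOn C (fun g => ConjClasses.mk (g ^ k)) (fun a b hab => by
      obtain ⟨y, rfl⟩ := isConj_iff.mp hab
      exact ConjClasses.mk_eq_mk_iff_isConj.mpr (isConj_iff.mpr ⟨y, by rw [conj_pow]⟩)))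
    (Finite.surjective_iff_bijective.mp fun C => by
      obtain ⟨g, rfl⟩ := ConjClasses.exists_rep C
      obtain ⟨y, rfl⟩ := (powCoprime hk.symm).surjective g
      exact ⟨ConjClasses.mk y, rfl⟩)

theorem powClass_mk (hk : Nat.Coprime k (Nat.card G)) (g : G) :
    powClass hk (ConjClasses.mk g) = ConjClasses.mk (g ^ k) := rfl

theorem powClass_pow_mk (hk : Nat.Coprime k (Nat.card G)) (n : ℕ) (g : G) :
    (powClass hk ^ n) (ConjClasses.mk g) = ConjClasses.mk (g ^ k ^ n) := by
  induction n with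
  | zero => simp
  | succ n ih =>
    rw [pow_succ' (powClass hk), Equiv.Perm.mul_apply, ih, powClass_mk, ← pow_mul, ← pow_succ]

theorem powClass_pow_period (h : Twisting G k e) : powClass h.coprime ^ 2 ^ e = 1 :=
  Equiv.ext fun C => by
    obtain ⟨g, rfl⟩ := ConjClasses.exists_rep C
    rw [powClass_pow_mk, h.period, Equiv.Perm.one_apply]

variable (N : Subgroup G) [N.Normal] [Fintype N]

/-- Conjugation by an element of the group, on the characters of the normal subgroup. -/
noncomputable def conjIrr (g : G) : Equiv.Perm (IrrCharacter N) where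
  toFun θ := ⟨conjBy N (θ : N → ℂ) g, isIrrCharacter_conjBy N θ.2 g⟩
  invFun θ := ⟨conjBy N (θ : N → ℂ) g⁻¹, isIrrCharacter_conjBy N θ.2 g⁻¹⟩
  left_inv θ := Subtype.ext (by
    show conjBy N (conjBy N (θ : N → ℂ) g) g⁻¹ = _
    rw [← conjBy_mul, mul_inv_cancel, conjBy_one])
  right_inv θ := Subtype.ext (by
    show conjBy N (conjBy N (θ : N → ℂ) g⁻¹) g = _
    rw [← conjBy_mul, inv_mul_cancel, conjBy_one])

theorem conjIrr_pow_apply (g : G) (n : ℕ) (θ : IrrCharacter N) :
    ((conjIrr N g ^ n) θ : N → ℂ) = conjBy N (θ : N → ℂ) (g ^ n) := by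
  induction n with
  | zero => simp [conjBy_one]
  | succ n ih =>
    rw [pow_succ' (conjIrr N g), Equiv.Perm.mul_apply, pow_succ g, conjBy_mul, ← ih]
    rfl

theorem conjIrr_pow_index (g : G) : conjIrr N g ^ N.index = 1 :=
  Equiv.ext fun θ => Subtype.ext (by
    rw [conjIrr_pow_apply, conjBy_mem N (isClassFunction_irr θ) (N.pow_index_mem g), Equiv.Perm.one_apply])

/-- Conjugation by the inverse, on the classes of the normal subgroup. -/
noncomputable def conjClass (g : G) : Equiv.Perm (ConjClasses N) where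
  toFun C := C.map (MulAut.conjNormal g⁻¹ : MulAut N).toMonoidHom
  invFun C := C.map (MulAut.conjNormal g : MulAut N).toMonoidHom
  left_inv C := by
    obtain ⟨x, rfl⟩ := ConjClasses.exists_rep C
    exact congrArg ConjClasses.mk (Subtype.ext (by simp [mul_assoc]))
  right_inv C := by
    obtain ⟨x, rfl⟩ := ConjClasses.exists_rep C
    exact congrArg ConjClasses.mk (Subtype.ext (by simp [mul_assoc]))

theorem conjClass_pow_mk (g : G) (n : ℕ) (x : N) :
    (conjClass N g ^ n) (ConjClasses.mk x) =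
      ConjClasses.mk ((MulAut.conjNormal (g⁻¹ ^ n) : MulAut N) x) := by
  induction n with
  | zero => simp
  | succ n ih =>
    rw [pow_succ' (conjClass N g), Equiv.Perm.mul_apply, ih, pow_succ' g⁻¹, map_mul]
    rfl

theorem conjClass_pow_index (g : G) : conjClass N g ^ N.index = 1 :=
  Equiv.ext fun C => by
    obtain ⟨x, rfl⟩ := ConjClasses.exists_rep C
    rw [conjClass_pow_mk, Equiv.Perm.one_apply, ConjClasses.mk_eq_mk_iff_isConj, isConj_comm,
      isConj_iff]
    exact ⟨⟨g⁻¹ ^ N.index, N.pow_index_mem _⟩, Subtype.ext (by rw [MulAut.conjNormal_apply]; rfl)⟩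

variable {N}

/-- The fixed characters and classes of the normal subgroup have equally many orbits. -/
theorem card_orbits_eq (h : Twisting G k e) (hodd : Odd N.index) :
    Nat.card (Quot fun θ η : {θ : IrrCharacter N // powIrr (h.subgroup N).coprime θ = θ} =>
        ∃ g : G, conjBy N (θ.1 : N → ℂ) g = η.1) =
      Nat.card (Quot fun x y : {x : N // IsConj (x ^ k) x} => ∃ g : G, (y.1 : G) = g * x.1 * g⁻¹) := by
  classical
  haveI : Finite (IrrCharacter N) := finite_irrCharacter
  set hN := h.subgroup N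
  set s := powIrr hN.coprime
  set t := powClass hN.coprime
  have hsc : ∀ g, Commute s (conjIrr N g) := fun g => Equiv.ext fun θ => Subtype.ext (funext fun n => by
    show (θ : N → ℂ) ⟨g * ((n ^ k : N) : G) * g⁻¹, _⟩ = (θ : N → ℂ) (⟨g * (n : G) * g⁻¹, _⟩ ^ k)
    refine congrArg (θ : N → ℂ) (Subtype.ext ?_)
    push_cast
    rw [conj_pow])
  have htc : ∀ g, Commute t (conjClass N g) := fun g => Equiv.ext fun C => by
    obtain ⟨x, rfl⟩ := ConjClasses.exists_rep C
    show ConjClasses.mk (((MulAut.conjNormal g⁻¹ : MulAut N) x) ^ k) =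
      ConjClasses.mk ((MulAut.conjNormal g⁻¹ : MulAut N) (x ^ k))
    rw [map_pow]
  let Xc := {θ : IrrCharacter N // s θ = θ}
  let Xk := {C : ConjClasses N // t C = C}
  letI : MulAction G Xc :=
    { smul := fun g θ => ⟨conjIrr N g⁻¹ θ.1, by
        show (s * conjIrr N g⁻¹) θ.1 = conjIrr N g⁻¹ θ.1
        rw [(hsc g⁻¹).eq, Equiv.Perm.mul_apply, θ.2]⟩
      one_smul := fun θ => Subtype.ext (Subtype.ext (by
        show conjBy N (θ.1 : N → ℂ) 1⁻¹ = _
        rw [inv_one, conjBy_one]))
      mul_smul := fun a b θ => Subtype.ext (Subtype.ext (by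
        show conjBy N (θ.1 : N → ℂ) (a * b)⁻¹ = conjBy N (conjBy N (θ.1 : N → ℂ) b⁻¹) a⁻¹
        rw [mul_inv_rev, conjBy_mul])) }
  letI : MulAction G Xk :=
    { smul := fun g C => ⟨conjClass N g⁻¹ C.1, by
        show (t * conjClass N g⁻¹) C.1 = conjClass N g⁻¹ C.1
        rw [(htc g⁻¹).eq, Equiv.Perm.mul_apply, C.2]⟩
      one_smul := fun C => Subtype.ext (by
        obtain ⟨x, hx⟩ := ConjClasses.exists_rep C.1
        show C.1.map (MulAut.conjNormal (1 : G)⁻¹⁻¹ : MulAut N).toMonoidHom = C.1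
        rw [← hx]
        exact congrArg ConjClasses.mk (Subtype.ext (by simp)))
      mul_smul := fun a b C => Subtype.ext (by
        obtain ⟨x, hx⟩ := ConjClasses.exists_rep C.1
        show C.1.map (MulAut.conjNormal (a * b)⁻¹⁻¹ : MulAut N).toMonoidHom =
          (C.1.map (MulAut.conjNormal b⁻¹⁻¹ : MulAut N).toMonoidHom).map
            (MulAut.conjNormal a⁻¹⁻¹ : MulAut N).toMonoidHom
        rw [← hx]
        exact congrArg ConjClasses.mk (Subtype.ext (by simp [mul_assoc]))) }
  haveI : Fintype Xc := Fintype.ofFinite _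
  haveI : Fintype Xk := Fintype.ofFinite _
  have hfix : ∀ g : G, Nat.card (MulAction.fixedBy Xc g) = Nat.card (MulAction.fixedBy Xk g) := by
    intro g
    have h1 := fun a => fixed_split s (conjIrr N g⁻¹) (hsc g⁻¹) hodd (powIrr_pow_period hN)
      (conjIrr_pow_index N g⁻¹) a
    have h2 := fun a => fixed_split t (conjClass N g) (htc g) hodd (powClass_pow_period hN)
      (conjClass_pow_index N g) a
    have hsym : ∀ C : ConjClasses N, conjClass N g C = C ↔ conjClass N g⁻¹ C = C := fun C => by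
      have e : conjClass N g⁻¹ C = (conjClass N g).symm C := by
        show C.map (MulAut.conjNormal g⁻¹⁻¹ : MulAut N).toMonoidHom =
          C.map (MulAut.conjNormal g : MulAut N).toMonoidHom
        rw [inv_inv]
      rw [e, Equiv.symm_apply_eq, eq_comm]
    have hb := brauer_perm (s * conjIrr N g⁻¹).symm (t * conjClass N g) fun χ x x' hx => by
      set ξ := (s * conjIrr N g⁻¹).symm χ
      have e : (s * conjIrr N g⁻¹) ξ = χ := Equiv.apply_symm_apply _ χ
      have hx' : IsConj x' (((MulAut.conjNormal g⁻¹ : MulAut N) x) ^ k) :=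
        ConjClasses.mk_eq_mk_iff_isConj.mp hx
      rw [eq_of_isConj (isClassFunction_irr ξ) hx']
      conv_rhs => rw [← e]
      show (ξ : N → ℂ) _ = (ξ : N → ℂ) ⟨g⁻¹ * ((x ^ k : N) : G) * g⁻¹⁻¹, _⟩
      refine congrArg (ξ : N → ℂ) (Subtype.ext ?_)
      push_cast [MulAut.conjNormal_apply, MulEquiv.coe_toMonoidHom]
      rw [conj_pow]
    have e1 : Nat.card (MulAction.fixedBy Xc g) =
        Nat.card {θ : IrrCharacter N // (s * conjIrr N g⁻¹).symm θ = θ} :=
      Nat.card_congr
        { toFun := fun θ => ⟨θ.1.1, by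
            rw [Equiv.symm_apply_eq, eq_comm, h1]
            exact ⟨θ.1.2, congrArg Subtype.val θ.2⟩⟩
          invFun := fun θ => ⟨⟨θ.1, ((h1 θ.1).mp (Equiv.symm_apply_eq _ |>.mp θ.2).symm).1⟩,
            Subtype.ext ((h1 θ.1).mp (Equiv.symm_apply_eq _ |>.mp θ.2).symm).2⟩
          left_inv := fun θ => rfl
          right_inv := fun θ => rfl }
    have e2 : Nat.card (MulAction.fixedBy Xk g) =
        Nat.card {C : ConjClasses N // (t * conjClass N g) C = C} :=
      Nat.card_congr
        { toFun := fun C => ⟨C.1.1, (h2 _).mpr ⟨C.1.2, (hsym _).mpr (congrArg Subtype.val C.2)⟩⟩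
          invFun := fun C => ⟨⟨C.1, ((h2 C.1).mp C.2).1⟩, Subtype.ext ((hsym _).mp ((h2 C.1).mp C.2).2)⟩
          left_inv := fun C => rfl
          right_inv := fun C => rfl }
    rw [e1, e2]
    exact hb
  have hB := MulAction.sum_card_fixedBy_eq_card_orbits_mul_card_group G Xc
  have hB' := MulAction.sum_card_fixedBy_eq_card_orbits_mul_card_group G Xk
  rw [Finset.sum_congr rfl fun g _ => show Fintype.card (MulAction.fixedBy Xc g) =
      Fintype.card (MulAction.fixedBy Xk g) by
    rw [← Nat.card_eq_fintype_card, ← Nat.card_eq_fintype_card]; exact hfix g, hB'] at hB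
  have horb : Nat.card (MulAction.orbitRel.Quotient G Xc) = Nat.card (MulAction.orbitRel.Quotient G Xk) := by
    rw [Nat.card_eq_fintype_card, Nat.card_eq_fintype_card]
    exact (Nat.eq_of_mul_eq_mul_right Fintype.card_pos hB).symm
  refine Eq.trans ?_ (horb.trans ?_)
  · refine Nat.card_congr (Quot.congr (Equiv.refl Xc) fun θ η => ?_)
    show (∃ g : G, conjBy N (θ.1 : N → ℂ) g = η.1) ↔ θ ∈ MulAction.orbit G η
    constructor
    · rintro ⟨g, hg⟩
      refine ⟨g, Subtype.ext (Subtype.ext ?_)⟩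
      show conjBy N (η.1 : N → ℂ) g⁻¹ = _
      rw [← hg, ← conjBy_mul, mul_inv_cancel, conjBy_one]
    · rintro ⟨g, rfl⟩
      refine ⟨g, ?_⟩
      show conjBy N (conjBy N (η.1 : N → ℂ) g⁻¹) g = _
      rw [← conjBy_mul, inv_mul_cancel, conjBy_one]
  · have hfixmk : ∀ x : N, t (ConjClasses.mk x) = ConjClasses.mk x ↔ IsConj (x ^ k) x := fun x => by
      rw [powClass_mk, ConjClasses.mk_eq_mk_iff_isConj]
    let i : MulAction.orbitRel.Quotient G Xk →
        Quot (fun x y : {x : N // IsConj (x ^ k) x} => ∃ g : G, (y.1 : G) = g * x.1 * g⁻¹) :=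
      Quot.lift (fun C => Quot.mk _ ⟨Quotient.out C.1, (hfixmk _).mp (by
        rw [show ConjClasses.mk (Quotient.out C.1) = C.1 from Quotient.out_eq C.1]; exact C.2)⟩) (by
        rintro C D ⟨g, hg⟩
        refine Quot.sound ?_
        have h3 : ConjClasses.mk ((MulAut.conjNormal g⁻¹⁻¹ : MulAut N) (Quotient.out D.1)) =
            ConjClasses.mk (Quotient.out C.1) := by
          rw [show ConjClasses.mk (Quotient.out C.1) = C.1 from Quotient.out_eq C.1, ← hg]
          conv_rhs => rw [show (g • D).1 = conjClass N g⁻¹ D.1 from rfl,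
            show D.1 = ConjClasses.mk (Quotient.out D.1) from (Quotient.out_eq D.1).symm]
          rfl
        obtain ⟨y, hy⟩ := isConj_iff.mp (ConjClasses.mk_eq_mk_iff_isConj.mp h3.symm)
        refine ⟨g⁻¹ * (y : G), ?_⟩
        have := congrArg Subtype.val hy
        simp only [Subgroup.coe_mul, Subgroup.coe_inv, MulAut.conjNormal_apply, inv_inv] at this
        rw [show g⁻¹ * (y : G) * (Quotient.out C.1 : N) * (g⁻¹ * (y : G))⁻¹ =
          g⁻¹ * ((y : G) * (Quotient.out C.1 : N) * (y : G)⁻¹) * g by group, this]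
        group)
    refine Nat.card_congr (Equiv.ofBijective i ⟨?_, ?_⟩)
    · intro a b
      induction a using Quot.ind with | _ C => ?_
      induction b using Quot.ind with | _ D => ?_
      intro hab
      have key : ∀ x y : {x : N // IsConj (x ^ k) x}, Relation.EqvGen (fun x y : {x : N // IsConj (x ^ k) x} =>
          ∃ g : G, (y.1 : G) = g * x.1 * g⁻¹) x y → ∃ g : G, (y.1 : G) = g * x.1 * g⁻¹ := by
        intro x y hxy
        induction hxy with
        | rel _ _ h => exact h
        | refl x => exact ⟨1, by simp⟩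
        | symm _ _ _ ih => obtain ⟨g, hg⟩ := ih; exact ⟨g⁻¹, by rw [hg]; group⟩
        | trans _ _ _ _ _ ih1 ih2 =>
          obtain ⟨g, hg⟩ := ih1
          obtain ⟨g', hg'⟩ := ih2
          exact ⟨g' * g, by rw [hg', hg]; group⟩
      obtain ⟨g, hg⟩ := key _ _ (Quot.eqvGen_exact hab)
      refine Quot.sound ⟨g⁻¹, Subtype.ext ?_⟩
      show conjClass N g⁻¹⁻¹ D.1 = C.1
      rw [show D.1 = ConjClasses.mk (Quotient.out D.1) from (Quotient.out_eq D.1).symm,
        show C.1 = ConjClasses.mk (Quotient.out C.1) from (Quotient.out_eq C.1).symm]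
      refine congrArg ConjClasses.mk (Subtype.ext ?_)
      simp only [MulEquiv.coe_toMonoidHom, MulAut.conjNormal_apply, inv_inv]
      rw [hg]
      group
    · intro q
      induction q using Quot.ind with | _ x => ?_
      refine ⟨Quot.mk _ ⟨ConjClasses.mk x.1, (hfixmk _).mpr x.2⟩, Quot.sound ?_⟩
      obtain ⟨y, hy⟩ := isConj_iff.mp (ConjClasses.mk_eq_mk_iff_isConj.mp
        (Quotient.out_eq (ConjClasses.mk x.1) : ConjClasses.mk (Quotient.out (ConjClasses.mk x.1)) = _))
      exact ⟨(y : G), (congrArg Subtype.val hy).symm⟩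

/-- Over a fixed character there is exactly one fixed character. -/
theorem exists_unique_fixed (h : Twisting G k e) (hodd : Odd N.index) (θ : IrrCharacter N)
    (hθ : ∀ n : N, (θ : N → ℂ) (n ^ k) = (θ : N → ℂ) n) :
    ∃ χ : IrrCharacter G, (classInner (fun n : N => (χ : G → ℂ) n) (θ : N → ℂ) ≠ 0 ∧
      ∀ g : G, (χ : G → ℂ) (g ^ k) = (χ : G → ℂ) g) ∧
      ∀ χ' : IrrCharacter G, classInner (fun n : N => (χ' : G → ℂ) n) (θ : N → ℂ) ≠ 0 →
        (∀ g : G, (χ' : G → ℂ) (g ^ k) = (χ' : G → ℂ) g) → χ' = χ := by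
  classical
  haveI : Finite (IrrCharacter G) := finite_irrCharacter
  haveI : Finite (IrrCharacter N) := finite_irrCharacter
  haveI : Fact (Nat.Prime 2) := ⟨Nat.prime_two⟩
  set hN := h.subgroup N
  set s := powIrr hN.coprime
  set S := powIrr h.coprime
  let FN := {φ : IrrCharacter N // s φ = φ}
  let FG := {χ : IrrCharacter G // S χ = χ}
  let Over : FG → FN → Prop := fun χ φ => classInner (fun n : N => (χ.1 : G → ℂ) n) (φ.1 : N → ℂ) ≠ 0
  let rel : FN → FN → Prop := fun φ η => ∃ g : G, conjBy N (φ.1 : N → ℂ) g = η.1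
  have hdown : ∀ χ : FG, ∃ φ : FN, Over χ φ := by
    intro χ
    obtain ⟨φ, hφ⟩ := exists_constituent N (isCharacter_of_isIrr χ.1.2) (irr_degree_ne_zero χ.1.2)
    let O := {η : IrrCharacter N // ∃ g, conjBy N (φ : N → ℂ) g = η}
    haveI : Fintype O := Fintype.ofFinite O
    have hoddO : Odd (Fintype.card O) := by
      have hcard : Fintype.card O = (orbit N (φ : N → ℂ)).card := by
        rw [← Fintype.card_coe]
        exact Fintype.card_congr
          { toFun := fun η => ⟨(η.1 : N → ℂ), (mem_orbit N).mpr η.2⟩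
            invFun := fun η => ⟨⟨η.1, by
              obtain ⟨g, hg⟩ := (mem_orbit N).mp η.2
              rw [← hg]; exact isIrrCharacter_conjBy N φ.2 g⟩, (mem_orbit N).mp η.2⟩
            left_inv := fun η => rfl
            right_inv := fun η => rfl }
      rw [hcard, card_orbit_eq_index]
      exact hodd.of_dvd_nat (Subgroup.index_dvd_of_le (le_inertia N (isClassFunction_irr φ)))
    have hcon : ∀ η : O, classInner (fun n : N => (χ.1 : G → ℂ) n) (η.1 : N → ℂ) ≠ 0 := fun η => by
      obtain ⟨g, hg⟩ := η.2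
      rw [← hg, ← conjBy_restrict N (isClassFunction_irr χ.1) g, classInner_conjBy]
      exact hφ
    have hmaps : ∀ η : O, ∃ g, conjBy N (φ : N → ℂ) g = (s η.1 : N → ℂ) := fun η => by
      refine exists_conjBy_of_constituents N χ.1.2 φ.2 (s η.1).2 hφ ?_
      have : (fun n : N => (χ.1 : G → ℂ) n) = fun n : N => (χ.1 : G → ℂ) ((n ^ k : N) : G) :=
        funext fun n => (congrFun (congrArg Subtype.val χ.2) (n : G)).symm.trans (by simp [S, powIrr_apply])
      rw [this]
      show classInner (fun n : N => (fun m : N => (χ.1 : G → ℂ) m) (n ^ k))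
        (fun n : N => (η.1 : N → ℂ) (n ^ k)) ≠ 0
      exact fun h0 => hcon η ((classInner_pow hN.coprime _ _).symm.trans h0)
    let c : O → O := fun η => ⟨s η.1, hmaps η⟩
    have hci : Function.Injective c := fun a b h => Subtype.ext (s.injective (congrArg Subtype.val h))
    let σ : Equiv.Perm O := Equiv.ofBijective c (Finite.injective_iff_bijective.mp hci)
    have hσ : ∀ (n : ℕ) (η : O), ((σ ^ n) η).1 = (s ^ n) η.1 := by
      intro n η
      induction n with
      | zero => simp
      | succ n ih =>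
        rw [pow_succ' σ, pow_succ' s, Equiv.Perm.mul_apply, Equiv.Perm.mul_apply, ← ih]
        rfl
    have hm := Equiv.Perm.card_compl_support_modEq (p := 2) (n := e) (σ := σ)
      (Equiv.ext fun η => Subtype.ext (by rw [hσ, powIrr_pow_period hN]; rfl))
    obtain ⟨η, hη⟩ : σ.supportᶜ.Nonempty := Finset.card_pos.mp (Nat.pos_of_ne_zero fun h0 => by
      rw [h0, Nat.ModEq, Nat.odd_iff.mp hoddO] at hm
      exact Nat.zero_ne_one hm)
    rw [Finset.mem_compl, Equiv.Perm.notMem_support] at hη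
    exact ⟨⟨η.1, congrArg Subtype.val hη⟩, hcon η⟩
  choose f hf using hdown
  have hup : ∀ φ : FN, ∃ χ : FG, Over χ φ := by
    intro φ
    obtain ⟨a, ha⟩ := exists_multiplicities (isCharacter_indFun N (isCharacter_of_isIrr φ.1.2))
    have hnorm : ∑ χ : IrrCharacter G, a χ * a χ = (inertia N (φ.1 : N → ℂ)).relIndex ⊤ * 0 +
        N.relIndex (inertia N (φ.1 : N → ℂ)) := by
      have h1 := classInner_indFun_indFun N φ.1.2 φ.1.2
      rw [if_pos (self_mem_orbit N _), ha, classInner_sum_smul_sum_smul] at h1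
      simp only [map_natCast] at h1
      have hle := le_inertia N (isClassFunction_irr φ.1)
      have h2 : N.relIndex (inertia N (φ.1 : N → ℂ)) * Nat.card N = Nat.card (inertia N (φ.1 : N → ℂ)) := by
        rw [← Nat.card_congr (Subgroup.subgroupOfEquivOfLe hle).toEquiv]
        exact Subgroup.index_mul_card _
      rw [← h2, Nat.cast_mul, mul_div_cancel_right₀ _ (Nat.cast_ne_zero.mpr Nat.card_pos.ne')] at h1
      rw [mul_zero, zero_add]
      exact_mod_cast h1
    rw [mul_zero, zero_add] at hnorm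
    let A := {χ : IrrCharacter G // Odd (a χ)}
    haveI : Fintype A := Fintype.ofFinite A
    have hoddA : Odd (Fintype.card A) := by
      have h1 : Odd (∑ χ : IrrCharacter G, a χ * a χ) := hnorm ▸ hodd.of_dvd_nat
        (Dvd.intro _ (Subgroup.relIndex_mul_index (le_inertia N (isClassFunction_irr φ.1))))
      rw [Finset.odd_sum_iff_odd_card_odd] at h1
      rw [Fintype.card_subtype]
      convert h1 using 2
      ext χ
      simp [Nat.odd_mul]
    have hinv : indFun N (φ.1 : N → ℂ) = fun g => indFun N (φ.1 : N → ℂ) (g ^ k) := by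
      funext g
      simp only [indFun]
      congr 1
      refine Finset.sum_congr rfl fun x _ => ?_
      rw [show x⁻¹ * g ^ k * x = (x⁻¹ * g * x) ^ k by have h0 := conj_pow (i := k) (a := x⁻¹) (b := g); rw [inv_inv] at h0; exact h0.symm]
      by_cases hx : x⁻¹ * g * x ∈ N
      · rw [extendByZero_mem N _ hx, extendByZero_mem N _ (pow_mem hx k)]
        exact (congrFun (congrArg Subtype.val φ.2) ⟨_, hx⟩).symm
      · rw [extendByZero_notMem N _ hx,
          extendByZero_notMem N _ fun hk => hx (mem_of_pow_mem_of_coprime h.coprime N hk)]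
    have haS : ∀ χ, a (S χ) = a χ := fun χ => by
      have e1 : classInner (indFun N (φ.1 : N → ℂ)) (S χ : G → ℂ) =
          classInner (indFun N (φ.1 : N → ℂ)) (χ : G → ℂ) := by
        conv_lhs => rw [hinv]
        exact classInner_pow h.coprime _ _
      rw [ha, classInner_sum_smul_irr, classInner_sum_smul_irr] at e1
      exact_mod_cast e1
    let c : A → A := fun χ => ⟨S χ.1, by rw [haS]; exact χ.2⟩
    have hci : Function.Injective c := fun x y h => Subtype.ext (S.injective (congrArg Subtype.val h))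
    let σ : Equiv.Perm A := Equiv.ofBijective c (Finite.injective_iff_bijective.mp hci)
    have hσ : ∀ (n : ℕ) (χ : A), ((σ ^ n) χ).1 = (S ^ n) χ.1 := by
      intro n χ
      induction n with
      | zero => simp
      | succ n ih =>
        rw [pow_succ' σ, pow_succ' S, Equiv.Perm.mul_apply, Equiv.Perm.mul_apply, ← ih]
        rfl
    have hm := Equiv.Perm.card_compl_support_modEq (p := 2) (n := e) (σ := σ)
      (Equiv.ext fun χ => Subtype.ext (by rw [hσ, powIrr_pow_period h]; rfl))
    obtain ⟨χ, hχ⟩ : σ.supportᶜ.Nonempty := Finset.card_pos.mp (Nat.pos_of_ne_zero fun h0 => by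
      rw [h0, Nat.ModEq, Nat.odd_iff.mp hoddA] at hm
      exact Nat.zero_ne_one hm)
    rw [Finset.mem_compl, Equiv.Perm.notMem_support] at hχ
    refine ⟨⟨χ.1, congrArg Subtype.val hχ⟩, ?_⟩
    show classInner _ _ ≠ 0
    rw [← frobenius_reciprocity' N _ (isClassFunction_irr χ.1), ← classInner_conj_symm, ha,
      classInner_sum_smul_irr, map_natCast, Nat.cast_ne_zero]
    exact fun h0 => by simpa [h0] using χ.2
  let F : FG → Quot rel := fun χ => Quot.mk rel (f χ)
  have hF : ∀ χ φ, Over χ φ → F χ = Quot.mk rel φ := by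
    intro χ φ hov
    obtain ⟨g, hg⟩ := exists_conjBy_of_constituents N χ.1.2 φ.1.2 (f χ).1.2 hov (hf χ)
    exact (Quot.sound ⟨g, hg⟩).symm
  have hsurj : Function.Surjective F := fun q => Quot.inductionOn q fun φ => by
    obtain ⟨χ, hχ⟩ := hup φ
    exact ⟨χ, hF χ φ hχ⟩
  haveI : Finite (Quot rel) := Finite.of_surjective (Quot.mk rel) Quot.mk_surjective
  have hcount : Nat.card FG = Nat.card (Quot rel) := by
    rw [card_orbits_eq h hodd]
    have hb := brauer_perm S.symm (powClass h.coprime) fun χ x x' hx => by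
      have hx' : IsConj x' (x ^ k) := ConjClasses.mk_eq_mk_iff_isConj.mp hx
      rw [eq_of_isConj (isClassFunction_irr _) hx']
      conv_rhs => rw [← S.apply_symm_apply χ]
      rfl
    refine ((Nat.card_congr (Equiv.subtypeEquivRight fun χ => by
      rw [Equiv.symm_apply_eq, eq_comm])).trans hb).trans ?_
    -- the fixed classes of the group lie in the normal subgroup
    have hpw : ∀ (g x : G), g * x * g⁻¹ = x ^ k → ∀ n : ℕ, g ^ n * x * (g ^ n)⁻¹ = x ^ k ^ n := by
      intro g x hg n
      induction n with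
      | zero => simp
      | succ n ih =>
        rw [pow_succ' k, pow_mul, ← hg, conj_pow, ← ih, pow_succ' g]
        group
    have hq : ∀ y : G ⧸ N, y ^ k = y⁻¹ := by
      intro y
      set A := Nat.card G
      have hcop : (Nat.card (G ⧸ N)).Coprime (2 ^ A) :=
        Nat.Coprime.pow_right A (Nat.coprime_two_right.mpr hodd)
      obtain ⟨y', rfl⟩ := (powCoprime hcop).surjective y
      obtain ⟨z, rfl⟩ := QuotientGroup.mk_surjective y'
      show ((z : G ⧸ N) ^ 2 ^ A) ^ k = ((z : G ⧸ N) ^ 2 ^ A)⁻¹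
      have ho : Odd (orderOf (z ^ 2 ^ A)) := by
        have hn : orderOf z ≠ 0 := (orderOf_pos z).ne'
        have hA : (orderOf z).factorization 2 ≤ A :=
          ((Nat.factorization_lt 2 hn).le).trans orderOf_le_card
        have hdvd : orderOf (z ^ 2 ^ A) ∣ orderOf z / 2 ^ (orderOf z).factorization 2 := by
          refine orderOf_dvd_of_pow_eq_one ?_
          rw [← pow_mul, ← orderOf_dvd_iff_pow_eq_one]
          calc orderOf z = 2 ^ (orderOf z).factorization 2 * (orderOf z / 2 ^ (orderOf z).factorization 2) :=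
                (Nat.ordProj_mul_ordCompl_eq_self _ 2).symm
            _ ∣ _ := Nat.mul_dvd_mul_right (pow_dvd_pow 2 hA) _
        exact Odd.of_dvd_nat (Nat.odd_iff.mpr (Nat.two_dvd_ne_zero.mp (Nat.not_dvd_ordCompl Nat.prime_two hn))) hdvd
      rw [← QuotientGroup.mk_pow, ← QuotientGroup.mk_pow, ← QuotientGroup.mk_inv, h.inverts _ ho]
    have hmem : ∀ x : G, IsConj (x ^ k) x → x ∈ N ∧ ∀ hx : x ∈ N, IsConj ((⟨x, hx⟩ : N) ^ k) ⟨x, hx⟩ := by
      intro x hconj
      obtain ⟨g, hg⟩ := isConj_iff.mp hconj.symm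
      have hxN : x ∈ N := by
        have hinv : ∀ (Q : Type _) [Group Q] (n : ℕ) (a b : Q), Odd n → b ^ n = 1 →
            b * a * b⁻¹ = a⁻¹ → a * a = 1 := by
          intro Q _ n a b hn hb hab
          have hj : ∀ j : ℕ, b ^ (2 * j + 1) * a * (b ^ (2 * j + 1))⁻¹ = a⁻¹ := by
            intro j
            induction j with
            | zero => simpa using hab
            | succ j ih =>
              have e3 : b * a⁻¹ * b⁻¹ = a := by
                have h := congrArg Inv.inv hab
                simpa [mul_assoc] using h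
              rw [show b ^ (2 * (j + 1) + 1) * a * (b ^ (2 * (j + 1) + 1))⁻¹ =
                b * (b * (b ^ (2 * j + 1) * a * (b ^ (2 * j + 1))⁻¹) * b⁻¹) * b⁻¹ by
                  rw [show 2 * (j + 1) + 1 = 2 * j + 1 + 1 + 1 by ring, pow_succ', pow_succ' b (2 * j + 1)]
                  group, ih, e3, hab]
          obtain ⟨j, hj'⟩ := hn
          have h := hj j
          rw [← hj', hb, one_mul, inv_one, mul_one] at h
          exact mul_eq_one_iff_eq_inv.mpr h
        have e1 : (g : G ⧸ N) * x * (g : G ⧸ N)⁻¹ = (x : G ⧸ N)⁻¹ := by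
          have h5 := congrArg (QuotientGroup.mk' N) hg
          simp only [map_mul, map_inv, map_pow, QuotientGroup.mk'_apply] at h5
          exact h5.trans (hq _)
        have h2 := hinv (G ⧸ N) N.index (x : G ⧸ N) (g : G ⧸ N) hodd
          (by rw [← QuotientGroup.mk_pow, (QuotientGroup.eq_one_iff _).mpr (N.pow_index_mem g)]) e1
        have h3 : (x : G ⧸ N) ^ N.index = 1 := by
          rw [← QuotientGroup.mk_pow, (QuotientGroup.eq_one_iff _).mpr (N.pow_index_mem x)]
        obtain ⟨j, hj⟩ := hodd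
        rw [hj, pow_succ, pow_mul, pow_two, h2, one_pow, one_mul] at h3
        exact (QuotientGroup.eq_one_iff _).mp h3
      refine ⟨hxN, fun hx => ?_⟩
      set t := powClass hN.coprime
      have hm : (t ^ N.index) (ConjClasses.mk ⟨x, hx⟩) = ConjClasses.mk ⟨x, hx⟩ := by
        rw [powClass_pow_mk, ConjClasses.mk_eq_mk_iff_isConj, isConj_comm, isConj_iff]
        refine ⟨(⟨g ^ N.index, N.pow_index_mem g⟩ : N), Subtype.ext ?_⟩
        simpa using hpw g x hg N.index
      have hs : (t ^ 2 ^ e) (ConjClasses.mk ⟨x, hx⟩) = ConjClasses.mk ⟨x, hx⟩ := by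
        rw [powClass_pow_period hN]; rfl
      have hg1 : Nat.gcd N.index (2 ^ e) = 1 := (Nat.coprime_two_right.mpr hodd).pow_right e
      have h1 : t (ConjClasses.mk ⟨x, hx⟩) = ConjClasses.mk ⟨x, hx⟩ := by
        let st : Subgroup (Equiv.Perm (ConjClasses N)) := MulAction.stabilizer _ (ConjClasses.mk (⟨x, hx⟩ : N))
        have h2 : t ^ ((Nat.gcd N.index (2 ^ e) : ℕ) : ℤ) ∈ st := by
          rw [Nat.gcd_eq_gcd_ab, zpow_add, zpow_mul, zpow_mul, zpow_natCast, zpow_natCast]
          exact mul_mem (zpow_mem (MulAction.mem_stabilizer_iff.mpr hm) _)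
            (zpow_mem (MulAction.mem_stabilizer_iff.mpr hs) _)
        rw [hg1, Nat.cast_one, zpow_one] at h2
        exact MulAction.mem_stabilizer_iff.mp h2
      rwa [powClass_mk, ConjClasses.mk_eq_mk_iff_isConj] at h1
    have hdown2 : ∀ x : {x : N // IsConj (x ^ k) x}, powClass h.coprime (ConjClasses.mk (x.1 : G)) =
        ConjClasses.mk (x.1 : G) := fun x => by
      rw [powClass_mk, ConjClasses.mk_eq_mk_iff_isConj, ← Subgroup.coe_pow]
      exact N.subtype.map_isConj x.2
    let i : Quot (fun x y : {x : N // IsConj (x ^ k) x} => ∃ g : G, (y.1 : G) = g * x.1 * g⁻¹) →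
        {C : ConjClasses G // powClass h.coprime C = C} :=
      Quot.lift (fun x => ⟨ConjClasses.mk (x.1 : G), hdown2 x⟩) fun x y ⟨g, hg⟩ =>
        Subtype.ext (ConjClasses.mk_eq_mk_iff_isConj.mpr (isConj_iff.mpr ⟨g, hg.symm⟩))
    refine (Nat.card_congr (Equiv.ofBijective i ⟨fun a b => ?_, fun C => ?_⟩)).symm
    · induction a using Quot.ind with | _ x => ?_
      induction b using Quot.ind with | _ y => ?_
      intro hxy
      obtain ⟨g, hg⟩ := isConj_iff.mp (ConjClasses.mk_eq_mk_iff_isConj.mp (congrArg Subtype.val hxy))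
      exact Quot.sound ⟨g, hg.symm⟩
    · obtain ⟨C, hC⟩ := C
      obtain ⟨x, rfl⟩ := ConjClasses.exists_rep C
      rw [powClass_mk, ConjClasses.mk_eq_mk_iff_isConj] at hC
      obtain ⟨hxN, hxc⟩ := hmem x hC
      exact ⟨Quot.mk _ ⟨⟨x, hxN⟩, hxc hxN⟩, rfl⟩
  have hbij := (Nat.bijective_iff_surjective_and_card F).mpr ⟨hsurj, hcount⟩
  obtain ⟨χ, hχ⟩ := hup ⟨θ, Subtype.ext (funext hθ)⟩
  refine ⟨χ.1, ⟨hχ, fun g => congrFun (congrArg Subtype.val χ.2) g⟩, fun χ' h1 h2 => ?_⟩
  have he : (⟨χ', Subtype.ext (funext h2)⟩ : FG) = χ := hbij.1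
    ((hF ⟨χ', Subtype.ext (funext h2)⟩ ⟨θ, Subtype.ext (funext hθ)⟩ h1).trans (hF χ _ hχ).symm)
  exact congrArg Subtype.val he

/-- If an extension exists, so does a fixed one. -/
theorem exists_fixed_extension_of_extension (h : Twisting G k e) (hodd : Odd N.index)
    (θ : IrrCharacter N) (hθ : ∀ n : N, (θ : N → ℂ) (n ^ k) = (θ : N → ℂ) n)
    {χ₀ : G → ℂ} (hχ₀ : IsIrrCharacter G χ₀) (hext : ∀ n : N, χ₀ n = (θ : N → ℂ) n) :
    ∃ χ : G → ℂ, IsIrrCharacter G χ ∧ (∀ n : N, χ n = (θ : N → ℂ) n) ∧ ∀ g : G, χ (g ^ k) = χ g := by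
  classical
  obtain ⟨μ, hμN, hμ⟩ := extensions_differ N θ.2 hχ₀ (isIrrCharacter_pow h.coprime hχ₀) hext
    (fun n => by rw [← Subgroup.coe_pow, hext, hθ])
  obtain ⟨j, hj⟩ := hodd
  set m := N.index with hm
  set r : G →* ℂˣ := μ ^ (j + 1)
  have hrN : ∀ n : N, r n = 1 := fun n => by simp [r, hμN n]
  have hpow : ∀ (f : G →* ℂˣ), (∀ n : N, f n = 1) → ∀ g, f g ^ m = 1 := fun f hf g => by
    rw [← map_pow]; exact hf ⟨_, N.pow_index_mem g⟩
  have hsq : ∀ g, r g * r g = μ g := fun g => by
    simp only [r, MonoidHom.pow_apply]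
    rw [← pow_add, show j + 1 + (j + 1) = (2 * j + 1) + 1 by ring, pow_succ, ← hj, hpow μ hμN, one_mul]
  have hinv : ∀ g, r (g ^ k) = (r g)⁻¹ := by
    intro g
    set A := Nat.card G
    have hcop : (Nat.card (G ⧸ N)).Coprime (2 ^ A) :=
      Nat.Coprime.pow_right A (Nat.coprime_two_right.mpr ⟨j, hj⟩)
    obtain ⟨y', hy'⟩ := (powCoprime hcop).surjective (g : G ⧸ N)
    obtain ⟨z, rfl⟩ := QuotientGroup.mk_surjective y'
    have hz : ((z ^ 2 ^ A : G) : G ⧸ N) = g := by rw [QuotientGroup.mk_pow]; exact hy'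
    have ho : Odd (orderOf (z ^ 2 ^ A)) := by
      have hn : orderOf z ≠ 0 := (orderOf_pos z).ne'
      have hA : (orderOf z).factorization 2 ≤ A :=
        ((Nat.factorization_lt 2 hn).le).trans orderOf_le_card
      have hdvd : orderOf (z ^ 2 ^ A) ∣ orderOf z / 2 ^ (orderOf z).factorization 2 := by
        refine orderOf_dvd_of_pow_eq_one ?_
        rw [← pow_mul, ← orderOf_dvd_iff_pow_eq_one]
        calc orderOf z = 2 ^ (orderOf z).factorization 2 * (orderOf z / 2 ^ (orderOf z).factorization 2) :=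
              (Nat.ordProj_mul_ordCompl_eq_self _ 2).symm
          _ ∣ _ := Nat.mul_dvd_mul_right (pow_dvd_pow 2 hA) _
      exact Odd.of_dvd_nat (Nat.odd_iff.mpr (Nat.two_dvd_ne_zero.mp (Nat.not_dvd_ordCompl Nat.prime_two hn))) hdvd
    have hrg : r g = r (z ^ 2 ^ A) := by
      have hn : (z ^ 2 ^ A)⁻¹ * g ∈ N := QuotientGroup.eq.mp hz
      have h1 := hrN ⟨_, hn⟩
      rw [show r ((⟨_, hn⟩ : N) : G) = (r (z ^ 2 ^ A))⁻¹ * r g by rw [← map_inv, ← map_mul],
        inv_mul_eq_one] at h1
      exact h1.symm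
    rw [map_pow, hrg, ← map_pow, h.inverts _ ho, map_inv]
  refine ⟨fun g => (r g : ℂ) * χ₀ g, isIrrCharacter_linear_mul hχ₀ r, fun n => by
    simp [hrN n, hext n], fun g => ?_⟩
  have h1 := congrFun hμ g
  simp only [hinv, h1]
  rw [← mul_assoc, ← Units.val_mul, ← hsq, inv_mul_cancel_left]

/-- An invariant fixed character extends to a fixed character. -/
theorem exists_fixed_extension (h : Twisting G k e) (hodd : Odd N.index) (θ : IrrCharacter N)
    (hθ : ∀ n : N, (θ : N → ℂ) (n ^ k) = (θ : N → ℂ) n)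
    (hinv : ∀ g, conjBy N (θ : N → ℂ) g = (θ : N → ℂ)) :
    ∃ χ : G → ℂ, IsIrrCharacter G χ ∧ (∀ n : N, χ n = (θ : N → ℂ) n) ∧ ∀ g : G, χ (g ^ k) = χ g := by
  classical
  suffices hsyl : ∃ χ : G → ℂ, IsIrrCharacter G χ ∧ ∀ n : N, χ n = (θ : N → ℂ) n by
    obtain ⟨χ, h1, h2⟩ := hsyl
    exact exists_fixed_extension_of_extension h hodd θ hθ h1 h2
  refine extends_of_sylow N θ.2 hinv fun p hp hpN => ?_
  haveI := Fact.mk hp
  let π := QuotientGroup.mk' N
  have hπ := QuotientGroup.mk'_surjective N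
  have hchain : ∀ j : ℕ, j ≤ (Nat.card (G ⧸ N)).factorization p →
      ∃ K : Subgroup (G ⧸ N), Nat.card K = p ^ j ∧
        ∃ (ψ : IrrCharacter ↥(Subgroup.comap π K)),
          (∀ x, (ψ : ↥(Subgroup.comap π K) → ℂ) (x ^ k) = (ψ : ↥(Subgroup.comap π K) → ℂ) x) ∧
          ∀ (n : N) (hn : (n : G) ∈ K.comap π), (ψ : ↥(Subgroup.comap π K) → ℂ) ⟨n, hn⟩ = (θ : N → ℂ) n := by
    intro j
    induction j with
    | zero =>
      intro _
      refine ⟨⊥, by simp, ?_⟩
      have e : (⊥ : Subgroup (G ⧸ N)).comap π = N := by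
        rw [MonoidHom.comap_bot, QuotientGroup.ker_mk']
      let f : ↥(Subgroup.comap π (⊥ : Subgroup (G ⧸ N))) ≃* N := MulEquiv.subgroupCongr e
      refine ⟨⟨fun x => (θ : N → ℂ) (f x), isIrrCharacter_comp_mulEquiv f θ.2⟩, fun x => ?_, fun n hn => ?_⟩
      · show (θ : N → ℂ) (f (x ^ k)) = (θ : N → ℂ) (f x)
        rw [map_pow, hθ]
      · exact congrArg (θ : N → ℂ) (Subtype.ext rfl)
    | succ j ih =>
      intro hj
      obtain ⟨K, hK, ψ, hψk, hψN⟩ := ih (by omega)
      obtain ⟨L, hL, hKL⟩ := Sylow.exists_subgroup_card_pow_succ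
        ((pow_dvd_pow p hj).trans (Nat.ordProj_dvd _ _)) hK
      refine ⟨L, hL, ?_⟩
      let M := K.comap π
      let M' := L.comap π
      have hMM' : M ≤ M' := Subgroup.comap_mono hKL
      have hNM : N ≤ M := fun x hx => by
        show π x ∈ K
        rw [show π x = 1 from (QuotientGroup.eq_one_iff x).mpr hx]; exact one_mem K
      have hidx : (K.subgroupOf L).index = p := by
        have h1 := (K.subgroupOf L).card_mul_index
        rw [Nat.card_congr (Subgroup.subgroupOfEquivOfLe hKL).toEquiv, hK, hL, pow_succ] at h1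
        exact Nat.eq_of_mul_eq_mul_left (pow_pos hp.pos j) h1
      haveI hKn : (K.subgroupOf L).Normal := by
        refine Subgroup.normal_of_index_eq_minFac_card ?_
        rw [hidx, hL, Nat.pow_minFac (Nat.succ_ne_zero j), hp.minFac_eq]
      haveI : Fintype M' := Fintype.ofFinite _
      haveI : Fintype M := Fintype.ofFinite _
      set M₀ := M.subgroupOf M'
      haveI : Fintype M₀ := Fintype.ofFinite _
      haveI hMn : M₀.Normal := by
        refine ⟨fun m hm g => ?_⟩
        have := hKn.conj_mem ⟨π m, hKL hm⟩ (show _ ∈ K.subgroupOf L from hm) ⟨π g, g.2⟩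
        show π ((g * m * g⁻¹ : M') : G) ∈ K
        simpa [Subgroup.mem_subgroupOf] using this
      let f : M₀ ≃* M := Subgroup.subgroupOfEquivOfLe hMM'
      let ψ₀ : IrrCharacter M₀ := ⟨fun x => (ψ : M → ℂ) (f x), isIrrCharacter_comp_mulEquiv f ψ.2⟩
      have hψ₀k : ∀ x : M₀, (ψ₀ : M₀ → ℂ) (x ^ k) = (ψ₀ : M₀ → ℂ) x := fun x => by
        show (ψ : M → ℂ) (f (x ^ k)) = (ψ : M → ℂ) (f x)
        rw [map_pow, hψk]
      have hidx₀ : M₀.index = p := by
        rw [← hidx]
        show M.relIndex M' = K.relIndex L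
        show (K.comap π).relIndex (L.comap π) = _
        rw [Subgroup.relIndex_comap, Subgroup.map_comap_eq_self_of_surjective hπ]
      -- invariance by uniqueness inside `M`
      have hψinv : ∀ g : M', conjBy M₀ (ψ₀ : M₀ → ℂ) g = (ψ₀ : M₀ → ℂ) := by
        intro g
        set N₀ := N.subgroupOf M' |>.subgroupOf M₀ with hN₀
        haveI : Fintype N₀ := Fintype.ofFinite _
        haveI : N₀.Normal := inferInstance
        let u : N₀ ≃* N :=
          (Subgroup.subgroupOfEquivOfLe (show N.subgroupOf M' ≤ M₀ from fun x hx => hNM hx)).trans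
            (Subgroup.subgroupOfEquivOfLe (hNM.trans hMM'))
        have hu : ∀ x : N₀, (u x : G) = (((x : M₀) : M') : G) := fun x => rfl
        let θ₀ : IrrCharacter N₀ := ⟨fun x => (θ : N → ℂ) (u x), isIrrCharacter_comp_mulEquiv u θ.2⟩
        have hθ₀k : ∀ x : N₀, (θ₀ : N₀ → ℂ) (x ^ k) = (θ₀ : N₀ → ℂ) x := fun x => by
          show (θ : N → ℂ) (u (x ^ k)) = (θ : N → ℂ) (u x)
          rw [map_pow, hθ]
        have hodd₀ : Odd N₀.index := by
          have h1 : N₀.index ∣ N.index := by
            have e1 : N₀.index * M₀.index = (N.subgroupOf M').index := by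
              refine Subgroup.relIndex_mul_index ?_
              exact fun x hx => hNM hx
            exact (Dvd.intro _ e1).trans (Subgroup.relIndex_dvd_index_of_normal N M')
          exact hodd.of_dvd_nat h1
        obtain ⟨χ₁, -, huniq⟩ := exists_unique_fixed ((h.subgroup M').subgroup M₀) hodd₀ θ₀ hθ₀k
        have h1 : ∀ x : N₀, (ψ₀ : M₀ → ℂ) (x : M₀) = (θ₀ : N₀ → ℂ) x := fun x => by
          refine Eq.trans ?_ (hψN (u x) (hNM (u x).2))
          exact congrArg (ψ : M → ℂ) (Subtype.ext (hu x).symm)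
        have h2 : ∀ x : N₀, conjBy M₀ (ψ₀ : M₀ → ℂ) g (x : M₀) = (θ₀ : N₀ → ℂ) x := fun x => by
          have hx' : g * ((x : M₀) : M') * g⁻¹ ∈ N.subgroupOf M' := by
            show (g : G) * (((x : M₀) : M') : G) * (g : G)⁻¹ ∈ N
            exact Subgroup.Normal.conj_mem (H := N) inferInstance _ (show (((x : M₀) : M') : G) ∈ N from x.2) _
          show (ψ₀ : M₀ → ℂ) ⟨g * ((x : M₀) : M') * g⁻¹, _⟩ = _
          refine (h1 ⟨⟨g * ((x : M₀) : M') * g⁻¹, hMn.conj_mem _ (x : M₀).2 g⟩, hx'⟩).trans ?_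
          show (θ : N → ℂ) (u _) = (θ : N → ℂ) (u x)
          have h3 := congrFun (hinv (g : G)) (u x)
          rw [← h3]
          exact congrArg (θ : N → ℂ) (Subtype.ext rfl)
        have hne : ∀ ξ : M₀ → ℂ, (∀ x : N₀, ξ (x : M₀) = (θ₀ : N₀ → ℂ) x) →
            classInner (fun x : N₀ => ξ (x : M₀)) (θ₀ : N₀ → ℂ) ≠ 0 := fun ξ hξ => by
          rw [show (fun x : N₀ => ξ (x : M₀)) = (θ₀ : N₀ → ℂ) from funext hξ, classInner_irr_self θ₀.2]
          exact one_ne_zero
        have e1 := huniq ψ₀ (hne _ h1) hψ₀k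
        have e2 := huniq ⟨conjBy M₀ (ψ₀ : M₀ → ℂ) g, isIrrCharacter_conjBy M₀ ψ₀.2 g⟩ (hne _ h2)
          (fun x => by
            show (ψ₀ : M₀ → ℂ) ⟨g * ((x ^ k : M₀) : M') * g⁻¹, _⟩ = (ψ₀ : M₀ → ℂ) ⟨g * (x : M') * g⁻¹, _⟩
            refine Eq.trans (congrArg (ψ₀ : M₀ → ℂ) (Subtype.ext ?_)) (hψ₀k _)
            push_cast
            rw [conj_pow])
        exact congrArg Subtype.val (e2.trans e1.symm)
      haveI : IsCyclic (M' ⧸ M₀) := isCyclic_of_prime_card (p := p) hidx₀
      obtain ⟨ξ₀, hξ₀, hξ₀e⟩ := extends_of_cyclic M₀ ψ₀.2 hψinv inferInstance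
      obtain ⟨ξ, hξ, hξe, hξk⟩ := exists_fixed_extension_of_extension (h.subgroup M')
        (show Odd M₀.index by
          rw [hidx₀]
          exact hodd.of_dvd_nat hpN) ψ₀ hψ₀k hξ₀ hξ₀e
      refine ⟨⟨ξ, hξ⟩, hξk, fun n hn => ?_⟩
      refine ((hξe ⟨⟨n, hn⟩, hNM n.2⟩).trans ?_)
      show (ψ : M → ℂ) (f _) = _
      exact hψN n (hNM n.2)
  obtain ⟨K, hK, ψ, -, hψN⟩ := hchain _ le_rfl
  have hNK : N ≤ K.comap π := fun x hx => by
    show π x ∈ K
    rw [show π x = 1 from (QuotientGroup.eq_one_iff x).mpr hx]; exact one_mem K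
  refine ⟨K.comap π, hNK, (ψ : ↥(Subgroup.comap π K) → ℂ), ?_, isCharacter_of_isIrr ψ.2,
    fun n => hψN n _⟩
  rw [Subgroup.index_comap_of_surjective _ hπ]
  intro hd
  have h1 := K.card_mul_index
  rw [hK] at h1
  have h2 : p ^ ((Nat.card (G ⧸ N)).factorization p + 1) ∣ Nat.card (G ⧸ N) := by
    rw [pow_succ]; exact (mul_dvd_mul_left _ hd).trans (dvd_of_eq h1)
  exact Nat.pow_succ_factorization_not_dvd Nat.card_pos.ne' hp h2

end CfsgLib.Char.OddFixed
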