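import Mathlib

/-!
# Nonnegative integral vectors with Gram matrix `g J + I` and constrained row sums
-/

set_option autoImplicit false

namespace CfsgLib.Char.OrbitVectors

variable {J : Type*} [Fintype J] [DecidableEq J]

/-- An integral vector whose values differ pairwise by at most one is nearly constant, or spread. -/
theorem two_values {x : J → ℤ} (hx : ∀ i j, (x i - x j) * (x i - x j) ≤ 1) {i₀ j₀ : J}
    (h : x i₀ ≠ x j₀) :
    2 * ((Fintype.card J : ℤ) - 1) ≤ ∑ i, ∑ j, (x i - x j) * (x i - x j) ∧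
      (∑ i, ∑ j, (x i - x j) * (x i - x j) ≤ 2 * ((Fintype.card J : ℤ) - 1) →
        ∃ (a ε : ℤ) (k : J), (ε = 1 ∨ ε = -1) ∧ ∀ j, x j = a + if j = k then ε else 0) := by
  classical
  obtain ⟨a, ha⟩ : ∃ a, ∀ j, x j = a ∨ x j = a + 1 := by
    obtain ⟨k, -, hk⟩ := Finset.univ.exists_min_image x ⟨i₀, Finset.mem_univ _⟩
    refine ⟨x k, fun j => ?_⟩
    have h1 := hk j (Finset.mem_univ _)
    have h2 : x j - x k ≤ 1 := by nlinarith [hx j k]
    omega
  set S := Finset.univ.filter fun j => x j = a with hS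
  set T := Finset.univ.filter fun j => ¬ x j = a with hT
  have hval : ∀ j, j ∈ T → x j = a + 1 := fun j hj => (ha j).resolve_left (Finset.mem_filter.mp hj).2
  have hsum : ∀ f : J → ℤ, ∑ j, f j = ∑ j ∈ S, f j + ∑ j ∈ T, f j := fun f =>
    (Finset.sum_filter_add_sum_filter_not Finset.univ _ f).symm
  have hcard : (S.card : ℤ) + T.card = Fintype.card J := by
    exact_mod_cast Finset.card_filter_add_card_filter_not _
  have htotal : ∑ i, ∑ j, (x i - x j) * (x i - x j) = 2 * (S.card : ℤ) * T.card := by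
    rw [hsum, Finset.sum_congr rfl (g := fun _ => (T.card : ℤ)) fun i hi => ?_,
      Finset.sum_congr (s₁ := T) rfl (g := fun _ => (S.card : ℤ)) fun i hi => ?_]
    · simp; ring
    · rw [hsum, Finset.sum_congr rfl (g := fun _ => (1 : ℤ)) fun j hj => ?_,
        Finset.sum_congr (s₁ := T) rfl (g := fun _ => (0 : ℤ)) fun j hj => ?_]
      · simp
      · rw [hval i hi, hval j hj, sub_self, zero_mul]
      · rw [hval i hi, (Finset.mem_filter.mp hj).2]; ring
    · rw [hsum, Finset.sum_congr rfl (g := fun _ => (0 : ℤ)) fun j hj => ?_,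
        Finset.sum_congr (s₁ := T) rfl (g := fun _ => (1 : ℤ)) fun j hj => ?_]
      · simp
      · rw [(Finset.mem_filter.mp hi).2, hval j hj]; ring
      · rw [(Finset.mem_filter.mp hi).2, (Finset.mem_filter.mp hj).2, sub_self, zero_mul]
  have hS0 : 0 < S.card := by
    refine Finset.card_pos.mpr ?_
    rcases ha i₀ with h1 | h1
    · exact ⟨i₀, Finset.mem_filter.mpr ⟨Finset.mem_univ _, h1⟩⟩
    · exact ⟨j₀, Finset.mem_filter.mpr ⟨Finset.mem_univ _,
        (ha j₀).resolve_right fun h2 => h (h1.trans h2.symm)⟩⟩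
  have hT0 : 0 < T.card := by
    refine Finset.card_pos.mpr ?_
    by_cases h1 : x i₀ = a
    · exact ⟨j₀, Finset.mem_filter.mpr ⟨Finset.mem_univ _, fun h2 => h (h1.trans h2.symm)⟩⟩
    · exact ⟨i₀, Finset.mem_filter.mpr ⟨Finset.mem_univ _, h1⟩⟩
  have hs : (1 : ℤ) ≤ S.card := by exact_mod_cast hS0
  have ht : (1 : ℤ) ≤ T.card := by exact_mod_cast hT0
  rw [htotal, ← hcard]
  refine ⟨by nlinarith [mul_nonneg (sub_nonneg.mpr hs) (sub_nonneg.mpr ht)], fun hle => ?_⟩
  have h1 : ((S.card : ℤ) - 1) * ((T.card : ℤ) - 1) = 0 :=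
    le_antisymm (by nlinarith) (mul_nonneg (sub_nonneg.mpr hs) (sub_nonneg.mpr ht))
  rcases mul_eq_zero.mp h1 with h1 | h1
  · obtain ⟨k, hk⟩ := Finset.card_eq_one.mp (show S.card = 1 by omega)
    refine ⟨a + 1, -1, k, Or.inr rfl, fun j => ?_⟩
    have hj := Finset.ext_iff.mp hk j
    simp only [hS, Finset.mem_filter, Finset.mem_univ, true_and, Finset.mem_singleton] at hj
    split_ifs with hjk
    · rw [hj.mpr hjk]; ring
    · rw [(ha j).resolve_left fun e => hjk (hj.mp e), add_zero]
  · obtain ⟨k, hk⟩ := Finset.card_eq_one.mp (show T.card = 1 by omega)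
    refine ⟨a, 1, k, Or.inl rfl, fun j => ?_⟩
    have hj := Finset.ext_iff.mp hk j
    simp only [hT, Finset.mem_filter, Finset.mem_univ, true_and, Finset.mem_singleton] at hj
    split_ifs with hjk
    · exact (ha j).resolve_left (hj.mpr hjk)
    · rw [add_zero]; by_contra e; exact hjk (hj.mp e)

variable {Z : Type*} [Fintype Z] (x : Z → J → ℤ) {g : ℤ}
  (hgram : ∀ i j, ∑ χ, x χ i * x χ j = g + if i = j then 1 else 0)
include hgram

theorem diff_sq {i j : J} (hij : i ≠ j) : ∑ χ, (x χ i - x χ j) * (x χ i - x χ j) = 2 := by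
  have e : ∀ χ, (x χ i - x χ j) * (x χ i - x χ j) = x χ i * x χ i + x χ j * x χ j - 2 * (x χ i * x χ j) :=
    fun χ => by ring
  simp only [e, Finset.sum_sub_distrib, Finset.sum_add_distrib, ← Finset.mul_sum, hgram, if_true,
    if_neg hij]
  ring

theorem card_le (hg : 0 ≤ g) : Fintype.card J ≤ Fintype.card Z := by
  classical
  let f : (J → ℚ) →ₗ[ℚ] (Z → ℚ) :=
    { toFun := fun c χ => ∑ j, (x χ j : ℚ) * c j
      map_add' := fun c d => funext fun χ => by simp [mul_add, Finset.sum_add_distrib]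
      map_smul' := fun r c => funext fun χ => by simp [Finset.mul_sum, mul_left_comm] }
  have hinj : Function.Injective f := by
    rw [injective_iff_map_eq_zero]
    intro c hc
    have h0 : ∑ χ, (∑ j, (x χ j : ℚ) * c j) * (∑ j, (x χ j : ℚ) * c j) = 0 :=
      Finset.sum_eq_zero fun χ _ => by
        rw [show ∑ j, (x χ j : ℚ) * c j = 0 from congrFun hc χ, mul_zero]
    simp only [Finset.mul_sum, Finset.sum_mul] at h0
    rw [Finset.sum_comm] at h0
    simp only [Finset.sum_comm (γ := Z)] at h0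
    have hq : ∀ i j, ∑ χ, (x χ i : ℚ) * (x χ j : ℚ) = (g : ℚ) + if i = j then 1 else 0 := fun i j => by
      exact_mod_cast hgram i j
    have e1 : ∀ i j, ∑ χ, (x χ j : ℚ) * c j * ((x χ i : ℚ) * c i) =
        ((g : ℚ) + if j = i then 1 else 0) * (c j * c i) := fun i j => by
      rw [← hq, Finset.sum_mul]
      exact Finset.sum_congr rfl fun χ _ => by ring
    simp only [e1, add_mul, ite_mul, one_mul, zero_mul, Finset.sum_add_distrib, ← Finset.mul_sum,
      Finset.sum_ite_eq', Finset.mem_univ, if_true, ← Finset.sum_mul] at h0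
    have hz : ∑ j, c j * c j = 0 := by
      have h1 : (0 : ℚ) ≤ (g : ℚ) * ((∑ j, c j) * ∑ j, c j) :=
        mul_nonneg (by exact_mod_cast hg) (mul_self_nonneg _)
      have h2 : (0 : ℚ) ≤ ∑ j, c j * c j := Finset.sum_nonneg fun j _ => mul_self_nonneg (c j)
      linarith
    funext j
    exact mul_self_eq_zero.mp
      ((Finset.sum_eq_zero_iff_of_nonneg fun j _ => mul_self_nonneg (c j)).mp hz j (Finset.mem_univ j))
  simpa using LinearMap.finrank_le_finrank_of_injective hinj

/-- The only possibility. -/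
theorem shape (hnn : ∀ χ j, 0 ≤ x χ j) (hm : 3 ≤ Fintype.card J) (hg : 0 < g) {q : ℤ}
    (hq : q = Fintype.card J * (2 * g + 1) + 1) (hpos : ∀ χ, 0 < ∑ j, x χ j)
    (hdvd : ∀ χ, ∑ j, x χ j ∣ q * (q + 1)) :
    g + 2 = Fintype.card J ∧ q = ((Fintype.card J : ℤ) - 1) * (2 * Fintype.card J - 1) := by
  classical
  set m : ℤ := (Fintype.card J : ℤ) with hmdef
  have hm3 : (3 : ℤ) ≤ m := by rw [hmdef]; exact_mod_cast hm
  have hsq : ∀ χ i j, (x χ i - x χ j) * (x χ i - x χ j) ≤ 1 := by
    intro χ i j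
    by_cases hij : i = j
    · subst hij; simp
    have h1 := Finset.single_le_sum (f := fun χ => (x χ i - x χ j) * (x χ i - x χ j))
      (fun χ _ => mul_self_nonneg _) (Finset.mem_univ χ)
    rw [diff_sq x hgram hij] at h1
    have h2 : (x χ i - x χ j) * (x χ i - x χ j) ≤ 2 := h1
    by_contra hcon
    push Not at hcon
    have h3 : x χ i - x χ j ≤ 1 := by nlinarith
    have h4 : -1 ≤ x χ i - x χ j := by nlinarith
    nlinarith
  have hnc : ∀ χ, ∃ i j, x χ i ≠ x χ j := by
    intro χ
    by_contra h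
    push Not at h
    obtain ⟨i₀⟩ : Nonempty J := Fintype.card_pos_iff.mp (by omega)
    have hr : ∑ j, x χ j = m * x χ i₀ := by
      rw [Finset.sum_congr rfl (g := fun _ => x χ i₀) fun j _ => h j i₀]
      simp [hmdef]
    have hd := (dvd_mul_right m (x χ i₀)).trans (hr ▸ hdvd χ)
    rw [hq, show (m * (2 * g + 1) + 1) * (m * (2 * g + 1) + 1 + 1) =
      m * ((2 * g + 1) * (m * (2 * g + 1) + 3)) + 2 by ring] at hd
    have := Int.le_of_dvd (by norm_num) ((dvd_add_right (dvd_mul_right _ _)).mp hd)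
    omega
  -- exactly `m` vectors, each nearly constant
  set V : Z → ℤ := fun χ => ∑ i, ∑ j, (x χ i - x χ j) * (x χ i - x χ j) with hV
  have hVsum : ∑ χ, V χ = 2 * m * (m - 1) := by
    simp only [hV]
    rw [Finset.sum_comm]
    simp only [Finset.sum_comm (γ := Z)]
    rw [Finset.sum_congr rfl fun i _ => Finset.sum_congr rfl (g := fun j => if i = j then 0 else 2) fun j _ => ?_]
    · simp [Finset.sum_ite, Finset.filter_eq, Finset.filter_ne, hmdef, Nat.cast_sub (show 1 ≤ Fintype.card J by omega)]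
      ring
    · split_ifs with h
      · simp [h]
      · exact diff_sq x hgram h
  have hVge : ∀ χ, 2 * (m - 1) ≤ V χ := fun χ => by
    obtain ⟨i, j, h⟩ := hnc χ
    exact (two_values (hsq χ) h).1
  have hcardZ : (Fintype.card Z : ℤ) = m := by
    refine le_antisymm ?_ (by rw [hmdef]; exact_mod_cast card_le x hgram hg.le)
    have h1 := Finset.sum_le_sum fun χ (_ : χ ∈ Finset.univ) => hVge χ
    rw [hVsum, Finset.sum_const, Finset.card_univ, nsmul_eq_mul] at h1
    nlinarith
  have hVeq : ∀ χ, V χ ≤ 2 * (m - 1) := by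
    intro χ
    by_contra h
    push Not at h
    have h1 := Finset.sum_lt_sum (fun χ (_ : χ ∈ Finset.univ) => hVge χ) ⟨χ, Finset.mem_univ χ, h⟩
    rw [hVsum, Finset.sum_const, Finset.card_univ, nsmul_eq_mul, hcardZ] at h1
    nlinarith
  have hshape : ∀ χ, ∃ (a ε : ℤ) (k : J), (ε = 1 ∨ ε = -1) ∧ ∀ j, x χ j = a + if j = k then ε else 0 :=
    fun χ => by
      obtain ⟨i, j, h⟩ := hnc χ
      exact (two_values (hsq χ) h).2 (hVeq χ)
  choose a ε k hε hx using hshape
  -- every index is special exactly once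
  have hfib : ∀ i j, i ≠ j → (Finset.univ.filter fun χ => k χ = i).card +
      (Finset.univ.filter fun χ => k χ = j).card = 2 := by
    intro i j hij
    have h2 := diff_sq x hgram hij
    have e : ∀ χ, (x χ i - x χ j) * (x χ i - x χ j) =
        (if k χ = i then (1 : ℤ) else 0) + if k χ = j then 1 else 0 := by
      intro χ
      rw [hx χ i, hx χ j]
      rcases eq_or_ne (k χ) i with h | h <;> rcases eq_or_ne (k χ) j with h' | h'
      · exact absurd (h.symm.trans h') hij
      · rw [if_pos h.symm, if_neg (Ne.symm h'), if_pos h, if_neg h']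
        rcases hε χ with h'' | h'' <;> rw [h''] <;> ring
      · rw [if_neg (Ne.symm h), if_pos h'.symm, if_neg h, if_pos h']
        rcases hε χ with h'' | h'' <;> rw [h''] <;> ring
      · rw [if_neg (Ne.symm h), if_neg (Ne.symm h'), if_neg h, if_neg h']
        ring
    simp only [e, Finset.sum_add_distrib, Finset.sum_boole] at h2
    exact_mod_cast h2
  have hone : ∀ i, (Finset.univ.filter fun χ => k χ = i).card = 1 := by
    intro i
    have h1 : 1 < (Finset.univ.erase i).card := by
      rw [Finset.card_erase_of_mem (Finset.mem_univ _), Finset.card_univ]; omega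
    obtain ⟨j, l, hj, hl, hjl⟩ := Finset.one_lt_card_iff.mp h1
    have := hfib i j (Finset.ne_of_mem_erase hj).symm
    have := hfib i l (Finset.ne_of_mem_erase hl).symm
    have := hfib j l hjl
    omega
  choose χf hχf using fun i => Finset.card_eq_one.mp (hone i)
  have hk : ∀ i, k (χf i) = i := fun i => by
    have := Finset.ext_iff.mp (hχf i) (χf i)
    simpa using this
  have huniq : ∀ i χ, k χ = i → χ = χf i := fun i χ h => by
    have := Finset.ext_iff.mp (hχf i) χ
    simpa [h] using this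
  have hr : ∀ χ, ∑ j, x χ j = m * a χ + ε χ := fun χ => by
    simp only [hx χ, Finset.sum_add_distrib, Finset.sum_ite_eq', Finset.mem_univ, if_true]
    simp [hmdef]
  have hrow : ∀ i, ∑ χ, x χ i * (m * a χ + ε χ) = m * g + 1 := by
    intro i
    simp only [← hr, Finset.mul_sum]
    rw [Finset.sum_comm]
    simp only [hgram, Finset.sum_add_distrib, Finset.sum_ite_eq, Finset.mem_univ, if_true]
    simp [hmdef]
  have hxij : ∀ χ i, x χ i = a χ + if χ = χf i then ε χ else 0 := by
    intro χ i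
    rw [hx χ i]
    congr 1
    refine if_congr ⟨fun h => huniq i χ h.symm, fun h => ?_⟩ rfl rfl
    rw [h, hk]
  have hconst : ∀ i j, ε (χf i) * (m * a (χf i) + ε (χf i)) = ε (χf j) * (m * a (χf j) + ε (χf j)) := by
    intro i j
    have h := (hrow i).trans (hrow j).symm
    simp only [hxij, add_mul, ite_mul, zero_mul, Finset.sum_add_distrib, Finset.sum_ite_eq',
      Finset.mem_univ, if_true] at h
    linarith
  have hεa : ∀ i j, ε (χf i) = ε (χf j) ∧ a (χf i) = a (χf j) := by
    intro i j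
    have h := hconst i j
    have p1 := hr (χf i) ▸ hpos (χf i)
    have p2 := hr (χf j) ▸ hpos (χf j)
    have he : ε (χf i) = ε (χf j) := by
      rcases hε (χf i) with h1 | h1 <;> rcases hε (χf j) with h2 | h2 <;> rw [h1, h2] at h ⊢ <;> nlinarith
    refine ⟨he, ?_⟩
    rw [he] at h
    have h' := mul_left_cancel₀ (by rcases hε (χf j) with h2 | h2 <;> omega : ε (χf j) ≠ 0) h
    exact mul_left_cancel₀ (by omega : m ≠ 0) (by linarith)
  obtain ⟨i₀, j₀, hi₀⟩ : ∃ i j : J, i ≠ j := Fintype.exists_pair_of_one_lt_card (by omega)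
  set A := a (χf i₀) with hA
  set E := ε (χf i₀) with hE
  have hAll : ∀ χ, a χ = A ∧ ε χ = E := fun χ => by
    rw [huniq _ χ rfl]
    exact ⟨(hεa _ i₀).2, (hεa _ i₀).1⟩
  have hgAE : g = m * (A * A) + 2 * (E * A) := by
    have h := hgram i₀ j₀
    rw [if_neg hi₀, add_zero] at h
    rw [← h]
    have e : ∀ χ, x χ i₀ * x χ j₀ = A * A + (if χ = χf i₀ then E * A else 0) + (if χ = χf j₀ then A * E else 0) := by
      intro χ
      rw [hxij, hxij, (hAll χ).1, (hAll χ).2]
      by_cases h1 : χ = χf i₀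
      · have h2 : χ ≠ χf j₀ := fun h2 => hi₀ (by rw [← hk i₀, ← h1, h2, hk])
        rw [if_pos h1, if_neg h2, if_pos h1, if_neg h2]; ring
      · rw [if_neg h1, if_neg h1]
        split_ifs <;> ring
    simp only [e, Finset.sum_add_distrib, Finset.sum_ite_eq', Finset.mem_univ, if_true, Finset.sum_const,
      Finset.card_univ, nsmul_eq_mul, hcardZ]
    ring
  have hA0 : 1 ≤ A := by
    have h0 : 0 ≤ x (χf i₀) j₀ := hnn _ _
    rw [hxij, if_neg (fun h => hi₀ (by rw [← hk i₀, h, hk]))] at h0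
    have hne : A ≠ 0 := fun h => by rw [h] at hgAE; linarith
    omega
  have hEE : E * E = 1 := by rcases hε (χf i₀) with h | h <;> rw [hE, h] <;> norm_num
  have hd := hdvd (χf i₀)
  rw [hr, ← hA, ← hE] at hd
  have hq' : q = 2 * ((m * A + E) * (m * A + E)) + (m - 1) := by
    rw [hq, hgAE]; linear_combination (-2 : ℤ) * hEE
  have hd1 : (m * A + E) ∣ (m - 1) * m := by
    have e : q * (q + 1) =
        (m * A + E) * (2 * (m * A + E) * (2 * ((m * A + E) * (m * A + E)) + 2 * (m - 1) + 1)) + (m - 1) * m := by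
      rw [hq']; ring
    rw [e] at hd
    exact (dvd_add_right (dvd_mul_right _ _)).mp hd
  have hd2 : (m * A + E) ∣ m - 1 := by
    refine IsCoprime.dvd_of_dvd_mul_right ⟨E, -(E * A), ?_⟩ hd1
    linear_combination hEE
  have hle := Int.le_of_dvd (by omega) hd2
  have hA1 : A = 1 := by rcases hε (χf i₀) with h | h <;> rw [← hE] at h <;> nlinarith
  have hE1 : E = -1 := by
    rcases hε (χf i₀) with h | h <;> rw [← hE] at h
    · rw [hA1, h] at hle; omega
    · exact h
  rw [hA1, hE1] at hgAE hq'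
  exact ⟨by linarith, by rw [hq']; ring⟩

end CfsgLib.Char.OrbitVectors
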