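import Cfsg.Agent.Lib.Char.Indicator

/-!
# Odd multiplicity in a permutation character

A real irreducible character containing the principal character of some subgroup with odd
multiplicity has indicator one: an alternating invariant form stays non-degenerate on fixed points.
-/

set_option autoImplicit false
set_option linter.unusedSectionVars false

namespace CfsgLib.Char

open Cfsg CfsgLib.FSCount Module Matrix
open scoped ComplexConjugate CfsgLib.Char

variable {G : Type*} [Group G] [Fintype G]

theorem indicator_eq_one_of_odd_fixed {χ : G → ℂ} (hχ : IsIrrCharacter G χ)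
    (hreal : ∀ g, (χ g).im = 0) (H : Subgroup G) [Fintype H] {b : ℕ}
    (hb : classInner (fun h : H => χ h) (fun _ => (1 : ℂ)) = b) (hodd : Odd b) :
    indicator χ = 1 := by
  classical
  obtain ⟨n, ρ, hρ, rfl⟩ := hχ
  obtain ⟨P, a, c, ha, hca, hi, -, -, hskew, -⟩ := indicator_eq ρ
  have hc := classInner_conj_cases (χ := ρ.character) ⟨n, ρ, hρ, rfl⟩
  rw [ha, if_pos hreal, Nat.cast_eq_one] at hc
  subst hc
  interval_cases c
  · exfalso
    obtain ⟨X, hX0, hXT, hfix⟩ := hskew Nat.zero_lt_one
    set A : G → Matrix (Fin n) (Fin n) ℂ := fun g => LinearMap.toMatrix' (ρ g) with hA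
    have hcomm : ∀ g, A g * X = X * (A g⁻¹).transpose := by
      intro g
      have hAB : (A g).transpose * (A g⁻¹).transpose = 1 := by
        rw [← Matrix.transpose_mul, hA]
        simp only
        rw [← LinearMap.toMatrix'_comp, ← Module.End.mul_eq_comp, ← map_mul, inv_mul_cancel, map_one]
        simp
      have h1 : A g * X * (A g).transpose = X := hfix g
      calc A g * X = A g * X * ((A g).transpose * (A g⁻¹).transpose) := by rw [hAB, Matrix.mul_one]
        _ = X * (A g⁻¹).transpose := by rw [← Matrix.mul_assoc, h1]
    have hXdet : X.det ≠ 0 := by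
      let L := Matrix.toLin' X
      let W : Subrepresentation ρ :=
        { toSubmodule := LinearMap.range L
          apply_mem_toSubmodule := fun g v hv => by
            obtain ⟨w, rfl⟩ := hv
            refine ⟨Matrix.toLin' (A g⁻¹).transpose w, ?_⟩
            show Matrix.toLin' X (Matrix.toLin' (A g⁻¹).transpose w) = ρ g (Matrix.toLin' X w)
            rw [← Matrix.toLin'_mul_apply, ← hcomm, Matrix.toLin'_mul_apply]
            simp [A] }
      have hW : W ≠ ⊥ := fun h => hX0 (by
        have h1 : LinearMap.range L = ⊥ := congrArg Subrepresentation.toSubmodule h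
        exact Matrix.toLin'.injective (by rw [map_zero]; exact LinearMap.range_eq_bot.mp h1))
      haveI := hρ
      have hWtop := (IsSimpleOrder.eq_bot_or_eq_top W).resolve_left hW
      have hsurj : Function.Surjective L :=
        LinearMap.range_eq_top.mp (congrArg Subrepresentation.toSubmodule hWtop)
      have hu : IsUnit L := (Module.End.isUnit_iff L).mpr
        ⟨LinearMap.injective_iff_surjective.mpr hsurj, hsurj⟩
      have := LinearMap.isUnit_det L hu
      rw [LinearMap.det_toLin'] at this
      exact this.ne_zero
    -- the projection to the fixed points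
    set e : Module.End ℂ (Fin n → ℂ) := (Nat.card H : ℂ)⁻¹ • ∑ h : H, ρ (h : G) with he
    have hH : (Nat.card H : ℂ) ≠ 0 := Nat.cast_ne_zero.mpr Nat.card_pos.ne'
    have hfixe : ∀ h : H, ρ (h : G) * e = e := by
      intro h
      rw [he, mul_smul_comm, Finset.mul_sum]
      congr 1
      exact Fintype.sum_equiv (Equiv.mulLeft h) _ _ fun x => by
        rw [← map_mul]; rfl
    have hee : e * e = e := by
      conv_lhs => arg 1; rw [he]
      rw [smul_mul_assoc, Finset.sum_mul, Finset.sum_congr rfl fun h _ => hfixe h,
        Finset.sum_const, Finset.card_univ, ← Nat.card_eq_fintype_card,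
        ← Nat.cast_smul_eq_nsmul ℂ, smul_smul, inv_mul_cancel₀ hH, one_smul]
    have hr : finrank ℂ (LinearMap.range e) = b := by
      have h1 := ((LinearMap.isProj_range_iff_isIdempotentElem e).mpr hee).trace
      have h2 : LinearMap.trace ℂ _ e = (b : ℂ) := by
        rw [← hb, he, map_smul, map_sum, smul_eq_mul, classInner]
        congr 1
        exact Finset.sum_congr rfl fun h _ => by simp [Representation.character]
      exact_mod_cast h1.symm.trans h2
    set E := LinearMap.toMatrix' e with hE
    have hEX : E * X = X * E.transpose := by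
      simp only [hE, he, map_smul, map_sum, Matrix.smul_mul, Matrix.sum_mul, Matrix.transpose_smul,
        Matrix.transpose_sum, Matrix.mul_smul, Matrix.mul_sum]
      congr 1
      exact Fintype.sum_equiv (Equiv.inv H) _ _ fun h => hcomm h
    let bb := (Module.finBasisOfFinrankEq ℂ (LinearMap.range e) hr).equivFun
    set f : (Fin b → ℂ) →ₗ[ℂ] (Fin n → ℂ) :=
      (LinearMap.range e).subtype ∘ₗ bb.symm.toLinearMap with hf
    set g : (Fin n → ℂ) →ₗ[ℂ] (Fin b → ℂ) := bb.toLinearMap ∘ₗ e.rangeRestrict with hg
    have hfg : f ∘ₗ g = e := LinearMap.ext fun v => by simp [hf, hg]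
    have hgf : g ∘ₗ f = LinearMap.id := by
      refine LinearMap.ext fun v => ?_
      obtain ⟨u, hu⟩ := (bb.symm v).2
      have h1 : e.rangeRestrict (bb.symm v : Fin n → ℂ) = bb.symm v := Subtype.ext (by
        show e _ = _
        rw [← hu, ← Module.End.mul_apply, hee])
      show bb (e.rangeRestrict (bb.symm v : Fin n → ℂ)) = v
      rw [h1, LinearEquiv.apply_symm_apply]
    set U := LinearMap.toMatrix' f with hU
    set V := LinearMap.toMatrix' g with hV
    have hUV : U * V = E := by rw [hU, hV, ← LinearMap.toMatrix'_comp, hfg]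
    have hVU : V * U = 1 := by rw [hU, hV, ← LinearMap.toMatrix'_comp, hgf, LinearMap.toMatrix'_id]
    set Y := V * X * V.transpose with hY
    have hXinv : X * X⁻¹ = 1 := Matrix.mul_nonsing_inv X (isUnit_iff_ne_zero.mpr hXdet)
    have hYinv : Y * (U.transpose * X⁻¹ * U) = 1 := by
      calc Y * (U.transpose * X⁻¹ * U) = V * (X * (U * V).transpose) * X⁻¹ * U := by
            simp only [hY, Matrix.transpose_mul, Matrix.mul_assoc]
        _ = V * (E * X) * X⁻¹ * U := by rw [hUV, ← hEX]
        _ = V * E * (X * X⁻¹) * U := by simp only [Matrix.mul_assoc]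
        _ = (V * U) * (V * U) := by rw [hXinv, ← hUV]; simp only [Matrix.mul_assoc, Matrix.one_mul]
        _ = 1 := by rw [hVU, Matrix.one_mul]
    have hYdet : Y.det ≠ 0 := fun h => by
      have := congrArg Matrix.det hYinv
      rw [Matrix.det_mul, h, zero_mul, Matrix.det_one] at this
      exact zero_ne_one this
    have hYT : Y.transpose = -Y := by
      simp [hY, Matrix.transpose_mul, hXT, Matrix.mul_assoc]
    apply hYdet
    have h1 : Y.det = -Y.det := by
      nth_rw 1 [← Matrix.det_transpose, hYT, Matrix.det_neg, Fintype.card_fin,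
        Odd.neg_one_pow hodd, neg_one_mul]
    linear_combination h1 / 2
  · rw [hi]; norm_num

end CfsgLib.Char
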