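import Cfsg.Agent.Lib.Char.Codegree
import Cfsg.Agent.Lib.Char.FrobeniusGroup
import Cfsg.Prelude.Def_Solvable

/-!
# Groups of order `p d` with `d ≤ p`
-/

set_option autoImplicit false

namespace CfsgLib.Char.Codegree

open Cfsg
open scoped ComplexConjugate CfsgLib.Char Pointwise

variable {G : Type*} [Group G] [Finite G]

/-- A group of order `p d` with `d < p` has a normal subgroup of order `p`. -/
theorem exists_normal_of_small {p d : ℕ} (hp : p.Prime) (hd0 : 0 < d) (hd : d < p)
    (hcard : Nat.card G = p * d) : ∃ P : Subgroup G, P.Normal ∧ Nat.card P = p := by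
  haveI := Fact.mk hp
  obtain ⟨P⟩ : Nonempty (Sylow p G) := inferInstance
  have hP : Nat.card (P : Subgroup G) = p := by
    rw [P.card_eq_multiplicity, hcard, Nat.factorization_mul hp.ne_zero hd0.ne', Finsupp.add_apply,
      hp.factorization_self, Nat.factorization_eq_zero_of_not_dvd fun h =>
        absurd (Nat.le_of_dvd hd0 h) (not_le.mpr hd), add_zero, pow_one]
  have hidx : (P : Subgroup G).index = d := by
    have h := (P : Subgroup G).card_mul_index
    rw [hP, hcard] at h
    exact Nat.eq_of_mul_eq_mul_left hp.pos h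
  have hn : Nat.card (Sylow p G) = 1 := by
    have h1 := card_sylow_modEq_one p G
    have h2 : Nat.card (Sylow p G) ≤ d := Nat.le_of_dvd hd0 (hidx ▸ P.card_dvd_index)
    rw [Nat.ModEq, Nat.mod_eq_of_lt (lt_of_le_of_lt h2 hd), Nat.mod_eq_of_lt hp.one_lt] at h1
    exact h1
  haveI : Subsingleton (Sylow p G) := (Nat.card_eq_one_iff_unique.mp hn).1
  exact ⟨P, Sylow.normal_of_subsingleton P, hP⟩

/-- A group of prime codegree quotient is not perfect. -/
theorem no_prime_codegree (Q : Type*) [Group Q] [Finite Q] (hperf : commutator Q = ⊤) (p : ℕ)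
    (hp : p.Prime) (d : ℕ) (hd : d ≤ p) (hcard : Nat.card Q = p * d) : False := by
  haveI := Fact.mk hp
  haveI : Nontrivial Q := by
    rw [← Finite.one_lt_card_iff_nontrivial, hcard]
    have hd0 : 0 < d := Nat.pos_of_ne_zero fun h => by simp [h, Nat.card_pos.ne'] at hcard
    exact lt_of_lt_of_le hp.one_lt (Nat.le_mul_of_pos_right p hd0)
  have hnab : ¬ ∀ a b : Q, a * b = b * a := fun h => by
    have h' : commutator Q = ⊥ := by
      rw [commutator_def, Subgroup.commutator_eq_bot_iff_le_centralizer]
      exact fun a _ b _ => h b a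
    rw [hperf] at h'
    exact top_ne_bot h'
  rcases eq_or_lt_of_le hd with rfl | hlt
  · refine hnab fun a b => ?_
    exact (IsPGroup.isMulCommutative_of_card_eq_prime_sq (p := d) (G := Q) (by rw [hcard, sq])).is_comm.comm a b
  have hd0 : 0 < d := Nat.pos_of_ne_zero fun h => by simp [h, Nat.card_pos.ne'] at hcard
  obtain ⟨P, hPn, hP⟩ := exists_normal_of_small hp hd0 hlt hcard
  haveI := hPn
  haveI : IsCyclic P := isCyclic_of_prime_card hP
  letI : CommGroup P := IsCyclic.commGroup
  haveI : IsMulCommutative (MulAut P) := ⟨⟨fun a b => by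
    refine MulEquiv.ext fun x => ?_
    obtain ⟨g, hg⟩ := IsCyclic.exists_generator (α := P)
    obtain ⟨m, hm⟩ := Subgroup.mem_zpowers_iff.mp (hg (a g))
    obtain ⟨n, hn⟩ := Subgroup.mem_zpowers_iff.mp (hg (b g))
    obtain ⟨k, rfl⟩ := Subgroup.mem_zpowers_iff.mp (hg x)
    simp only [MulAut.mul_apply, map_zpow, ← hm, ← hn, ← zpow_mul]
    rw [mul_comm m n]⟩⟩
  have hcent : ∀ q : Q, ∀ x ∈ P, q * x = x * q := by
    have hle : commutator Q ≤ (MulAut.conjNormal (H := P)).ker := by
      rw [commutator_def, Subgroup.commutator_le]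
      intro a _ b _
      rw [MonoidHom.mem_ker, commutatorElement_def, map_mul, map_mul, map_mul, map_inv, map_inv,
        IsMulCommutative.is_comm.comm (MulAut.conjNormal a) (MulAut.conjNormal b)]
      group
    intro q x hx
    have hq : q ∈ (MulAut.conjNormal (H := P)).ker := hle (hperf ▸ Subgroup.mem_top q)
    have := congrArg Subtype.val (DFunLike.congr_fun (MonoidHom.mem_ker.mp hq) ⟨x, hx⟩)
    exact mul_inv_eq_iff_eq_mul.mp this
  have hidx : P.index = d := by
    have h := P.card_mul_index
    rw [hP, hcard] at h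
    exact Nat.eq_of_mul_eq_mul_left hp.pos h
  have hcop : (Nat.card P).Coprime P.index := by
    rw [hP, hidx, hp.coprime_iff_not_dvd]
    exact fun h => absurd (Nat.le_of_dvd hd0 h) (not_le.mpr hlt)
  obtain ⟨H, hH⟩ := Subgroup.exists_right_complement'_of_coprime hcop
  have hHn : H.Normal := by
    refine ⟨fun h hh g => ?_⟩
    obtain ⟨x, hx, y, hy, rfl⟩ :=
      Subgroup.mem_sup_of_normal_left.mp (show g ∈ P ⊔ H by rw [hH.sup_eq_top]; trivial)
    rw [show x * y * h * (x * y)⁻¹ = x * (y * h * y⁻¹) * x⁻¹ by group,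
      ← hcent (y * h * y⁻¹) x hx, mul_inv_cancel_right]
    exact H.mul_mem (H.mul_mem hy hh) (H.inv_mem hy)
  haveI := hHn
  have hHidx : H.index = p := by rw [hH.index_eq_card, hP]
  haveI : IsCyclic (Q ⧸ H) := isCyclic_of_prime_card (p := p) (by rw [← Subgroup.index_eq_card, hHidx])
  have hle : commutator Q ≤ H := by
    rw [commutator_def, Subgroup.commutator_le]
    intro a _ b _
    rw [← QuotientGroup.eq_one_iff, commutatorElement_def]
    simp only [QuotientGroup.mk_mul, QuotientGroup.mk_inv]
    letI : CommGroup (Q ⧸ H) := IsCyclic.commGroup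
    rw [mul_comm (a : Q ⧸ H) b]
    group
  rw [hperf, top_le_iff] at hle
  rw [hle, Subgroup.index_top] at hHidx
  exact hp.one_lt.ne hHidx

/-- The structure of a group with a faithful character of prime codegree. -/
theorem structure_of_degree (χ : IrrCharacter G) (p : ℕ) (hp : p.Prime) (d : ℕ)
    (hχ1 : (χ : G → ℂ) 1 = d) (hd0 : 0 < d) (hcard : Nat.card G = p * d) (hsq : d * d ≤ Nat.card G) :
    (IsCyclic G ∧ Nat.card G = p) ∨
      ∃ H : Subgroup G, IsFrobeniusComplement H ∧ Nat.card ↥(frobeniusKernel H) = p := by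
  classical
  haveI := Fact.mk hp
  haveI : Fintype G := Fintype.ofFinite G
  rcases eq_or_ne d 1 with rfl | hd1
  · rw [mul_one] at hcard
    exact Or.inl ⟨isCyclic_of_prime_card hcard, hcard⟩
  right
  have hdp : d ≤ p := Nat.le_of_mul_le_mul_right (hcard ▸ hsq) hd0
  have hlt : d < p := by
    refine lt_of_le_of_ne hdp fun e => ?_
    subst e
    have hc := (IsPGroup.isMulCommutative_of_card_eq_prime_sq (p := d) (G := G) (by rw [hcard, sq]))
    have := degree_one_of_comm (fun a b => hc.is_comm.comm a b) χ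
    rw [hχ1] at this
    exact hd1 (by exact_mod_cast this)
  obtain ⟨P, hPn, hP⟩ := exists_normal_of_small hp hd0 hlt hcard
  haveI := hPn
  haveI : IsCyclic P := isCyclic_of_prime_card hP
  -- the centraliser of the normal subgroup is itself
  set C := Subgroup.centralizer (P : Set G) with hC
  have hPC : P ≤ C := fun x hx y hy => by
    letI : CommGroup P := IsCyclic.commGroup
    exact congrArg Subtype.val (mul_comm (⟨y, hy⟩ : P) ⟨x, hx⟩)
  haveI : Fintype C := Fintype.ofFinite _
  obtain ⟨θ, hθ⟩ : ∃ θ : IrrCharacter C, classInner (fun n : C => (χ : G → ℂ) n) (θ : C → ℂ) ≠ 0 := by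
    by_contra h
    push_neg at h
    have he := classFunction_expansion (isClassFunction_restrict C
      (isClassFunction_of_isCharacter (isCharacter_of_isIrr χ.2)))
    simp only [h, zero_smul, Finset.sum_const_zero] at he
    exact irr_degree_ne_zero χ.2 (by simpa using congrFun he 1)
  obtain ⟨e, -, he⟩ := exists_nat_degree_irr θ.2
  have h1 : e * e ≤ (P.subgroupOf C).index :=
    sq_degree_le_index θ.2 _ (fun z hz => Subgroup.mem_center_iff.mpr fun c =>
      Subtype.ext ((c.2 z hz).symm)) he
  have h2 : d ≤ C.index * e := by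
    have hind := isCharacter_indFun C (isCharacter_of_isIrr θ.2)
    obtain ⟨m, hm⟩ := exists_multiplicities hind
    have hmχ : m χ ≠ 0 := by
      intro h0
      apply hθ
      rw [← classInner_conj_symm, ← frobenius_reciprocity C _
        (isClassFunction_of_isCharacter (isCharacter_of_isIrr χ.2)), hm,
        classInner_sum_smul_irr _ χ, h0]
      simp
    choose D hD using fun ψ : IrrCharacter G => exists_nat_degree_irr ψ.2
    have h := congrFun hm 1
    rw [indFun_one, he, Finset.sum_apply] at h
    have h' : C.index * e = ∑ ψ : IrrCharacter G, m ψ * D ψ := by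
      have : ((C.index * e : ℕ) : ℂ) = ((∑ ψ : IrrCharacter G, m ψ * D ψ : ℕ) : ℂ) := by
        rw [Nat.cast_mul, h, Nat.cast_sum]
        exact Finset.sum_congr rfl fun ψ _ => by
          rw [Pi.smul_apply, smul_eq_mul, (hD ψ).2, Nat.cast_mul]
      exact Nat.cast_injective this
    have hDχ : D χ = d := Nat.cast_injective ((hD χ).2.symm.trans hχ1)
    rw [h', ← hDχ]
    exact (Nat.le_mul_of_pos_left _ (Nat.pos_of_ne_zero hmχ)).trans
      (Finset.single_le_sum (f := fun ψ => m ψ * D ψ) (fun _ _ => Nat.zero_le _) (Finset.mem_univ χ))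
  have hPidx : P.index = d := by
    have h := P.card_mul_index
    rw [hP, hcard] at h
    exact Nat.eq_of_mul_eq_mul_left hp.pos h
  have h3 : C.index * (P.subgroupOf C).index = d := by
    rw [mul_comm, ← hPidx]; exact Subgroup.relIndex_mul_index hPC
  have hCP : C ≤ P := by
    rw [← Subgroup.relIndex_eq_one]
    show (P.subgroupOf C).index = 1
    have hpos : 0 < C.index := Nat.pos_of_ne_zero C.index_ne_zero_of_finite
    have h4 : (P.subgroupOf C).index ≤ e := Nat.le_of_mul_le_mul_left (h3 ▸ h2) hpos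
    have h5 : e * e ≤ e * 1 := by linarith
    rcases Nat.eq_zero_or_pos e with rfl | he0
    · exact absurd (Nat.le_zero.mp h4) (Subgroup.index_ne_zero_of_finite)
    · exact le_antisymm (h4.trans (Nat.le_of_mul_le_mul_left h5 he0))
        (Nat.pos_of_ne_zero Subgroup.index_ne_zero_of_finite)
  have hcop : (Nat.card P).Coprime P.index := by
    rw [hP, hPidx, hp.coprime_iff_not_dvd]
    exact fun h => absurd (Nat.le_of_dvd hd0 h) (not_le.mpr hlt)
  obtain ⟨H, hH⟩ := Subgroup.exists_right_complement'_of_coprime hcop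
  have hinf : P ⊓ H = ⊥ := hH.disjoint.eq_bot
  have hfpf : ∀ h ∈ H, h ≠ 1 → ∀ k ∈ P, h * k = k * h → k = 1 := by
    intro h hh hh1 k hk hcomm
    by_contra hk1
    refine hh1 ?_
    have hz : Subgroup.zpowers k = P := by
      refine Subgroup.eq_of_le_of_card_ge (Subgroup.zpowers_le.mpr hk) ?_
      rw [hP, Nat.card_zpowers]
      refine le_of_eq (((hp.eq_one_or_self_of_dvd _ (hP ▸ Subgroup.orderOf_dvd_natCard _ hk))).resolve_left
        (orderOf_eq_one_iff.not.mpr hk1)).symm
    have hhP : h ∈ P := hCP (fun y hy => by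
      rw [← hz] at hy
      obtain ⟨j, rfl⟩ := hy
      exact ((Commute.zpow_right (show Commute h k from hcomm) j).eq).symm)
    have : h ∈ P ⊓ H := ⟨hhP, hh⟩
    rwa [hinf, Subgroup.mem_bot] at this
  have hconj : ∀ (g x : G), x ∈ MulAut.conj g • H ↔ g⁻¹ * x * g ∈ H := fun g x => by
    rw [Subgroup.mem_pointwise_smul_iff_inv_smul_mem, ← map_inv, MulAut.smul_def, MulAut.conj_apply,
      inv_inv]
  refine ⟨H, ⟨?_, ?_, ?_⟩, ?_⟩
  · intro e'
    have := hH.sup_eq_top
    rw [e', sup_bot_eq] at this
    rw [this, Subgroup.index_top] at hPidx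
    exact hd1 hPidx.symm
  · intro e'
    rw [e', inf_top_eq] at hinf
    rw [hinf, Subgroup.card_bot] at hP
    exact hp.one_lt.ne hP
  · intro g hg
    rw [eq_bot_iff]
    rintro x ⟨hx, hx''⟩
    have hx' := (hconj g x).mp hx''
    rw [Subgroup.mem_bot]
    by_contra hx1
    obtain ⟨k, hk, h, hh, rfl⟩ :=
      Subgroup.mem_sup_of_normal_left.mp (show g ∈ P ⊔ H by rw [hH.sup_eq_top]; trivial)
    have hy : k⁻¹ * x * k ∈ H := by
      have := H.mul_mem (H.mul_mem hh hx') (H.inv_mem hh)
      have e2 : h * ((k * h)⁻¹ * x * (k * h)) * h⁻¹ = k⁻¹ * x * k := by group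
      rwa [e2] at this
    have hk' : x⁻¹ * (k⁻¹ * x * k) ∈ P ⊓ H := by
      refine ⟨?_, H.mul_mem (H.inv_mem hx) hy⟩
      rw [show x⁻¹ * (k⁻¹ * x * k) = x⁻¹ * k⁻¹ * x * k by group]
      refine P.mul_mem ?_ hk
      have := hPn.conj_mem _ (P.inv_mem hk) x⁻¹
      rwa [inv_inv] at this
    rw [hinf, Subgroup.mem_bot, inv_mul_eq_one] at hk'
    have hcomm : x * k = k * x := by
      calc x * k = k * (k⁻¹ * x * k) := by group
        _ = k * x := by rw [← hk']
    have := hfpf x hx hx1 k hk hcomm
    rw [this, one_mul] at hg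
    exact hg hh
  · have : frobeniusKernel H = (P : Set G) := by
      ext x
      constructor
      · rintro (rfl | hx)
        · exact P.one_mem
        · by_contra hxP
          obtain ⟨c, hc, h, hh, h1, rfl⟩ := exists_conj_complement P H hH.sup_eq_top hfpf hxP
          refine hx c⁻¹ ?_
          rw [hconj]
          convert hh using 1
          group
      · intro hx
        by_cases h1 : x = 1
        · exact Or.inl h1
        refine Or.inr fun g hg => ?_
        rw [hconj] at hg
        have hgP : g⁻¹ * x * g ∈ P := by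
          have := hPn.conj_mem x hx g⁻¹
          rwa [inv_inv] at this
        have : g⁻¹ * x * g ∈ P ⊓ H := ⟨hgP, hg⟩
        rw [hinf, Subgroup.mem_bot] at this
        refine h1 ?_
        rw [show x = g * (g⁻¹ * x * g) * g⁻¹ by group, this]
        group
    rw [this]
    exact hP

end CfsgLib.Char.Codegree
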