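import Cfsg.Agent.Lib.Char.DefectZero
import Cfsg.Agent.Lib.Char.Artin

/-!
# Character sums over the elements of a prime order occurring to the first power

If `χ` vanishes on the `p`-singular elements and `y` of prime order `q ≠ p` is centralized by a
`p`-group of order `u`, the sum of `|χ g| ^ 2` over the conjugates of `⟨y⟩` is bounded below in
terms of the residue of `χ 1 / u` modulo `q`; in the case of equality the sum of `χ g` is
determined up to two possibilities.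
-/

set_option autoImplicit false
set_option linter.unusedSectionVars false

namespace CfsgLib.Char.PrimeSection

open Cfsg CfsgLib.Char
open scoped ComplexConjugate CfsgLib.Char

variable {G : Type*} [Group G] [Fintype G]

open scoped Classical in
/-- The elements of order `q`. -/
noncomputable def sect (G : Type*) [Group G] [Fintype G] (q : ℕ) : Finset G :=
  Finset.univ.filter fun g => orderOf g = q

theorem mem_sect {q : ℕ} {g : G} : g ∈ sect G q ↔ orderOf g = q := by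
  classical
  simp [sect]

theorem isSylow_zpowers {q : ℕ} [Fact q.Prime] (hfac : (Nat.card G).factorization q = 1) {y : G}
    (hy : orderOf y = q) :
    Nat.card (Subgroup.zpowers y) = q ^ (Nat.card G).factorization q := by
  rw [Nat.card_zpowers, hy, hfac, pow_one]

theorem exists_conj_zpowers {q : ℕ} [Fact q.Prime] (hfac : (Nat.card G).factorization q = 1) {y g : G}
    (hy : orderOf y = q) (hg : orderOf g = q) :
    ∃ c : G, ∃ i : Subgroup.zpowers y, i ≠ 1 ∧ c * i * c⁻¹ = g := by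
  let S : Sylow q G := Sylow.ofCard _ (isSylow_zpowers hfac hy)
  let T : Sylow q G := Sylow.ofCard _ (isSylow_zpowers hfac hg)
  obtain ⟨c, hc⟩ := MulAction.exists_smul_eq G S T
  have h1 : g ∈ ((c • S : Sylow q G) : Subgroup G) := by rw [hc]; exact Subgroup.mem_zpowers g
  rw [Sylow.coe_subgroup_smul] at h1
  obtain ⟨i, hi, hgi⟩ := h1
  have hgi' : c * i * c⁻¹ = g := hgi
  refine ⟨c, ⟨i, hi⟩, fun h => ?_, hgi'⟩
  have : i = 1 := congrArg Subtype.val h
  rw [← hgi', this, mul_one, mul_inv_cancel, orderOf_one] at hg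
  exact (Fact.out : q.Prime).ne_one hg.symm

theorem zpowers_eq_of_ne_one {q : ℕ} [hq : Fact q.Prime] {y i : G} (hy : orderOf y = q)
    (hi : i ∈ Subgroup.zpowers y) (h1 : i ≠ 1) :
    Subgroup.zpowers i = Subgroup.zpowers y ∧ orderOf i = q := by
  have hle : Subgroup.zpowers i ≤ Subgroup.zpowers y := Subgroup.zpowers_le.mpr hi
  have hd := Subgroup.card_dvd_of_le hle
  rw [Nat.card_zpowers, Nat.card_zpowers, hy] at hd
  rcases (Nat.dvd_prime hq.out).mp hd with h | h
  · exact absurd (orderOf_eq_one_iff.mp h) h1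
  · exact ⟨Subgroup.eq_of_le_of_card_ge hle (by rw [Nat.card_zpowers, Nat.card_zpowers, hy, h]), h⟩

open scoped Classical in
theorem sum_sect {K : Type*} [CommRing K] {q : ℕ} [hq : Fact q.Prime]
    (hfac : (Nat.card G).factorization q = 1) {y : G} (hy : orderOf y = q) (f : G → K)
    (hf : ∀ a b : G, f (b * a * b⁻¹) = f a) :
    (Nat.card (Subgroup.normalizer (Subgroup.zpowers y : Set G)) : K) * ∑ g ∈ sect G q, f g =
      (Nat.card G : K) *
        ∑ i ∈ (Finset.univ : Finset (Subgroup.zpowers y)).filter (· ≠ 1), f i := by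
  set Y := Subgroup.zpowers y
  set N := Subgroup.normalizer (Y : Set G)
  set I := (Finset.univ : Finset Y).filter (· ≠ 1)
  set φ : G × Y → G := fun ci => ci.1 * ci.2 * ci.1⁻¹
  have hlhs : (Nat.card G : K) * ∑ i ∈ I, f i =
      ∑ ci ∈ (Finset.univ : Finset G) ×ˢ I, f (φ ci) := by
    rw [Finset.sum_product, Nat.card_eq_fintype_card, ← Finset.card_univ, ← nsmul_eq_mul,
      ← Finset.sum_const]
    exact Finset.sum_congr rfl fun c _ => Finset.sum_congr rfl fun i _ => (hf _ _).symm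
  have hmap : ∀ ci ∈ (Finset.univ : Finset G) ×ˢ I, φ ci ∈ sect G q := by
    intro ci hci
    simp only [Finset.mem_product, Finset.mem_univ, true_and, I, Finset.mem_filter] at hci
    rw [mem_sect]
    exact (CfsgLib.Transfer.orderOf_conj ci.1 _).trans
      (zpowers_eq_of_ne_one hy ci.2.2 fun h => hci (Subtype.ext h)).2
  rw [hlhs, ← Finset.sum_fiberwise_of_maps_to hmap, Finset.mul_sum]
  refine Finset.sum_congr rfl fun g hg => ?_
  rw [Finset.sum_congr rfl (g := fun _ => f g) fun ci hci => by rw [(Finset.mem_filter.mp hci).2],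
    Finset.sum_const, nsmul_eq_mul]
  congr 1
  obtain ⟨c0, i0, hi0, hg0⟩ := exists_conj_zpowers hfac hy (mem_sect.mp hg)
  have hci : ∀ n : N, (n : G)⁻¹ * i0 * n ∈ Y := fun n =>
    (Subgroup.mem_normalizer_iff''.mp n.2 i0).mp i0.2
  rw [Nat.card_eq_fintype_card, ← Finset.card_univ]
  congr 1
  refine Finset.card_bij (fun n _ => (c0 * n, ⟨(n : G)⁻¹ * i0 * n, hci n⟩)) ?_ ?_ ?_
  · intro n _
    simp only [Finset.mem_filter, Finset.mem_product, Finset.mem_univ, true_and, I]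
    refine ⟨fun h => hi0 (Subtype.ext ?_), ?_⟩
    · have h' : (n : G)⁻¹ * i0 * n = 1 := congrArg Subtype.val h
      have : (i0 : G) = n * ((n : G)⁻¹ * i0 * n) * (n : G)⁻¹ := by group
      rw [this, h']; simp
    · rw [← hg0]; simp [φ, mul_assoc]
  · intro n _ m _ h
    exact Subtype.ext (mul_left_cancel (Prod.mk.inj h).1)
  · rintro ⟨c, i⟩ h
    simp only [Finset.mem_filter, Finset.mem_product, Finset.mem_univ, true_and, I] at h
    obtain ⟨hi, hφ⟩ := h
    have hφ' : c * i * c⁻¹ = c0 * i0 * c0⁻¹ := hφ.trans hg0.symm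
    have hn : c0⁻¹ * c ∈ N := by
      have he : (c0⁻¹ * c) * i * (c0⁻¹ * c)⁻¹ = (i0 : G) := by
        calc (c0⁻¹ * c) * i * (c0⁻¹ * c)⁻¹ = c0⁻¹ * (c * i * c⁻¹) * c0 := by group
          _ = _ := by rw [hφ']; group
      have hY : Y.map (MulAut.conj (c0⁻¹ * c)).toMonoidHom = Y := by
        show (Subgroup.zpowers y).map _ = _
        rw [← (zpowers_eq_of_ne_one hy i.2 fun h => hi (Subtype.ext h)).1, MonoidHom.map_zpowers]
        show Subgroup.zpowers ((c0⁻¹ * c) * i * (c0⁻¹ * c)⁻¹) = _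
        rw [he, (zpowers_eq_of_ne_one hy i0.2 fun h => hi0 (Subtype.ext h)).1]
      exact Subgroup.mem_normalizer_iff_map_conj_eq.mpr hY
    refine ⟨⟨_, hn⟩, Finset.mem_univ _, Prod.ext (by simp) (Subtype.ext ?_)⟩
    show (c0⁻¹ * c)⁻¹ * i0 * (c0⁻¹ * c) = i
    calc (c0⁻¹ * c)⁻¹ * i0 * (c0⁻¹ * c) = c⁻¹ * (c0 * i0 * c0⁻¹) * c := by group
      _ = _ := by rw [← hφ']; group

/-- Integers with prescribed sum: the minimum of the sum of squares. -/
theorem sum_sq_bound {ι : Type*} [Fintype ι] (b : ι → ℕ) (D : ℕ) (hD : ∑ i, b i = D) :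
    let q := Fintype.card ι
    ((D % q : ℕ) : ℤ) * ((q : ℤ) - (D % q : ℕ)) ≤ (q : ℤ) * ∑ i, (b i : ℤ) ^ 2 - (D : ℤ) ^ 2 ∧
      ((q : ℤ) * ∑ i, (b i : ℤ) ^ 2 - (D : ℤ) ^ 2 ≤ ((D % q : ℕ) : ℤ) * ((q : ℤ) - (D % q : ℕ)) →
        0 < q → ∀ i, b i = D / q ∨ b i = D / q + 1) := by
  intro q
  set Q : ℤ := ((D / q : ℕ) : ℤ)
  set r : ℤ := ((D % q : ℕ) : ℤ)
  have hDq : (D : ℤ) = q * Q + r := by
    simp only [Q, r]
    exact_mod_cast (Nat.div_add_mod D q).symm
  have hkey : (q : ℤ) * ∑ i, ((b i : ℤ) - Q) * ((b i : ℤ) - Q - 1) =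
      (q : ℤ) * ∑ i, (b i : ℤ) ^ 2 - (D : ℤ) ^ 2 - r * (q - r) := by
    have : ∀ i, ((b i : ℤ) - Q) * ((b i : ℤ) - Q - 1) =
        (b i : ℤ) ^ 2 - (2 * Q + 1) * b i + Q * (Q + 1) := fun i => by ring
    simp only [this, Finset.sum_add_distrib, Finset.sum_sub_distrib, ← Finset.mul_sum,
      Finset.sum_const, Finset.card_univ, nsmul_eq_mul]
    rw [show ∑ i, (b i : ℤ) = D by exact_mod_cast hD, hDq]
    simp only [q]
    ring
  have hpos : ∀ i, 0 ≤ ((b i : ℤ) - Q) * ((b i : ℤ) - Q - 1) := fun i => by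
    rcases le_or_gt (b i : ℤ) Q with h | h
    · exact mul_nonneg_of_nonpos_of_nonpos (by omega) (by omega)
    · exact mul_nonneg (by omega) (by omega)
  refine ⟨by nlinarith [Finset.sum_nonneg (s := Finset.univ) fun i _ => hpos i], fun hle hq i => ?_⟩
  have h0 : ∑ i, ((b i : ℤ) - Q) * ((b i : ℤ) - Q - 1) = 0 :=
    le_antisymm (by nlinarith) (Finset.sum_nonneg fun i _ => hpos i)
  have := (Finset.sum_eq_zero_iff_of_nonneg fun i _ => hpos i).mp h0 i (Finset.mem_univ i)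
  rcases mul_eq_zero.mp this with h | h
  · left; omega
  · right; omega

open scoped Classical in
/-- Divisibility of the multiplicities on a cyclic group centralized by a `p`-group. -/
theorem exists_scaled_multiplicities {p : ℕ} [hp : Fact p.Prime] {χ : G → ℂ}
    (hχ : IsCharacter G χ) (hvan : ∀ x : G, p ∣ orderOf x → χ x = 0) {y : G}
    (hy : ¬ p ∣ orderOf y) (T : Subgroup G) (hT : IsPGroup p T) (hcom : ∀ t ∈ T, Commute t y) :
    ∃ b : IrrCharacter (Subgroup.zpowers y) → ℕ, ∀ i : Subgroup.zpowers y,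
      χ i = (Nat.card T : ℂ) * ∑ ψ : IrrCharacter (Subgroup.zpowers y), (b ψ : ℂ) *
        (ψ : Subgroup.zpowers y → ℂ) i := by
  set Y := Subgroup.zpowers y
  haveI : Fintype T := Fintype.ofFinite _
  obtain ⟨a, ha⟩ := exists_multiplicities (isCharacter_restrict Y hχ)
  have hc : ∀ (i : Y) (t : T), Commute (i : G) (t : G) := fun i t => by
    obtain ⟨k, hk⟩ := Subgroup.mem_zpowers_iff.mp i.2
    rw [← hk]
    exact ((hcom t t.2).symm).zpow_left k
  let f : Y × T →* G := MonoidHom.noncommCoprod Y.subtype T.subtype hc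
  have hzero : ∀ (i : Y) (t : T), t ≠ 1 → χ (f (i, t)) = 0 := by
    intro i t ht
    apply hvan
    show p ∣ orderOf ((i : G) * (t : G))
    obtain ⟨k, hk⟩ := IsPGroup.iff_orderOf.mp hT t
    have hcop : (orderOf (i : G)).Coprime (orderOf (t : G)) := by
      rw [Subgroup.orderOf_coe t, hk]
      refine Nat.Coprime.pow_right _ ((hp.out.coprime_iff_not_dvd.mpr fun h => hy ?_).symm)
      exact h.trans (orderOf_dvd_of_mem_zpowers i.2)
    rw [(hc i t).orderOf_mul_eq_mul_orderOf_of_coprime hcop, Subgroup.orderOf_coe t, hk]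
    refine dvd_mul_of_dvd_right (dvd_pow_self p fun h0 => ht ?_) _
    rw [h0, pow_zero, orderOf_eq_one_iff] at hk
    exact hk
  have hdiv : ∀ ψ : IrrCharacter Y, ∃ z : ℤ, (a ψ : ℂ) = (Nat.card T : ℂ) * z := by
    intro ψ
    obtain ⟨z, hz⟩ := exists_int_classInner
      (isGeneralized_comp f (isGeneralized_of_isCharacter hχ))
      (isGeneralized_comp (MonoidHom.fst Y T) (isGeneralized_of_isIrr ψ.2))
    refine ⟨z, ?_⟩
    have hY : classInner (fun i : Y => χ i) (ψ : Y → ℂ) = (a ψ : ℂ) := by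
      rw [show (fun i : Y => χ i) = _ from ha, classInner_sum_smul_irr]
    rw [← hY, ← hz]
    simp only [classInner, Nat.card_prod, Nat.cast_mul, mul_inv, Function.comp_apply,
      Fintype.sum_prod_type, MonoidHom.coe_fst]
    rw [Finset.sum_congr rfl fun (i : Y) _ => Finset.sum_eq_single (1 : T)
      (fun t _ ht => by rw [hzero i t ht, zero_mul]) (fun h => absurd (Finset.mem_univ _) h)]
    have hT0 : (Nat.card T : ℂ) ≠ 0 := Nat.cast_ne_zero.mpr Nat.card_pos.ne'
    field_simp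
    refine Finset.sum_congr rfl fun i _ => ?_
    rw [show f (i, (1 : T)) = (i : G) from mul_one _]
  choose z hz using hdiv
  refine ⟨fun ψ => (z ψ).toNat, fun i => ?_⟩
  have hz0 : ∀ ψ, 0 ≤ z ψ := fun ψ => by
    have : (a ψ : ℤ) = (Nat.card T : ℤ) * z ψ := by exact_mod_cast hz ψ
    exact Int.nonneg_of_mul_nonneg_right (this ▸ Int.natCast_nonneg _)
      (by exact_mod_cast Nat.card_pos (α := T))
  rw [show χ i = (fun i : Y => χ i) i from rfl, show (fun i : Y => χ i) = _ from ha,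
    Finset.sum_apply, Finset.mul_sum]
  refine Finset.sum_congr rfl fun ψ _ => ?_
  rw [Pi.smul_apply, smul_eq_mul, hz ψ, mul_assoc,
    show (((z ψ).toNat : ℕ) : ℂ) = (z ψ : ℂ) by exact_mod_cast Int.toNat_of_nonneg (hz0 ψ)]

open scoped Classical in
/-- The bound on the elements of order `q`. -/
theorem main_bound {p : ℕ} [hp : Fact p.Prime] {χ : G → ℂ} (hχ : IsIrrCharacter G χ)
    (hvan : ∀ x : G, p ∣ orderOf x → χ x = 0) {q : ℕ} [hq : Fact q.Prime] (hqp : q ≠ p)
    (hfac : (Nat.card G).factorization q = 1) {y : G} (hy : orderOf y = q) (T : Subgroup G)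
    (hT : IsPGroup p T) (hcom : ∀ t ∈ T, Commute t y) {D : ℕ}
    (hD : χ 1 = ((Nat.card T * D : ℕ) : ℂ)) :
    let N : ℝ := Nat.card (Subgroup.normalizer (Subgroup.zpowers y : Set G))
    let low : ℝ := (Nat.card G : ℝ) * ((Nat.card T ^ 2 * (D % q * (q - D % q)) : ℕ) : ℝ)
    low ≤ N * ∑ g ∈ sect G q, Complex.normSq (χ g) ∧
      (N * ∑ g ∈ sect G q, Complex.normSq (χ g) ≤ low → ∃ z : ℤ,
        (z = -((D % q : ℕ) : ℤ) ∨ z = (q : ℤ) - (D % q : ℕ)) ∧
        (Nat.card (Subgroup.normalizer (Subgroup.zpowers y : Set G)) : ℂ) * ∑ g ∈ sect G q, χ g =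
          (Nat.card G : ℂ) * ((Nat.card T : ℂ) * z)) := by
  intro N low
  set Y := Subgroup.zpowers y with hYdef
  set u := Nat.card T with hu
  have hχc := isCharacter_of_isIrr hχ
  have hcl := isClassFunction_of_isCharacter hχc
  obtain ⟨b, hb⟩ := exists_scaled_multiplicities hχc hvan
    (by rw [hy]; exact fun h => hqp ((Nat.prime_dvd_prime_iff_eq hp.out hq.out).mp h).symm) T hT hcom
  have hcommY : ∀ a c : Y, a * c = c * a := fun a c => by
    obtain ⟨m, hm⟩ := Subgroup.mem_zpowers_iff.mp a.2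
    obtain ⟨n, hn⟩ := Subgroup.mem_zpowers_iff.mp c.2
    apply Subtype.ext
    rw [Subgroup.coe_mul, Subgroup.coe_mul, ← hm, ← hn, ← zpow_add, ← zpow_add, add_comm]
  have hone : ∀ ψ : IrrCharacter Y, (ψ : Y → ℂ) 1 = 1 := fun ψ => degree_one_of_comm hcommY ψ
  have hcardY : Nat.card Y = q := by rw [hYdef, Nat.card_zpowers, hy]
  have hcardI : Fintype.card (IrrCharacter Y) = q := by
    rw [← Nat.card_eq_fintype_card, card_irr_eq_card_conjClasses, ← hcardY]
    refine (Nat.card_congr (Equiv.ofBijective ConjClasses.mk ⟨fun a c h => ?_,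
      ConjClasses.mk_surjective⟩)).symm
    obtain ⟨k, hk⟩ := isConj_iff.mp (ConjClasses.mk_eq_mk_iff_isConj.mp h)
    rwa [hcommY k a, mul_inv_cancel_right] at hk
  have hu0 : (u : ℂ) ≠ 0 := Nat.cast_ne_zero.mpr Nat.card_pos.ne'
  have hsumb : ∑ ψ, b ψ = D := by
    have := hb 1
    simp only [OneMemClass.coe_one, hD, hone, mul_one, Nat.cast_mul] at this
    exact_mod_cast (mul_left_cancel₀ hu0 this).symm
  set fY : Y → ℂ := ∑ ψ : IrrCharacter Y, (b ψ : ℂ) • (ψ : Y → ℂ)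
  have hχY : ∀ i : Y, χ i = (u : ℂ) * fY i := fun i => by
    rw [hb i]; simp [fY, u, Y]
  have hf1 : fY 1 = (D : ℂ) := by
    simp only [fY, Finset.sum_apply, Pi.smul_apply, smul_eq_mul, hone, mul_one]
    exact_mod_cast hsumb
  set I := (Finset.univ : Finset Y).filter (· ≠ 1)
  have hsplit : ∀ h : Y → ℂ, ∑ i, h i = h 1 + ∑ i ∈ I, h i := fun h => by
    rw [show I = Finset.univ.erase 1 by ext; simp [I, and_comm]]
    exact (Finset.add_sum_erase _ _ (Finset.mem_univ _)).symm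
  have hnorm : ∑ i : Y, fY i * conj (fY i) =
      (q : ℂ) * ((∑ ψ, (b ψ : ℤ) ^ 2 : ℤ) : ℂ) := by
    have h := sum_sq_coeff (G := Y) (fun ψ => (b ψ : ℤ))
    simp only [Int.cast_natCast] at h
    rw [← h, classInner, ← mul_assoc, hcardY, mul_inv_cancel₀ (Nat.cast_ne_zero.mpr hq.out.ne_zero),
      one_mul]
  have hI2 : ∑ i ∈ I, Complex.normSq (χ i) =
      (u : ℝ) ^ 2 * (((q : ℤ) * ∑ ψ, (b ψ : ℤ) ^ 2 - (D : ℤ) ^ 2 : ℤ) : ℝ) := by
    rw [hsplit, hf1] at hnorm
    rw [← Complex.ofReal_inj, Complex.ofReal_sum]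
    simp only [hχY, map_mul, Complex.normSq_natCast, Complex.ofReal_mul, ← Complex.mul_conj,
      Complex.ofReal_natCast, ← Finset.mul_sum]
    rw [Complex.conj_natCast] at hnorm
    push_cast at hnorm ⊢
    linear_combination (u : ℂ) ^ 2 * hnorm
  have hreal : (N : ℝ) * ∑ g ∈ sect G q, Complex.normSq (χ g) =
      (Nat.card G : ℝ) * ∑ i ∈ I, Complex.normSq (χ i) :=
    sum_sect hfac hy _ fun a c => by rw [hcl a c]
  obtain ⟨hlo, heq⟩ := sum_sq_bound b D hsumb
  rw [hcardI] at hlo heq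
  set r := D % q
  have hrq : r ≤ q := (Nat.mod_lt _ hq.out.pos).le
  set W : ℤ := (q : ℤ) * ∑ ψ, (b ψ : ℤ) ^ 2 - (D : ℤ) ^ 2
  have hlow : low = (Nat.card G : ℝ) * ((u : ℝ) ^ 2 * (((r : ℤ) * ((q : ℤ) - r) : ℤ) : ℝ)) := by
    simp only [low, u, r] at hrq ⊢
    generalize D % q = r' at hrq ⊢
    push_cast [Nat.cast_sub hrq]
    ring
  have hG : (0 : ℝ) < Nat.card G := Nat.cast_pos.mpr Nat.card_pos
  have hu2 : (0 : ℝ) < (u : ℝ) ^ 2 := pow_pos (Nat.cast_pos.mpr Nat.card_pos) 2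
  rw [hreal, hI2, hlow]
  refine ⟨by gcongr, fun hle => ?_⟩
  rw [mul_le_mul_iff_of_pos_left hG, mul_le_mul_iff_of_pos_left hu2, Int.cast_le] at hle
  have hall := heq hle hq.out.pos
  have hsum : ∀ ψ0 : IrrCharacter Y, (∀ i, (ψ0 : Y → ℂ) i = 1) →
      ∑ i ∈ I, fY i = ((q : ℤ) * b ψ0 - (D : ℤ) : ℤ) := by
    intro ψ0 h0
    have h1 : classInner fY (ψ0 : Y → ℂ) = (b ψ0 : ℂ) := classInner_sum_smul_irr _ ψ0
    rw [classInner, hcardY, inv_mul_eq_iff_eq_mul₀ (Nat.cast_ne_zero.mpr hq.out.ne_zero)] at h1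
    simp only [h0, map_one, mul_one] at h1
    rw [hsplit, hf1] at h1
    push_cast
    linear_combination h1
  obtain ⟨ψ0, h0⟩ : ∃ ψ0 : IrrCharacter Y, ∀ i, (ψ0 : Y → ℂ) i = 1 :=
    ⟨⟨fun _ => 1, isIrrCharacter_one⟩, fun _ => rfl⟩
  refine ⟨(q : ℤ) * b ψ0 - D, ?_, ?_⟩
  · have hD' : D = q * (D / q) + r := (Nat.div_add_mod D q).symm
    have hD'' : (D : ℤ) = (q : ℤ) * ((D / q : ℕ) : ℤ) + (r : ℤ) := by exact_mod_cast hD'
    rcases hall ψ0 with h | h
    · left; rw [h, hD'']; ring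
    · right; rw [h, hD'']; push_cast; ring
  · rw [sum_sect hfac hy χ hcl, Finset.sum_congr rfl fun i _ => hχY i, ← Finset.mul_sum, hsum ψ0 h0]

end CfsgLib.Char.PrimeSection
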