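import Cfsg.Agent.Lib.Char.MaximalInduced
import Cfsg.Agent.Lib.LinearPPart.Main

/-!
# Berger's theorem: quasi-primitive characters of solvable groups are primitive
-/

set_option autoImplicit false
set_option linter.unusedSectionVars false

namespace CfsgLib.Char

open Cfsg
open scoped ComplexConjugate CfsgLib.Char commutatorElement

variable {G : Type*} [Group G] [Fintype G]

/-- The square of the multiplicity of a quasi-primitive character below a solvable quotient divides
the index. -/
theorem sq_multiplicity_dvd_index [Group.IsSolvable G] {χ : G → ℂ} (hχ : IsIrrCharacter G χ)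
    (hqp : ∀ N : Subgroup G, N.Normal → ∃ (ϑ : N → ℂ) (e : ℕ), IsIrrCharacter N ϑ ∧
      (fun n : N => χ n) = (e : ℂ) • ϑ) :
    ∀ (n : ℕ) (M : Subgroup G), M.index = n → M.Normal → ∀ (θ : M → ℂ) (f : ℕ),
      IsIrrCharacter M θ → (fun m : M => χ m) = (f : ℂ) • θ → f ^ 2 ∣ n := by
  classical
  intro n
  induction n using Nat.strong_induction_on with
  | _ n ih =>
  intro M hn hMn θ f hθ hres
  haveI := hMn
  haveI : Fintype M := Fintype.ofFinite M
  have hχcl := isClassFunction_of_isCharacter (isCharacter_of_isIrr hχ)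
  by_cases hM : M = ⊤
  · subst hM
    have h1 : classInner (fun m : (⊤ : Subgroup G) => χ m) (fun m : (⊤ : Subgroup G) => χ m) = 1 :=
      (classInner_comp_mulEquiv Subgroup.topEquiv χ χ).trans (classInner_irr_self hχ)
    rw [hres, classInner_smul_left, classInner_smul_right, classInner_irr_self hθ,
      Complex.conj_natCast, mul_one, ← Nat.cast_mul, Nat.cast_eq_one] at h1
    rw [pow_two, h1]
    exact one_dvd n
  have hf0 : (f : ℂ) ≠ 0 := by
    intro h
    have h1 := congrFun hres 1
    rw [h, zero_smul] at h1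
    exact irr_degree_ne_zero hχ h1
  obtain ⟨N, p, k, hNn, hMN, hp, hrel, -, hab⟩ := exists_step_over M hM inferInstance
  haveI := hNn
  haveI : Fintype N := Fintype.ofFinite N
  obtain ⟨η, e, hη, hNres⟩ := hqp N hNn
  have hidx : M.relIndex N * N.index = M.index := Subgroup.relIndex_mul_index hMN.le
  have hlt : N.index < n := by
    rw [← hn, ← hidx]
    refine lt_mul_of_one_lt_left (Nat.pos_of_ne_zero N.index_ne_zero_of_finite) ?_
    rcases Nat.lt_or_ge 1 (M.relIndex N) with h | h
    · exact h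
    · have h0 : 0 < M.relIndex N := Nat.pos_of_ne_zero (by rw [hrel]; exact (pow_pos hp.pos k).ne')
      exact absurd (Subgroup.relIndex_eq_one.mp (by omega)) hMN.not_ge
  have hrec := ih _ hlt N rfl hNn η e hη hNres
  set M' := M.subgroupOf N with hM'
  haveI : Fintype M' := Fintype.ofFinite M'
  set ι : M' ≃* M := Subgroup.subgroupOfEquivOfLe hMN.le with hι
  set θ' : M' → ℂ := fun x => θ (ι x) with hθ'
  have hθ'irr : IsIrrCharacter M' θ' := isIrrCharacter_comp_mulEquiv ι hθ
  have hθ'inv : ∀ x, conjBy M' θ' x = θ' := by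
    intro x
    funext y
    refine mul_left_cancel₀ hf0 ?_
    have h1 := congrFun hres (ι ⟨x * (y : N) * x⁻¹, Subgroup.Normal.conj_mem inferInstance _ y.2 x⟩)
    have h2 := congrFun hres (ι y)
    simp only [Pi.smul_apply, smul_eq_mul] at h1 h2
    rw [conjBy_apply]
    simp only [hθ']
    rw [← h1, ← h2]
    exact hχcl ((y : N) : G) (x : G)
  have hcompare : ∀ y : M', (e : ℂ) * η (y : N) = (f : ℂ) * θ' y := by
    intro y
    have h1 := congrFun hNres (y : N)
    have h2 := congrFun hres (ι y)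
    simp only [Pi.smul_apply, smul_eq_mul] at h1 h2
    simp only [hθ']
    rw [← h1, ← h2]
    rfl
  obtain ⟨j, hj⟩ := exists_nat_classInner (isCharacter_restrict M' (isCharacter_of_isIrr hη))
    (isCharacter_of_isIrr hθ'irr)
  have hej : e * j = f := by
    have h : (e : ℂ) * classInner (fun y : M' => η y) θ' = (f : ℂ) := by
      rw [← classInner_smul_left, show (e : ℂ) • (fun y : M' => η y) = (f : ℂ) • θ' from funext hcompare,
        classInner_smul_left, classInner_irr_self hθ'irr, mul_one]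
    rw [hj] at h
    exact_mod_cast h
  have hj0 : j ≠ 0 := fun h => hf0 (by rw [← hej, h, mul_zero, Nat.cast_zero])
  have hab' : ∀ x y : N, x * y * x⁻¹ * y⁻¹ ∈ M' := fun x y => by
    rw [hM', Subgroup.mem_subgroupOf]
    simpa using hab _ x.2 _ y.2
  obtain ⟨j', Cs, -, hj', -, hjidx, -, -⟩ := invariant_decomposition M' hab' hθ'irr hθ'inv hη
    (by convert (hj ▸ Nat.cast_ne_zero.mpr hj0 : classInner (fun y : M' => η y) θ' ≠ 0))
  replace hj' : j = j' := Nat.cast_injective (R := ℂ) (hj.symm.trans (by convert hj'))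
  subst hj'
  rw [← hej, mul_pow, ← hn, ← hidx, mul_comm (M.relIndex N)]
  exact Nat.mul_dvd_mul hrec ⟨Cs.card, hjidx.symm⟩

/-- A character induced from a maximal subgroup of a solvable group is inhomogeneous on some normal
subgroup, unless it is reducible. -/
theorem quasiprimitive_ne_indFun [Group.IsSolvable G] {χ : G → ℂ} (hχ : IsIrrCharacter G χ)
    (hqp : ∀ N : Subgroup G, N.Normal → ∃ (ϑ : N → ℂ) (e : ℕ), IsIrrCharacter N ϑ ∧
      (fun n : N => χ n) = (e : ℂ) • ϑ)
    (H : Subgroup G) (hmax : IsCoatom H) {ψ : H → ℂ} (hψ : IsCharacter H ψ) :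
    indFun H ψ ≠ χ := by
  classical
  intro hind
  set L := H.normalCore with hL
  haveI hLn : L.Normal := Subgroup.normalCore_normal H
  have hLH : L ≤ H := Subgroup.normalCore_le H
  have hLtop : L ≠ ⊤ := fun h => hmax.1 (top_le_iff.mp (h ▸ hLH))
  obtain ⟨M, p, k, hMn, hLM, hp, hMk, hMmin, hMab⟩ := exists_step_over L hLtop inferInstance
  haveI := hMn
  haveI := Fact.mk hp
  have hMH : ¬ M ≤ H := fun h => hLM.not_ge (Subgroup.normal_le_normalCore.mpr h)
  have hsup : M ⊔ H = ⊤ :=
    hmax.2 _ (lt_of_le_of_ne le_sup_right fun e => hMH (le_sup_left.trans_eq e.symm))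
  have hdec : ∀ g : G, ∃ m ∈ M, ∃ h ∈ H, m * h = g := fun g =>
    Subgroup.mem_sup_of_normal_left.mp (hsup ▸ Subgroup.mem_top g : g ∈ M ⊔ H)
  have hinf : M ⊓ H = L := by
    refine le_antisymm ?_ (le_inf hLM.le hLH)
    have hn : (M ⊓ H).Normal := ⟨fun a ha g => by
      obtain ⟨m, hm, h, hh, rfl⟩ := hdec g
      have h1 : h * a * h⁻¹ ∈ M ⊓ H :=
        Subgroup.mem_inf.mpr ⟨hMn.conj_mem a ha.1 h, H.mul_mem (H.mul_mem hh ha.2) (H.inv_mem hh)⟩
      rw [show m * h * a * (m * h)⁻¹ =
        (m * (h * a * h⁻¹) * m⁻¹ * (h * a * h⁻¹)⁻¹) * (h * a * h⁻¹) by group]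
      exact Subgroup.mul_mem _ (le_inf hLM.le hLH (hMab m hm _ h1.1)) h1⟩
    haveI := hn
    exact Subgroup.normal_le_normalCore.mpr inf_le_right
  haveI : Fintype H := Fintype.ofFinite H
  haveI : Fintype M := Fintype.ofFinite M
  -- the characters on `M` and on `L`
  set Q := H.subgroupOf M with hQ
  have hQL : Q = L.subgroupOf M := by
    ext x
    rw [hQ, Subgroup.mem_subgroupOf, Subgroup.mem_subgroupOf, ← hinf]
    exact ⟨fun h => Subgroup.mem_inf.mpr ⟨x.2, h⟩, fun h => h.2⟩
  haveI hQn : Q.Normal := hQL ▸ inferInstance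
  haveI : Fintype Q := Fintype.ofFinite Q
  set ψQ : Q → ℂ := fun q => ψ ⟨((q : M) : G), q.2⟩ with hψQ
  have hψQc : IsCharacter Q ψQ := by
    let fQ : Q →* H :=
      { toFun := fun q => ⟨((q : M) : G), q.2⟩, map_one' := rfl, map_mul' := fun _ _ => rfl }
    exact isCharacter_comp fQ hψ
  have hresM : (fun x : M => χ x) = indFun Q ψQ := by
    rw [← hind]
    exact indFun_restrict_of_sup_eq_top M H hsup (isClassFunction_of_isCharacter hψ)
  let ι : Q ≃* L :=
    { toFun := fun q => ⟨((q : M) : G), hinf.le ⟨(q : M).2, q.2⟩⟩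
      invFun := fun c => ⟨⟨(c : G), hLM.le c.2⟩, hLH c.2⟩
      left_inv := fun q => rfl
      right_inv := fun c => rfl
      map_mul' := fun _ _ => rfl }
  obtain ⟨φ₀, g, hφ₀, hLres⟩ := hqp L hLn
  obtain ⟨θ, f, hθ, hMres⟩ := hqp M hMn
  set φ : Q → ℂ := fun q => φ₀ (ι q) with hφ
  have hφirr : IsIrrCharacter Q φ := isIrrCharacter_comp_mulEquiv ι hφ₀
  have hQres : (fun q : Q => χ ((q : M) : G)) = (g : ℂ) • φ := funext fun q => congrFun hLres (ι q)
  have hg0 : g ≠ 0 := by
    intro h
    have h1 := congrFun hLres 1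
    rw [h, Nat.cast_zero, zero_smul] at h1
    exact irr_degree_ne_zero hχ h1
  have hMcl : IsClassFunction M (fun x : M => χ x) :=
    isClassFunction_of_isCharacter (isCharacter_restrict M (isCharacter_of_isIrr hχ))
  have hff : classInner (fun x : M => χ x) (fun x : M => χ x) = ((f * f : ℕ) : ℂ) := by
    rw [hMres, classInner_smul_left, classInner_smul_right, classInner_irr_self hθ,
      Complex.conj_natCast, mul_one, Nat.cast_mul]
  obtain ⟨a, ha⟩ := exists_nat_classInner (isCharacter_of_isIrr hφirr) hψQc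
  have h1 : f * f = g * a := by
    have h : classInner (fun x : M => χ x) (indFun Q ψQ) = (g : ℂ) * (a : ℂ) := by
      rw [frobenius_reciprocity' Q ψQ hMcl]
      rw [show (fun q : Q => (fun x : M => χ x) (q : M)) = (g : ℂ) • φ from hQres,
        classInner_smul_left, ha]
    rw [← hresM, hff] at h
    exact_mod_cast h
  have h2 : Q.index * (f * f) = g * g := by
    have hscale : indFun Q (fun q : Q => χ ((q : M) : G)) = (Q.index : ℂ) • fun x : M => χ x := by
      funext x
      by_cases hx : x ∈ Q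
      · have h := indFun_apply_of_normal Q (fun q : Q => χ ((q : M) : G)) ⟨x, hx⟩
        rw [h, Pi.smul_apply, smul_eq_mul]
        have hc : ∀ y : M, χ (((y * x * y⁻¹ : M) : G)) = χ (x : G) := fun y =>
          isClassFunction_of_isCharacter (isCharacter_of_isIrr hχ) (x : G) (y : G)
        simp only [hc, Finset.sum_const, Finset.card_univ, nsmul_eq_mul]
        rw [← Nat.card_eq_fintype_card, ← Q.card_mul_index, Nat.cast_mul]
        field_simp [Nat.card_pos.ne']
      · rw [indFun_notMem_of_normal Q _ hx, Pi.smul_apply, smul_eq_mul]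
        rw [show χ (x : G) = (fun x : M => χ x) x from rfl, hresM, indFun_notMem_of_normal Q _ hx,
          mul_zero]
    have h : classInner (indFun Q (fun q : Q => χ ((q : M) : G))) (fun x : M => χ x) =
        ((g * g : ℕ) : ℂ) := by
      rw [frobenius_reciprocity Q _ hMcl]
      rw [hQres, classInner_smul_left, classInner_smul_right, classInner_irr_self hφirr,
        Complex.conj_natCast, mul_one, Nat.cast_mul]
    rw [hscale, classInner_smul_left, hff] at h
    exact_mod_cast h
  have h3 : Q.index * (a * a) = f * f := by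
    refine Nat.eq_of_mul_eq_mul_left (Nat.pos_of_ne_zero hg0) ?_
    have : Q.index * a = g := by
      rw [h1] at h2
      exact Nat.eq_of_mul_eq_mul_left (Nat.pos_of_ne_zero hg0) (by linarith)
    rw [h1]
    linear_combination (g * a) * this
  have hQidx : Q.index = p ^ k := by rw [hQL]; exact hMk
  have hdvd : p ^ k ∣ M.index := by
    refine dvd_trans ?_ (sq_multiplicity_dvd_index hχ hqp M.index M rfl hMn θ f hθ hMres)
    rw [pow_two, ← h3, hQidx]
    exact Dvd.intro _ rfl
  -- the complement acting on the chief factor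
  have hrelH : L.relIndex H = M.index := by
    have e1 := CfsgLib.Coprime.card_sup_mul_card_inf (K := M) (S := H) Subgroup.le_normalizer_of_normal
    rw [hsup, Subgroup.card_top, hinf, ← M.card_mul_index] at e1
    have e2 := CfsgLib.Coprime.relIndex_mul_card_inf L H
    rw [inf_eq_left.mpr hLH] at e2
    rw [← e2] at e1
    exact (Nat.eq_of_mul_eq_mul_right (Nat.mul_pos (Nat.card_pos (α := M)) (Nat.card_pos (α := L)))
      (by linarith)).symm
  set LH := L.subgroupOf H with hLH'
  set LM := L.subgroupOf M with hLM'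
  letI : CommGroup (M ⧸ LM) :=
    { (inferInstance : Group (M ⧸ LM)) with
      mul_comm := fun a b => by
        obtain ⟨x, rfl⟩ := QuotientGroup.mk_surjective a
        obtain ⟨y, rfl⟩ := QuotientGroup.mk_surjective b
        rw [← QuotientGroup.mk_mul, ← QuotientGroup.mk_mul, QuotientGroup.eq]
        show (((x * y)⁻¹ * (y * x) : M) : G) ∈ L
        have := hMab _ (M.inv_mem y.2) _ (M.inv_mem x.2)
        simpa [mul_assoc] using this }
  let V := Additive (M ⧸ LM)
  have hmap : ∀ (h : H) (x : M), x ∈ LM → MulAut.conjNormal (h : G) x ∈ LM := fun h x hx => by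
    show ((MulAut.conjNormal (h : G) x : M) : G) ∈ L
    rw [MulAut.conjNormal_apply]
    exact hLn.conj_mem _ hx h
  let cj : H → (M →* M) := fun h => MulEquiv.toMonoidHom (MulAut.conjNormal (h : G))
  have hcj : ∀ h : H, LM ≤ LM.comap (cj h) := fun h x hx => hmap h x hx
  let σ₀ : H →* AddMonoid.End V :=
    { toFun := fun h => MonoidHom.toAdditive (QuotientGroup.map LM LM (cj h) (hcj h))
      map_one' := DFunLike.ext _ _ fun w => by
        obtain ⟨x, hx⟩ := QuotientGroup.mk_surjective (Additive.toMul w)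
        obtain rfl : w = Additive.ofMul (QuotientGroup.mk x) := (congrArg Additive.ofMul hx).symm
        show Additive.ofMul (QuotientGroup.mk (MulAut.conjNormal ((1 : H) : G) x) : M ⧸ LM) = _
        rw [OneMemClass.coe_one, map_one]
        rfl
      map_mul' := fun a b => DFunLike.ext _ _ fun w => by
        obtain ⟨x, hx⟩ := QuotientGroup.mk_surjective (Additive.toMul w)
        obtain rfl : w = Additive.ofMul (QuotientGroup.mk x) := (congrArg Additive.ofMul hx).symm
        show Additive.ofMul (QuotientGroup.mk (MulAut.conjNormal ((a * b : H) : G) x) : M ⧸ LM) =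
          Additive.ofMul (QuotientGroup.mk (MulAut.conjNormal (a : G) (MulAut.conjNormal (b : G) x)) : M ⧸ LM)
        rw [Subgroup.coe_mul, map_mul]
        rfl }
  have hσ₀ : ∀ (h : H) (x : M), σ₀ h (Additive.ofMul (QuotientGroup.mk x)) =
      Additive.ofMul (QuotientGroup.mk (MulAut.conjNormal (h : G) x) : M ⧸ LM) := fun _ _ => rfl
  -- the kernel is `L`
  set C := σ₀.toHomUnits.ker.map H.subtype with hC
  have hCmem : ∀ c ∈ C, c ∈ H ∧ ∀ m ∈ M, m⁻¹ * (c * m * c⁻¹) ∈ L := by
    rintro c ⟨h, hh, rfl⟩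
    refine ⟨h.2, fun m hm => ?_⟩
    have h1 : σ₀ h = 1 := congrArg Units.val (MonoidHom.mem_ker.mp hh)
    have h2 := congrArg Additive.toMul ((hσ₀ h ⟨m, hm⟩).symm.trans
      (congrArg (fun e : AddMonoid.End V => e (Additive.ofMul (QuotientGroup.mk ⟨m, hm⟩))) h1))
    have h3 := QuotientGroup.eq.mp h2.symm
    have h4 : ((⟨m, hm⟩ : M)⁻¹ * MulAut.conjNormal (h : G) ⟨m, hm⟩ : M).1 ∈ L := h3
    simpa using h4
  have hCcomm : ∀ c ∈ C, ∀ m ∈ M, m * c * m⁻¹ * c⁻¹ ∈ L := by
    intro c hc m hm
    have := (hCmem c hc).2 m⁻¹ (M.inv_mem hm)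
    simpa [mul_assoc] using this
  have hLC : L ≤ C := by
    intro l hl
    refine ⟨⟨l, hLH hl⟩, MonoidHom.mem_ker.mpr (Units.ext (DFunLike.ext _ _ fun w => ?_)), rfl⟩
    obtain ⟨x, hx⟩ := QuotientGroup.mk_surjective (Additive.toMul w)
    obtain rfl : w = Additive.ofMul (QuotientGroup.mk x) := (congrArg Additive.ofMul hx).symm
    refine (hσ₀ ⟨l, hLH hl⟩ x).trans (congrArg Additive.ofMul (QuotientGroup.eq.mpr ?_))
    show ((((MulAut.conjNormal l x : M))⁻¹ * x : M) : G) ∈ L
    rw [Subgroup.coe_mul, Subgroup.coe_inv, MulAut.conjNormal_apply,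
      show (l * (x : G) * l⁻¹)⁻¹ * x = l * ((x : G)⁻¹ * l⁻¹ * x) by group]
    exact L.mul_mem hl (by simpa using hLn.conj_mem _ (L.inv_mem hl) (x : G)⁻¹)
  have hCL : C ≤ L := by
    haveI : C.Normal := ⟨fun c hc g => by
      obtain ⟨m, hm, h, hh, rfl⟩ := hdec g
      have h1 : h * c * h⁻¹ ∈ C := by
        obtain ⟨c', hc', e⟩ := Subgroup.mem_map.mp hc
        refine Subgroup.mem_map.mpr ⟨(⟨h, hh⟩ : H) * c' * (⟨h, hh⟩ : H)⁻¹,
          (MonoidHom.normal_ker σ₀.toHomUnits).conj_mem c' hc' _, ?_⟩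
        rw [map_mul, map_mul, map_inv, e]
        rfl
      rw [show m * h * c * (m * h)⁻¹ =
        (m * (h * c * h⁻¹) * m⁻¹ * (h * c * h⁻¹)⁻¹) * (h * c * h⁻¹) by group]
      exact C.mul_mem (hLC (hCcomm _ h1 m hm)) h1⟩
    exact Subgroup.normal_le_normalCore.mpr fun c hc => (hCmem c hc).1
  have hker : σ₀.toHomUnits.ker = LH := by
    ext h
    rw [hLH', Subgroup.mem_subgroupOf]
    refine ⟨fun hh => hCL ⟨h, hh, rfl⟩, fun hh => ?_⟩
    obtain ⟨h', hh', e⟩ := hLC hh
    rwa [← Subtype.ext e]
  let X := H ⧸ σ₀.toHomUnits.ker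
  let ρ : X →* AddMonoid.End V := (Units.coeHom _).comp (QuotientGroup.kerLift σ₀.toHomUnits)
  have hρ : Function.Injective ρ := Units.val_injective.comp (QuotientGroup.kerLift_injective _)
  have hcardX : Nat.card X = M.index := by
    rw [← hrelH]
    show Nat.card (H ⧸ σ₀.toHomUnits.ker) = _
    rw [← Subgroup.index_eq_card, hker]
    rfl
  have hcardV : Nat.card V = p ^ k := hMk
  haveI : Nontrivial V := by
    rw [← Finite.one_lt_card_iff_nontrivial, hcardV, ← hMk]
    have h0 : 0 < L.relIndex M := by rw [hMk]; exact pow_pos hp.pos k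
    rcases Nat.lt_or_ge 1 (L.relIndex M) with h | h
    · exact h
    · exact absurd (Subgroup.relIndex_eq_one.mp (by omega)) hLM.not_ge
  have hirr : ∀ W : AddSubgroup V, (∀ g, ∀ x ∈ W, ρ g x ∈ W) → W = ⊥ ∨ W = ⊤ := by
    intro W hW
    set N : Subgroup G := (W.toSubgroup'.comap (QuotientGroup.mk' LM)).map M.subtype with hN
    have hNmem : ∀ x : M, (x : G) ∈ N ↔ Additive.ofMul (QuotientGroup.mk x : M ⧸ LM) ∈ W := fun x =>
      ⟨fun ⟨y, hy, e⟩ => (Subtype.ext e : y = x) ▸ hy, fun hx => ⟨x, hx, rfl⟩⟩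
    have hNM : N ≤ M := Subgroup.map_subtype_le _
    have hLN : L ≤ N := fun l hl => by
      refine (hNmem ⟨l, hLM.le hl⟩).mpr ?_
      rw [(QuotientGroup.eq_one_iff (⟨l, hLM.le hl⟩ : M)).mpr hl]
      exact W.zero_mem
    have hNn : N.Normal := ⟨fun c hc g => by
      obtain ⟨m, hm, h, hh, rfl⟩ := hdec g
      have hcM := hNM hc
      have h1 : h * c * h⁻¹ ∈ N := by
        have := (hNmem (MulAut.conjNormal h ⟨c, hcM⟩)).mpr (hW (QuotientGroup.mk ⟨h, hh⟩) _ ((hNmem ⟨c, hcM⟩).mp hc))
        rwa [MulAut.conjNormal_apply] at this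
      rw [show m * h * c * (m * h)⁻¹ =
        (m * (h * c * h⁻¹) * m⁻¹ * (h * c * h⁻¹)⁻¹) * (h * c * h⁻¹) by group]
      exact N.mul_mem (hLN (hMab m hm _ (hNM h1))) h1⟩
    rcases hMmin N hNn hLN hNM with e | e
    · refine Or.inl ((AddSubgroup.eq_bot_iff_forall W).mpr fun w hw => ?_)
      obtain ⟨x, hx⟩ := QuotientGroup.mk_surjective (Additive.toMul w)
      obtain rfl : w = Additive.ofMul (QuotientGroup.mk x) := (congrArg Additive.ofMul hx).symm
      have hxL : (x : G) ∈ L := e ▸ (hNmem x).mpr hw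
      rw [(QuotientGroup.eq_one_iff x).mpr hxL]
      rfl
    · refine Or.inr (eq_top_iff.mpr fun w _ => ?_)
      obtain ⟨x, hx⟩ := QuotientGroup.mk_surjective (Additive.toMul w)
      obtain rfl : w = Additive.ofMul (QuotientGroup.mk x) := (congrArg Additive.ofMul hx).symm
      exact (hNmem x).mp (e.symm ▸ x.2)
  have hexp : ∀ v : V, p • v = 0 := by
    let T : AddSubgroup V :=
      { carrier := {v | p • v = 0}
        zero_mem' := nsmul_zero p
        add_mem' := fun {a b} ha hb => by
          show p • (a + b) = 0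
          rw [nsmul_add, ha, hb, add_zero]
        neg_mem' := fun {a} ha => by
          show p • (-a) = 0
          rw [neg_nsmul, ha, neg_zero] }
    have hT : T = ⊤ := by
      refine (hirr T fun g x hx => ?_).resolve_left fun h => ?_
      · show p • ρ g x = 0
        rw [← map_nsmul, (hx : p • x = 0), map_zero]
      · have hpd : p ∣ Nat.card V := by
          rw [hcardV]
          refine dvd_pow_self p fun hk => ?_
          have h1 := Finite.one_lt_card (α := V)
          rw [hcardV, hk, pow_zero] at h1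
          exact lt_irrefl 1 h1
        obtain ⟨x, hx⟩ := exists_prime_addOrderOf_dvd_card' p hpd
        have hxT : x ∈ T := show p • x = 0 from hx ▸ addOrderOf_nsmul_eq_zero x
        rw [h, AddSubgroup.mem_bot] at hxT
        rw [hxT, addOrderOf_zero] at hx
        exact hp.ne_one hx.symm
    exact fun v => (hT ▸ AddSubgroup.mem_top v : v ∈ T)
  haveI : Group.IsSolvable X := inferInstance
  have hbound := LinearPPart.ppart_bound inferInstance
    (LinearPPart.pfree_of_irreducible hexp ρ hρ hirr) hexp ρ hρ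
  have hk : p ^ k ≤ LinearPPart.ppart p X := by
    rw [LinearPPart.ppart, hcardX]
    exact Nat.pow_le_pow_right hp.pos
      ((hp.pow_dvd_iff_le_factorization M.index_ne_zero_of_finite).mp hdvd)
  rw [hcardV] at hbound
  have h5 : p * p ^ k ≤ p ^ k := (Nat.mul_le_mul_left p hk).trans hbound
  have h6 := lt_mul_of_one_lt_left (pow_pos hp.pos k) hp.one_lt
  omega

end CfsgLib.Char
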