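import Cfsg.Agent.Lib.Char.Indicator
import Cfsg.Agent.Lib.Char.Central

/-!
# Indicator one is realisability over the reals
-/

set_option autoImplicit false
set_option linter.unusedSectionVars false

namespace CfsgLib.Char.RealRep

open Cfsg CfsgLib.FSCount Module Matrix
open scoped ComplexConjugate CfsgLib.Char

variable {G : Type*} [Group G] [Fintype G]

/-- A positive invariant hermitian form. -/
theorem exists_form {n : ℕ} (ρ : Representation ℂ G (Fin n → ℂ)) :
    ∃ H : Matrix (Fin n) (Fin n) ℂ, Hᴴ = H ∧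
      (∀ g, H * LinearMap.toMatrix' (ρ g) = (LinearMap.toMatrix' (ρ g⁻¹))ᴴ * H) ∧
      ∀ v : Fin n → ℂ, v ≠ 0 → ∃ r : ℝ, 0 < r ∧ star v ⬝ᵥ (H *ᵥ v) = r := by
  classical
  set A : G → Matrix (Fin n) (Fin n) ℂ := fun g => LinearMap.toMatrix' (ρ g) with hA
  have hmul : ∀ a b, A (a * b) = A a * A b := fun a b => by
    simp only [hA, map_mul, Module.End.mul_eq_comp, LinearMap.toMatrix'_comp]
  have hone : A 1 = 1 := by simp only [hA, map_one]; exact LinearMap.toMatrix'_id
  set H := ∑ g, (A g)ᴴ * A g with hH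
  have hinv : ∀ h, (A h)ᴴ * H * A h = H := by
    intro h
    rw [hH, Matrix.mul_sum, Matrix.sum_mul]
    refine Fintype.sum_equiv (Equiv.mulRight h) _ _ fun g => ?_
    simp only [Equiv.coe_mulRight, hmul, Matrix.conjTranspose_mul, Matrix.mul_assoc]
  refine ⟨H, ?_, fun g => ?_, fun v hv => ?_⟩
  · rw [hH, Matrix.conjTranspose_sum]
    exact Finset.sum_congr rfl fun g _ => by simp
  · show H * A g = (A g⁻¹)ᴴ * H
    conv_rhs => rw [← hinv g]
    rw [← Matrix.mul_assoc, ← Matrix.mul_assoc, ← Matrix.conjTranspose_mul, ← hmul, mul_inv_cancel, hone,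
      Matrix.conjTranspose_one, Matrix.one_mul]
  · refine ⟨∑ g, ∑ i, Complex.normSq ((A g *ᵥ v) i), ?_, ?_⟩
    · obtain ⟨i, hi⟩ := Function.ne_iff.mp hv
      refine Finset.sum_pos' (fun g _ => Finset.sum_nonneg fun j _ => Complex.normSq_nonneg _)
        ⟨1, Finset.mem_univ _, Finset.sum_pos' (fun j _ => Complex.normSq_nonneg _)
          ⟨i, Finset.mem_univ _, ?_⟩⟩
      rw [hone, Matrix.one_mulVec]
      exact Complex.normSq_pos.mpr hi
    · rw [hH, Matrix.sum_mulVec, dotProduct_sum, Complex.ofReal_sum]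
      refine Finset.sum_congr rfl fun g _ => ?_
      rw [← Matrix.mulVec_mulVec, Matrix.dotProduct_mulVec, ← Matrix.star_mulVec, Complex.ofReal_sum]
      refine Finset.sum_congr rfl fun i _ => ?_
      rw [Complex.normSq_eq_conj_mul_self]
      rfl

/-- A symmetric invariant tensor gives a real form. -/
theorem exists_real {n : ℕ} (ρ : Representation ℂ G (Fin n → ℂ)) [ρ.IsIrreducible]
    {X : Matrix (Fin n) (Fin n) ℂ} (hX0 : X ≠ 0) (hXT : X.transpose = X)
    (hX : ∀ g, congr ρ g X = X) :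
    ∃ (m : ℕ) (σ : Representation ℝ G (Fin m → ℝ)), ∀ g : G,
      ((LinearMap.trace ℝ (Fin m → ℝ) (σ g) : ℝ) : ℂ) = ρ.character g := by
  classical
  obtain ⟨H, hHh, hHinv, hHpos⟩ := exists_form ρ
  set A : G → Matrix (Fin n) (Fin n) ℂ := fun g => LinearMap.toMatrix' (ρ g) with hA
  have hAv : ∀ g v, A g *ᵥ v = ρ g v := fun g v => by
    rw [← Matrix.toLin'_apply, hA]; simp
  let J : (Fin n → ℂ) → (Fin n → ℂ) := fun v => X *ᵥ star (H *ᵥ v)
  have hJadd : ∀ u v, J (u + v) = J u + J v := fun u v => by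
    simp [J, Matrix.mulVec_add, star_add]
  have hJsmul : ∀ (c : ℂ) v, J (c • v) = conj c • J v := fun c v => by
    simp [J, Matrix.mulVec_smul, star_smul]
  have hJcomm : ∀ g v, J (ρ g v) = ρ g (J v) := by
    intro g v
    have hcomm : A g * X = X * (A g⁻¹).transpose := by
      have hAB : (A g).transpose * (A g⁻¹).transpose = 1 := by
        rw [← Matrix.transpose_mul, hA]
        simp only
        rw [← LinearMap.toMatrix'_comp, ← Module.End.mul_eq_comp, ← map_mul, inv_mul_cancel, map_one]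
        simp
      have h1 : A g * X * (A g).transpose = X := hX g
      calc A g * X = A g * X * ((A g).transpose * (A g⁻¹).transpose) := by rw [hAB, Matrix.mul_one]
        _ = X * (A g⁻¹).transpose := by rw [← Matrix.mul_assoc, h1]
    have h2 : H *ᵥ (A g *ᵥ v) = (A g⁻¹)ᴴ *ᵥ (H *ᵥ v) := by
      rw [Matrix.mulVec_mulVec, Matrix.mulVec_mulVec]
      exact congrArg (· *ᵥ v) (hHinv g)
    rw [← hAv g v, ← hAv g (J v)]
    show X *ᵥ star (H *ᵥ (A g *ᵥ v)) = A g *ᵥ (X *ᵥ star (H *ᵥ v))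
    rw [h2, Matrix.star_mulVec, Matrix.conjTranspose_conjTranspose, ← Matrix.mulVec_transpose,
      Matrix.mulVec_mulVec, Matrix.mulVec_mulVec, hcomm]
  let T : (Fin n → ℂ) →ₗ[ℂ] (Fin n → ℂ) :=
    { toFun := fun v => J (J v)
      map_add' := fun u v => by rw [hJadd, hJadd]
      map_smul' := fun c v => by rw [hJsmul, hJsmul, Complex.conj_conj]; rfl }
  let T' : Representation.IntertwiningMap ρ ρ := ⟨T, fun g => LinearMap.ext fun v => by
    show J (J (ρ g v)) = ρ g (J (J v))
    rw [hJcomm, hJcomm]⟩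
  obtain ⟨c, hc⟩ := (Representation.IsIrreducible.algebraMap_intertwiningMap_bijective_of_isAlgClosed
    (ρ := ρ)).2 T'
  have hJJ : ∀ v, J (J v) = c • v := fun v => by
    show T'.toLinearMap v = _
    rw [← hc, Algebra.algebraMap_eq_smul_one]
    rfl
  have hq : ∀ v, star v ⬝ᵥ (H *ᵥ J (J v)) = star (J v) ⬝ᵥ (H *ᵥ J v) := by
    intro v
    have hsw : ∀ u w : Fin n → ℂ, star u ⬝ᵥ (H *ᵥ w) = star (H *ᵥ u) ⬝ᵥ w := fun u w => by
      rw [Matrix.dotProduct_mulVec, Matrix.star_mulVec, hHh]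
    rw [hsw v (J (J v)), hsw (J v) (J v)]
    show star (H *ᵥ v) ⬝ᵥ (X *ᵥ star (H *ᵥ J v)) = star (H *ᵥ J v) ⬝ᵥ (X *ᵥ star (H *ᵥ v))
    rw [Matrix.dotProduct_mulVec, dotProduct_comm]
    congr 1
    rw [← Matrix.mulVec_transpose, hXT]
  obtain ⟨r, hr0, hcr⟩ : ∃ r : ℝ, 0 < r ∧ c = r := by
    obtain ⟨v, hv⟩ : ∃ v, J v ≠ 0 := by
      by_contra hno
      push_neg at hno
      refine hX0 (Matrix.toLin'.injective ?_)
      rw [map_zero]
      refine LinearMap.ext fun w => ?_
      have hinjH : Function.Injective (Matrix.toLin' H) := by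
        rw [← LinearMap.ker_eq_bot]
        refine LinearMap.ker_eq_bot'.mpr fun u hu => ?_
        by_contra hu0
        obtain ⟨r, hr, e⟩ := hHpos u hu0
        rw [← Matrix.toLin'_apply, hu, dotProduct_zero] at e
        exact hr.ne' (Complex.ofReal_eq_zero.mp e.symm)
      obtain ⟨u, hu⟩ := LinearMap.injective_iff_surjective.mp hinjH (star w)
      rw [Matrix.toLin'_apply] at hu ⊢
      rw [← star_star w, ← hu]
      exact hno u
    have hv0 : v ≠ 0 := fun h => hv (by rw [h]; simp [J])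
    obtain ⟨r₁, h₁, e₁⟩ := hHpos v hv0
    obtain ⟨r₂, h₂, e₂⟩ := hHpos (J v) hv
    have h := hq v
    rw [hJJ, Matrix.mulVec_smul, dotProduct_smul, e₁, e₂, smul_eq_mul] at h
    refine ⟨r₂ / r₁, div_pos h₂ h₁, ?_⟩
    rw [Complex.ofReal_div, eq_div_iff (Complex.ofReal_ne_zero.mpr h₁.ne')]
    exact h
  set s : ℂ := (((Real.sqrt r)⁻¹ : ℝ) : ℂ) with hs
  have hsc : conj s = s := Complex.conj_ofReal _
  have hss : s * s * c = 1 := by
    rw [hcr, hs, ← Complex.ofReal_mul, ← Complex.ofReal_mul, ← Complex.ofReal_one]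
    congr 1
    rw [← mul_inv, Real.mul_self_sqrt hr0.le, inv_mul_cancel₀ hr0.ne']
  let K : (Fin n → ℂ) → (Fin n → ℂ) := fun v => s • J v
  have hKadd : ∀ u v, K (u + v) = K u + K v := fun u v => by simp [K, hJadd, smul_add]
  have hKsmul : ∀ (a : ℂ) v, K (a • v) = conj a • K v := fun a v => by
    simp only [K, hJsmul, smul_smul, mul_comm]
  have hKK : ∀ v, K (K v) = v := fun v => by
    simp only [K, hJsmul, hsc, smul_smul, hJJ]
    rw [← mul_assoc, hss, one_smul]
  have hKsum : ∀ (t : Finset (Fin n)) (f : Fin n → Fin n → ℂ), K (∑ i ∈ t, f i) = ∑ i ∈ t, K (f i) := by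
    intro t f
    induction t using Finset.induction_on with
    | empty =>
      have h := hKsmul 0 0
      simpa using h
    | insert a t ha ih => rw [Finset.sum_insert ha, Finset.sum_insert ha, hKadd, ih]
  set S : Set (Fin n → ℂ) := {v | K v = v} with hS
  have hspan : Submodule.span ℂ S = ⊤ := by
    rw [eq_top_iff]
    intro v _
    have h1 : v + K v ∈ S := by
      show K (v + K v) = v + K v
      rw [hKadd, hKK, add_comm]
    have h2 : (-Complex.I) • (v - K v) ∈ S := by
      show K _ = _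
      rw [sub_eq_add_neg, ← neg_one_smul ℂ (K v), hKsmul, hKadd, hKsmul, hKK, map_neg, map_neg,
        Complex.conj_I, map_one]
      module
    have e : v = (2 : ℂ)⁻¹ • (v + K v) + ((2 : ℂ)⁻¹ * Complex.I) • ((-Complex.I) • (v - K v)) := by
      rw [smul_smul, show (2 : ℂ)⁻¹ * Complex.I * -Complex.I = (2 : ℂ)⁻¹ by
        rw [mul_assoc, mul_neg, Complex.I_mul_I]; ring]
      module
    rw [e]
    exact add_mem (Submodule.smul_mem _ _ (Submodule.subset_span h1))
      (Submodule.smul_mem _ _ (Submodule.subset_span h2))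
  obtain ⟨B, hBS, hBspan, hBli⟩ := exists_linearIndependent ℂ S
  let b₀ : Basis B ℂ (Fin n → ℂ) := Basis.mk hBli (by
    rw [Subtype.range_coe_subtype, Set.setOf_mem_eq, hBspan, hspan])
  let b : Basis (Fin n) ℂ (Fin n → ℂ) := b₀.reindex (b₀.indexEquiv (Pi.basisFun ℂ (Fin n)))
  have hbK : ∀ j, K (b j) = b j := fun j => by
    simp only [b, Basis.reindex_apply, b₀, Basis.coe_mk]
    exact hBS (Subtype.mem _)
  have hreal : ∀ (g : G) (i j : Fin n), conj (b.repr (ρ g (b j)) i) = b.repr (ρ g (b j)) i := by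
    intro g i j
    have hfix : K (ρ g (b j)) = ρ g (b j) := by
      have h : K (ρ g (b j)) = ρ g (K (b j)) := by simp only [K, hJcomm, map_smul]
      rwa [hbK] at h
    have e : ∑ k, conj (b.repr (ρ g (b j)) k) • b k = ρ g (b j) := by
      conv_rhs => rw [← hfix, ← b.sum_repr (ρ g (b j)), hKsum]
      refine Finset.sum_congr rfl fun k _ => ?_
      rw [hKsmul, hbK]
    conv_rhs => rw [← e]
    rw [b.repr_sum_self]
  let R : G → Matrix (Fin n) (Fin n) ℝ := fun g =>
    Matrix.of fun i j => (b.repr (ρ g (b j)) i).re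
  have hR : ∀ g, (R g).map (fun x : ℝ => (x : ℂ)) = LinearMap.toMatrix b b (ρ g) := fun g => by
    ext i j
    rw [Matrix.map_apply, LinearMap.toMatrix_apply]
    exact Complex.conj_eq_iff_re.mp (hreal g i j)
  have hinjm : Function.Injective fun M : Matrix (Fin n) (Fin n) ℝ => M.map (fun x : ℝ => (x : ℂ)) :=
    Matrix.map_injective Complex.ofReal_injective
  have hRone : R 1 = 1 := hinjm (by
    show (R 1).map _ = (1 : Matrix (Fin n) (Fin n) ℝ).map _
    rw [hR, map_one, LinearMap.toMatrix_one, Matrix.map_one _ Complex.ofReal_zero Complex.ofReal_one])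
  have hRmul : ∀ g h, R (g * h) = R g * R h := fun g h => hinjm (by
    show (R (g * h)).map _ = (R g * R h).map _
    rw [hR, map_mul, LinearMap.toMatrix_mul, ← hR, ← hR]
    exact (Matrix.map_mul (f := Complex.ofRealHom)).symm)
  let σ : Representation ℝ G (Fin n → ℝ) :=
    { toFun := fun g => Matrix.toLin' (R g)
      map_one' := by rw [hRone, Matrix.toLin'_one]; rfl
      map_mul' := fun g h => by rw [hRmul, Matrix.toLin'_mul]; rfl }
  refine ⟨n, σ, fun g => ?_⟩
  show ((LinearMap.trace ℝ (Fin n → ℝ) (Matrix.toLin' (R g)) : ℝ) : ℂ) = LinearMap.trace ℂ _ (ρ g)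
  rw [LinearMap.trace_eq_matrix_trace ℂ b, ← hR,
    LinearMap.trace_eq_matrix_trace ℝ (Pi.basisFun ℝ (Fin n)), LinearMap.toMatrix_eq_toMatrix',
    LinearMap.toMatrix'_toLin']
  simp [Matrix.trace]

/-- An irreducible character afforded by a real representation has indicator one. -/
theorem indicator_eq_one_of_real {χ : G → ℂ} (hχ : IsIrrCharacter G χ) {m : ℕ}
    (σ : Representation ℝ G (Fin m → ℝ))
    (hσ : ∀ g : G, ((LinearMap.trace ℝ (Fin m → ℝ) (σ g) : ℝ) : ℂ) = χ g) : indicator χ = 1 := by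
  classical
  set M : G → Matrix (Fin m) (Fin m) ℂ := fun g =>
    (LinearMap.toMatrix' (σ g)).map Complex.ofRealHom with hM
  have hone : M 1 = 1 := by
    simp only [hM, map_one]
    rw [show LinearMap.toMatrix' (1 : Module.End ℝ (Fin m → ℝ)) = 1 from LinearMap.toMatrix'_id]
    simp
  have hmul : ∀ g h, M (g * h) = M g * M h := fun g h => by
    simp only [hM, map_mul, Module.End.mul_eq_comp, LinearMap.toMatrix'_comp, Matrix.map_mul]
  let ρ : Representation ℂ G (Fin m → ℂ) :=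
    { toFun := fun g => Matrix.toLin' (M g)
      map_one' := by rw [hone, Matrix.toLin'_one]; rfl
      map_mul' := fun g h => by rw [hmul, Matrix.toLin'_mul]; rfl }
  have hχρ : ρ.character = χ := funext fun g => by
    rw [← hσ g]
    show LinearMap.trace ℂ _ (Matrix.toLin' (M g)) = _
    rw [LinearMap.trace_eq_matrix_trace ℂ (Pi.basisFun ℂ (Fin m)), LinearMap.toMatrix_eq_toMatrix',
      LinearMap.toMatrix'_toLin', LinearMap.trace_eq_matrix_trace ℝ (Pi.basisFun ℝ (Fin m)),
      LinearMap.toMatrix_eq_toMatrix']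
    simp [hM, Matrix.trace]
  have hreal : ∀ g, (χ g).im = 0 := fun g => by rw [← hσ g]; exact Complex.ofReal_im _
  obtain ⟨P, a, b, ha, hba, hi, hP, haP, hskew, -⟩ := indicator_eq ρ
  have hc := classInner_conj_cases hχ
  rw [if_pos hreal, ← hχρ, ha, Nat.cast_eq_one] at hc
  subst hc
  rw [hχρ] at hi
  rcases Nat.le_one_iff_eq_zero_or_eq_one.mp hba with rfl | rfl
  swap
  · rw [hi]; norm_num
  exfalso
  obtain ⟨X₀, hX0, hX0T, hfix0⟩ := hskew Nat.zero_lt_one
  -- the symmetric tensor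
  set X : Matrix (Fin m) (Fin m) ℂ := ∑ g, M g * (M g).transpose with hX
  have hρM : ∀ g, LinearMap.toMatrix' (ρ g) = M g := fun g => LinearMap.toMatrix'_toLin' _
  have hfix : ∀ h, congr ρ h X = X := fun h => by
    show LinearMap.toMatrix' (ρ h) * X * (LinearMap.toMatrix' (ρ h)).transpose = X
    rw [hρM, hX, Matrix.mul_sum, Matrix.sum_mul]
    refine Fintype.sum_equiv (Equiv.mulLeft h) _ _ fun g => ?_
    simp only [Equiv.coe_mulLeft, hmul, Matrix.transpose_mul, Matrix.mul_assoc]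
  have hXT : X.transpose = X := by
    rw [hX, Matrix.transpose_sum]
    exact Finset.sum_congr rfl fun g _ => by simp [Matrix.transpose_mul]
  have hXne : X ≠ 0 := by
    intro h0
    rcases Nat.eq_zero_or_pos m with rfl | hm
    · exact hX0 (Subsingleton.elim _ _)
    have e := congrFun (congrFun h0 ⟨0, hm⟩) ⟨0, hm⟩
    rw [hX, Matrix.sum_apply, Matrix.zero_apply] at e
    simp only [Matrix.mul_apply, Matrix.transpose_apply, hM, Matrix.map_apply, ← map_mul, ← map_sum] at e
    have e' : ∑ g, ∑ k, LinearMap.toMatrix' (σ g) ⟨0, hm⟩ k * LinearMap.toMatrix' (σ g) ⟨0, hm⟩ k = 0 :=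
      Complex.ofReal_eq_zero.mp e
    have h1 := (Finset.sum_eq_zero_iff_of_nonneg fun g _ =>
      Finset.sum_nonneg fun k _ => mul_self_nonneg _).mp e' 1 (Finset.mem_univ _)
    have h2 := (Finset.sum_eq_zero_iff_of_nonneg fun k _ => mul_self_nonneg _).mp h1 ⟨0, hm⟩
      (Finset.mem_univ _)
    rw [map_one, show LinearMap.toMatrix' (1 : Module.End ℝ (Fin m → ℝ)) = 1 from LinearMap.toMatrix'_id] at h2
    simp at h2
  have hmemP : ∀ Y, (∀ h, congr ρ h Y = Y) → Y ∈ LinearMap.range P := fun Y hY => ⟨Y, by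
    rw [hP, Finset.sum_congr rfl fun g _ => hY g, Finset.sum_const, Finset.card_univ,
      ← Nat.card_eq_fintype_card, ← Nat.cast_smul_eq_nsmul ℂ, smul_smul,
      inv_mul_cancel₀ (Nat.cast_ne_zero.mpr Nat.card_pos.ne'), one_smul]⟩
  obtain ⟨v, hv⟩ := exists_smul_eq_of_finrank_eq_one haP.symm
    (x := (⟨X, hmemP X hfix⟩ : LinearMap.range P)) (fun e => hXne (congrArg Subtype.val e))
    ⟨X₀, hmemP X₀ hfix0⟩
  have hv' : v • X = X₀ := congrArg Subtype.val hv
  have h3 : X₀.transpose = X₀ := by rw [← hv', Matrix.transpose_smul, hXT]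
  rw [hX0T] at h3
  refine hX0 ?_
  ext i j
  have h4 := congrFun (congrFun h3 i) j
  rw [Matrix.neg_apply] at h4
  rw [Matrix.zero_apply]
  linear_combination (-(1 : ℂ) / 2) * h4

/-- The criterion. -/
theorem indicator_eq_one_iff {χ : G → ℂ} (hχ : IsIrrCharacter G χ) :
    indicator χ = 1 ↔ ∃ (m : ℕ) (σ : Representation ℝ G (Fin m → ℝ)),
      ∀ g : G, ((LinearMap.trace ℝ (Fin m → ℝ) (σ g) : ℝ) : ℂ) = χ g := by
  classical
  refine ⟨fun h => ?_, fun ⟨m, σ, hσ⟩ => indicator_eq_one_of_real hχ σ hσ⟩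
  have hreal : ∀ g, (χ g).im = 0 := by
    rcases indicator_cases hχ with ⟨hr, -⟩ | ⟨-, h0⟩
    · exact hr
    · rw [h0] at h; exact absurd h zero_ne_one
  have hc := classInner_conj_cases hχ
  obtain ⟨n, ρ, hρ, rfl⟩ := hχ
  haveI := hρ
  obtain ⟨P, a, b, ha, hba, hi, hP, haP, -, hsym⟩ := indicator_eq ρ
  rw [if_pos hreal, ha, Nat.cast_eq_one] at hc
  subst hc
  have hb : b = 1 := by
    interval_cases b
    · rw [hi] at h; norm_num at h
    · rfl
  haveI : Nontrivial (LinearMap.range P) := Module.nontrivial_of_finrank_pos (R := ℂ) (by rw [← haP]; exact one_pos)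
  obtain ⟨⟨X, Y, hY⟩, hX0⟩ := exists_ne (0 : LinearMap.range P)
  have hfix : ∀ g, congr ρ g X = X := fun g => by
    rw [← hY, hP, map_smul, map_sum]
    congr 1
    refine Fintype.sum_equiv (Equiv.mulLeft g) _ _ fun x => ?_
    simp only [Equiv.coe_mulLeft, map_mul, Module.End.mul_apply]
  exact exists_real ρ (fun e => hX0 (Subtype.ext e)) (hsym hb X hfix) hfix

end CfsgLib.Char.RealRep
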