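import Cfsg.Agent.Lib.Char.BrauerInd
import Cfsg.Agent.Lib.Char.Table
import Mathlib.LinearAlgebra.Matrix.ToLin
import Mathlib.RepresentationTheory.Maschke

/-!
# Realizing characters over a subfield of `ℂ`

If the linear characters of all subgroups take values in a subfield `K`, every character is
afforded by a representation over `K` (Brauer): it is a difference of two such by induction from
linear characters, and a difference which is irreducible is afforded.
-/

set_option autoImplicit false
set_option linter.unusedSectionVars false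

namespace CfsgLib.Realize

open Module Representation Cfsg CfsgLib
open scoped ComplexConjugate CfsgLib.Char

variable {G : Type*} [Group G] (K : IntermediateField ℚ ℂ)

/-- The character is afforded over `K`. -/
def Realizable (χ : G → ℂ) : Prop :=
  ∃ (n : ℕ) (r : Representation K G (Fin n → K)), ∀ g, ((r.character g : K) : ℂ) = χ g

variable {K}

theorem exists_rep_fin {V : Type*} [AddCommGroup V] [Module K V] [FiniteDimensional K V]
    (r : Representation K G V) :
    ∃ σ : Representation K G (Fin (finrank K V) → K), σ.character = r.character := by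
  let e : V ≃ₗ[K] (Fin (finrank K V) → K) := (Module.finBasis K V).equivFun
  let σ : Representation K G (Fin (finrank K V) → K) :=
    { toFun := fun g => e.toLinearMap ∘ₗ r g ∘ₗ e.symm.toLinearMap
      map_one' := LinearMap.ext fun w => by simp
      map_mul' := fun a b => LinearMap.ext fun w => by simp }
  have he : r.Equiv σ := Representation.Equiv.mk e fun g => LinearMap.ext fun v => by simp [σ]
  exact ⟨σ, (char_iso he).symm⟩

theorem realizable_of_rep {V : Type*} [AddCommGroup V] [Module K V] [FiniteDimensional K V]
    (r : Representation K G V) : Realizable K (fun g => ((r.character g : K) : ℂ)) := by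
  obtain ⟨σ, hσ⟩ := exists_rep_fin r
  exact ⟨_, σ, fun g => by rw [hσ]⟩

theorem realizable_zero : Realizable K (0 : G → ℂ) := by
  refine ⟨0, 1, fun g => ?_⟩
  show ((LinearMap.trace K (Fin 0 → K) _ : K) : ℂ) = 0
  rw [Subsingleton.elim ((1 : Representation K G (Fin 0 → K)) g) 0, map_zero]
  rfl

theorem realizable_add {a b : G → ℂ} (ha : Realizable K a) (hb : Realizable K b) :
    Realizable K (a + b) := by
  obtain ⟨n, r, hr⟩ := ha
  obtain ⟨m, s, hs⟩ := hb
  convert realizable_of_rep (r.prod s) using 1
  funext g
  rw [Pi.add_apply, ← hr, ← hs, show (r.prod s).character g = r.character g + s.character g from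
    LinearMap.trace_prodMap' (r g) (s g)]
  push_cast
  rfl

variable (K)

/-- Differences of afforded characters. -/
def virt (G : Type*) [Group G] : AddSubgroup (G → ℂ) where
  carrier := {χ | ∃ a b, Realizable K a ∧ Realizable K b ∧ χ = a - b}
  zero_mem' := ⟨0, 0, realizable_zero, realizable_zero, (sub_zero _).symm⟩
  add_mem' := by
    rintro _ _ ⟨a, b, ha, hb, rfl⟩ ⟨c, d, hc, hd, rfl⟩
    exact ⟨a + c, b + d, realizable_add ha hc, realizable_add hb hd, by abel⟩
  neg_mem' := by
    rintro _ ⟨a, b, ha, hb, rfl⟩
    exact ⟨b, a, hb, ha, by abel⟩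

variable {K} [Fintype G]

/-- Monomial representations. -/
theorem realizable_indFun (H : Subgroup G) (lam : H →* ℂˣ) (hK : ∀ h, (lam h : ℂ) ∈ K) :
    Realizable K (indFun H (fun h => (lam h : ℂ))) := by
  classical
  haveI : Fintype (G ⧸ H) := Fintype.ofFinite _
  set φ : H → ℂ := fun h => (lam h : ℂ) with hφ
  have hmem : ∀ y, extendByZero H φ y ∈ K := fun y => by
    by_cases hy : y ∈ H
    · rw [Char.extendByZero_mem H φ hy]; exact hK _
    · rw [Char.extendByZero_notMem H φ hy]; exact K.zero_mem
  have hmul : ∀ {y z : G}, z ∈ H →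
      extendByZero H φ (y * z) = extendByZero H φ y * extendByZero H φ z := by
    intro y z hz
    by_cases hy : y ∈ H
    · rw [Char.extendByZero_mem H φ hy, Char.extendByZero_mem H φ hz,
        Char.extendByZero_mem H φ (H.mul_mem hy hz)]
      show ((lam (⟨y, hy⟩ * ⟨z, hz⟩) : ℂˣ) : ℂ) = _
      rw [map_mul, Units.val_mul]
    · rw [Char.extendByZero_notMem H φ hy, zero_mul,
        Char.extendByZero_notMem H φ fun h => hy (by simpa using H.mul_mem h (H.inv_mem hz))]
  let E : (G ⧸ H) → G → (G ⧸ H) → K := fun a g b => ⟨extendByZero H φ (a.out⁻¹ * g * b.out), hmem _⟩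
  let M : G →* Matrix (G ⧸ H) (G ⧸ H) K :=
    { toFun := fun g => Matrix.of fun a b => E a g b
      map_one' := by
        ext a b
        rcases eq_or_ne a b with rfl | hab
        · rw [Matrix.one_apply_eq]
          show extendByZero H φ (a.out⁻¹ * 1 * a.out) = 1
          rw [mul_one, inv_mul_cancel, Char.extendByZero_mem H φ H.one_mem]
          show ((lam (1 : H) : ℂˣ) : ℂ) = 1
          rw [map_one, Units.val_one]
        · rw [Matrix.one_apply_ne hab]
          show extendByZero H φ (a.out⁻¹ * 1 * b.out) = 0
          refine Char.extendByZero_notMem H φ fun h => hab ?_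
          rw [mul_one] at h
          rw [← QuotientGroup.out_eq' a, ← QuotientGroup.out_eq' b]
          exact QuotientGroup.eq.mpr h
      map_mul' := fun g h => by
        ext a c
        rw [Matrix.mul_apply]
        push_cast
        show extendByZero H φ (a.out⁻¹ * (g * h) * c.out) =
          ∑ b : G ⧸ H, extendByZero H φ (a.out⁻¹ * g * b.out) *
            extendByZero H φ (b.out⁻¹ * h * c.out)
        have hb0 : ((h * c.out : G) : G ⧸ H).out⁻¹ * h * c.out ∈ H := by
          rw [mul_assoc]
          exact QuotientGroup.eq.mp (QuotientGroup.out_eq' _)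
        rw [Fintype.sum_eq_single ((h * c.out : G) : G ⧸ H), ← hmul hb0]
        · congr 1
          group
        · intro b hb
          rw [Char.extendByZero_notMem H φ (x := b.out⁻¹ * h * c.out) fun hm => hb ?_, mul_zero]
          rw [← QuotientGroup.out_eq' b]
          exact QuotientGroup.eq.mpr (by rwa [← mul_assoc]) }
  convert realizable_of_rep (Matrix.toLinAlgEquiv'.toAlgHom.toMonoidHom.comp M :
    Representation K G (G ⧸ H → K)) using 1
  funext g
  have ht : LinearMap.trace K (G ⧸ H → K) (Matrix.toLinAlgEquiv' (M g)) = (M g).trace := by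
    rw [LinearMap.trace_eq_matrix_trace K (Pi.basisFun K (G ⧸ H))]
    congr 1
    exact LinearMap.toMatrix'_toLin' (M g)
  show indFun H φ g = ((LinearMap.trace K (G ⧸ H → K) (Matrix.toLinAlgEquiv' (M g)) : K) : ℂ)
  rw [ht, Matrix.trace]
  push_cast
  show (Nat.card H : ℂ)⁻¹ * ∑ x : G, extendByZero H φ (x⁻¹ * g * x) =
    ∑ a : G ⧸ H, extendByZero H φ (a.out⁻¹ * g * a.out)
  rw [← Finset.sum_fiberwise Finset.univ (fun x : G => (x : G ⧸ H))
    (fun x => extendByZero H φ (x⁻¹ * g * x)), Finset.mul_sum]
  refine Finset.sum_congr rfl fun a _ => ?_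
  have hconst : ∀ x ∈ Finset.univ.filter (fun x : G => (x : G ⧸ H) = a),
      extendByZero H φ (x⁻¹ * g * x) = extendByZero H φ (a.out⁻¹ * g * a.out) := by
    intro x hx
    have hz : (a.out)⁻¹ * x ∈ H := QuotientGroup.eq.mp
      ((QuotientGroup.out_eq' a).trans (Finset.mem_filter.mp hx).2.symm)
    obtain ⟨z, hzH, rfl⟩ : ∃ z ∈ H, x = a.out * z := ⟨_, hz, (mul_inv_cancel_left _ _).symm⟩
    set y := a.out⁻¹ * g * a.out
    rw [show (a.out * z)⁻¹ * g * (a.out * z) = z⁻¹ * y * z by simp [y, mul_assoc]]
    by_cases hy : y ∈ H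
    · have h1 := H.mul_mem (H.mul_mem (H.inv_mem hzH) hy) hzH
      rw [Char.extendByZero_mem H φ h1, Char.extendByZero_mem H φ hy]
      show ((lam ((⟨z, hzH⟩ : H)⁻¹ * ⟨y, hy⟩ * ⟨z, hzH⟩) : ℂˣ) : ℂ) = _
      rw [map_mul, map_mul, map_inv, mul_comm (lam ⟨z, hzH⟩)⁻¹, inv_mul_cancel_right]
    · rw [Char.extendByZero_notMem H φ hy, Char.extendByZero_notMem H φ fun h => hy (by
        simpa [mul_assoc] using H.mul_mem (H.mul_mem hzH h) (H.inv_mem hzH))]
  rw [Finset.sum_congr rfl hconst, Finset.sum_const, nsmul_eq_mul,
    show (Finset.univ.filter (fun x : G => (x : G ⧸ H) = a)).card = Nat.card H from ?_,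
    inv_mul_cancel_left₀ (Nat.cast_ne_zero.mpr Nat.card_pos.ne')]
  rw [← Nat.card_eq_finsetCard]
  refine Nat.card_congr
    { toFun := fun x => ⟨(a.out)⁻¹ * (x : G), QuotientGroup.eq.mp
        ((QuotientGroup.out_eq' a).trans (Finset.mem_filter.mp x.2).2.symm)⟩
      invFun := fun h => ⟨a.out * (h : G), Finset.mem_filter.mpr ⟨Finset.mem_univ _, by
        rw [QuotientGroup.mk_mul_of_mem _ h.2, QuotientGroup.out_eq']⟩⟩
      left_inv := fun x => Subtype.ext (mul_inv_cancel_left _ _)
      right_inv := fun h => Subtype.ext (inv_mul_cancel_left _ _) }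

section Cancel

variable {V W : Type*} [AddCommGroup V] [Module K V] [FiniteDimensional K V] [AddCommGroup W]
  [Module K W] [FiniteDimensional K W]

/-- The character along complementary subrepresentations. -/
theorem char_eq_add (ρ : Representation K G V) (A B : Subrepresentation ρ) (h : IsCompl A B) :
    ρ.character = A.toRepresentation.character + B.toRepresentation.character := by
  have hc : IsCompl A.toSubmodule B.toSubmodule := by
    constructor
    · rw [disjoint_iff, ← Subrepresentation.toSubmodule_inf, h.inf_eq_bot]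
      rfl
    · rw [codisjoint_iff, ← Subrepresentation.toSubmodule_sup, h.sup_eq_top]
      rfl
  funext g
  refine Eq.trans (congrFun (char_iso (Representation.Equiv.mk
    (A.toSubmodule.prodEquivOfIsCompl B.toSubmodule hc) fun g => ?_ :
      (A.toRepresentation.prod B.toRepresentation).Equiv ρ)) g).symm
    (LinearMap.trace_prodMap' (A.toRepresentation g) (B.toRepresentation g))
  refine LinearMap.ext fun p => ?_
  simp [Subrepresentation.toRepresentation, Submodule.coe_prodEquivOfIsCompl', map_add,
    Representation.prod]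

end Cancel

theorem sum_char_inv {V : Type*} [AddCommGroup V] [Module K V] [FiniteDimensional K V]
    {W : Type*} [AddCommGroup W] [Module K W] [FiniteDimensional K W]
    (r : Representation K G V) (s : Representation K G W) :
    ∑ g : G, s.character g * r.character g⁻¹ =
      (Nat.card G : K) * (finrank K (IntertwiningMap r s) : K) := by
  haveI : Invertible (Nat.card G : K) := invertibleOfNonzero (Nat.cast_ne_zero.mpr Nat.card_pos.ne')
  rw [← card_inv_mul_sum_char_mul_char_eq_finrank r s,
    mul_inv_cancel_left₀ (Nat.cast_ne_zero.mpr Nat.card_pos.ne')]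

-- An irreducible difference of afforded characters is afforded.
set_option maxHeartbeats 1600000 in
theorem realizable_irr : ∀ (N : ℕ) {n m : ℕ} (r : Representation K G (Fin n → K))
    (s : Representation K G (Fin m → K)), m = N → ∀ {χ : G → ℂ}, IsIrrCharacter G χ →
      (∀ g, χ g = (r.character g : K) - ((s.character g : K) : ℂ)) → Realizable K χ := by
  intro N
  induction N using Nat.strong_induction_on with
  | _ N ih =>
  intro n m r s hm χ hχ heq
  haveI : NeZero (Nat.card G : K) := ⟨Nat.cast_ne_zero.mpr Nat.card_pos.ne'⟩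
  haveI : Finite G := Finite.of_fintype G
  rcases Nat.eq_zero_or_pos m with rfl | hmpos
  · refine ⟨n, r, fun g => ?_⟩
    rw [heq g, show s.character g = 0 by
      show LinearMap.trace K (Fin 0 → K) (s g) = 0
      rw [Subsingleton.elim (s g) 0, map_zero]]
    simp
  by_cases hf : ∀ f : IntertwiningMap r s, f = 0
  · exfalso
    haveI : Subsingleton (IntertwiningMap r s) := ⟨fun a b => (hf a).trans (hf b).symm⟩
    have h0 : finrank K (IntertwiningMap r s) = 0 := finrank_zero_of_subsingleton
    have hrs : ∑ g : G, ((s.character g : K) : ℂ) * ((r.character g⁻¹ : K) : ℂ) = 0 := by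
      have h := congrArg (fun x : K => (x : ℂ)) (sum_char_inv r s)
      simpa [h0] using h
    have hsr : ∑ g : G, ((r.character g : K) : ℂ) * ((s.character g⁻¹ : K) : ℂ) = 0 := by
      rw [← Equiv.sum_comp (Equiv.inv G)]
      simpa [mul_comm] using hrs
    have hrr := congrArg (fun x : K => (x : ℂ)) (sum_char_inv r r)
    have hss := congrArg (fun x : K => (x : ℂ)) (sum_char_inv s s)
    push_cast at hrr hss
    have h1 := Char.classInner_irr_self hχ
    rw [classInner, Finset.sum_congr rfl (fun g _ => by
      rw [show conj (χ g) = χ g⁻¹ from by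
        obtain ⟨d, ρ, -, rfl⟩ := hχ
        exact (Char.char_value_inv ρ g).symm] :
      ∀ g ∈ Finset.univ, χ g * conj (χ g) = χ g * χ g⁻¹)] at h1
    simp only [heq, sub_mul, mul_sub, Finset.sum_sub_distrib, hrs, hsr, hrr, hss, sub_zero,
      zero_sub, sub_neg_eq_add] at h1
    rw [← mul_add, inv_mul_cancel_left₀ (Nat.cast_ne_zero.mpr Nat.card_pos.ne')] at h1
    have hid : ∀ {k : ℕ} (t : Representation K G (Fin k → K)), 0 < k →
        0 < finrank K (IntertwiningMap t t) := by
      intro k t hk
      rw [Module.finrank_pos_iff_exists_ne_zero]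
      refine ⟨⟨LinearMap.id, fun g => rfl⟩, fun h => ?_⟩
      haveI : NeZero k := ⟨hk.ne'⟩
      have h2 := LinearMap.congr_fun (congrArg IntertwiningMap.toLinearMap h) (fun _ => 1)
      exact one_ne_zero (congrFun h2 0)
    have hn : 0 < n := by
      have h2 := heq 1
      rw [Representation.char_one, Representation.char_one] at h2
      obtain ⟨d, ρ, hρ, hd⟩ := hχ
      rw [← hd, Representation.char_one] at h2
      simp only [Module.finrank_fin_fun] at h2
      push_cast at h2
      have h3 : (d : ℂ) + (m : ℕ) = (n : ℕ) := by rw [h2]; ring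
      have : d + m = n := by exact_mod_cast h3
      omega
    have hA := hid r hn
    have hB := hid s hmpos
    norm_cast at h1
    omega
  push Not at hf
  obtain ⟨f, hf0⟩ := hf
  let A : Subrepresentation r :=
    { toSubmodule := LinearMap.ker f.toLinearMap
      apply_mem_toSubmodule := fun g v hv => by
        rw [LinearMap.mem_ker] at hv ⊢
        rw [show f.toLinearMap (r g v) = s g (f.toLinearMap v) from
          LinearMap.congr_fun (f.isIntertwining' g) v, hv, map_zero] }
  let B : Subrepresentation s :=
    { toSubmodule := LinearMap.range f.toLinearMap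
      apply_mem_toSubmodule := by
        rintro g _ ⟨v, rfl⟩
        exact ⟨r g v, LinearMap.congr_fun (f.isIntertwining' g) v⟩ }
  obtain ⟨A', hA⟩ := exists_isCompl A
  obtain ⟨B', hB⟩ := exists_isCompl B
  have hcA : IsCompl (LinearMap.ker f.toLinearMap) A'.toSubmodule := by
    constructor
    · rw [disjoint_iff, show LinearMap.ker f.toLinearMap = A.toSubmodule from rfl,
        ← Subrepresentation.toSubmodule_inf, hA.inf_eq_bot]
      rfl
    · rw [codisjoint_iff, show LinearMap.ker f.toLinearMap = A.toSubmodule from rfl,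
        ← Subrepresentation.toSubmodule_sup, hA.sup_eq_top]
      rfl
  let φ : A'.toSubmodule →ₗ[K] B.toSubmodule :=
    LinearMap.codRestrict B.toSubmodule (f.toLinearMap ∘ₗ A'.toSubmodule.subtype)
      fun v => ⟨(v : Fin n → K), rfl⟩
  have hφ : Function.Bijective φ := by
    constructor
    · intro a b hab
      have h1 : f.toLinearMap (a : Fin n → K) = f.toLinearMap b := congrArg Subtype.val hab
      refine Subtype.ext (sub_eq_zero.mp ?_)
      exact Submodule.disjoint_def.mp hcA.disjoint _ (LinearMap.mem_ker.mpr (by
        rw [map_sub, h1, sub_self])) (A'.toSubmodule.sub_mem a.2 b.2)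
    · rintro ⟨_, v, rfl⟩
      obtain ⟨k, hk, a, ha, rfl⟩ := Submodule.mem_sup.mp (hcA.sup_eq_top.ge (Submodule.mem_top (x := v)))
      exact ⟨⟨a, ha⟩, Subtype.ext (by
        show f.toLinearMap a = f.toLinearMap (k + a)
        rw [map_add, LinearMap.mem_ker.mp hk, zero_add])⟩
  have he : A'.toRepresentation.Equiv B.toRepresentation :=
    Representation.Equiv.mk (LinearEquiv.ofBijective φ hφ) fun g => LinearMap.ext fun v =>
      Subtype.ext (LinearMap.congr_fun (f.isIntertwining' g) (v : Fin n → K))
  obtain ⟨a, ρa, hρa⟩ := realizable_of_rep A.toRepresentation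
  obtain ⟨σ, hσ'⟩ := exists_rep_fin B'.toRepresentation
  have hσ : B'.toRepresentation.character = σ.character := hσ'.symm
  refine ih _ ?_ ρa σ rfl hχ fun g => ?_
  · rw [← hm]
    have hne : B'.toSubmodule ≠ ⊤ := fun h => hf0 (by
      have hbot : B.toSubmodule = ⊥ := by
        have h1 := hB.inf_eq_bot
        have h2 : B.toSubmodule ⊓ B'.toSubmodule = ⊥ := by
          rw [← Subrepresentation.toSubmodule_inf, h1]; rfl
        rwa [h, inf_top_eq] at h2
      exact IntertwiningMap.ext (LinearMap.range_eq_bot.mp hbot))
    have h1 := Submodule.finrank_lt hne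
    rw [Module.finrank_fin_fun] at h1
    exact h1
  · rw [heq g, char_eq_add r A A' hA, char_eq_add s B B' hB, char_iso he, hρa, hσ]
    simp only [Pi.add_apply]
    push_cast
    ring

/-- **Brauer.** Over a subfield containing the values of all linear characters of subgroups every
character is afforded. -/
theorem realizable_of_character (hK : ∀ (H : Subgroup G) (lam : H →* ℂˣ) (h : H), (lam h : ℂ) ∈ K)
    {χ : G → ℂ} (hχ : IsCharacter G χ) : Realizable K χ := by
  classical
  have hirr : ∀ ψ : IrrCharacter G, Realizable K (ψ : G → ℂ) := by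
    intro ψ
    have hle : Char.monomialSpan G ≤ virt K G := by
      refine (AddSubgroup.closure_le _).mpr ?_
      rintro _ ⟨E, lam, -, rfl⟩
      exact ⟨_, 0, realizable_indFun E lam (hK E lam), realizable_zero, (sub_zero _).symm⟩
    obtain ⟨a, b, ⟨n, r, hr⟩, ⟨m, s, hs⟩, hab⟩ := hle (Char.mem_monomialSpan
      (Char.isGeneralized_of_isCharacter (Char.isCharacter_of_isIrr ψ.2)))
    exact realizable_irr m r s rfl ψ.2 fun g => by rw [hab, Pi.sub_apply, ← hr, ← hs]
  obtain ⟨c, rfl⟩ := Char.exists_multiplicities hχ
  refine Finset.sum_induction _ (Realizable K) (fun a b => realizable_add) realizable_zero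
    fun ψ _ => ?_
  induction c ψ with
  | zero => rw [Nat.cast_zero, zero_smul]; exact realizable_zero
  | succ k ih => rw [Nat.cast_succ, add_smul, one_smul]; exact realizable_add ih (hirr ψ)

end CfsgLib.Realize
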