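import Cfsg.Agent.Lib.Char.AbelianQuotient
import Cfsg.Agent.Lib.Char.Clifford
import Cfsg.Agent.Lib.Char.Solomon
import Cfsg.Agent.Lib.Char.Monomial
import Mathlib.GroupTheory.Solvable

/-!
# Non-square chief factors above `N` give an M-group relative to `N`
-/

set_option autoImplicit false
set_option linter.unusedSectionVars false

namespace CfsgLib.Char.RelativeMGroup

open Cfsg
open scoped ComplexConjugate CfsgLib.Char commutatorElement

universe u

/-- Either the multiplicity over an invariant character is one, or some linear character of the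
abelian quotient fixes `θ`. -/
theorem irr_or_fixed {K : Type*} [Group K] [Fintype K] (N : Subgroup K) [N.Normal]
    (hab : ∀ x y : K, x * y * x⁻¹ * y⁻¹ ∈ N) {θ : K → ℂ} (hθ : IsIrrCharacter K θ)
    {φ : N → ℂ} (hφ : IsIrrCharacter N φ) (e : ℕ) (hres : (fun n : N => θ n) = (e : ℂ) • φ) :
    e = 1 ∨ ∃ β : LinTriv N, β.1 ≠ 1 ∧ (fun g => (β.1 g : ℂ) * θ g) = θ := by
  classical
  by_contra hno
  push Not at hno
  obtain ⟨he, hno⟩ := hno
  haveI : Finite (LinTriv N) := by
    haveI : Finite (K →* ℂˣ) := Finite.of_equiv _ (linearEquiv (G := K))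
    infer_instance
  haveI : Fintype (LinTriv N) := Fintype.ofFinite _
  obtain ⟨-, hsum⟩ := sum_linTriv N hab
  have hcl := isClassFunction_of_isCharacter (isCharacter_of_isIrr hθ)
  have hmain : (e : ℂ) • indFun N φ = ∑ β : LinTriv N, fun g => (β.1 g : ℂ) * θ g := by
    rw [← indFun_smul, ← hres]
    have h : (fun n : N => θ n) = (fun _ : N => (1 : ℂ)) * fun n : N => θ n := (one_mul _).symm
    rw [h, indFun_mul N θ hcl, hsum, Finset.sum_mul]
    rfl
  have h := congrArg (fun F => classInner F θ) hmain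
  simp only [classInner_smul_left] at h
  rw [frobenius_reciprocity N φ hcl, hres, classInner_smul_right, classInner_irr_self hφ,
    Complex.conj_natCast, mul_one, classInner_sum_left,
    Finset.sum_eq_single (⟨1, fun _ _ => rfl⟩ : LinTriv N) (fun β _ hb => ?_) (by simp)] at h
  · rw [show (fun g => ((1 : K →* ℂˣ) g : ℂ) * θ g) = θ by funext g; simp,
      classInner_irr_self hθ] at h
    exact he (Nat.eq_one_of_mul_eq_one_right (by exact_mod_cast h : e * e = 1))
  · exact classInner_irr_ne (isIrrCharacter_linear_mul hθ β.1) hθ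
      (hno β fun e => hb (Subtype.ext e))

/-- The chief factor condition. -/
def NonSquareChief {G : Type*} [Group G] (N : Subgroup G) : Prop :=
  ∀ (H K L : Subgroup G), N ≤ L → L < K → K ≤ H → (∀ h ∈ H, ∀ k ∈ K, h * k * h⁻¹ ∈ K) →
    (∀ h ∈ H, ∀ l ∈ L, h * l * h⁻¹ ∈ L) →
    (∀ M : Subgroup G, L ≤ M → M ≤ K → (∀ h ∈ H, ∀ m ∈ M, h * m * h⁻¹ ∈ M) → M = L ∨ M = K) →
    ¬ IsSquare (L.relIndex K)

theorem NonSquareChief.mono {G : Type*} [Group G] {N K : Subgroup G} (h : NonSquareChief N)
    (hNK : N ≤ K) : NonSquareChief K :=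
  fun H' K' L' hL => h H' K' L' (hNK.trans hL)

theorem NonSquareChief.subgroupOf {G : Type*} [Group G] {N : Subgroup G} (h : NonSquareChief N)
    {T : Subgroup G} (hNT : N ≤ T) : NonSquareChief (N.subgroupOf T) := by
  intro H K L hNL hLK hKH hK hL hmin
  have hinj := T.subtype_injective
  rw [← Subgroup.relIndex_map_map_of_injective L K hinj]
  have hconj : ∀ (H M : Subgroup T), (∀ a ∈ H, ∀ m ∈ M, a * m * a⁻¹ ∈ M) →
      ∀ a ∈ H.map T.subtype, ∀ m ∈ M.map T.subtype, a * m * a⁻¹ ∈ M.map T.subtype := by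
    rintro H M hM _ ⟨a, ha, rfl⟩ _ ⟨m, hm, rfl⟩
    exact ⟨a * m * a⁻¹, hM a ha m hm, by simp⟩
  refine h (H.map T.subtype) (K.map T.subtype) (L.map T.subtype) ?_ ?_ (Subgroup.map_mono hKH)
    (hconj H K hK) (hconj H L hL) fun M hLM hMK hM => ?_
  · intro n hn
    exact ⟨⟨n, hNT hn⟩, hNL hn, rfl⟩
  · exact (Subgroup.map_lt_map_iff_of_injective hinj).mpr hLK
  · have hMT : M ≤ T := hMK.trans (Subgroup.map_subtype_le K)
    have hmap : (M.subgroupOf T).map T.subtype = M := Subgroup.map_subgroupOf_eq_of_le hMT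
    rcases hmin (M.subgroupOf T) (fun x hx => hLM ⟨x, hx, rfl⟩)
        (fun x hx => by
          obtain ⟨y, hy, e⟩ := hMK hx
          rwa [← hinj e])
        (fun a ha m hm => hM a ⟨a, ha, rfl⟩ m hm) with e | e
    · exact Or.inl (by rw [← hmap, e])
    · exact Or.inr (by rw [← hmap, e])

/-- A function on the whole group as a subgroup is its own induction. -/
theorem indFun_top_apply {G : Type*} [Group G] [Fintype G] {ψ : (⊤ : Subgroup G) → ℂ}
    (hψ : IsIrrCharacter (⊤ : Subgroup G) ψ) (x : G) :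
    indFun (⊤ : Subgroup G) ψ x = ψ ⟨x, Subgroup.mem_top x⟩ := by
  have hc : IsClassFunction G (fun y => ψ ⟨y, Subgroup.mem_top y⟩) := fun g h =>
    isClassFunction_of_isCharacter (isCharacter_of_isIrr hψ) ⟨g, Subgroup.mem_top g⟩
      ⟨h, Subgroup.mem_top h⟩
  exact congrFun (indFun_top hc) x

theorem aux : ∀ (n : ℕ) (G : Type u) [Group G] [Fintype G] (N : Subgroup G) [N.Normal],
    N.index = n → Group.IsSolvable (G ⧸ N) → NonSquareChief N → ∀ χ : G → ℂ,
      IsIrrCharacter G χ → ∃ (H : Subgroup G) (hNH : N ≤ H) (ψ : H → ℂ), IsIrrCharacter H ψ ∧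
        indFun H ψ = χ ∧ IsIrrCharacter N (fun x : N => ψ ⟨(x : G), hNH x.2⟩) := by
  classical
  intro n
  induction n using Nat.strong_induction_on with
  | _ n ih => ?_
  intro G _ _ N hN hn hsolv hchief χ hχ
  haveI : Fintype N := Fintype.ofFinite N
  haveI := hsolv
  -- recursion into a proper subgroup containing `N`
  have below : ∀ (T : Subgroup G) (hNT : N ≤ T), T ≠ ⊤ → ∀ ψ : T → ℂ, IsIrrCharacter T ψ →
      indFun T ψ = χ → ∃ (H : Subgroup G) (hNH : N ≤ H) (ψ : H → ℂ), IsIrrCharacter H ψ ∧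
        indFun H ψ = χ ∧ IsIrrCharacter N (fun x : N => ψ ⟨(x : G), hNH x.2⟩) := by
    intro T hNT hT ψ hψ hind
    haveI : Fintype T := Fintype.ofFinite T
    haveI : (N.subgroupOf T).Normal := Subgroup.normal_subgroupOf
    have hlt : (N.subgroupOf T).index < n := by
      have h1 : N.relIndex T * T.index = N.index := Subgroup.relIndex_mul_index hNT
      have h2 : 1 < T.index := Subgroup.one_lt_index_of_ne_top hT
      show N.relIndex T < n
      rw [← hn, ← h1]
      exact lt_mul_of_one_lt_right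
        (Nat.pos_of_ne_zero (Subgroup.FiniteIndex.index_ne_zero (H := N.subgroupOf T))) h2
    have hs : Group.IsSolvable (T ⧸ N.subgroupOf T) := by
      refine solvable_of_solvable_injective
        (f := QuotientGroup.map (N.subgroupOf T) N T.subtype le_rfl) ?_
      rw [← MonoidHom.ker_eq_bot_iff, eq_bot_iff]
      intro x hx
      induction x using QuotientGroup.induction_on with
      | _ x =>
        rw [MonoidHom.mem_ker] at hx
        change ((x : G) : G ⧸ N) = 1 at hx
        rw [QuotientGroup.eq_one_iff] at hx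
        rw [Subgroup.mem_bot, QuotientGroup.eq_one_iff]
        exact hx
    obtain ⟨H, hNH, η, hη, hηind, hηN⟩ :=
      ih _ hlt T (N.subgroupOf T) rfl hs (hchief.subgroupOf hNT) ψ hψ
    let e := (H.equivMapOfInjective T.subtype T.subtype_injective).symm
    have hNH' : N ≤ H.map T.subtype := fun x hx => ⟨⟨x, hNT hx⟩, hNH hx, rfl⟩
    refine ⟨H.map T.subtype, hNH', fun x => η (e x), (isIrrCharacter_comp_equiv e).mpr hη, ?_, ?_⟩
    · rw [← hind, ← hηind, indFun_map]
    · have key : (fun x : N => η (e ⟨(x : G), hNH' x.2⟩)) =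
          (fun y : N.subgroupOf T => η ⟨(y : T), hNH y.2⟩) ∘
            (Subgroup.subgroupOfEquivOfLe hNT).symm := by
        funext x
        refine congrArg η (e.symm.injective ?_)
        rw [MulEquiv.symm_apply_apply]
        exact Subtype.ext rfl
      show IsIrrCharacter N (fun x : N => η (e ⟨(x : G), hNH' x.2⟩))
      rw [key]
      exact (isIrrCharacter_comp_equiv (Subgroup.subgroupOfEquivOfLe hNT).symm).mpr hηN
  obtain ⟨φ, hφ⟩ := exists_constituent N (isCharacter_of_isIrr hχ) (irr_degree_ne_zero hχ)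
  by_cases hinert : inertia N (φ : N → ℂ) = ⊤
  swap
  · haveI : Fintype (inertia N (φ : N → ℂ)) := Fintype.ofFinite _
    have hle := le_inertia N (isClassFunction_irr φ)
    obtain ⟨ψ, hψ, hind, -⟩ := clifford_correspondence_surjective N (inertia N (φ : N → ℂ)) φ.2
      (fun g => mem_inertia N) hle hχ hφ
    exact below _ hle hinert ψ hψ hind
  have hφinv : ∀ g, conjBy N (φ : N → ℂ) g = (φ : N → ℂ) := fun g =>
    (mem_inertia N).mp (hinert ▸ Subgroup.mem_top g)
  have hcl := isClassFunction_of_isCharacter (isCharacter_of_isIrr hχ)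
  by_cases hNtop : N = ⊤
  · subst hNtop
    exact ⟨⊤, le_rfl, fun x => χ x, (isIrrCharacter_comp_equiv Subgroup.topEquiv).mpr hχ,
      indFun_top hcl, (isIrrCharacter_comp_equiv Subgroup.topEquiv).mpr hχ⟩
  -- a chief factor `K / N`
  obtain ⟨K, ⟨hKn, hNK⟩, hKmin⟩ : ∃ K : Subgroup G, (K.Normal ∧ N < K) ∧
      ∀ M : Subgroup G, M.Normal ∧ N < M → ¬ M < K := by
    obtain ⟨K, hK⟩ := exists_minimal_of_wellFoundedLT (fun M : Subgroup G => M.Normal ∧ N < M)
      ⟨⊤, inferInstance, lt_top_iff_ne_top.mpr hNtop⟩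
    exact ⟨K, hK.prop, fun M hM hlt => hlt.not_ge (hK.le_of_le hM hlt.le)⟩
  haveI := hKn
  haveI : Fintype K := Fintype.ofFinite K
  have hbetween : ∀ M : Subgroup G, N ≤ M → M ≤ K → M.Normal → M = N ∨ M = K := by
    intro M h1 h2 h3
    rcases h1.eq_or_lt with h | h
    · exact Or.inl h.symm
    · exact Or.inr ((h2.eq_or_lt).resolve_right (hKmin M ⟨h3, h⟩))
  have habG : ∀ x ∈ K, ∀ y ∈ K, x * y * x⁻¹ * y⁻¹ ∈ N := by
    have hD : (⁅K, K⁆ ⊔ N : Subgroup G) = N := by
      rcases hbetween (⁅K, K⁆ ⊔ N) le_sup_right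
        (sup_le (Subgroup.commutator_le_right K K) hNK.le) inferInstance with h | h
      · exact h
      · exfalso
        have h1 := congrArg (Subgroup.map (QuotientGroup.mk' N)) h
        rw [Subgroup.map_sup, Subgroup.map_commutator,
          (Subgroup.map_eq_bot_iff N).mpr (le_of_eq (QuotientGroup.ker_mk' N).symm), sup_bot_eq] at h1
        refine (Group.IsSolvable.commutator_lt_of_ne_bot
          (H := K.map (QuotientGroup.mk' N)) ?_).ne h1
        rw [Ne, Subgroup.map_eq_bot_iff, QuotientGroup.ker_mk']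
        exact fun hle => hNK.not_ge hle
    intro x hx y hy
    exact hD ▸ Subgroup.mem_sup_left (Subgroup.commutator_mem_commutator hx hy)
  have hsK : Group.IsSolvable (G ⧸ K) :=
    solvable_of_surjective (f := QuotientGroup.map N K (MonoidHom.id G) hNK.le) (by
      intro x
      induction x using QuotientGroup.induction_on with
      | _ x => exact ⟨(x : G ⧸ N), rfl⟩)
  have hKlt : K.index < n := hn ▸ Subgroup.index_strictAnti hNK
  obtain ⟨H, hKH, ψ, hψ, hind, hψK⟩ := ih _ hKlt G K rfl hsK (hchief.mono hNK.le) χ hχ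
  by_cases hH : H = ⊤
  swap
  · exact below H (hNK.le.trans hKH) hH ψ hψ hind
  subst hH
  have hχψ : ∀ x : G, χ x = ψ ⟨x, Subgroup.mem_top x⟩ := by
    intro x
    have h := congrFun hind x
    rw [← indFun_top_apply hψ x, h]
  set θ : K → ℂ := fun x => χ x with hθdef
  have hθ : IsIrrCharacter K θ := by
    have : θ = fun x : K => ψ ⟨(x : G), hKH x.2⟩ := funext fun x => hχψ x
    rw [this]; exact hψK
  -- the restriction to `N`
  obtain ⟨e, he⟩ := exists_nat_classInner (isCharacter_restrict N (isCharacter_of_isIrr hχ))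
    (isCharacter_of_isIrr φ.2)
  have hres : (fun x : N => χ x) = (e : ℂ) • (φ : N → ℂ) := by
    have h := clifford_invariant N hχ φ.2 hφinv hφ
    rwa [he] at h
  set N' := N.subgroupOf K with hN'
  haveI : Fintype N' := Fintype.ofFinite N'
  let eN := Subgroup.subgroupOfEquivOfLe hNK.le
  have hφ' : IsIrrCharacter N' (fun x => (φ : N → ℂ) (eN x)) :=
    (isIrrCharacter_comp_equiv eN).mpr φ.2
  have hres' : (fun x : N' => θ x) = (e : ℂ) • fun x => (φ : N → ℂ) (eN x) :=
    funext fun x => congrFun hres (eN x)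
  rcases irr_or_fixed N' (fun x y => habG x x.2 y y.2) hθ hφ' e hres' with he1 | ⟨β, hβ1, hβ⟩
  · refine ⟨⊤, le_top, ψ, hψ, hind, ?_⟩
    have : (fun x : N => ψ ⟨(x : G), Subgroup.mem_top _⟩) = fun x : N => χ x :=
      funext fun x => (hχψ x).symm
    rw [this, hres, he1, Nat.cast_one, one_smul]
    exact φ.2
  -- otherwise `θ` vanishes off `N`
  let J : Subgroup K := ⨅ γ : {γ : LinTriv N' // (fun g => (γ.1 g : ℂ) * θ g) = θ}, γ.1.1.ker
  have hJ : ∀ k : K, k ∈ J ↔ ∀ γ : LinTriv N', (fun g => (γ.1 g : ℂ) * θ g) = θ → γ.1 k = 1 := by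
    intro k
    simp [J, Subgroup.mem_iInf, MonoidHom.mem_ker]
  have hJn : (J.map K.subtype).Normal := by
    refine ⟨?_⟩
    rintro _ ⟨k, hk, rfl⟩ g
    refine ⟨MulAut.conjNormal g k, (hJ _).2 fun γ hγ => ?_, by simp⟩
    let γ' : LinTriv N' := ⟨γ.1.comp (MulAut.conjNormal g : MulAut K).toMonoidHom, fun x hx =>
      γ.2 _ (by
        show ((MulAut.conjNormal g x : K) : G) ∈ N
        rw [MulAut.conjNormal_apply]
        exact hN.conj_mem _ hx g)⟩
    refine (hJ k).1 hk γ' ?_
    funext x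
    have h := congrFun hγ (MulAut.conjNormal g x)
    have hθg : θ (MulAut.conjNormal g x) = θ x := by
      show χ ((MulAut.conjNormal g x : K) : G) = χ x
      rw [MulAut.conjNormal_apply]
      exact hcl _ _
    show (γ.1 (MulAut.conjNormal g x) : ℂ) * θ x = θ x
    rw [← hθg]
    exact h
  have hJN : J.map K.subtype = N := by
    rcases hbetween (J.map K.subtype)
      (fun x hx => ⟨⟨x, hNK.le hx⟩, (hJ _).2 fun γ _ => γ.2 _ hx, rfl⟩)
      (Subgroup.map_subtype_le J) hJn with h | h
    · exact h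
    · exfalso
      refine hβ1 (MonoidHom.ext fun k => ?_)
      obtain ⟨k', hk', e'⟩ : (k : G) ∈ J.map K.subtype := by rw [h]; exact k.2
      rw [← show k' = k from Subtype.ext e']
      exact (hJ _).1 hk' β hβ
  have hvan : ∀ k : K, k ∉ N' → θ k = 0 := by
    intro k hk
    by_contra h0
    refine hk ?_
    show (k : G) ∈ N
    rw [← hJN]
    refine ⟨k, (hJ k).2 fun γ hγ => ?_, rfl⟩
    have h := congrFun hγ k
    exact Units.ext (mul_right_cancel₀ h0 (h.trans (one_mul _).symm))
  exfalso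
  refine hchief ⊤ K N le_rfl hNK le_top (fun g _ k hk => hKn.conj_mem k hk g)
    (fun g _ l hl => hN.conj_mem l hl g)
    (fun M h1 h2 h3 => hbetween M h1 h2 ⟨fun m hm g => h3 g (Subgroup.mem_top g) m hm⟩) ?_
  refine ⟨e, ?_⟩
  have h1 := classInner_irr_self hθ
  have h2 : classInner (fun x : N' => θ x) (fun x : N' => θ x) = ((e * e : ℕ) : ℂ) := by
    rw [hres', classInner_smul_left, classInner_smul_right, classInner_irr_self hφ',
      Complex.conj_natCast, mul_one, Nat.cast_mul]
  simp only [classInner] at h1 h2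
  have hsum : ∑ k : K, θ k * conj (θ k) = ∑ x : N', θ x * conj (θ x) := by
    rw [← Finset.sum_subset (Finset.subset_univ (Finset.univ.filter fun k : K => k ∈ N'))]
    · exact Finset.sum_subtype _ (by simp) _
    · intro k _ hk
      rw [hvan k (by simpa using hk), zero_mul]
  rw [hsum] at h1
  have hc : (Nat.card K : ℂ) ≠ 0 := Nat.cast_ne_zero.mpr Nat.card_pos.ne'
  have hc' : (Nat.card N' : ℂ) ≠ 0 := Nat.cast_ne_zero.mpr Nat.card_pos.ne'
  rw [inv_mul_eq_iff_eq_mul₀ hc] at h1
  rw [inv_mul_eq_iff_eq_mul₀ hc', h1, mul_one] at h2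
  have h3 : Nat.card K = Nat.card N' * (e * e) := by exact_mod_cast h2
  show N'.index = e * e
  exact Nat.eq_of_mul_eq_mul_left Nat.card_pos (N'.card_mul_index.trans h3)

end CfsgLib.Char.RelativeMGroup
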