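import Cfsg.Agent.Lib.Char.DefectZero
import Cfsg.Agent.Lib.Char.Gallagher

/-!
# Indicators of π-sections are integral combinations of irreducible characters
-/

set_option autoImplicit false
set_option linter.unusedSectionVars false

namespace CfsgLib.Char

open Cfsg
open scoped ComplexConjugate CfsgLib.Char

universe u

variable {G : Type u} [Group G]

/-- A class function whose restrictions to elementary subgroups have integral coefficients has
integral coefficients. -/
theorem isIntegral_classInner_of_elementary [Fintype G] {θ : G → ℂ}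
    (hθ : IsClassFunction G θ)
    (hE : ∀ (E : Subgroup G) [Fintype E], (∃ p : ℕ, p.Prime ∧ IsElementary p E) →
      ∀ ψ : IrrCharacter E, IsIntegral ℤ (classInner (fun e : E => θ e) (ψ : E → ℂ)))
    {χ : G → ℂ} (hχ : IsGeneralizedCharacter G χ) : IsIntegral ℤ (classInner θ χ) := by
  classical
  have key : ∀ f ∈ elemSpanAll G, IsIntegral ℤ (classInner θ f) := by
    intro f hf
    induction hf using AddSubgroup.closure_induction with
    | mem f hf =>
      obtain ⟨E, φ, hp, hφ, rfl⟩ := hf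
      rw [frobenius_reciprocity' E φ hθ]
      obtain ⟨m, rfl⟩ := exists_multiplicities hφ
      rw [classInner_sum_right]
      refine IsIntegral.sum _ fun ψ _ => ?_
      rw [classInner_smul_right, map_natCast]
      exact (map_natCast (algebraMap ℤ ℂ) (m ψ) ▸ isIntegral_algebraMap).mul (hE E hp ψ)
    | zero => rw [classInner_zero_right]; exact isIntegral_zero
    | add _ _ _ _ h1 h2 => rw [classInner_add_right]; exact h1.add h2
    | neg _ _ h => rw [classInner_neg_right]; exact h.neg
  exact key χ (mem_elemSpanAll hχ)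

/-- In a finite nilpotent group the elements of order prime to `n` form a normal subgroup. -/
theorem exists_coprime_subgroup [Finite G] [Group.IsNilpotent G] (n : ℕ) (hn : n ≠ 0) :
    ∃ A : Subgroup G, A.Normal ∧ (∀ x, x ∈ A ↔ (orderOf x).Coprime n) ∧ (Nat.card A).Coprime n := by
  classical
  have hQ : ∀ p : ℕ, p.Prime → ∃ Q : Subgroup G, ∀ x, x ∈ Q ↔ (orderOf x).Coprime p := fun p hp => by
    have := Fact.mk hp
    obtain ⟨P⟩ := (inferInstance : Nonempty (Sylow p G))
    obtain ⟨Q, hQ, -⟩ := exists_regular_subgroup P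
    exact ⟨Q, hQ⟩
  choose Q hQ using hQ
  let A : Subgroup G := ⨅ (p : ℕ) (hp : p.Prime) (_ : p ∣ n), Q p hp
  have hA : ∀ x, x ∈ A ↔ (orderOf x).Coprime n := by
    intro x
    simp only [A, Subgroup.mem_iInf, hQ]
    refine ⟨fun h => Nat.coprime_of_dvd' fun p hp h1 h2 => ?_, fun h p _ hpn => h.coprime_dvd_right hpn⟩
    exact (hp.coprime_iff_not_dvd.mp (h p hp h2).symm h1).elim
  refine ⟨A, ⟨fun a ha g => ?_⟩, hA, ?_⟩
  · rw [hA] at ha ⊢
    rwa [CfsgLib.Transfer.orderOf_conj]
  · refine Nat.coprime_of_dvd' fun p hp h1 h2 => ?_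
    have := Fact.mk hp
    obtain ⟨x, hx⟩ := exists_prime_orderOf_dvd_card' p h1
    have h3 := (hA x).mp x.2
    rw [Subgroup.orderOf_coe, hx] at h3
    exact (hp.coprime_iff_not_dvd.mp h3 h2).elim

/-- `ϑ = n` on a π-section and `0` elsewhere has integral coefficients. -/
theorem isIntegral_section_coeff [Fintype G] {m n : ℕ} (hmn : Nat.card G = m * n)
    (hcop : Nat.Coprime m n) (g : G) (θ : G → ℂ) (hθ : IsClassFunction G θ)
    (hval : ∀ u v : G, Commute u v → Nat.Coprime (orderOf u) n → Nat.Coprime (orderOf v) m →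
      θ (u * v) = open Classical in if IsConj v g then (n : ℂ) else 0)
    {χ : G → ℂ} (hχ : IsGeneralizedCharacter G χ) : IsIntegral ℤ (classInner θ χ) := by
  classical
  have hm0 : m ≠ 0 := fun h => Nat.card_pos.ne' (by rw [hmn, h, zero_mul])
  have hn0 : n ≠ 0 := fun h => Nat.card_pos.ne' (by rw [hmn, h, mul_zero])
  refine isIntegral_classInner_of_elementary hθ (fun E _ hE ψ => ?_) hχ
  obtain ⟨p, hp, hEp⟩ := hE
  have := isNilpotent_of_isElementary hp hEp
  obtain ⟨A, hAn, hA, hAc⟩ := exists_coprime_subgroup (G := E) n hn0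
  obtain ⟨B, hBn, hB, hBc⟩ := exists_coprime_subgroup (G := E) m hm0
  have hEdvd : Nat.card E ∣ m * n := hmn ▸ Subgroup.card_subgroup_dvd_card E
  have hAm : Nat.card A ∣ m := hAc.dvd_of_dvd_mul_right
    ((Subgroup.card_subgroup_dvd_card A).trans hEdvd)
  have hBn' : Nat.card B ∣ n := hBc.dvd_of_dvd_mul_left
    ((Subgroup.card_subgroup_dvd_card B).trans hEdvd)
  have hdis : Disjoint A B := by
    rw [disjoint_iff, ← Subgroup.card_eq_one]
    exact Nat.eq_one_of_dvd_coprimes hcop ((Subgroup.card_dvd_of_le inf_le_left).trans hAm)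
      ((Subgroup.card_dvd_of_le inf_le_right).trans hBn')
  have hcomm : ∀ a ∈ A, ∀ b ∈ B, Commute a b := fun a ha b hb =>
    Subgroup.commute_of_normal_of_disjoint A B hAn hBn hdis a b ha hb
  have hbij : Function.Bijective fun ab : A × B => (ab.1 : E) * ab.2 := by
    refine ⟨fun ⟨a, b⟩ ⟨a', b'⟩ h => ?_, fun x => ?_⟩
    · simp only at h
      have e : (a' : E)⁻¹ * a = b' * (b : E)⁻¹ := by
        rw [eq_mul_inv_iff_mul_eq, mul_assoc, h, inv_mul_cancel_left]
      have h1 : (a' : E)⁻¹ * a ∈ A ⊓ B :=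
        ⟨A.mul_mem (A.inv_mem a'.2) a.2, e ▸ B.mul_mem b'.2 (B.inv_mem b.2)⟩
      rw [hdis.eq_bot, Subgroup.mem_bot] at h1
      have h2 : (a : E) = a' := (inv_mul_eq_one.mp h1).symm
      refine Prod.ext (Subtype.ext h2) (Subtype.ext ?_)
      rw [h2] at h; exact mul_left_cancel h
    · have hbez : (1 : ℤ) = m * Nat.gcdA m n + n * Nat.gcdB m n := by
        rw [← Nat.gcd_eq_gcd_ab, hcop.gcd_eq_one]; rfl
      have hord : orderOf x ∣ m * n := (orderOf_dvd_natCard x).trans hEdvd
      have hx : x ^ (m * n) = 1 := orderOf_dvd_iff_pow_eq_one.mp hord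
      have ha : x ^ ((n : ℤ) * Nat.gcdB m n) ∈ A := by
        rw [hA]
        refine Nat.Coprime.coprime_dvd_left (orderOf_dvd_of_pow_eq_one ?_) hcop
        rw [← zpow_natCast, ← zpow_mul,
          show ((n : ℤ) * Nat.gcdB m n) * m = ((m * n : ℕ) : ℤ) * Nat.gcdB m n by push_cast; ring,
          zpow_mul, zpow_natCast, hx, one_zpow]
      have hb : x ^ ((m : ℤ) * Nat.gcdA m n) ∈ B := by
        rw [hB]
        refine Nat.Coprime.coprime_dvd_left (orderOf_dvd_of_pow_eq_one ?_) hcop.symm
        rw [← zpow_natCast, ← zpow_mul,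
          show ((m : ℤ) * Nat.gcdA m n) * n = ((m * n : ℕ) : ℤ) * Nat.gcdA m n by push_cast; ring,
          zpow_mul, zpow_natCast, hx, one_zpow]
      refine ⟨(⟨_, ha⟩, ⟨_, hb⟩), ?_⟩
      show x ^ _ * x ^ _ = x
      rw [← zpow_add, add_comm, ← hbez, zpow_one]
  haveI := hAn
  have hψc := isCharacter_of_isIrr ψ.2
  have hval' : ∀ (a : A) (b : B), θ (((a : E) * b : E) : G) =
      if IsConj ((b : E) : G) g then (n : ℂ) else 0 := fun a b => by
    rw [Subgroup.coe_mul]
    convert hval _ _ (congrArg Subtype.val (hcomm a a.2 b b.2).eq)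
      ((Subgroup.orderOf_coe (a : E)).symm ▸ (hA a).mp a.2)
      ((Subgroup.orderOf_coe (b : E)).symm ▸ (hB b).mp b.2) using 2
  have hcard : Nat.card E = Nat.card A * Nat.card B := by
    rw [← Nat.card_prod]; exact (Nat.card_congr (Equiv.ofBijective _ hbij)).symm
  obtain ⟨k, hk⟩ := hBn'
  have hAc0 : (Nat.card A : ℂ) ≠ 0 := Nat.cast_ne_zero.mpr Nat.card_pos.ne'
  have hBc0 : (Nat.card B : ℂ) ≠ 0 := Nat.cast_ne_zero.mpr Nat.card_pos.ne'
  have heq : classInner (fun e : E => θ e) (ψ : E → ℂ) =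
      ∑ b : B, (if IsConj ((b : E) : G) g then (k : ℂ) * conj (avgN A (ψ : E → ℂ) b) else 0) := by
    rw [classInner, ← Equiv.sum_comp (Equiv.ofBijective _ hbij), Fintype.sum_prod_type, Finset.sum_comm,
      Finset.mul_sum]
    refine Finset.sum_congr rfl fun b _ => ?_
    simp only [Equiv.ofBijective_apply, hval']
    split_ifs with h
    · rw [avgN, map_mul, map_inv₀, map_natCast, map_sum, hcard, hk]
      simp only [Finset.mul_sum]
      refine Finset.sum_congr rfl fun a _ => ?_
      push_cast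
      field_simp
    · simp
  rw [heq]
  refine IsIntegral.sum _ fun b _ => ?_
  split_ifs
  · refine (map_natCast (algebraMap ℤ ℂ) k ▸ isIntegral_algebraMap).mul (isIntegral_conj ?_)
    rcases avgN_dichotomy A ψ.2 with ⟨e, -⟩ | ⟨e, -⟩ <;> rw [e]
    · exact isIntegral_value hψc _
    · exact isIntegral_zero
  · exact isIntegral_zero

/-- Uniqueness of the coprime parts of an element. -/
theorem coprime_part_unique [Finite G] {m n : ℕ} (hmn : Nat.card G = m * n) (hcop : Nat.Coprime m n)
    {u v u' v' : G} (h : u * v = u' * v') (hc : Commute u v) (hc' : Commute u' v')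
    (hu : (orderOf u).Coprime n) (hu' : (orderOf u').Coprime n)
    (hv : (orderOf v).Coprime m) (hv' : (orderOf v').Coprime m) : v = v' := by
  obtain ⟨e, he1, he2⟩ := Nat.chineseRemainder hcop 0 1
  have key : ∀ a b : G, Commute a b → (orderOf a).Coprime n → (orderOf b).Coprime m →
      (a * b) ^ e = b := by
    intro a b hab ha hb
    have ha' : orderOf a ∣ m := ha.dvd_of_dvd_mul_right (hmn ▸ orderOf_dvd_natCard a)
    have hb' : orderOf b ∣ n := hb.dvd_of_dvd_mul_left (hmn ▸ orderOf_dvd_natCard b)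
    rw [hab.mul_pow, orderOf_dvd_iff_pow_eq_one.mp (ha'.trans (Nat.modEq_zero_iff_dvd.mp he1)), one_mul,
      pow_eq_pow_iff_modEq.mpr (he2.of_dvd hb'), pow_one]
  rw [← key u v hc hu hv, h, key u' v' hc' hu' hv']

/-- The indicator of a π-section, as a function. -/
theorem exists_section_function [Fintype G] {m n : ℕ} (hmn : Nat.card G = m * n)
    (hcop : Nat.Coprime m n) (g : G) :
    ∃ θ : G → ℂ, IsClassFunction G θ ∧
      ∀ u v : G, Commute u v → Nat.Coprime (orderOf u) n → Nat.Coprime (orderOf v) m →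
        θ (u * v) = open Classical in if IsConj v g then (n : ℂ) else 0 := by
  classical
  let P : G → Prop := fun x => ∃ u v : G, x = u * v ∧ Commute u v ∧ (orderOf u).Coprime n ∧
    (orderOf v).Coprime m ∧ IsConj v g
  have hP : ∀ x c : G, P x → P (c * x * c⁻¹) := by
    rintro x c ⟨u, v, rfl, hc, hu, hv, hvg⟩
    refine ⟨c * u * c⁻¹, c * v * c⁻¹, by group, ?_, by rwa [CfsgLib.Transfer.orderOf_conj],
      by rwa [CfsgLib.Transfer.orderOf_conj], (isConj_iff.mpr ⟨c, rfl⟩).symm.trans hvg⟩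
    show c * u * c⁻¹ * (c * v * c⁻¹) = c * v * c⁻¹ * (c * u * c⁻¹)
    calc c * u * c⁻¹ * (c * v * c⁻¹) = c * (u * v) * c⁻¹ := by group
      _ = _ := by rw [hc.eq]; group
  refine ⟨fun x => if P x then (n : ℂ) else 0, fun x c => ?_, fun u v hc hu hv => ?_⟩
  · have : P (c * x * c⁻¹) ↔ P x := ⟨fun h => by
      have := hP _ c⁻¹ h
      simpa [mul_assoc] using this, hP x c⟩
    simp only [this]
  · have : P (u * v) ↔ IsConj v g :=
      ⟨fun ⟨u', v', e, hc', hu', hv', hvg⟩ => coprime_part_unique hmn hcop e hc hc' hu hu' hv hv' ▸ hvg,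
        fun h => ⟨u, v, rfl, hc, hu, hv, h⟩⟩
    simp only [this]

end CfsgLib.Char
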