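import Cfsg.Agent.Lib.Char.CoherenceIrr

/-!
# Gluing a coherent family to a coherent family of constant degree
-/

set_option autoImplicit false

namespace CfsgLib.Char.Coherence

open Cfsg
open scoped ComplexConjugate CfsgLib.Char

variable {L : Type*} [Group L] [Fintype L] {G : Type*} [Group G] [Fintype G]

/-- A coherent pair of equal degree admits the exchanged extension. -/
theorem swap_pair {a b : L → ℂ} (ha : IsIrrCharacter L a) (hb : IsIrrCharacter L b) (hab : a ≠ b)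
    (hdeg : a 1 = b 1) {α σ : (L → ℂ) → (G → ℂ)}
    (hσ : IsLinearIsometryOn (zspan ({a, b} : Set (L → ℂ))) σ)
    (hσα : ∀ θ ∈ zspanOn ({a, b} : Set (L → ℂ)) {1}ᶜ, σ θ = α θ) :
    ∃ σ' : (L → ℂ) → (G → ℂ), IsLinearIsometryOn (zspan ({a, b} : Set (L → ℂ))) σ' ∧
      (∀ θ ∈ zspanOn ({a, b} : Set (L → ℂ)) {1}ᶜ, σ' θ = α θ) ∧ σ' a = -σ b := by
  classical
  have hirr : ∀ φ ∈ ({a, b} : Set (L → ℂ)), IsIrrCharacter L φ := by
    rintro φ (rfl | rfl) <;> assumption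
  have haS : a ∈ ({a, b} : Set (L → ℂ)) := Set.mem_insert _ _
  have hbS : b ∈ ({a, b} : Set (L → ℂ)) := Set.mem_insert_of_mem _ rfl
  have hiso := hσ.2.2.1
  obtain ⟨f, hf, hfiso⟩ := exists_isometry (orth_irr hirr) (irr_ne_zero hirr)
    (fun φ => if φ = a then -σ b else -σ a)
    (fun φ hφ => by
      split_ifs
      · exact isGeneralized_neg (hσ.2.2.2 _ (subset_zspan hbS))
      · exact isGeneralized_neg (hσ.2.2.2 _ (subset_zspan haS)))
    (fun φ hφ ψ hψ => by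
      rcases hφ with rfl | rfl <;> rcases hψ with rfl | rfl <;>
      simp [hab, hab.symm, classInner_neg_left, classInner_neg_right,
        hiso _ (subset_zspan haS) _ (subset_zspan haS), hiso _ (subset_zspan hbS) _ (subset_zspan hbS),
        hiso _ (subset_zspan haS) _ (subset_zspan hbS), hiso _ (subset_zspan hbS) _ (subset_zspan haS),
        classInner_irr_self ha, classInner_irr_self hb, classInner_irr_ne ha hb hab,
        classInner_irr_ne hb ha hab.symm])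
  refine ⟨f, hfiso, fun θ hθ => ?_, by rw [hf a haS, if_pos rfl]⟩
  obtain ⟨hθz, hθ1⟩ := mem_zspanOn_iff.mp hθ
  obtain ⟨p, q, hpq⟩ := Submodule.mem_span_pair.mp hθz
  have hq : q = -p := by
    rw [← hpq] at hθ1
    simp only [Pi.add_apply, int_smul_eq, Pi.smul_apply, smul_eq_mul, ← hdeg] at hθ1
    have h : ((p + q : ℤ) : ℂ) * a 1 = 0 := by push_cast; linear_combination hθ1
    have h' : ((p + q : ℤ) : ℂ) = 0 := (mul_eq_zero.mp h).resolve_right (irr_degree_ne_zero ha)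
    rw [Int.cast_eq_zero] at h'
    omega
  subst hq
  rw [← hσα θ hθ, ← hpq, map_add, map_zsmul, map_zsmul, hf a haS, hf b hbS, if_pos rfl,
    if_neg hab.symm, hσ.1 _ (zspan_zsmul _ (subset_zspan haS)) _ (zspan_zsmul _ (subset_zspan hbS)),
    hσ.2.1 _ (subset_zspan haS), hσ.2.1 _ (subset_zspan hbS)]
  simp only [neg_smul, smul_neg, neg_neg]
  abel

open Classical in
/-- Gluing: a coherent set and a coherent set of constant degree, with the congruence on one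
coefficient. -/
theorem glue {X Y : Finset (L → ℂ)} (hirr : ∀ ξ ∈ X ∪ Y, IsIrrCharacter L ξ) (hXY : Disjoint X Y)
    (hX2 : 2 ≤ X.card) (hY2 : 2 ≤ Y.card) (α : (L → ℂ) → (G → ℂ))
    (hα : IsLinearIsometryOn (zspanOn (↑(X ∪ Y) : Set (L → ℂ)) {1}ᶜ) α)
    (hα1 : ∀ θ ∈ zspanOn (↑(X ∪ Y) : Set (L → ℂ)) {1}ᶜ, α θ 1 = 0)
    (σ τ : (L → ℂ) → (G → ℂ)) (hσ : IsLinearIsometryOn (zspan (↑X : Set (L → ℂ))) σ)
    (hσα : ∀ θ ∈ zspanOn (↑X : Set (L → ℂ)) {1}ᶜ, σ θ = α θ)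
    (hτ : IsLinearIsometryOn (zspan (↑Y : Set (L → ℂ))) τ)
    (hτα : ∀ θ ∈ zspanOn (↑Y : Set (L → ℂ)) {1}ᶜ, τ θ = α θ)
    {χ₁ η₁ : L → ℂ} (hχ₁ : χ₁ ∈ X) (hη₁ : η₁ ∈ Y) {e m : ℕ} (he : 0 < e) (hm : 0 < m)
    (hYdeg : ∀ η ∈ Y, η 1 = (e : ℂ)) (hχdeg : χ₁ 1 = (e : ℂ) * m)
    (c : (L → ℂ) → ℕ) (hc : ∀ ξ ∈ X, 0 < c ξ ∧ ξ 1 = (c ξ : ℂ) * (e * m))
    (hdvd : ∃ k : ℤ, classInner (α (χ₁ - (m : ℤ) • η₁)) (τ η₁) = (m : ℂ) * k) :
    IsCoherent (↑(X ∪ Y) : Set (L → ℂ)) {1}ᶜ α := by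
  have hXS : (↑X : Set (L → ℂ)) ⊆ ↑(X ∪ Y) := fun x hx => by simpa using Or.inl hx
  have hYS : (↑Y : Set (L → ℂ)) ⊆ ↑(X ∪ Y) := fun x hx => by simpa using Or.inr hx
  have hirrX : ∀ ξ ∈ X, IsIrrCharacter L ξ := fun ξ h => hirr ξ (Finset.mem_union_left _ h)
  have hirrY : ∀ ξ ∈ Y, IsIrrCharacter L ξ := fun ξ h => hirr ξ (Finset.mem_union_right _ h)
  have htwo : ∀ Z : Finset (L → ℂ), 2 ≤ Z.card → ∃ a ∈ (↑Z : Set (L → ℂ)), ∃ b ∈ (↑Z : Set (L → ℂ)), a ≠ b := by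
    intro Z hZ
    obtain ⟨a, ha, b, hb, hab⟩ := Finset.one_lt_card.mp hZ
    exact ⟨a, ha, b, hb, hab⟩
  have key : ∀ σ' τ' : (L → ℂ) → (G → ℂ), IsLinearIsometryOn (zspan (↑X : Set (L → ℂ))) σ' →
      (∀ θ ∈ zspanOn (↑X : Set (L → ℂ)) {1}ᶜ, σ' θ = α θ) →
      IsLinearIsometryOn (zspan (↑Y : Set (L → ℂ))) τ' →
      (∀ θ ∈ zspanOn (↑Y : Set (L → ℂ)) {1}ᶜ, τ' θ = α θ) →
      α (χ₁ - (m : ℤ) • η₁) = σ' χ₁ - (m : ℂ) • τ' η₁ →
      IsCoherent (↑(X ∪ Y) : Set (L → ℂ)) {1}ᶜ α := by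
    intro σ' τ' h1 h2 h3 h4 h5
    have hu := union_coherent (S := (↑(X ∪ Y) : Set (L → ℂ))) hirr hXS hYS
      (Finset.disjoint_coe.mpr hXY) (htwo X hX2) (htwo Y hY2) α hα hα1 σ' τ' h1 h2 h3 h4
    rw [Finset.coe_union]
    refine hu.2 ⟨χ₁, hχ₁, η₁, hη₁, ?_⟩
    have hmem : χ₁ - (m : ℤ) • η₁ ∈ zspanOn (↑(X ∪ Y) : Set (L → ℂ)) {1}ᶜ :=
      mem_zspanOn_iff.mpr ⟨zspan_sub (subset_zspan (hXS hχ₁)) (zspan_zsmul _ (subset_zspan (hYS hη₁))),
        by simp [hχdeg, hYdeg η₁ hη₁, mul_comm]⟩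
    have hid : χ₁ 1 • η₁ - η₁ 1 • χ₁ = (-(e : ℤ)) • (χ₁ - (m : ℤ) • η₁) := by
      rw [hχdeg, hYdeg η₁ hη₁]
      simp only [int_smul_eq, smul_sub, smul_smul]
      push_cast
      module
    rw [hid, hα.2.1 _ hmem, h5, hχdeg, hYdeg η₁ hη₁]
    simp only [int_smul_eq, smul_sub, smul_smul]
    push_cast
    module
  have part1 := (union_coherent (S := (↑(X ∪ Y) : Set (L → ℂ))) hirr hXS hYS
    (Finset.disjoint_coe.mpr hXY) (htwo X hX2) (htwo Y hY2) α hα hα1 σ τ hσ hσα hτ hτα).1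
  set v := χ₁ - (m : ℤ) • η₁ with hv
  have hvmem : v ∈ zspanOn (↑(X ∪ Y) : Set (L → ℂ)) {1}ᶜ :=
    mem_zspanOn_iff.mpr ⟨zspan_sub (subset_zspan (hXS hχ₁)) (zspan_zsmul _ (subset_zspan (hYS hη₁))),
      by simp [hv, hχdeg, hYdeg η₁ hη₁, mul_comm]⟩
  set T := α v with hT
  have hTg : IsGeneralizedCharacter G T := hα.2.2.2 _ hvmem
  have hXY' : ∀ x ∈ X, ∀ y ∈ Y, classInner x y = 0 := fun x hx y hy =>
    classInner_irr_ne (hirrX x hx) (hirrY y hy) fun h => Finset.disjoint_left.mp hXY hx (h ▸ hy)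
  have hYX' : ∀ x ∈ X, ∀ y ∈ Y, classInner y x = 0 := fun x hx y hy => by
    rw [← classInner_conj_symm, hXY' x hx y hy, map_zero]
  obtain ⟨b, hb⟩ := exists_int_classInner hTg (hσ.2.2.2 _ (subset_zspan (Finset.mem_coe.mpr hχ₁)))
  obtain ⟨k, hk⟩ := hdvd
  set B : ℤ := b - 1 with hB
  set j : ℤ := k + 1 with hj
  have hc1 : c χ₁ = 1 := by
    obtain ⟨-, h⟩ := hc χ₁ hχ₁
    rw [hχdeg] at h
    have h' : ((c χ₁ * (e * m) : ℕ) : ℂ) = ((1 * (e * m) : ℕ) : ℂ) := by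
      push_cast
      linear_combination -h
    exact Nat.eq_of_mul_eq_mul_right (Nat.mul_pos he hm) (Nat.cast_injective h')
  let cX : (L → ℂ) → ℤ := fun ξ => (c ξ : ℤ) * B + if ξ = χ₁ then 1 else 0
  let cY : (L → ℂ) → ℤ := fun η => (m : ℤ) * (j - if η = η₁ then 1 else 0)
  have hcX : ∀ ξ ∈ X, classInner T (σ ξ) = (cX ξ : ℂ) := by
    intro ξ hξ
    set u := ξ - (c ξ : ℤ) • χ₁ with hu
    have hu1 : u ∈ zspanOn (↑X : Set (L → ℂ)) {1}ᶜ :=
      mem_zspanOn_iff.mpr ⟨zspan_sub (subset_zspan (Finset.mem_coe.mpr hξ))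
        (zspan_zsmul _ (subset_zspan (Finset.mem_coe.mpr hχ₁))),
        by simp [hu, (hc ξ hξ).2, hχdeg]⟩
    have h := hα.2.2.1 _ hvmem u (zspanOn_mono hXS hu1)
    rw [← hσα u hu1, hu, map_sub_of_isometry hσ (subset_zspan (Finset.mem_coe.mpr hξ))
      (zspan_zsmul _ (subset_zspan (Finset.mem_coe.mpr hχ₁)))
      (zspan_zsmul _ (zspan_zsmul _ (subset_zspan (Finset.mem_coe.mpr hχ₁)))),
      hσ.2.1 _ (subset_zspan (Finset.mem_coe.mpr hχ₁)), ← hT, hv] at h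
    simp only [int_smul_eq, classInner_sub_left, classInner_sub_right, classInner_smul_left,
      classInner_smul_right, map_intCast, Int.cast_natCast, Complex.conj_natCast, hb,
      hYX' χ₁ hχ₁ η₁ hη₁, hYX' ξ hξ η₁ hη₁, classInner_irr_self (hirrX χ₁ hχ₁)] at h
    have hδ : classInner χ₁ ξ = if ξ = χ₁ then (1 : ℂ) else 0 := by
      rw [classInner_irr (hirrX χ₁ hχ₁) (hirrX ξ hξ)]
      exact if_congr eq_comm rfl rfl
    rw [hδ] at h
    simp only [cX, hB]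
    split_ifs at h ⊢ <;> · push_cast; linear_combination h
  have hcY : ∀ η ∈ Y, classInner T (τ η) = (cY η : ℂ) := by
    intro η hη
    set u := η - η₁ with hu
    have hu1 : u ∈ zspanOn (↑Y : Set (L → ℂ)) {1}ᶜ :=
      sub_mem_zspanOn (Finset.mem_coe.mpr hη) (Finset.mem_coe.mpr hη₁) (by rw [hYdeg η hη, hYdeg η₁ hη₁])
    have h := hα.2.2.1 _ hvmem u (zspanOn_mono hYS hu1)
    rw [← hτα u hu1, hu, map_sub_of_isometry hτ (subset_zspan (Finset.mem_coe.mpr hη))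
      (subset_zspan (Finset.mem_coe.mpr hη₁))
      (zspan_zsmul _ (subset_zspan (Finset.mem_coe.mpr hη₁))), ← hT] at h
    simp only [hv, int_smul_eq, classInner_sub_left, classInner_sub_right, classInner_smul_left,
      Int.cast_natCast, hXY' χ₁ hχ₁ η hη, hXY' χ₁ hχ₁ η₁ hη₁,
      classInner_irr_self (hirrY η₁ hη₁)] at h
    have hδ : classInner η₁ η = if η = η₁ then (1 : ℂ) else 0 := by
      rw [classInner_irr (hirrY η₁ hη₁) (hirrY η hη)]
      exact if_congr eq_comm rfl rfl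
    rw [hδ, hT] at h
    rw [hk] at h
    simp only [cY, hj]
    split_ifs at h ⊢ <;> · push_cast; linear_combination h
  set U := ∑ ξ ∈ X, (cX ξ : ℂ) • σ ξ with hU
  set W := ∑ η ∈ Y, (cY η : ℂ) • τ η with hW
  have hσσ : ∀ x ∈ X, ∀ y ∈ X, classInner (σ x) (σ y) = if x = y then 1 else 0 := fun x hx y hy => by
    rw [hσ.2.2.1 _ (subset_zspan (Finset.mem_coe.mpr hx)) _ (subset_zspan (Finset.mem_coe.mpr hy)),
      classInner_irr (hirrX x hx) (hirrX y hy)]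
  have hττ : ∀ x ∈ Y, ∀ y ∈ Y, classInner (τ x) (τ y) = if x = y then 1 else 0 := fun x hx y hy => by
    rw [hτ.2.2.1 _ (subset_zspan (Finset.mem_coe.mpr hx)) _ (subset_zspan (Finset.mem_coe.mpr hy)),
      classInner_irr (hirrY x hx) (hirrY y hy)]
  have hστ : ∀ x ∈ X, ∀ y ∈ Y, classInner (σ x) (τ y) = 0 := fun x hx y hy => part1 x hx y hy
  have hτσ : ∀ x ∈ X, ∀ y ∈ Y, classInner (τ y) (σ x) = 0 := fun x hx y hy => by
    rw [← classInner_conj_symm, hστ x hx y hy, map_zero]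
  set Γ := T - (U + W) with hΓ
  have hΓσ : ∀ x ∈ X, classInner Γ (σ x) = 0 := by
    intro x hx
    rw [hΓ, hU, hW, classInner_sub_left, classInner_add_left, classInner_sum_left, classInner_sum_left,
      Finset.sum_eq_single x (fun y hy hyx => by rw [classInner_smul_left, hσσ y hy x hx, if_neg hyx, mul_zero])
        (fun h => absurd hx h),
      Finset.sum_eq_zero (fun y hy => by rw [classInner_smul_left, hτσ x hx y hy, mul_zero]),
      classInner_smul_left, hσσ x hx x hx, if_pos rfl, hcX x hx]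
    ring
  have hΓτ : ∀ y ∈ Y, classInner Γ (τ y) = 0 := by
    intro y hy
    rw [hΓ, hU, hW, classInner_sub_left, classInner_add_left, classInner_sum_left, classInner_sum_left,
      Finset.sum_eq_single (s := Y) y (fun z hz hzy => by rw [classInner_smul_left, hττ z hz y hy, if_neg hzy, mul_zero])
        (fun h => absurd hy h),
      Finset.sum_eq_zero (fun x hx => by rw [classInner_smul_left, hστ x hx y hy, mul_zero]),
      classInner_smul_left, hττ y hy y hy, if_pos rfl, hcY y hy]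
    ring
  have hvv : classInner v v = ((1 + (m : ℤ) ^ 2 : ℤ) : ℂ) := by
    simp only [hv, int_smul_eq, classInner_sub_left, classInner_sub_right, classInner_smul_left,
      classInner_smul_right, Int.cast_natCast, Complex.conj_natCast, hXY' χ₁ hχ₁ η₁ hη₁,
      hYX' χ₁ hχ₁ η₁ hη₁, classInner_irr_self (hirrX χ₁ hχ₁), classInner_irr_self (hirrY η₁ hη₁)]
    push_cast
    ring
  have hnorm : classInner Γ Γ =
      ((1 + (m : ℤ) ^ 2 - (∑ ξ ∈ X, cX ξ ^ 2 + ∑ η ∈ Y, cY η ^ 2) : ℤ) : ℂ) := by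
    conv_lhs => arg 2; rw [hΓ]
    rw [classInner_sub_right, classInner_add_right, hU, hW, classInner_sum_right, classInner_sum_right,
      Finset.sum_eq_zero (fun x hx => by rw [classInner_smul_right, hΓσ x hx, mul_zero]),
      Finset.sum_eq_zero (fun y hy => by rw [classInner_smul_right, hΓτ y hy, mul_zero]),
      hΓ, hU, hW, classInner_sub_left, classInner_add_left, classInner_sum_left, classInner_sum_left,
      hT, hα.2.2.1 _ hvmem _ hvmem, hvv, ← hT]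
    push_cast
    rw [Finset.sum_congr rfl (fun x hx => show classInner ((cX x : ℂ) • σ x) T = (cX x : ℂ) ^ 2 by
        rw [classInner_smul_left, ← classInner_conj_symm, hcX x hx, map_intCast, sq]),
      Finset.sum_congr rfl (fun y hy => show classInner ((cY y : ℂ) • τ y) T = (cY y : ℂ) ^ 2 by
        rw [classInner_smul_left, ← classInner_conj_symm, hcY y hy, map_intCast, sq])]
    ring
  have hnn : 0 ≤ 1 + (m : ℤ) ^ 2 - (∑ ξ ∈ X, cX ξ ^ 2 + ∑ η ∈ Y, cY η ^ 2) := by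
    have h := nrm_nonneg Γ
    rw [nrm, hnorm, Complex.intCast_re] at h
    exact_mod_cast h
  set D : ℤ := ∑ ξ ∈ X, (c ξ : ℤ) ^ 2 with hD
  have hD2 : (X.card : ℤ) ≤ D := by
    calc (X.card : ℤ) = ∑ ξ ∈ X, (1 : ℤ) := by simp
      _ ≤ D := Finset.sum_le_sum fun ξ hξ => by
          have := (hc ξ hξ).1
          nlinarith
  have hsX : ∑ ξ ∈ X, cX ξ ^ 2 = B * (B * D + 2) + 1 := by
    have : ∀ ξ ∈ X, cX ξ ^ 2 = B ^ 2 * (c ξ : ℤ) ^ 2 + if ξ = χ₁ then 2 * B + 1 else 0 := by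
      intro ξ _
      simp only [cX]
      split_ifs with h
      · rw [h, hc1]; push_cast; ring
      · ring
    rw [Finset.sum_congr rfl this, Finset.sum_add_distrib, ← Finset.mul_sum, Finset.sum_ite_eq',
      if_pos hχ₁, ← hD]
    ring
  have hsY : ∑ η ∈ Y, cY η ^ 2 = (m : ℤ) ^ 2 * (j * (j * Y.card - 2) + 1) := by
    have : ∀ η ∈ Y, cY η ^ 2 = (m : ℤ) ^ 2 * (j ^ 2 + if η = η₁ then 1 - 2 * j else 0) := by
      intro η _
      simp only [cY]
      split_ifs <;> ring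
    rw [Finset.sum_congr rfl this, ← Finset.mul_sum, Finset.sum_add_distrib, Finset.sum_ite_eq',
      if_pos hη₁, Finset.sum_const, nsmul_eq_mul]
    ring
  have hsmall : ∀ (x N : ℤ), 2 ≤ N → 0 ≤ x * (x * N + 2) ∧
      (x * (x * N + 2) = 0 → x = 0 ∨ (x = -1 ∧ N = 2)) := by
    intro x N hN
    rcases lt_trichotomy x 0 with hx | hx | hx
    · have h1 : x * N + 2 ≤ 0 := by nlinarith
      refine ⟨mul_nonneg_of_nonpos_of_nonpos hx.le h1, fun h => Or.inr ?_⟩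
      have h2 : x * N + 2 = 0 := (mul_eq_zero.mp h).resolve_left hx.ne
      rcases (show x = -1 ∨ x ≤ -2 by omega) with rfl | hx2
      · exact ⟨rfl, by linarith⟩
      · nlinarith
    · subst hx; simp
    · exact ⟨by positivity, fun h => absurd h (mul_pos hx (by nlinarith)).ne'⟩
  obtain ⟨hXnn, hX0⟩ := hsmall B D (le_trans (by exact_mod_cast hX2) hD2)
  obtain ⟨hYnn, hY0⟩ := hsmall (-j) Y.card (by exact_mod_cast hY2)
  have hm2 : (0 : ℤ) < (m : ℤ) ^ 2 := by positivity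
  rw [hsX, hsY] at hnn
  have hBz : B * (B * D + 2) = 0 := by nlinarith
  have hjz : -j * (-j * Y.card + 2) = 0 := by nlinarith
  have hΓ0 : Γ = 0 := by
    refine eq_zero_of_nrm ?_
    rw [nrm, hnorm, hsX, hsY, hBz, show j * (j * (Y.card : ℤ) - 2) = 0 by linear_combination hjz]
    simp
  have hTdec : T = U + W := sub_eq_zero.mp hΓ0
  obtain ⟨σ', hσ', hσ'α, hUσ⟩ : ∃ σ', IsLinearIsometryOn (zspan (↑X : Set (L → ℂ))) σ' ∧
      (∀ θ ∈ zspanOn (↑X : Set (L → ℂ)) {1}ᶜ, σ' θ = α θ) ∧ U = σ' χ₁ := by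
    rcases hX0 hBz with h | ⟨h, hD2'⟩
    · refine ⟨σ, hσ, hσα, ?_⟩
      rw [hU, Finset.sum_eq_single χ₁ (fun y _ hy => by simp [cX, h, hy]) (fun h' => absurd hχ₁ h')]
      simp [cX, h]
    · obtain ⟨χ₂, hχ₂, h21⟩ := Finset.exists_mem_ne hX2 χ₁
      have hset : X = {χ₁, χ₂} := (Finset.eq_of_subset_of_card_le
        (by simp [Finset.insert_subset_iff, hχ₁, hχ₂])
        (by rw [Finset.card_pair h21.symm]; exact_mod_cast hD2' ▸ hD2)).symm
      have hc2 : c χ₂ = 1 := by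
        rw [hD, hset, Finset.sum_pair h21.symm, hc1] at hD2'
        have := (hc χ₂ hχ₂).1
        push_cast at hD2'
        nlinarith
      have hcoe : (↑X : Set (L → ℂ)) = {χ₁, χ₂} := by rw [hset, Finset.coe_pair]
      obtain ⟨σ', h1, h2, h3⟩ := swap_pair (hirrX χ₁ hχ₁) (hirrX χ₂ hχ₂) h21.symm
        (by rw [(hc χ₁ hχ₁).2, (hc χ₂ hχ₂).2, hc1, hc2]) (hcoe ▸ hσ) (hcoe ▸ hσα)
      refine ⟨σ', hcoe ▸ h1, hcoe ▸ h2, ?_⟩
      rw [h3, hU, hset, Finset.sum_pair h21.symm]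
      simp [cX, h, hc1, hc2, h21]
  obtain ⟨τ', hτ', hτ'α, hWτ⟩ : ∃ τ', IsLinearIsometryOn (zspan (↑Y : Set (L → ℂ))) τ' ∧
      (∀ θ ∈ zspanOn (↑Y : Set (L → ℂ)) {1}ᶜ, τ' θ = α θ) ∧ W = -((m : ℂ) • τ' η₁) := by
    rcases hY0 hjz with h | ⟨h, hY2'⟩
    · refine ⟨τ, hτ, hτα, ?_⟩
      rw [neg_eq_zero] at h
      rw [hW, Finset.sum_eq_single η₁ (fun y _ hy => by simp [cY, h, hy]) (fun h' => absurd hη₁ h')]
      simp [cY, h]
    · obtain ⟨η₂, hη₂, h21⟩ := Finset.exists_mem_ne hY2 η₁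
      have hset : Y = {η₁, η₂} := (Finset.eq_of_subset_of_card_le
        (by simp [Finset.insert_subset_iff, hη₁, hη₂])
        (by rw [Finset.card_pair h21.symm]; omega)).symm
      have hcoe : (↑Y : Set (L → ℂ)) = {η₁, η₂} := by rw [hset, Finset.coe_pair]
      obtain ⟨τ', h1, h2, h3⟩ := swap_pair (hirrY η₁ hη₁) (hirrY η₂ hη₂) h21.symm
        (by rw [hYdeg η₁ hη₁, hYdeg η₂ hη₂]) (hcoe ▸ hτ) (hcoe ▸ hτα)
      refine ⟨τ', hcoe ▸ h1, hcoe ▸ h2, ?_⟩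
      have hj1 : j = 1 := by omega
      rw [h3, hW, hset, Finset.sum_pair h21.symm]
      simp [cY, hj1, h21]
  refine key σ' τ' hσ' hσ'α hτ' hτ'α ?_
  rw [hTdec, hUσ, hWτ, sub_eq_add_neg]

end CfsgLib.Char.Coherence
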