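import Cfsg.Agent.Lib.Char.SibleyGlue
import Cfsg.Agent.Lib.Char.CoherenceCentral
import Cfsg.Agent.Lib.Char.CentralTICongr
import Cfsg.Agent.Lib.Char.TICoherent

/-!
# Sibley's coherence theorem for a Frobenius group with TI nilpotent kernel
-/

set_option autoImplicit false
set_option linter.unusedSectionVars false

namespace CfsgLib.Char.SibleyTI

open Cfsg
open scoped ComplexConjugate CfsgLib.Char commutatorElement

universe u

variable {G : Type u} [Group G] [Fintype G] (L : Subgroup G) [Fintype L] (K : Subgroup L) [hK : K.Normal]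
  (hC : ∀ k ∈ K, k ≠ 1 → ∀ x : L, x * k = k * x → x ∈ K)
  (hTI : ∀ g : G, g ∉ L → ∀ t ∈ ((↑) : L → G) '' (K : Set L),
    g * t * g⁻¹ ∈ ((↑) : L → G) '' (K : Set L) → t = 1)

theorem irr_conj {Q : Type*} [Group Q] [Fintype Q] {χ : Q → ℂ} (h : IsIrrCharacter Q χ) :
    IsIrrCharacter Q (conjFun χ) :=
  isIrrCharacter_conj h

theorem conjFun_ind (θ : L → ℂ) : conjFun (indFun L θ) = indFun L (conjFun θ) := by
  classical
  funext g
  simp only [conjFun, indFun, map_mul, map_sum, map_inv₀, map_natCast]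
  congr 1
  refine Finset.sum_congr rfl fun x _ => ?_
  by_cases hx : x⁻¹ * g * x ∈ L
  · rw [extendByZero_mem L _ hx, extendByZero_mem L _ hx]
    rfl
  · rw [extendByZero_notMem L _ hx, extendByZero_notMem L _ hx, map_zero]

include hC in
theorem irr_mem {φ : L → ℂ} (hφ : φ ∈ inducedIrrAbove K ⊥) : IsIrrCharacter L φ := by
  letI : Fintype K := Fintype.ofFinite K
  obtain ⟨θ, h0, h1, -, rfl⟩ := hφ
  exact irreducible_induced_of_centralizer K hC h0 h1

theorem vanish_mem {φ : L → ℂ} (hφ : φ ∈ inducedIrrAbove K ⊥) {x : L} (hx : x ∉ K) : φ x = 0 := by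
  obtain ⟨θ, -, -, -, rfl⟩ := hφ
  exact indFun_notMem_of_normal K θ hx

include hC in
theorem zspan_props {α : L → ℂ} (hα : α ∈ zspan (inducedIrrAbove K ⊥)) :
    IsGeneralizedCharacter L α ∧ ∀ x : L, x ∉ K → α x = 0 := by
  induction hα using Submodule.span_induction with
  | mem φ hφ => exact ⟨isGeneralized_of_isIrr (irr_mem L K hC hφ), fun x hx => vanish_mem L K hφ hx⟩
  | zero => exact ⟨isGeneralized_zero, fun _ _ => rfl⟩
  | add a b _ _ ha hb =>
    exact ⟨isGeneralized_add ha.1 hb.1, fun x hx => by rw [Pi.add_apply, ha.2 x hx, hb.2 x hx, add_zero]⟩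
  | smul n a _ ha =>
    refine ⟨?_, fun x hx => by rw [Pi.smul_apply, ha.2 x hx, smul_zero]⟩
    rw [← Int.cast_smul_eq_zsmul ℂ]
    exact isGeneralized_intCast_smul ha.1 n

include hC hTI in
theorem isometry : IsLinearIsometryOn (zspanOn (inducedIrrAbove K ⊥) {1}ᶜ)
    (fun α : L → ℂ => indFun L α) := by
  refine ⟨fun α _ β _ => indFun_add L α β, fun α _ n => ?_, fun α hα β hβ => ?_, fun α hα => ?_⟩
  · show indFun L (n • α) = n • indFun L α
    rw [← Int.cast_smul_eq_zsmul ℂ, ← Int.cast_smul_eq_zsmul ℂ n (indFun L α), indFun_smul]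
  · obtain ⟨hαz, hα1⟩ := Coherence.mem_zspanOn_iff.mp hα
    obtain ⟨hβz, -⟩ := Coherence.mem_zspanOn_iff.mp hβ
    exact classInner_indFun_of_ti L _ hTI α β (isClassFunction_of_isGeneralized (zspan_props L K hC hβz).1)
      (fun x hx => (zspan_props L K hC hαz).2 x fun h => hx ⟨x, h, rfl⟩)
      (fun x hx => (zspan_props L K hC hβz).2 x fun h => hx ⟨x, h, rfl⟩) hα1
  · exact isGeneralized_indFun L (zspan_props L K hC (Coherence.mem_zspanOn_iff.mp hα).1).1

include hC in
theorem conj_ne (hodd : Odd (Nat.card L)) (hKL : K < ⊤) {φ : L → ℂ} (hφ : φ ∈ inducedIrrAbove K ⊥) :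
    conjFun φ ≠ φ := by
  intro e
  have h1 := irr_real_of_odd hodd ⟨φ, irr_mem L K hC hφ⟩ fun g => Complex.conj_eq_iff_im.mp (congrFun e g)
  obtain ⟨x, -, hx⟩ := SetLike.exists_of_lt hKL
  have h2 := vanish_mem L K hφ hx
  rw [show φ = fun _ => 1 from h1] at h2
  exact one_ne_zero h2

include hC hTI in
theorem exists_system (hodd : Odd (Nat.card L)) (hsolv : Group.IsSolvable K) (hbot : K ≠ ⊥) (hKL : K < ⊤) :
    ∃ R : (L → ℂ) → Finset (G → ℂ),
      IsCoherenceSystem (inducedIrrAbove K ⊥) (fun α : L → ℂ => indFun L α) R := by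
  classical
  letI : Fintype K := Fintype.ofFinite K
  haveI := hsolv
  have hiso := isometry L K hC hTI
  have hmap1 : ∀ α ∈ zspanOn (inducedIrrAbove K ⊥) {1}ᶜ, indFun L α 1 = 0 := fun α hα => by
    rw [indFun_one, (Coherence.mem_zspanOn_iff.mp hα).2, mul_zero]
  have hcl : ∀ φ ∈ inducedIrrAbove K ⊥, conjFun φ ∈ inducedIrrAbove K ⊥ := fun φ h =>
    Descent.inducedIrrAbove_conj K h
  have hT : ∀ φ ∈ inducedIrrAbove K ⊥, φ - conjFun φ ∈ zspanOn (inducedIrrAbove K ⊥) {1}ᶜ := fun φ h =>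
    Coherence.sub_mem_zspanOn h (hcl φ h)
      (Coherence.conjFun_one (isCharacter_of_isIrr (irr_mem L K hC h))).symm
  have hspec : ∀ φ, ∃ μ : G → ℂ, φ ∈ inducedIrrAbove K ⊥ → IsIrrCharacter G μ ∧ conjFun μ ≠ μ ∧
      indFun L (φ - conjFun φ) = μ - conjFun μ := by
    intro φ
    by_cases hφ : φ ∈ inducedIrrAbove K ⊥
    swap
    · exact ⟨0, fun h => absurd h hφ⟩
    have hne := conj_ne L K hC hodd hKL hφ
    have hi := irr_mem L K hC hφ
    have hi' := irr_conj hi
    have hn2 : classInner (indFun L (φ - conjFun φ)) (indFun L (φ - conjFun φ)) = 2 := by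
      rw [hiso.2.2.1 _ (hT φ hφ) _ (hT φ hφ), classInner_sub_left, classInner_sub_right, classInner_sub_right,
        classInner_irr_self hi, classInner_irr_self hi', classInner_irr_ne hi hi' (Ne.symm hne),
        classInner_irr_ne hi' hi hne]
      norm_num
    obtain ⟨μ, ν, hμ, hν, hμν, he⟩ := exists_of_norm_two (hiso.2.2.2 _ (hT φ hφ)) hn2 (hmap1 _ (hT φ hφ))
    change indFun L (φ - conjFun φ) = μ - ν at he
    have hneg : conjFun μ - conjFun ν = ν - μ := by
      have h1 : conjFun (indFun L (φ - conjFun φ)) = -indFun L (φ - conjFun φ) := by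
        rw [conjFun_ind, ← indFun_neg]
        congr 1
        funext x
        simp [conjFun]
      rw [he] at h1
      funext x
      have := congrFun h1 x
      simp only [conjFun, Pi.sub_apply, Pi.neg_apply, map_sub] at this ⊢
      linear_combination this
    have hμ' := irr_conj hμ
    have hν' := irr_conj hν
    have hx := congrArg (fun f => classInner f ν) hneg
    simp only [classInner_sub_left, classInner_irr_self hν, classInner_irr_ne hμ hν hμν, sub_zero] at hx
    rw [classInner_irr hμ' hν, classInner_irr hν' hν] at hx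
    have hν'' : conjFun μ = ν := by
      by_contra hne'
      rw [if_neg hne', zero_sub] at hx
      split_ifs at hx <;> norm_num at hx
    refine ⟨μ, fun _ => ⟨hμ, fun e => hμν (e.symm.trans hν''), ?_⟩⟩
    rw [he, hν'']
  choose μ hμ using hspec
  refine ⟨fun φ => {μ φ, -conjFun (μ φ)}, ?_⟩
  have hpair : ∀ φ ∈ inducedIrrAbove K ⊥, μ φ ≠ -conjFun (μ φ) := by
    intro φ hφ e
    obtain ⟨h1, h2, -⟩ := hμ φ hφ
    have h3 := classInner_irr_self h1
    nth_rw 2 [e] at h3
    rw [classInner_neg_right, classInner_irr_ne h1 (irr_conj h1) h2.symm] at h3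
    norm_num at h3
  obtain ⟨θ, h0, -, h1, -⟩ := Descent.exists_linear (⊥ : Subgroup K) (fun e => hbot (by
    have := congrArg (Subgroup.map K.subtype) e
    rw [Subgroup.map_bot, ← MonoidHom.range_eq_map, Subgroup.range_subtype] at this
    exact this.symm))
  refine
    { nonempty := ⟨indFun K θ, θ, h0, h1, fun a ha => by
        rw [Subgroup.mem_bot] at ha
        rw [show a = 1 from Subtype.ext ha], rfl⟩
      isCharacter := fun χ h => isCharacter_of_isIrr (irr_mem L K hC h)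
      conj_mem := hcl
      conj_ne := fun χ h => conj_ne L K hC hodd hKL h
      isometry := hiso
      map_one := hmap1
      orthogonal := fun χ h φ h' hne => classInner_irr_ne (irr_mem L K hC h) (irr_mem L K hC h') hne
      orthonormal := ?_
      virtual := ?_
      sum_eq := ?_
      disjoint := ?_ }
  · intro χ hχ
    obtain ⟨h1, h2, -⟩ := hμ χ hχ
    have h1' := irr_conj h1
    simp only [Finset.mem_insert, Finset.mem_singleton]
    rintro a (rfl | rfl) b (rfl | rfl)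
    · rw [if_pos rfl, classInner_irr_self h1]
    · rw [if_neg (hpair χ hχ), classInner_neg_right, classInner_irr_ne h1 h1' h2.symm, neg_zero]
    · rw [if_neg (hpair χ hχ).symm, classInner_neg_left, classInner_irr_ne h1' h1 h2, neg_zero]
    · rw [if_pos rfl, classInner_neg_left, classInner_neg_right, neg_neg, classInner_irr_self h1']
  · intro χ hχ
    simp only [Finset.mem_insert, Finset.mem_singleton]
    rintro a (rfl | rfl)
    · exact isGeneralized_of_isIrr (hμ χ hχ).1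
    · exact isGeneralized_neg (isGeneralized_of_isIrr (irr_conj (hμ χ hχ).1))
  · intro χ hχ
    rw [Finset.sum_pair (hpair χ hχ)]
    exact (hμ χ hχ).2.2.trans (sub_eq_add_neg _ _)
  · intro χ hχ φ hφ ho1 ho2
    obtain ⟨h1, h2, h3⟩ := hμ χ hχ
    obtain ⟨g1, g2, g3⟩ := hμ φ hφ
    have hiφ := irr_mem L K hC hφ
    have hiχ := irr_mem L K hC hχ
    have hz : classInner (indFun L (φ - conjFun φ)) (indFun L (χ - conjFun χ)) = 0 := by
      rw [hiso.2.2.1 _ (hT φ hφ) _ (hT χ hχ), classInner_sub_left, classInner_sub_right, classInner_sub_right,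
        ho1, ho2, classInner_irr_ne (irr_conj hiφ) hiχ
          (fun e => by
            rw [← Coherence.conjFun_conjFun φ, e, classInner_irr_self (irr_conj hiχ)] at ho2
            exact one_ne_zero ho2),
        classInner_irr_ne (irr_conj hiφ) (irr_conj hiχ)
          (fun e => by
            rw [← Coherence.conjFun_conjFun φ, e, Coherence.conjFun_conjFun, classInner_irr_self hiχ] at ho1
            exact one_ne_zero ho1)]
      norm_num
    rw [h3, g3, classInner_sub_left, classInner_sub_right, classInner_sub_right] at hz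
    have g1' := irr_conj g1
    have h1' := irr_conj h1
    have hA : μ φ ≠ μ χ := by
      intro e
      rw [e, classInner_irr_self h1, classInner_irr_self h1', classInner_irr_ne h1 h1' h2.symm,
        classInner_irr_ne h1' h1 h2] at hz
      norm_num at hz
    have hB : μ φ ≠ conjFun (μ χ) := by
      intro e
      rw [e, Coherence.conjFun_conjFun, classInner_irr_self h1, classInner_irr_self h1',
        classInner_irr_ne h1 h1' h2.symm, classInner_irr_ne h1' h1 h2] at hz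
      norm_num at hz
    simp only [Finset.mem_insert, Finset.mem_singleton]
    rintro a (rfl | rfl) b (rfl | rfl)
    · exact classInner_irr_ne g1 h1 hA
    · rw [classInner_neg_right, classInner_irr_ne g1 h1' hB, neg_zero]
    · rw [classInner_neg_left, classInner_irr_ne g1' h1
        (fun e => hB (by rw [← e, Coherence.conjFun_conjFun])), neg_zero]
    · rw [classInner_neg_left, classInner_neg_right, classInner_irr_ne g1' h1'
        (fun e => hA (by rw [← Coherence.conjFun_conjFun (μ φ), e, Coherence.conjFun_conjFun])), neg_zero, neg_zero]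

include hC in
/-- The quotient by an invariant subgroup of the kernel is again a Frobenius group. -/
theorem frobenius_quotient (N : Subgroup L) [hN : N.Normal] (hNK : N ≤ K) :
    ∀ k ∈ K, k ∉ N → ∀ x : L, x * k * x⁻¹ * k⁻¹ ∈ N → x ∈ K := by
  intro k hk hkN x hx
  by_contra hxK
  let f : L → L := fun a => x * a * x⁻¹ * a⁻¹
  have finj : ∀ a ∈ K, ∀ b ∈ K, f a = f b → a = b := by
    intro a ha b hb e
    by_contra hne
    refine hxK (hC (b⁻¹ * a) (K.mul_mem (K.inv_mem hb) ha) (fun h => hne (inv_mul_eq_one.mp h).symm) x ?_)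
    calc x * (b⁻¹ * a) = (x * b⁻¹ * x⁻¹ * b) * b⁻¹ * (f a * a) * x := by simp only [f]; group
      _ = (x * b⁻¹ * x⁻¹ * b) * b⁻¹ * (f b * a) * x := by rw [e]
      _ = _ := by simp only [f]; group
  let g : N → N := fun n => ⟨f n, N.mul_mem (hN.conj_mem n n.2 x) (N.inv_mem n.2)⟩
  have ginj : Function.Injective g := fun a b h =>
    Subtype.ext (finj a (hNK a.2) b (hNK b.2) (congrArg Subtype.val h))
  obtain ⟨n, hn⟩ := Finite.surjective_of_injective ginj ⟨f k, hx⟩
  exact hkN (finj k hk n (hNK n.2) (congrArg Subtype.val hn).symm ▸ n.2)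

open Classical in
include hC in
/-- The coefficient of the minimal member in the restriction is divisible by the degree ratio. -/
theorem coeff_dvd (Z : Subgroup L) (hZ1 : Z ≠ ⊥) {X : Set (L → ℂ)}
    (heq : X = {χ | IsIrrCharacter L χ ∧ ∃ z ∈ Z, χ z ≠ χ 1}) (hXS : X ⊆ inducedIrrAbove K ⊥)
    {σ : (L → ℂ) → (G → ℂ)} (hσ : IsLinearIsometryOn (zspan X) σ)
    (hσα : ∀ θ ∈ zspanOn X {1}ᶜ, σ θ = indFun L θ)
    {ψ : G → ℂ} (hψ : IsIrrCharacter G ψ) (horth : ∀ ξ ∈ X, classInner (σ ξ) ψ = 0)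
    {χ₁ : L → ℂ} (hχ₁ : χ₁ ∈ X) {m : ℕ} (hm : 0 < m) (hχdeg : χ₁ 1 = (K.index : ℂ) * m)
    (c : (L → ℂ) → ℕ) (hc : ∀ ξ ∈ X, ξ 1 = (c ξ : ℂ) * χ₁ 1)
    (hcongr : (∀ z ∈ Z, ∀ z' ∈ Z, z ≠ 1 → z' ≠ 1 → ψ (z : G) = ψ (z' : G)) →
      ∀ z ∈ Z, z ≠ 1 → ∃ n d : ℤ, ψ (z : G) = n ∧ ψ 1 = d ∧ (Nat.card K : ℤ) ∣ d - n) :
    ∃ k : ℤ, classInner χ₁ (fun x : L => ψ x) = (m : ℂ) * k := by
  have hgen := isGeneralized_restrict L (isGeneralized_of_isIrr hψ)
  have hcl : IsClassFunction L (fun x : L => ψ x) := isClassFunction_of_isGeneralized hgen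
  have hirr : ∀ ξ ∈ X, IsIrrCharacter L ξ := fun ξ h => by rw [heq] at h; exact h.1
  obtain ⟨a, ha⟩ := exists_int_classInner (isGeneralized_of_isIrr (hirr χ₁ hχ₁)) hgen
  have haX : ∀ ξ ∈ X, classInner (fun x : L => ψ x) ξ = (c ξ : ℂ) * a := by
    intro ξ hξ
    set u := ξ - (c ξ : ℤ) • χ₁ with hu
    have hu1 : u ∈ zspanOn X {1}ᶜ := Coherence.mem_zspanOn_iff.mpr
      ⟨Coherence.zspan_sub (Coherence.subset_zspan hξ) (Coherence.zspan_zsmul _ (Coherence.subset_zspan hχ₁)),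
        by simp [hu, hc ξ hξ]⟩
    have h : classInner (indFun L u) ψ = 0 := by
      rw [← hσα u hu1, hu, Coherence.map_sub_of_isometry hσ (Coherence.subset_zspan hξ)
        (Coherence.zspan_zsmul _ (Coherence.subset_zspan hχ₁))
        (Coherence.zspan_zsmul _ (Coherence.zspan_zsmul _ (Coherence.subset_zspan hχ₁))),
        hσ.2.1 _ (Coherence.subset_zspan hχ₁), Coherence.int_smul_eq, classInner_sub_left,
        classInner_smul_left, horth ξ hξ, horth χ₁ hχ₁, mul_zero, sub_zero]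
    rw [frobenius_reciprocity L u (isClassFunction_of_isCharacter (isCharacter_of_isIrr hψ)), hu,
      Coherence.int_smul_eq, classInner_sub_left, classInner_smul_left, ha, sub_eq_zero] at h
    rw [← classInner_conj_symm, h]
    push_cast
    rw [map_mul, map_natCast, map_intCast]
  have hval : ∀ z ∈ Z, z ≠ 1 → (ψ (z : G) - ψ 1) * ((K.index : ℂ) * m) = -((a : ℂ) * Nat.card L) := by
    intro z hz hz1
    have hexp := classFunction_expansion hcl
    have e1 := congrFun hexp z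
    have e2 := congrFun hexp 1
    simp only [Finset.sum_apply, Pi.smul_apply, smul_eq_mul, OneMemClass.coe_one] at e1 e2
    rw [e1, e2, ← Finset.sum_sub_distrib, Finset.sum_mul]
    have hterm : ∀ ξ : IrrCharacter L,
        (classInner (fun x : L => ψ x) (ξ : L → ℂ) * (ξ : L → ℂ) z -
            classInner (fun x : L => ψ x) (ξ : L → ℂ) * (ξ : L → ℂ) 1) * ((K.index : ℂ) * m) =
          (a : ℂ) * ((ξ : L → ℂ) 1 * (ξ : L → ℂ) z - (ξ : L → ℂ) 1 * (ξ : L → ℂ) 1) := by
      intro ξ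
      by_cases hξ : (ξ : L → ℂ) ∈ X
      · rw [haX _ hξ, ← hχdeg, hc _ hξ]
        ring
      · have hk : (ξ : L → ℂ) z = (ξ : L → ℂ) 1 := by
          by_contra hne
          exact hξ (heq ▸ ⟨ξ.2, z, hz, hne⟩)
        rw [hk]
        ring
    rw [Finset.sum_congr rfl fun ξ _ => hterm ξ, ← Finset.mul_sum, Finset.sum_sub_distrib,
      sum_degree_mul_irr, sum_degree_mul_irr, if_neg hz1, if_pos rfl]
    ring
  have he0 : (K.index : ℂ) * m ≠ 0 :=
    mul_ne_zero (Nat.cast_ne_zero.mpr Subgroup.index_ne_zero_of_finite) (Nat.cast_ne_zero.mpr hm.ne')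
  have hconst : ∀ z ∈ Z, ∀ z' ∈ Z, z ≠ 1 → z' ≠ 1 → ψ (z : G) = ψ (z' : G) := fun z hz z' hz' h h' => by
    have := mul_right_cancel₀ he0 ((hval z hz h).trans (hval z' hz' h').symm)
    linear_combination this
  obtain ⟨z, hz, hz1⟩ := (Subgroup.bot_or_exists_ne_one Z).resolve_left hZ1
  obtain ⟨n, d, hn, hd, q, hq⟩ := hcongr hconst z hz hz1
  refine ⟨q, ?_⟩
  have h := hval z hz hz1
  rw [hn, hd, show (Nat.card L : ℂ) = (Nat.card K : ℂ) * K.index by
    rw [← K.card_mul_index, Nat.cast_mul]] at h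
  have hq' : (d : ℂ) - n = (Nat.card K : ℂ) * q := by exact_mod_cast congrArg (Int.cast (R := ℂ)) hq
  have hne : (Nat.card K : ℂ) * K.index ≠ 0 :=
    mul_ne_zero (Nat.cast_ne_zero.mpr Nat.card_pos.ne') (Nat.cast_ne_zero.mpr Subgroup.index_ne_zero_of_finite)
  rw [ha]
  refine mul_right_cancel₀ hne ?_
  linear_combination h + (K.index : ℂ) * m * hq'

open Classical in
include hC hTI in
/-- **Sibley's coherence theorem** for a Frobenius group with a TI nilpotent kernel. -/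
theorem coherent (hodd : Odd (Nat.card L)) (hnil : Group.IsNilpotent K) (hbot : K ≠ ⊥) (hKL : K < ⊤)
    (hTI' : IsTISubset ((K.map L.subtype : Subgroup G) : Set G))
    (hN : Subgroup.normalizer ((K.map L.subtype : Subgroup G) : Set G) = L) :
    IsCoherent (inducedIrrAbove K ⊥) {1}ᶜ (fun α : L → ℂ => indFun L α) := by
  letI : Fintype K := Fintype.ofFinite K
  haveI := hnil
  have hsolv : Group.IsSolvable K := inferInstance
  obtain ⟨R, hS⟩ := exists_system L K hC hTI hodd hsolv hbot hKL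
  have hiso := isometry L K hC hTI
  have hirr : ∀ φ ∈ inducedIrrAbove K ⊥, IsIrrCharacter L φ := fun φ h => irr_mem L K hC h
  have hH₁K : ⁅K, K⁆ < K := by
    refine lt_of_le_of_ne (Subgroup.commutator_le.mpr fun a ha b hb => ?_) fun e => ?_
    · rw [commutatorElement_def]
      exact K.mul_mem (K.mul_mem (K.mul_mem ha hb) (K.inv_mem ha)) (K.inv_mem hb)
    · haveI : Nontrivial K := (Subgroup.nontrivial_iff_ne_bot K).mpr hbot
      refine (Group.IsSolvable.commutator_lt_top_of_nontrivial K).ne ?_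
      refine Subgroup.map_injective K.subtype_injective ?_
      rw [commutator_def, Subgroup.map_commutator, ← MonoidHom.range_eq_map, Subgroup.range_subtype, e]
  have hfrob := frobenius_quotient L K hC ⁅K, K⁆ hH₁K.le
  haveI hb : ((⊥ : Subgroup L).subgroupOf K).Normal := by rw [Subgroup.bot_subgroupOf]; infer_instance
  have hnilq : Group.IsNilpotent (↥K ⧸ (⊥ : Subgroup L).subgroupOf K) :=
    Group.nilpotent_of_surjective (QuotientGroup.mk' _) (QuotientGroup.mk'_surjective _)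
  by_cases hgood : ⁅K, K⁆ ≤ ⊥ ∨ ¬ ∃ p m : ℕ, p.Prime ∧ (⊥ : Subgroup L).relIndex K = p ^ m
  · refine Descent.coherent_small_factor K hsolv hS hodd ⊥ bot_le hnilq ⁅K, K⁆ (by rw [sup_bot_eq]) hH₁K hKL
      hfrob ?_
    rcases hgood with h | h
    · exact Or.inr (Or.inr (Or.inr (Or.inl h)))
    · exact Or.inr (Or.inr (Or.inl h))
  rw [not_or, not_not] at hgood
  obtain ⟨hnab, p, n, hp, hpm⟩ := hgood
  rw [Subgroup.relIndex_bot_left] at hpm
  haveI := Fact.mk hp
  have hpK : IsPGroup p K := IsPGroup.of_card hpm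
  have hp1 : ∀ j : ℕ, 1 < p ^ j → p ∣ p ^ j := fun j hj =>
    dvd_pow_self p fun h => by rw [h, pow_zero] at hj; omega
  have hep : ¬ p ∣ K.index := by
    intro hd
    have h1 := hd.trans (Descent.index_dvd_sub_one K _ hH₁K.le le_rfl hfrob)
    obtain ⟨j, -, hj⟩ := (Nat.dvd_prime_pow hp).mp (hpm ▸ Subgroup.relIndex_dvd_card ⁅K, K⁆ K)
    rw [hj] at h1
    have hj0 : 1 < p ^ j := Nat.one_lt_pow (fun h0 => hH₁K.not_ge (Subgroup.relIndex_eq_one.mp
      (by rw [hj, h0, pow_zero]))) hp.one_lt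
    have h3 := Nat.dvd_sub (hp1 j hj0) h1
    rw [Nat.sub_sub_self (Nat.one_le_pow _ _ hp.pos)] at h3
    exact hp.not_dvd_one h3
  -- the Sylow subgroup
  have hPcard : Nat.card (K.map L.subtype : Subgroup G) = p ^ n := by
    rw [Subgroup.card_map_of_injective L.subtype_injective, hpm]
  have hPidx : ¬ p ∣ (K.map L.subtype : Subgroup G).index := by
    intro hd
    have h1 : p ^ (n + 1) ∣ Nat.card G := by
      rw [← Subgroup.card_mul_index (K.map L.subtype : Subgroup G), hPcard, pow_succ]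
      exact mul_dvd_mul_left _ hd
    have h2 := Sylow.prime_pow_dvd_card_normalizer h1 hPcard
    rw [hN, ← K.card_mul_index, hpm, pow_succ] at h2
    exact hep (Nat.dvd_of_mul_dvd_mul_left (pow_pos hp.pos _) h2)
  let P : Sylow p G := (IsPGroup.of_card hPcard).toSylow hPidx
  -- the central subgroup
  set Z : Subgroup L := ⁅K, K⁆ ⊓ Subgroup.centralizer (K : Set L) with hZdef
  have hZK : Z ≤ K := inf_le_left.trans hH₁K.le
  have hZc : ∀ z ∈ Z, ∀ k ∈ K, z * k = k * z := fun z hz k hk =>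
    (Subgroup.mem_centralizer_iff.mp (Subgroup.mem_inf.mp hz).2 k hk).symm
  have hZ1 : Z ≠ ⊥ := by
    intro hZ
    obtain ⟨z, hz, hzc, hzo⟩ := exists_central_of_normal hpK ((⁅K, K⁆).subgroupOf K) (fun h => hnab
      fun x hx => by
        have : (⟨x, hH₁K.le hx⟩ : K) ∈ ((⁅K, K⁆).subgroupOf K) := hx
        rw [h, Subgroup.mem_bot] at this
        exact Subgroup.mem_bot.mpr (congrArg Subtype.val this))
    have hmem : (z : L) ∈ Z := Subgroup.mem_inf.mpr ⟨hz, Subgroup.mem_centralizer_iff.mpr fun k hk =>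
      congrArg Subtype.val (Subgroup.mem_center_iff.mp hzc ⟨k, hk⟩)⟩
    rw [hZ, Subgroup.mem_bot] at hmem
    rw [show z = 1 from Subtype.ext hmem, orderOf_one] at hzo
    exact hp.ne_one hzo.symm
  have hirrX : ∀ χ ∈ inducedIrrAbove K ⊥ \ inducedIrrAbove K Z, IsIrrCharacter L χ := fun χ h => hirr χ h.1
  obtain ⟨heq, hXcoh⟩ := Descent.coherent_central K hsolv hS hodd hnil hH₁K hKL hfrob Z hZ1 hZK hZc hirrX
  have hYcoh := Descent.coherent_abelian K hsolv hS ⁅K, K⁆ hH₁K le_rfl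
  have hYZ : inducedIrrAbove K ⁅K, K⁆ ⊆ inducedIrrAbove K Z := Descent.inducedIrrAbove_anti K inf_le_left
  have hsub : ∀ A : Subgroup L, inducedIrrAbove K A ⊆ inducedIrrAbove K ⊥ := fun A =>
    Descent.inducedIrrAbove_anti K bot_le
  -- numerical facts on `Z`
  have hzdvd : K.index ∣ Nat.card Z - 1 := by
    refine Descent.dvd_card_sub_one Z _ fun x hx hx1 => ?_
    congr 1
    refine le_antisymm (fun y hy => hC x (hZK hx) hx1 y (Subgroup.mem_centralizer_singleton_iff.mp hy))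
      fun y hy => Subgroup.mem_centralizer_singleton_iff.mpr (hZc x hx y hy).symm
  have hr : 2 ≤ Z.relIndex K := by
    have h0 : Z.relIndex K ≠ 0 := Subgroup.index_ne_zero_of_finite
    have h1 : Z.relIndex K ≠ 1 := fun h => hH₁K.not_ge ((Subgroup.relIndex_eq_one.mp h).trans inf_le_left)
    omega
  have hzr : Nat.card K = Nat.card Z * Z.relIndex K := by
    rw [Subgroup.relIndex, ← Nat.card_congr (Subgroup.subgroupOfEquivOfLe hZK).toEquiv]
    exact ((Z.subgroupOf K).card_mul_index).symm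
  have he2 : 2 * K.index ≤ Nat.card Z - 1 := by
    have heo : Odd K.index := hodd.of_dvd_nat K.index_dvd_card
    have hzo : Odd (Nat.card Z) := hodd.of_dvd_nat (Subgroup.card_subgroup_dvd_card Z)
    have hz2 : 1 < Nat.card Z := (Subgroup.one_lt_card_iff_ne_bot Z).mpr hZ1
    obtain ⟨i, hi⟩ := hzdvd
    rcases i with _ | _ | i
    · omega
    · obtain ⟨a, ha⟩ := heo; obtain ⟨b, hb⟩ := hzo; omega
    · have : 2 * K.index ≤ K.index * (i + 1 + 1) := by nlinarith
      omega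
  -- degrees
  have hθdeg : ∀ θ : K → ℂ, IsIrrCharacter K θ → ∃ j, θ 1 = ((p ^ j : ℕ) : ℂ) := fun θ h0 => by
    obtain ⟨f, hf, -, q, hq⟩ := exists_degree_dvd_card h0
    obtain ⟨j, -, hj⟩ := (Nat.dvd_prime_pow hp).mp (⟨q, hpm ▸ hq⟩ : f ∣ p ^ n)
    exact ⟨j, by rw [hf, hj]⟩
  have hdeg : ∀ φ ∈ inducedIrrAbove K ⊥, ∃ j, φ 1 = ((K.index * p ^ j : ℕ) : ℂ) := by
    rintro φ ⟨θ, h0, -, -, rfl⟩
    obtain ⟨j, hj⟩ := hθdeg θ h0
    exact ⟨j, by rw [indFun_one, hj, Nat.cast_mul]⟩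
  choose! a ha using hdeg
  have hbound : ∀ (B D : Subgroup L), B.Normal → D.Normal → B ≤ D → D ≤ K →
      (∀ x ∈ D, ∀ y ∈ K, x * y * x⁻¹ * y⁻¹ ∈ B) → ∀ φ ∈ inducedIrrAbove K B,
        p ^ a φ * p ^ a φ ≤ D.relIndex K := by
    intro B D hB hD hBD hDK hcent φ hφ
    have hval := ha φ (hsub B hφ)
    obtain ⟨θ, h0, -, hker, rfl⟩ := hφ
    obtain ⟨j, hj⟩ := hθdeg θ h0
    rw [indFun_one, hj, ← Nat.cast_mul, Nat.cast_inj] at hval
    have h1 := Descent.sq_degree_le K h0 B K D hBD hDK le_rfl hcent hker hj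
    rw [Subgroup.relIndex_self, one_pow, one_mul] at h1
    rw [← Nat.eq_of_mul_eq_mul_left (Nat.pos_of_ne_zero Subgroup.index_ne_zero_of_finite) hval]
    exact h1
  have hY0 : ∀ φ ∈ inducedIrrAbove K ⁅K, K⁆, p ^ a φ = 1 := fun φ hφ => by
    have h := hbound ⁅K, K⁆ K inferInstance inferInstance hH₁K.le le_rfl (fun x hx y hy => by
      rw [← commutatorElement_def]; exact Subgroup.commutator_mem_commutator hx hy) φ hφ
    rw [Subgroup.relIndex_self] at h
    have : 0 < p ^ a φ := pow_pos hp.pos _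
    nlinarith
  set FX := (Descent.family K (⊥ : Subgroup L)).filter fun φ => φ ∈ inducedIrrAbove K ⊥ \ inducedIrrAbove K Z
    with hFX
  set FY := Descent.family K ⁅K, K⁆ with hFY
  have hFXc : (↑FX : Set (L → ℂ)) = inducedIrrAbove K ⊥ \ inducedIrrAbove K Z := by
    ext φ
    rw [hFX, Finset.coe_filter, Set.mem_setOf_eq, ← Finset.mem_coe, Descent.coe_family]
    exact ⟨And.right, fun h => ⟨h.1, h⟩⟩
  have hFYc : (↑FY : Set (L → ℂ)) = inducedIrrAbove K ⁅K, K⁆ := Descent.coe_family K _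
  have memX : ∀ {φ}, φ ∈ FX ↔ φ ∈ inducedIrrAbove K ⊥ \ inducedIrrAbove K Z := fun {φ} => by
    rw [← Finset.mem_coe, hFXc]
  have memY : ∀ {φ}, φ ∈ FY ↔ φ ∈ inducedIrrAbove K ⁅K, K⁆ := fun {φ} => by
    rw [← Finset.mem_coe, hFYc]
  have hirrU : ∀ ξ ∈ FX ∪ FY, IsIrrCharacter L ξ := fun ξ h => by
    rcases Finset.mem_union.mp h with h | h
    · exact hirr ξ (memX.mp h).1
    · exact hirr ξ (hsub _ (memY.mp h))
  have hUS : (↑(FX ∪ FY) : Set (L → ℂ)) ⊆ inducedIrrAbove K ⊥ := by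
    rw [Finset.coe_union, hFXc, hFYc]
    exact Set.union_subset Set.diff_subset (hsub _)
  have hdisj : Disjoint FX FY := Finset.disjoint_left.mpr fun φ hx hy => (memX.mp hx).2 (hYZ (memY.mp hy))
  have hconjX : ∀ φ ∈ FX, conjFun φ ∈ FX := by
    intro φ h
    rw [memX, heq] at h ⊢
    obtain ⟨hi, z, hz, hne⟩ := h
    exact ⟨irr_conj hi, z, hz, fun e => hne ((starRingEnd ℂ).injective e)⟩
  have hconjY : ∀ φ ∈ FY, conjFun φ ∈ FY := fun φ h =>
    memY.mpr (Descent.inducedIrrAbove_conj K (memY.mp h))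
  have htwo : ∀ (F : Finset (L → ℂ)), (∀ φ ∈ F, φ ∈ inducedIrrAbove K ⊥) → (∀ φ ∈ F, conjFun φ ∈ F) →
      F.Nonempty → 2 ≤ F.card := fun F hF hc hne => by
    obtain ⟨φ, hφ⟩ := hne
    exact Finset.one_lt_card.mpr ⟨_, hc φ hφ, φ, hφ, hS.conj_ne φ (hF φ hφ)⟩
  obtain ⟨z₀, hz₀, hz₀1⟩ := (Subgroup.bot_or_exists_ne_one Z).resolve_left hZ1
  have hFXne : FX.Nonempty := by
    by_contra hne
    refine hz₀1 (eq_one_of_forall_irr fun χ => ?_)
    by_contra hχ
    exact hne ⟨(χ : L → ℂ), memX.mpr (heq ▸ ⟨χ.2, z₀, hz₀, hχ⟩)⟩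
  have hFYne : FY.Nonempty := by
    obtain ⟨θ, h0, -, h1, h2⟩ := Descent.exists_linear ((⁅K, K⁆).subgroupOf K)
      (fun e => hH₁K.not_ge (Subgroup.subgroupOf_eq_top.mp e))
    exact ⟨indFun K θ, memY.mpr ⟨θ, h0, h1, fun a ha => h2 a ha, rfl⟩⟩
  obtain ⟨χ₁, hχ₁, hmin⟩ := FX.exists_min_image a hFXne
  obtain ⟨η₁, hη₁⟩ := hFYne
  have hYdeg : ∀ η ∈ FY, η 1 = (K.index : ℂ) := fun η h => by
    rw [ha η (hsub _ (memY.mp h)), hY0 η (memY.mp h), mul_one]
  obtain ⟨-, σ, hσ, hσα⟩ := hXcoh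
  obtain ⟨-, τ, hτ, hτα⟩ := hYcoh
  rw [← hFXc] at hσ hσα
  rw [← hFYc] at hτ hτα
  have hαU : IsLinearIsometryOn (zspanOn (↑(FX ∪ FY) : Set (L → ℂ)) {1}ᶜ) (fun α : L → ℂ => indFun L α) :=
    ⟨fun x hx y hy => hiso.1 x (Coherence.zspanOn_mono hUS hx) y (Coherence.zspanOn_mono hUS hy),
      fun x hx k => hiso.2.1 x (Coherence.zspanOn_mono hUS hx) k,
      fun x hx y hy => hiso.2.2.1 x (Coherence.zspanOn_mono hUS hx) y (Coherence.zspanOn_mono hUS hy),
      fun x hx => hiso.2.2.2 x (Coherence.zspanOn_mono hUS hx)⟩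
  have hαU1 : ∀ θ ∈ zspanOn (↑(FX ∪ FY) : Set (L → ℂ)) {1}ᶜ, indFun L θ 1 = 0 := fun θ hθ =>
    hS.map_one θ (Coherence.zspanOn_mono hUS hθ)
  have hXU : (↑FX : Set (L → ℂ)) ⊆ ↑(FX ∪ FY) := fun x hx => Finset.mem_coe.mpr (Finset.mem_union_left _ hx)
  have hYU : (↑FY : Set (L → ℂ)) ⊆ ↑(FX ∪ FY) := fun x hx => Finset.mem_coe.mpr (Finset.mem_union_right _ hx)
  have hXtwo := htwo FX (fun φ h => (memX.mp h).1) hconjX hFXne
  have hYtwo := htwo FY (fun φ h => hsub _ (memY.mp h)) hconjY ⟨η₁, hη₁⟩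
  have part1 := (Coherence.union_coherent (S := (↑(FX ∪ FY) : Set (L → ℂ))) hirrU hXU hYU
    (Finset.disjoint_coe.mpr hdisj) ⟨_, Finset.mem_coe.mpr (hconjX χ₁ hχ₁), χ₁, hχ₁, hS.conj_ne χ₁ (memX.mp hχ₁).1⟩
    ⟨_, Finset.mem_coe.mpr (hconjY η₁ hη₁), η₁, hη₁, hS.conj_ne η₁ (hsub _ (memY.mp hη₁))⟩
    (fun α : L → ℂ => indFun L α) hαU hαU1 σ τ hσ hσα hτ hτα).1
  obtain ⟨ε, hε, ψ, hψ⟩ := Coherence.signed_of_image
    (fun ξ (h : ξ ∈ (↑FY : Set (L → ℂ))) => hirrU ξ (Finset.mem_union_right _ h)) hτ (Finset.mem_coe.mpr hη₁)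
  have hεc : ∃ i : ℤ, ε = i ∧ conj ε = i ∧ ε ≠ 0 := by
    rcases hε with rfl | rfl
    · exact ⟨1, by simp, by simp, one_ne_zero⟩
    · exact ⟨-1, by simp, by simp, by norm_num⟩
  obtain ⟨i, hi, hi', hε0⟩ := hεc
  have hcU : ∀ ξ ∈ FX, ξ 1 = ((p ^ (a ξ - a χ₁) : ℕ) : ℂ) * χ₁ 1 := fun ξ hξ => by
    rw [ha ξ (memX.mp hξ).1, ha χ₁ (memX.mp hχ₁).1, ← Nat.cast_mul, Nat.cast_inj,
      show p ^ (a ξ - a χ₁) * (K.index * p ^ a χ₁) = K.index * (p ^ (a ξ - a χ₁) * p ^ a χ₁) by ring,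
      pow_sub_mul_pow p (hmin ξ hξ)]
  have hχdeg : χ₁ 1 = (K.index : ℂ) * (p ^ a χ₁ : ℕ) := by rw [ha χ₁ (memX.mp hχ₁).1, Nat.cast_mul]
  obtain ⟨q, hq⟩ := coeff_dvd L K hC Z hZ1 (X := (↑FX : Set (L → ℂ))) (hFXc.trans heq)
    (fun φ h => (memX.mp h).1) hσ hσα ψ.2 (fun ξ hξ => by
      have h := part1 ξ hξ η₁ hη₁
      rw [hψ, classInner_smul_right, mul_eq_zero, map_eq_zero] at h
      exact h.resolve_left hε0)
    (Finset.mem_coe.mpr hχ₁) (pow_pos hp.pos _) hχdeg (fun ξ => p ^ (a ξ - a χ₁)) hcU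
    (fun hconst z hz hz1 => by
      have hP : (P : Subgroup G) = K.map L.subtype := rfl
      have hZP : Z.map L.subtype ≤ (P : Subgroup G) := hP ▸ Subgroup.map_mono hZK
      have hinj : ∀ w : L, (w : G) = 1 → w = 1 := fun w h => Subtype.ext h
      obtain ⟨n', d', h1, h2, h3⟩ := CentralTI.congruence p P (hP ▸ hTI') (Z.map L.subtype) hZP
        (fun x hx w hw => by
          rw [hP, hN] at hx
          obtain ⟨w', hw', rfl⟩ := hw
          exact ⟨⟨x, hx⟩ * w' * ⟨x, hx⟩⁻¹, Subgroup.Normal.conj_mem inferInstance _ hw' _, rfl⟩)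
        (fun w hw y hy => by
          obtain ⟨w', hw', rfl⟩ := hw
          rw [hP] at hy
          obtain ⟨y', hy', rfl⟩ := hy
          exact congrArg L.subtype (hZc w' hw' y' hy'))
        (by rw [hP, hN]; exact hodd) ψ.2
        (fun w hw w' hw' hw1 hw1' => by
          obtain ⟨v, hv, rfl⟩ := hw
          obtain ⟨v', hv', rfl⟩ := hw'
          exact hconst v hv v' hv' (fun e => hw1 (by rw [e]; rfl)) (fun e => hw1' (by rw [e]; rfl)))
        (Subgroup.mem_map_of_mem L.subtype hz) (fun e => hz1 (hinj z e))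
      refine ⟨n', d', h1, h2, ?_⟩
      rw [hP, hPcard] at h3
      rw [hpm]
      exact h3)
  obtain ⟨b, hb⟩ := exists_int_classInner (isGeneralized_of_isIrr (hirrU η₁ (Finset.mem_union_right _ hη₁)))
    (isGeneralized_restrict L (isGeneralized_of_isIrr ψ.2))
  have hglue : IsCoherent (↑(FX ∪ FY) : Set (L → ℂ)) {1}ᶜ (fun α : L → ℂ => indFun L α) := by
    refine Coherence.glue hirrU hdisj hXtwo hYtwo _ hαU hαU1 σ τ hσ hσα hτ hτα hχ₁ hη₁
      (Nat.pos_of_ne_zero Subgroup.index_ne_zero_of_finite) (pow_pos hp.pos (a χ₁)) hYdeg hχdeg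
      (fun ξ => p ^ (a ξ - a χ₁)) (fun ξ hξ => ⟨pow_pos hp.pos _, by rw [hcU ξ hξ, hχdeg]⟩) ⟨i * (q - b), ?_⟩
    show classInner (indFun L _) (τ η₁) = _
    rw [hψ, classInner_smul_right, hi',
      frobenius_reciprocity L _ (isClassFunction_of_isCharacter (isCharacter_of_isIrr ψ.2)),
      Coherence.int_smul_eq, classInner_sub_left, classInner_smul_left, hb, hq]
    push_cast
    ring
  -- the remaining members, one at a time
  set T := Descent.family K (⊥ : Subgroup L) \ (FX ∪ FY) with hT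
  have hTmem : ∀ φ ∈ T, φ ∈ inducedIrrAbove K ⊥ ∧ φ ∈ inducedIrrAbove K Z ∧ φ ∉ FX ∪ FY := by
    intro φ hφ
    obtain ⟨h1, h2⟩ := Finset.mem_sdiff.mp hφ
    rw [← Finset.mem_coe, Descent.coe_family] at h1
    refine ⟨h1, ?_, h2⟩
    by_contra h3
    exact h2 (Finset.mem_union_left _ (memX.mpr ⟨h1, h3⟩))
  set d : (L → ℂ) → ℕ := fun φ => K.index * p ^ a φ with hd
  have hsumX : (∑ φ ∈ FX, d φ * d φ) + K.index * Z.relIndex K = K.index * Nat.card K := by
    have hn : ∀ φ ∈ inducedIrrAbove K ⊥, classInner φ φ = (((fun _ => 1) φ : ℕ) : ℂ) := fun φ h => by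
      rw [Nat.cast_one, classInner_irr_self (hirr φ h)]
    have e1 := Descent.sum_sq_div K ⊥ d (fun _ => 1) (fun φ h => ha φ h) hn
    have e2 := Descent.sum_sq_div K Z d (fun _ => 1) (fun φ h => ha φ (hsub _ h)) (fun φ h => hn φ (hsub _ h))
    simp only [Nat.cast_one, div_one, Subgroup.relIndex_bot_left] at e1 e2
    have hsubF : Descent.family K Z ⊆ Descent.family K (⊥ : Subgroup L) := by
      rw [← Finset.coe_subset, Descent.coe_family, Descent.coe_family]
      exact hsub Z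
    have hsd : Descent.family K (⊥ : Subgroup L) \ Descent.family K Z = FX := by
      rw [← Finset.coe_inj, Finset.coe_sdiff, Descent.coe_family, Descent.coe_family, hFXc]
    rw [← Finset.sum_sdiff hsubF, hsd, e2] at e1
    rw [← Nat.cast_inj (R := ℝ)]
    push_cast
    have : ∑ φ ∈ FX, (d φ : ℝ) * d φ = ∑ φ ∈ FX, (d φ : ℝ) ^ 2 := Finset.sum_congr rfl fun φ _ => (sq _).symm
    linarith
  have hall : ∀ T' : Finset (L → ℂ), T' ⊆ T →
      IsCoherent (↑(FX ∪ FY ∪ T') : Set (L → ℂ)) {1}ᶜ (fun α : L → ℂ => indFun L α) := by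
    intro T'
    induction T' using Finset.induction with
    | empty => intro _; rwa [Finset.union_empty]
    | insert χ T' hχT' ih =>
      intro hsubT
      obtain ⟨hχS, hχZ, hχU⟩ := hTmem χ (hsubT (Finset.mem_insert_self _ _))
      have hmemS : ∀ ξ ∈ insert χ (FX ∪ FY ∪ T'), ξ ∈ inducedIrrAbove K ⊥ := by
        intro ξ hξ
        rcases Finset.mem_insert.mp hξ with rfl | hξ
        · exact hχS
        rcases Finset.mem_union.mp hξ with h | h
        · exact hUS h
        · exact (hTmem ξ (hsubT (Finset.mem_insert_of_mem h))).1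
      have hsubS : (↑(insert χ (FX ∪ FY ∪ T')) : Set (L → ℂ)) ⊆ inducedIrrAbove K ⊥ := fun ξ h => hmemS ξ h
      rw [Finset.union_insert]
      refine Coherence.feit_criterion (FX ∪ FY ∪ T') (fun ξ h => hirr ξ (hmemS ξ (Finset.mem_insert_of_mem h)))
        (hirr χ hχS) (fun h => (Finset.mem_union.mp h).elim hχU hχT') d (fun ξ h => ha ξ (hmemS ξ h)) _
        ⟨fun x hx y hy => hiso.1 x (Coherence.zspanOn_mono hsubS hx) y (Coherence.zspanOn_mono hsubS hy),
          fun x hx k => hiso.2.1 x (Coherence.zspanOn_mono hsubS hx) k,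
          fun x hx y hy => hiso.2.2.1 x (Coherence.zspanOn_mono hsubS hx) y (Coherence.zspanOn_mono hsubS hy),
          fun x hx => hiso.2.2.2 x (Coherence.zspanOn_mono hsubS hx)⟩
        (fun x hx => hS.map_one x (Coherence.zspanOn_mono hsubS hx))
        (ih fun x hx => hsubT (Finset.mem_insert_of_mem hx))
        (Finset.mem_union_left _ (Finset.mem_union_right _ hη₁)) ?_ ?_
      · simp only [hd, hY0 η₁ (memY.mp hη₁), mul_one]
        exact dvd_mul_right _ _
      · have hle : ∑ φ ∈ FX, d φ * d φ ≤ ∑ φ ∈ FX ∪ FY ∪ T', d φ ^ 2 := by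
          simp only [sq]
          exact Finset.sum_le_sum_of_subset (Finset.subset_union_left.trans Finset.subset_union_left)
        refine lt_of_lt_of_le ?_ hle
        have hθ := hbound Z Z inferInstance inferInstance le_rfl hZK (fun x hx y hy => by
          rw [hZc x hx y hy]; simp [mul_assoc]) χ hχZ
        have hlt : p ^ a χ < Z.relIndex K := by
          by_contra h
          nlinarith
        have he : 0 < K.index := Nat.pos_of_ne_zero Subgroup.index_ne_zero_of_finite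
        have hz1 : 1 ≤ Nat.card Z := Nat.card_pos
        rw [hzr] at hsumX
        simp only [hd, hY0 η₁ (memY.mp hη₁), mul_one] at hsumX ⊢
        have k1 : 2 * K.index * (K.index * p ^ a χ) < K.index * ((Nat.card Z - 1) * Z.relIndex K) := by
          rw [show 2 * K.index * (K.index * p ^ a χ) = K.index * ((2 * K.index) * p ^ a χ) by ring]
          exact Nat.mul_lt_mul_of_pos_left
            (lt_of_lt_of_le (Nat.mul_lt_mul_of_pos_left hlt (by omega)) (Nat.mul_le_mul_right _ he2)) he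
        obtain ⟨z', hz'⟩ := Nat.exists_eq_add_of_le hz1
        rw [hz'] at hsumX k1
        rw [Nat.add_sub_cancel_left] at k1
        nlinarith
  have hfull : (↑(FX ∪ FY ∪ T) : Set (L → ℂ)) = inducedIrrAbove K ⊥ := by
    rw [hT, Finset.union_sdiff_of_subset, Descent.coe_family]
    intro φ hφ
    rw [← Finset.mem_coe, Descent.coe_family]
    exact hUS hφ
  exact hfull ▸ hall T subset_rfl

end CfsgLib.Char.SibleyTI
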