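import Cfsg.Agent.Lib.Char.SibleyTI
import Cfsg.Agent.Lib.Char.FeitFrobenius
import Cfsg.Prelude.Def_Transfer

/-!
# Coherence for TI subgroups with Frobenius normaliser
-/

set_option autoImplicit false
set_option linter.unusedSectionVars false
set_option linter.style.haveILetI false

namespace CfsgLib.Char.SibleyTIFN

open Cfsg
open scoped ComplexConjugate CfsgLib.Char commutatorElement
open CfsgLib.Char.TINilpotent (deg deg_cast deg_triv triv)

universe u

section Frobenius

variable {N : Type u} [Group N] [Fintype N] (K : Subgroup N) [hK : K.Normal]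
  (hC : ∀ k ∈ K, k ≠ 1 → ∀ x : N, x * k = k * x → x ∈ K)

include hC in
/-- The order and the index of the kernel are coprime. -/
theorem not_dvd_index {r : ℕ} [Fact r.Prime] (hr : r ∣ Nat.card K) : ¬ r ∣ K.index := by
  intro hd
  obtain ⟨a, ha⟩ := exists_prime_orderOf_dvd_card' r hr
  have hap : IsPGroup r (Subgroup.zpowers (a : N)) := IsPGroup.of_card (n := 1) (by
    rw [Nat.card_zpowers, Subgroup.orderOf_coe, ha, pow_one])
  obtain ⟨S, hS⟩ := hap.exists_le_sylow
  have haS : (a : N) ∈ (S : Subgroup N) := hS (Subgroup.mem_zpowers _)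
  obtain ⟨z, hzK, hzc, hzo⟩ := exists_central_of_normal S.2 (K.subgroupOf S) (fun h => by
    have hm : (⟨(a : N), haS⟩ : (S : Subgroup N)) ∈ K.subgroupOf S := a.2
    rw [h, Subgroup.mem_bot] at hm
    have h1 : (a : N) = 1 := congrArg Subtype.val hm
    rw [← Subgroup.orderOf_coe, h1, orderOf_one] at ha
    exact (Fact.out : r.Prime).ne_one ha.symm)
  have hz1 : (z : N) ≠ 1 := fun h => by
    rw [← Subgroup.orderOf_coe, h, orderOf_one] at hzo
    exact (Fact.out : r.Prime).ne_one hzo.symm
  have hSK : (S : Subgroup N) ≤ K := fun s hs =>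
    hC z hzK hz1 s (congrArg Subtype.val (Subgroup.mem_center_iff.mp hzc ⟨s, hs⟩))
  exact S.not_dvd_index (hd.trans (Subgroup.index_dvd_of_le hSK))

include hC in
/-- An even index forces a commutative kernel. -/
theorem comm_of_even_index (hbot : K ≠ ⊥) (h2 : 2 ∣ K.index) : ∀ a b : K, a * b = b * a := by
  haveI : Fact (Nat.Prime 2) := ⟨Nat.prime_two⟩
  obtain ⟨t, ht⟩ := exists_prime_orderOf_dvd_card' 2 (h2.trans K.index_dvd_card)
  have htK : t ∉ K := fun h => by
    refine not_dvd_index K hC (r := 2) ?_ h2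
    rw [← ht, show orderOf t = orderOf (⟨t, h⟩ : K) from (Subgroup.orderOf_mk t h).symm]
    exact orderOf_dvd_natCard _
  let φ : MulAut K := MulAut.conjNormal t
  have hfix : MonoidHom.FixedPointFree (φ : K →* K) := by
    intro a ha
    by_contra h1
    exact htK (hC _ a.2 (fun h => h1 (Subtype.ext h)) t (mul_inv_eq_iff_eq_mul.1 (congrArg Subtype.val ha)))
  have hinv : Function.Involutive (φ : K →* K) := fun a => by
    apply Subtype.ext
    show t * (t * a * t⁻¹) * t⁻¹ = a
    have htt : t * t = 1 := by rw [← sq, ← ht]; exact pow_orderOf_eq_one t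
    have hti : t⁻¹ = t := inv_eq_of_mul_eq_one_right htt
    rw [hti, show t * (t * (a : N) * t) * t = (t * t) * a * (t * t) by group, htt, one_mul, mul_one]
  exact fun a b => hfix.commute_all_of_involutive hinv a b

include hC in
/-- If the kernel has one more element than its index, it is commutative with one class of
nonidentity elements. -/
theorem single_class (he : Nat.card K = K.index + 1) {x : N} (hx : x ∈ K) (hx1 : x ≠ 1) :
    Subgroup.centralizer ({x} : Set N) = K ∧ ∀ y ∈ K, y ≠ 1 → IsConj x y := by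
  classical
  have hle : Subgroup.centralizer ({x} : Set N) ≤ K := fun g hg =>
    hC x hx hx1 g (Subgroup.mem_centralizer_singleton_iff.mp hg)
  set Cl := (Finset.univ : Finset N).filter fun y => IsConj x y with hCl
  set P := ((Finset.univ : Finset N).filter fun y => y ∈ K).erase 1 with hP
  have hsub : Cl ⊆ P := fun y hy => by
    obtain ⟨g, hg⟩ := isConj_iff.mp (Finset.mem_filter.mp hy).2
    refine Finset.mem_erase.mpr ⟨fun h => hx1 ?_, Finset.mem_filter.mpr ⟨Finset.mem_univ _, ?_⟩⟩
    · rw [h] at hg
      simpa using hg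
    · rw [← hg]; exact hK.conj_mem x hx g
  have hcl : Cl.card = (Subgroup.centralizer ({x} : Set N)).index := by
    rw [← card_isConj_eq_index x, Nat.card_eq_fintype_card, Fintype.card_subtype]
    exact congrArg Finset.card (Finset.filter_congr fun y _ => ⟨fun h => h.symm, fun h => h.symm⟩)
  have hPc : P.card = K.index := by
    rw [hP, Finset.card_erase_of_mem (by simp [one_mem]), ← Fintype.card_subtype,
      ← Nat.card_eq_fintype_card]
    change Nat.card K - 1 = _
    omega
  have hdvd := Subgroup.index_dvd_of_le hle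
  have h0 : (Subgroup.centralizer ({x} : Set N)).index ≠ 0 := Subgroup.index_ne_zero_of_finite
  have hle' : K.index ≤ (Subgroup.centralizer ({x} : Set N)).index :=
    Nat.le_of_dvd (Nat.pos_of_ne_zero h0) hdvd
  have hge : Cl.card ≤ P.card := Finset.card_le_card hsub
  refine ⟨?_, fun y hy hy1 => ?_⟩
  · refine Subgroup.eq_of_le_of_card_ge hle ?_
    have e1 := (Subgroup.centralizer ({x} : Set N)).card_mul_index
    have e2 := K.card_mul_index
    have : (Subgroup.centralizer ({x} : Set N)).index = K.index := by omega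
    rw [this] at e1
    exact (Nat.eq_of_mul_eq_mul_right (Nat.pos_of_ne_zero Subgroup.index_ne_zero_of_finite) (e2.trans e1.symm)).le
  · have heq : Cl = P := Finset.eq_of_subset_of_card_le hsub (by omega)
    have : y ∈ P := Finset.mem_erase.mpr ⟨hy1, Finset.mem_filter.mpr ⟨Finset.mem_univ _, hy⟩⟩
    rw [← heq] at this
    exact (Finset.mem_filter.mp this).2

include hC in
theorem comm_of_card (he : Nat.card K = K.index + 1) : ∀ a b : K, a * b = b * a := by
  intro a b
  by_cases ha : (a : N) = 1
  · rw [show a = 1 from Subtype.ext ha, one_mul, mul_one]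
  have hb : (b : N) ∈ Subgroup.centralizer ({(a : N)} : Set N) := by
    rw [(single_class K hC he a.2 ha).1]; exact b.2
  exact Subtype.ext (Subgroup.mem_centralizer_singleton_iff.mp hb).symm

include hC in
theorem nonconstant_eq : {χ : N → ℂ | IsIrrCharacter N χ ∧ ∃ h ∈ K, χ h ≠ χ 1} = inducedIrrAbove K ⊥ := by
  letI : Fintype K := Fintype.ofFinite K
  ext χ
  constructor
  · rintro ⟨hχ, hne⟩
    obtain ⟨θ, h0, h1, rfl⟩ := exists_induced_of_nonconstant K hC hχ hne
    exact ⟨θ, h0, h1, fun a ha => by rw [Subgroup.mem_bot] at ha; rw [show a = 1 from Subtype.ext ha], rfl⟩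
  · rintro ⟨θ, h0, h1, -, rfl⟩
    obtain ⟨h2, h3⟩ := TIKernel.nonconstant_indFun K hC h0 h1
    exact ⟨h2, h3⟩

end Frobenius

section TIFN

variable {G : Type u} [Group G] [Fintype G] (L : Subgroup G) [Fintype L] (K : Subgroup L) [hK : K.Normal]
  (hC : ∀ k ∈ K, k ≠ 1 → ∀ x : L, x * k = k * x → x ∈ K)
  (hTI : ∀ g : G, g ∉ L → ∀ t ∈ ((↑) : L → G) '' (K : Set L),
    g * t * g⁻¹ ∈ ((↑) : L → G) '' (K : Set L) → t = 1)

open Classical in
include hC hTI in
/-- The three cases for a TI subgroup with Frobenius normaliser. -/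
theorem trichotomy (hnil : Group.IsNilpotent K) (hbot : K ≠ ⊥) (hKL : K < ⊤)
    (hTI' : IsTISubset ((K.map L.subtype : Subgroup G) : Set G))
    (hN : Subgroup.normalizer ((K.map L.subtype : Subgroup G) : Set G) = L) :
    (Nat.card {χ : L → ℂ // IsIrrCharacter L χ ∧ ∃ k ∈ K, χ k ≠ χ 1} = 1 ∧ Nat.card K = K.index + 1 ∧
        ∃ p : ℕ, p.Prime ∧ (∀ a b : K, a * b = b * a) ∧ ∀ a ∈ K, a ^ p = 1) ∨
      (Nat.card K = 2 ^ (Nat.card G).factorization 2 ∧ (commutator K).index < 4 * K.index ^ 2) ∨
      IsCoherent {χ : L → ℂ | IsIrrCharacter L χ ∧ ∃ k ∈ K, χ k ≠ χ 1} {1}ᶜ (fun α : L → ℂ => indFun L α) := by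
  letI : Fintype K := Fintype.ofFinite K
  haveI : Nontrivial K := (Subgroup.nontrivial_iff_ne_bot K).mpr hbot
  have hiso := SibleyTI.isometry L K hC hTI
  rw [← nonconstant_eq K hC] at hiso
  have hmap1 : ∀ α ∈ zspanOn {χ : L → ℂ | IsIrrCharacter L χ ∧ ∃ k ∈ K, χ k ≠ χ 1} {1}ᶜ, indFun L α 1 = 0 :=
    fun α hα => by rw [indFun_one, (Coherence.mem_zspanOn_iff.mp hα).2, mul_zero]
  have hidx2 : 2 ≤ K.index := by
    have h0 : K.index ≠ 0 := Subgroup.index_ne_zero_of_finite
    have h1 : K.index ≠ 1 := fun h => hKL.ne (Subgroup.index_eq_one.mp h)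
    omega
  by_cases hab : ∀ a b : K, a * b = b * a
  · -- all members have the degree `K.index`
    set X := {χ : L → ℂ | IsIrrCharacter L χ ∧ ∃ k ∈ K, χ k ≠ χ 1} with hX
    have hXeq := nonconstant_eq K hC
    rw [← hX] at hXeq
    have hXF : X = ↑(Descent.family K (⊥ : Subgroup L)) := by rw [Descent.coe_family, hXeq]
    have hdeg : ∀ φ ∈ X, φ 1 = (K.index : ℂ) := fun φ hφ =>
      degree_of_nonconstant K hC hab hφ.1 hφ.2
    by_cases htwo : ∃ φ₀ ∈ X, ∃ φ₁ ∈ X, φ₁ ≠ φ₀
    · right; right
      obtain ⟨φ₀, h₀, φ₁, h₁, hne⟩ := htwo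
      have h := FeitFrobenius.coherent_equal_degree (G := G) (Descent.family K (⊥ : Subgroup L))
        (fun φ h => ((hXF ▸ Finset.mem_coe.mpr h : φ ∈ X)).1) K.index (by omega)
        (fun φ h => hdeg φ (hXF ▸ Finset.mem_coe.mpr h)) (Finset.mem_coe.mp (hXF ▸ h₀))
        (Finset.mem_coe.mp (hXF ▸ h₁)) hne (fun α : L → ℂ => indFun L α) (hXF ▸ hiso) (hXF ▸ hmap1)
      rwa [← hXF] at h
    · left
      push Not at htwo
      have hlin : ((Finset.univ : Finset (IrrCharacter K)).filter fun θ => deg θ = 1) = Finset.univ :=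
        Finset.filter_true_of_mem fun θ _ => by
          have := degree_one_of_comm hab θ
          rw [deg_cast, Nat.cast_eq_one] at this
          exact this
      have hcount : Fintype.card (IrrCharacter K) = Nat.card K := by
        have hb : commutator K = ⊥ := by
          rw [commutator_def, Subgroup.commutator_eq_bot_iff_le_centralizer]
          intro a _ b _
          exact hab b a
        rw [← Finset.card_univ, ← hlin, ← Subgroup.index_bot, ← hb, ← TINilpotent.linear_count]
        exact congrArg Finset.card (Finset.filter_congr fun θ _ => TINilpotent.deg_eq_one_iff)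
      have hne : ∀ θ : IrrCharacter K, θ ≠ triv → indFun K (θ : K → ℂ) ∈ X := fun θ hθ =>
        TIKernel.nonconstant_indFun K hC θ.2 fun e => hθ (Subtype.ext e)
      have hK2 : 1 < Nat.card K := Finite.one_lt_card
      obtain ⟨θ₀, hθ₀⟩ := Fintype.exists_ne_of_one_lt_card (by omega) (triv : IrrCharacter K)
      have horb : ((Finset.univ : Finset (IrrCharacter K)).erase triv).image Subtype.val =
          orbit K (θ₀ : K → ℂ) := by
        ext f
        constructor
        · intro hf
          obtain ⟨θ, hθ, rfl⟩ := Finset.mem_image.mp hf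
          exact FeitFrobenius.indFun_eq_mem_orbit K θ₀.2 θ.2
            (htwo _ (hne θ₀ hθ₀) _ (hne θ (Finset.ne_of_mem_erase hθ)))
        · intro hf
          obtain ⟨g, hg⟩ := (mem_orbit K).mp hf
          refine Finset.mem_image.mpr ⟨⟨f, hg ▸ isIrrCharacter_conjBy K θ₀.2 g⟩,
            Finset.mem_erase.mpr ⟨fun e => hθ₀ ?_, Finset.mem_univ _⟩, rfl⟩
          have hh : conjBy K (conjBy K (θ₀ : K → ℂ) g) g⁻¹ = θ₀ := by
            rw [← conjBy_mul, mul_inv_cancel, conjBy_one]
          rw [hg, show f = ((triv : IrrCharacter K) : K → ℂ) from congrArg Subtype.val e] at hh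
          exact Subtype.ext hh.symm
      have hcard : Nat.card K = K.index + 1 := by
        have h := congrArg Finset.card horb
        rw [Finset.card_image_of_injective _ Subtype.val_injective, Finset.card_erase_of_mem (Finset.mem_univ _),
          Finset.card_univ, hcount, FeitFrobenius.card_orbit K hC hθ₀] at h
        omega
      refine ⟨?_, hcard, ?_⟩
      · exact Nat.card_eq_one_iff_unique.mpr
          ⟨⟨fun a b => Subtype.ext (htwo b.1 b.2 a.1 a.2)⟩, ⟨⟨_, hne θ₀ hθ₀⟩⟩⟩
      · obtain ⟨p, hp, hpd⟩ := Nat.exists_prime_and_dvd hK2.ne'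
        haveI := Fact.mk hp
        obtain ⟨y, hy⟩ := exists_prime_orderOf_dvd_card' p hpd
        have hy1 : (y : L) ≠ 1 := fun h => by
          rw [← Subgroup.orderOf_coe, h, orderOf_one] at hy
          exact hp.ne_one hy.symm
        refine ⟨p, hp, hab, fun a ha => ?_⟩
        by_cases ha1 : a = 1
        · rw [ha1, one_pow]
        · obtain ⟨g, hg⟩ := isConj_iff.mp ((single_class K hC hcard y.2 hy1).2 a ha ha1)
          rw [← hg, conj_pow, show (y : L) ^ p = 1 by
            rw [← hy, ← Subgroup.orderOf_coe]; exact pow_orderOf_eq_one _, mul_one, mul_inv_cancel]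
  · have hnot : ¬ 2 ∣ K.index := fun h => hab (comm_of_even_index K hC hbot h)
    have he : Nat.card K ≠ K.index + 1 := fun h => hab (comm_of_card K hC h)
    by_cases h2 : 2 ∣ Nat.card K
    swap
    · right; right
      rw [nonconstant_eq K hC]
      refine SibleyTI.coherent L K hC hTI ?_ hnil hbot hKL hTI' hN
      rw [← K.card_mul_index]
      exact Nat.odd_mul.mpr ⟨Nat.odd_iff.mpr (by omega), Nat.odd_iff.mpr (by omega)⟩
    haveI : Fact (Nat.Prime 2) := ⟨Nat.prime_two⟩
    by_cases hmid : IsPGroup 2 K ∧ (commutator K).index ≤ 4 * K.index ^ 2 + 1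
    · right; left
      obtain ⟨n, hn⟩ := hmid.1.exists_card_eq
      have hn0 : n ≠ 0 := by rintro rfl; rw [hn] at h2; norm_num at h2
      have hPcard : Nat.card (K.map L.subtype : Subgroup G) = 2 ^ n := by
        rw [Subgroup.card_map_of_injective L.subtype_injective, hn]
      refine ⟨?_, ?_⟩
      · rw [hn]
        congr 1
        have hPidx : ¬ 2 ∣ (K.map L.subtype : Subgroup G).index := by
          intro hd
          have h1 : 2 ^ (n + 1) ∣ Nat.card G := by
            rw [← Subgroup.card_mul_index (K.map L.subtype : Subgroup G), hPcard, pow_succ]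
            exact mul_dvd_mul_left _ hd
          have h3 := Sylow.prime_pow_dvd_card_normalizer h1 hPcard
          rw [hN, ← K.card_mul_index, hn, pow_succ] at h3
          exact hnot (Nat.dvd_of_mul_dvd_mul_left (pow_pos two_pos _) h3)
        rw [← Subgroup.card_mul_index (K.map L.subtype : Subgroup G), hPcard,
          Nat.factorization_mul (by positivity) Subgroup.index_ne_zero_of_finite]
        simp [Nat.factorization_eq_zero_of_not_dvd hPidx, Nat.prime_two]
      · obtain ⟨j, -, hj⟩ := (Nat.dvd_prime_pow Nat.prime_two).mp (hn ▸ (commutator K).index_dvd_card)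
        have hj1 : 1 < (commutator K).index := TINilpotent.linear_count_gt (A := K)
        have hev : (commutator K).index % 2 = 0 := by
          rw [hj] at hj1 ⊢
          have hj0 : j ≠ 0 := by rintro rfl; norm_num at hj1
          exact Nat.mod_eq_zero_of_dvd (dvd_pow_self 2 hj0)
        rcases Nat.lt_or_ge (commutator K).index (4 * K.index ^ 2) with h | h
        · exact h
        exfalso
        have h4 : (commutator K).index = 4 * K.index ^ 2 := by
          have := hmid.2
          omega
        rw [hj] at h4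
        obtain ⟨i, -, hi⟩ := (Nat.dvd_prime_pow Nat.prime_two).mp
          (show K.index ∣ 2 ^ j from h4 ▸ (dvd_pow_self K.index two_ne_zero).mul_left 4)
        rcases i with _ | i
        · rw [pow_zero] at hi; omega
        · exact hnot (hi ▸ dvd_pow_self 2 (Nat.succ_ne_zero i))
    · right; right
      refine FeitFrobenius.coherent K hC hbot hKL.ne he _ hiso hmap1 fun p hp hpK _ => ?_
      haveI := Fact.mk hp
      obtain ⟨m, hm⟩ := hpK.exists_card_eq
      obtain rfl : p = 2 := ((Nat.prime_dvd_prime_iff_eq Nat.prime_two hp).mp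
        (Nat.prime_two.dvd_of_dvd_pow (hm ▸ h2))).symm
      by_contra h
      exact hmid ⟨hpK, by omega⟩

end TIFN

section Apply

variable {G : Type u} [Group G] [Fintype G] (K : Subgroup G)
  (hTI : IsTISubset (K : Set G))
  (hC : ∀ k ∈ K, k ≠ 1 → Subgroup.centralizer ({k} : Set G) ≤ K)

include hC in
theorem setting_cent : ∀ k ∈ K.subgroupOf (Subgroup.normalizer (K : Set G)), k ≠ 1 →
    ∀ x : Subgroup.normalizer (K : Set G), x * k = k * x → x ∈ K.subgroupOf (Subgroup.normalizer (K : Set G)) :=
  fun k hk hk1 x hx => hC k hk (fun h => hk1 (Subtype.ext h))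
    (Subgroup.mem_centralizer_singleton_iff.mpr (congrArg Subtype.val hx))

include hTI in
theorem setting_ti : ∀ g : G, g ∉ Subgroup.normalizer (K : Set G) →
    ∀ t ∈ ((↑) : Subgroup.normalizer (K : Set G) → G) ''
      (K.subgroupOf (Subgroup.normalizer (K : Set G)) : Set (Subgroup.normalizer (K : Set G))),
    g * t * g⁻¹ ∈ ((↑) : Subgroup.normalizer (K : Set G) → G) ''
      (K.subgroupOf (Subgroup.normalizer (K : Set G)) : Set (Subgroup.normalizer (K : Set G))) → t = 1 := by
  rintro g hg t ⟨a, ha, rfl⟩ ⟨b, hb, hb'⟩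
  exact hTI g hg a ha (hb' ▸ hb)

theorem setting_map : (K.subgroupOf (Subgroup.normalizer (K : Set G))).map
    (Subgroup.normalizer (K : Set G)).subtype = K :=
  Subgroup.map_subgroupOf_eq_of_le Subgroup.le_normalizer

theorem setting_nilpotent (h : Group.IsNilpotent K) :
    Group.IsNilpotent (K.subgroupOf (Subgroup.normalizer (K : Set G))) :=
  haveI := h
  let e : ↥(K.subgroupOf (Subgroup.normalizer (K : Set G))) ≃* ↥K :=
    Subgroup.subgroupOfEquivOfLe Subgroup.le_normalizer
  Group.nilpotent_of_surjective e.symm.toMonoidHom e.symm.surjective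

theorem setting_bot (h : K ≠ ⊥) : K.subgroupOf (Subgroup.normalizer (K : Set G)) ≠ ⊥ := fun e => h (by
  rw [← setting_map K, e, Subgroup.map_bot])

theorem setting_top (h : K < Subgroup.normalizer (K : Set G)) :
    K.subgroupOf (Subgroup.normalizer (K : Set G)) < ⊤ :=
  lt_of_le_of_ne le_top fun e => h.not_ge (Subgroup.subgroupOf_eq_top.mp e)

theorem setting_card : Nat.card (K.subgroupOf (Subgroup.normalizer (K : Set G))) = Nat.card K :=
  Nat.card_congr (Subgroup.subgroupOfEquivOfLe Subgroup.le_normalizer).toEquiv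

theorem setting_commutator :
    (commutator (K.subgroupOf (Subgroup.normalizer (K : Set G)))).index = (⁅K, K⁆.subgroupOf K).index := by
  have h : ⁅K, K⁆.subgroupOf K = commutator K := by
    apply Subgroup.map_injective K.subtype_injective
    rw [Subgroup.map_subtype_commutator, Subgroup.subgroupOf, Subgroup.map_comap_eq, Subgroup.range_subtype,
      inf_eq_right]
    exact Subgroup.commutator_le.mpr fun a ha b hb =>
      K.mul_mem (K.mul_mem (K.mul_mem ha hb) (K.inv_mem ha)) (K.inv_mem hb)
  rw [h]
  set e := Subgroup.subgroupOfEquivOfLe (Subgroup.le_normalizer (H := K))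
  have hm : (commutator (K.subgroupOf (Subgroup.normalizer (K : Set G)))).map e.toMonoidHom = commutator K := by
    rw [commutator_def, commutator_def, Subgroup.map_commutator, Subgroup.map_top_of_surjective _ e.surjective]
  rw [← hm, Subgroup.index_map_of_bijective e.bijective]

end Apply

end CfsgLib.Char.SibleyTIFN
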