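import Cfsg.Agent.Lib.Char.SmallDegreeAction
import Cfsg.Agent.Lib.PSolvable.Core

/-!
# A normal Sylow subgroup in a `p`-solvable group separated by characters of degree at most `p - 2`
-/

set_option autoImplicit false
set_option linter.unusedSectionVars false
set_option linter.style.haveILetI false

namespace CfsgLib.Char.SolvableSylow

open Cfsg CfsgLib
open scoped ComplexConjugate CfsgLib.Char
open scoped _root_.Classical commutatorElement
open CfsgLib.Fitting

variable {H : Type*} [Group H] [Fintype H] {p : ℕ} [hp : Fact p.Prime]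
  (hsep : ∀ x : H, (∀ (ψ : H → ℂ) (d : ℕ), IsIrrCharacter H ψ → ψ 1 = d → d + 1 < p → ψ x = ψ 1) → x = 1)

include hsep in
theorem sylow_comm (P : Sylow p H) : ∀ a ∈ (P : Subgroup H), ∀ b ∈ (P : Subgroup H), a * b = b * a := by
  intro a ha b hb
  refine commutatorElement_eq_one_iff_mul_comm.mp (hsep _ fun ψ d hψ hd hdp => ?_)
  haveI : Fintype (P : Subgroup H) := Fintype.ofFinite _
  obtain ⟨m, hm⟩ := exists_multiplicities (isCharacter_restrict (P : Subgroup H) (isCharacter_of_isIrr hψ))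
  choose f hf hf0 hfd using fun ξ : IrrCharacter (P : Subgroup H) => exists_degree_dvd_card ξ.2
  have h1 := congrFun hm 1
  simp only [Subgroup.coe_one, hd, Finset.sum_apply, Pi.smul_apply, smul_eq_mul, hf] at h1
  have h1' : d = ∑ ξ : IrrCharacter (P : Subgroup H), m ξ * f ξ := by exact_mod_cast h1
  set c : (P : Subgroup H) := ⁅(⟨a, ha⟩ : (P : Subgroup H)), ⟨b, hb⟩⁆ with hc
  have h2 := congrFun hm c
  have h3 := congrFun hm 1
  simp only [Finset.sum_apply, Pi.smul_apply, smul_eq_mul] at h2 h3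
  show ψ ((c : H)) = ψ 1
  rw [h2, ← Subgroup.coe_one (P : Subgroup H), h3]
  refine Finset.sum_congr rfl fun ξ _ => ?_
  by_cases hne : m ξ = 0
  · simp [hne]
  congr 1
  have hlin : (ξ : ↥(P : Subgroup H) → ℂ) 1 = 1 := by
    obtain ⟨j, hj⟩ := IsPGroup.iff_card.mp P.isPGroup'
    obtain ⟨i, -, hi⟩ := (Nat.dvd_prime_pow hp.out).mp (hj ▸ hfd ξ)
    rw [hf ξ, hi]
    rcases Nat.eq_zero_or_pos i with rfl | hi0
    · simp
    exfalso
    have hle : f ξ ≤ d := h1' ▸ (Nat.le_mul_of_pos_left _ (Nat.pos_of_ne_zero hne)).trans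
      (Finset.single_le_sum (f := fun ξ => m ξ * f ξ) (fun _ _ => Nat.zero_le _) (Finset.mem_univ ξ))
    have := Nat.le_self_pow hi0.ne' p
    omega
  have hξc := isCharacter_of_isIrr ξ.2
  rw [hlin, hc, ← linearHom_apply hξc hlin, map_commutatorElement, commutatorElement_eq_one_iff_mul_comm.mpr (mul_comm _ _)]
  rfl

include hsep in
/-- The `p`-elements centralize the `p'`-core. -/
theorem commute_pPrimeCore (P : Sylow p H) :
    ∀ w ∈ (P : Subgroup H), ∀ k ∈ pPrimeCore p H, w * k = k * w := by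
  intro w hw k hk
  haveI := Transfer.pPrimeCore_normal p H
  set K := pPrimeCore p H with hK
  refine commutatorElement_eq_one_iff_mul_comm.mp (hsep _ fun ψ d hψ hd hdp => ?_)
  set Γ : Subgroup H := K ⊔ Subgroup.zpowers w with hΓ
  haveI : Fintype Γ := Fintype.ofFinite Γ
  haveI : (K.subgroupOf Γ).Normal := Subgroup.Normal.subgroupOf inferInstance Γ
  obtain ⟨j, hj⟩ := IsPGroup.iff_orderOf.mp P.isPGroup' ⟨w, hw⟩
  rw [← Subgroup.orderOf_coe] at hj
  have htop : K.subgroupOf Γ ⊔ Subgroup.zpowers (⟨w, Subgroup.mem_sup_right (Subgroup.mem_zpowers w)⟩ : Γ) = ⊤ := by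
    refine Subgroup.map_injective Γ.subtype_injective ?_
    rw [Subgroup.map_sup, Subgroup.subgroupOf_map_subtype, MonoidHom.map_zpowers,
      ← MonoidHom.range_eq_map, Subgroup.range_subtype, inf_eq_left.mpr le_sup_left]
    rfl
  have hcop : (Nat.card (K.subgroupOf Γ)).Coprime
      (orderOf (⟨w, Subgroup.mem_sup_right (Subgroup.mem_zpowers w)⟩ : Γ)) := by
    rw [Subgroup.orderOf_mk, Nat.card_congr (Subgroup.subgroupOfEquivOfLe le_sup_left).toEquiv, hj]
    exact (Transfer.pPrimeCore_coprime p).pow_right j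
  obtain ⟨m, hm⟩ := exists_multiplicities (isCharacter_restrict Γ (isCharacter_of_isIrr hψ))
  choose f hf0 hf using fun ξ : IrrCharacter Γ => exists_nat_degree_irr ξ.2
  have h1 := congrFun hm 1
  simp only [Subgroup.coe_one, hd, Finset.sum_apply, Pi.smul_apply, smul_eq_mul, hf] at h1
  have h1' : d = ∑ ξ : IrrCharacter Γ, m ξ * f ξ := by exact_mod_cast h1
  set w' : Γ := ⟨w, Subgroup.mem_sup_right (Subgroup.mem_zpowers w)⟩
  set k' : Γ := ⟨k, Subgroup.mem_sup_left hk⟩
  have h2 := congrFun hm (w' * k' * w'⁻¹ * k'⁻¹)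
  have h3 := congrFun hm 1
  simp only [Finset.sum_apply, Pi.smul_apply, smul_eq_mul] at h2 h3
  rw [commutatorElement_def]
  show ψ (((w' * k' * w'⁻¹ * k'⁻¹ : Γ) : H)) = ψ 1
  rw [h2, ← Subgroup.coe_one Γ, h3]
  refine Finset.sum_congr rfl fun ξ _ => ?_
  by_cases hne : m ξ = 0
  · simp [hne]
  congr 1
  have hle : f ξ ≤ d := h1' ▸ (Nat.le_mul_of_pos_left _ (Nat.pos_of_ne_zero hne)).trans
    (Finset.single_le_sum (f := fun ξ => m ξ * f ξ) (fun _ _ => Nat.zero_le _) (Finset.mem_univ ξ))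
  exact irr_commutator_eq_degree (s := w') htop hcop hp.out (k := j) (by rw [Subgroup.orderOf_mk, hj]) ξ.2 (hf ξ)
    (by omega) ⟨k', Subgroup.mem_subgroupOf.mpr hk⟩

include hsep in
theorem sylow_normal (hsol : IsPSolvable p H) (P : Sylow p H) : (P : Subgroup H).Normal := by
  haveI := Transfer.pPrimeCore_normal p H
  set K := pPrimeCore p H with hK
  set π := QuotientGroup.mk' K with hπ
  have hπs : Function.Surjective π := QuotientGroup.mk'_surjective K
  haveI : Finite (H ⧸ K) := inferInstance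
  have hbot := PSolvable.pPrimeCore_eq_bot_of_ker (p := p) hπs (QuotientGroup.ker_mk' K)
  have hC := PSolvable.centralizer_pCore_le (PSolvable.isPSolvable_of_surjective π hπs hsol) hbot
  set P' : Sylow p (H ⧸ K) := P.mapSurjective hπs with hP'
  haveI := Fitting.pCore_normal (G := H ⧸ K) p
  have hOP : pCore p (H ⧸ K) ≤ (P' : Subgroup (H ⧸ K)) := by
    obtain ⟨R, hR⟩ := (pCore_isPGroup (G := H ⧸ K) p).exists_le_sylow
    obtain ⟨g, rfl⟩ := MulAction.exists_smul_eq (H ⧸ K) P' R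
    intro x hx
    have h2 := hR ((inferInstance : (pCore p (H ⧸ K)).Normal).conj_mem x hx g)
    rw [Sylow.coe_subgroup_smul] at h2
    obtain ⟨z, hz, e⟩ := h2
    have : z = x := by simpa [MulAut.conj_apply] using e
    exact this ▸ hz
  have hPO : (P' : Subgroup (H ⧸ K)) ≤ pCore p (H ⧸ K) := by
    intro x hx
    refine hC (Subgroup.mem_centralizer_iff.mpr fun y hy => ?_)
    have hy' := hOP hy
    rw [hP', Sylow.coe_mapSurjective] at hx hy'
    obtain ⟨a, ha, rfl⟩ := hx
    obtain ⟨b, hb, rfl⟩ := hy'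
    rw [← map_mul, ← map_mul, sylow_comm hsep P b hb a ha]
  refine ⟨fun x hx g => ?_⟩
  have h1 : π (g * x * g⁻¹) ∈ (P' : Subgroup (H ⧸ K)) := by
    refine hOP ?_
    rw [map_mul, map_mul, map_inv]
    exact (inferInstance : (pCore p (H ⧸ K)).Normal).conj_mem _
      (hPO (by rw [hP', Sylow.coe_mapSurjective]; exact ⟨x, hx, rfl⟩)) _
  rw [hP', Sylow.coe_mapSurjective] at h1
  obtain ⟨y, hy, e⟩ := h1
  obtain ⟨k, hk, e'⟩ : ∃ k ∈ K, g * x * g⁻¹ = y * k :=
    ⟨y⁻¹ * (g * x * g⁻¹), (QuotientGroup.eq (s := K)).mp e, (mul_inv_cancel_left _ _).symm⟩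
  obtain ⟨i, hi⟩ := IsPGroup.iff_card.mp P.isPGroup'
  have hpow : ∀ z ∈ (P : Subgroup H), z ^ p ^ i = 1 := fun z hz => by
    rw [← hi]; exact congrArg Subtype.val (pow_card_eq_one' (x := (⟨z, hz⟩ : (P : Subgroup H))))
  have hk1 : k = 1 := by
    have h2 : (g * x * g⁻¹) ^ p ^ i = 1 := by rw [conj_pow, hpow x hx, mul_one, mul_inv_cancel]
    rw [e', (show Commute y k from commute_pPrimeCore hsep P y hy k hk).mul_pow, hpow y hy, one_mul] at h2
    refine orderOf_eq_one_iff.mp (Nat.eq_one_of_dvd_coprimes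
      ((Transfer.pPrimeCore_coprime p (G := H)).pow_right i) ?_ (orderOf_dvd_of_pow_eq_one h2))
    exact Subgroup.orderOf_dvd_natCard K hk
  rw [e', hk1, mul_one]
  exact hy

end CfsgLib.Char.SolvableSylow
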