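import Cfsg.Agent.Lib.Char.Indicator
import Cfsg.Agent.Lib.Char.DefectZero
import Cfsg.Prelude.Def_Blocks

/-!
# Counting square roots
-/

set_option autoImplicit false

namespace CfsgLib.Char.SquareRoots

open Cfsg
open scoped ComplexConjugate CfsgLib.Char

variable {G : Type*} [Group G] [Fintype G]

theorem indicator_conj {χ : G → ℂ} (hχ : IsIrrCharacter G χ) :
    conj (indicator χ) = indicator χ := by
  rcases indicator_cases hχ with ⟨-, h | h⟩ | ⟨-, h⟩ <;> simp [h]

/-- The number of square roots of an element. -/
theorem card_sqrt (g : G) :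
    (Nat.card {x : G // x * x = g} : ℂ) = ∑ χ : IrrCharacter G, indicator (χ : G → ℂ) * (χ : G → ℂ) g := by
  classical
  set θ : G → ℂ := fun g => (Nat.card {x : G // x * x = g} : ℂ) with hθ
  have hcl : IsClassFunction G θ := by
    intro a h
    simp only [hθ]
    congr 1
    refine Nat.card_congr (Equiv.subtypeEquiv (MulAut.conj h).toEquiv.symm fun x => ?_)
    show x * x = h * a * h⁻¹ ↔ (MulAut.conj h).symm x * (MulAut.conj h).symm x = a
    rw [← map_mul, MulEquiv.symm_apply_eq, MulAut.conj_apply]
  have hcoef : ∀ χ : IrrCharacter G, classInner θ (χ : G → ℂ) = indicator (χ : G → ℂ) := by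
    intro χ
    rw [← indicator_conj χ.2]
    simp only [classInner, indicator, map_mul, map_inv₀, map_natCast, map_sum]
    congr 1
    refine Eq.trans ?_ (Finset.sum_fiberwise_of_maps_to (s := Finset.univ) (t := Finset.univ)
      (g := fun x : G => x * x) (fun _ _ => Finset.mem_univ _) (fun x => conj ((χ : G → ℂ) (x * x))))
    refine Finset.sum_congr rfl fun z _ => ?_
    rw [Finset.sum_congr rfl fun x hx => by rw [(Finset.mem_filter.mp hx).2], Finset.sum_const,
      nsmul_eq_mul]
    simp only [hθ]
    rw [Nat.card_eq_fintype_card, Fintype.card_subtype]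
  show θ g = _
  conv_lhs => rw [classFunction_expansion hcl]
  simp [hcoef, Finset.sum_apply]

/-- An element of odd order of centraliser has one square root. -/
theorem card_sqrt_of_odd (g : G) (h : Odd (Nat.card (Subgroup.centralizer ({g} : Set G)))) :
    Nat.card {x : G // x * x = g} = 1 := by
  set C := Subgroup.centralizer ({g} : Set G)
  have hcop : (Nat.card C).Coprime 2 := h.coprime_two_right
  have hg : g ∈ C := Subgroup.mem_centralizer_singleton_iff.mpr rfl
  obtain ⟨u, hu⟩ := (powCoprime hcop).surjective ⟨g, hg⟩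
  rw [powCoprime_apply] at hu
  have hu' : (u : G) * u = g := by rw [← sq]; exact congrArg Subtype.val hu
  rw [Nat.card_eq_one_iff_unique]
  refine ⟨⟨fun a b => Subtype.ext ?_⟩, ⟨⟨u, hu'⟩⟩⟩
  have hm : ∀ x : {x : G // x * x = g}, (x : G) ∈ C := fun x =>
    Subgroup.mem_centralizer_singleton_iff.mpr
      (calc (x : G) * g = x * (x * x) := by rw [x.2]
        _ = (x * x) * x := by group
        _ = g * x := by rw [x.2])
  have e := (powCoprime hcop).injective (a₁ := ⟨a, hm a⟩) (a₂ := ⟨b, hm b⟩) (by
    rw [powCoprime_apply, powCoprime_apply]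
    refine Subtype.ext ?_
    show (a : G) ^ 2 = (b : G) ^ 2
    rw [sq, sq, a.2, b.2])
  simpa using e

/-- The involutions and the identity are the square roots of the identity. -/
theorem card_sqrt_one_eq : Nat.card {x : G // x * x = 1} = Nat.card {x : G // orderOf x = 2} + 1 := by
  classical
  rw [Nat.card_eq_fintype_card, Nat.card_eq_fintype_card, Fintype.card_subtype, Fintype.card_subtype]
  have : (Finset.univ.filter fun x : G => x * x = 1) =
      insert 1 (Finset.univ.filter fun x : G => orderOf x = 2) := by
    ext x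
    simp only [Finset.mem_filter, Finset.mem_univ, true_and, Finset.mem_insert]
    rw [orderOf_eq_prime_iff, sq]
    constructor
    · intro h
      by_cases h1 : x = 1
      · exact Or.inl h1
      · exact Or.inr ⟨h, h1⟩
    · rintro (rfl | ⟨h, -⟩)
      · exact one_mul 1
      · exact h
  rw [this, Finset.card_insert_of_notMem (by simp)]

/-- The number of involutions by real characters. -/
theorem card_involutions_add_one :
    ((Nat.card {x : G // orderOf x = 2} + 1 : ℕ) : ℂ) =
      ∑ χ : IrrCharacter G, indicator (χ : G → ℂ) * (χ : G → ℂ) 1 := by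
  rw [← card_sqrt_one_eq, card_sqrt]

theorem indicator_one : indicator (fun _ : G => (1 : ℂ)) = 1 := by
  simp [indicator, Nat.card_eq_fintype_card, Fintype.card_ne_zero]

/-- A degree divisible by the full `p`-part: vanishing on `p`-singular elements. -/
theorem vanish_of_full_part (χ : IrrCharacter G) {p : ℕ} (hp : p.Prime)
    (h : p ^ (Nat.card G).factorization p ∣ charDegree (χ : G → ℂ)) {x : G} (hx : p ∣ orderOf x) :
    (χ : G → ℂ) x = 0 := by
  haveI := Fact.mk hp
  obtain ⟨d, -, hd⟩ := exists_nat_degree_irr χ.2
  have hc : charDegree (χ : G → ℂ) = d := by simp [charDegree, hd]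
  exact defect_zero_vanish χ.2 hd (Nat.ordProj_dvd _ p)
    (Nat.pow_succ_factorization_not_dvd Nat.card_pos.ne' hp) (hc ▸ h) hx

end CfsgLib.Char.SquareRoots
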