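import Cfsg.Agent.Lib.Char.SquareRoots
import Cfsg.Agent.Lib.Char.Artin
import Cfsg.Agent.Lib.Char.Kernel

/-!
# A self-centralising abelian TI subgroup with few involution classes in a simple group

The square root count at the identity and on `U`, compared with the column orthogonality on `U`,
shows that some real irreducible character is trivial on the squares of `U`.
-/

set_option autoImplicit false
set_option linter.unusedSectionVars false
set_option linter.style.haveILetI false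

namespace CfsgLib.Char.TIAbelianTwo

open Cfsg
open scoped ComplexConjugate CfsgLib.Char

variable {G : Type*} [Group G]

/-- The hypotheses on `U` and the fixed-point-free group `H` of automorphisms inducing the fusion. -/
structure Setting (U H : Subgroup G) : Prop where
  comm : ∀ u ∈ U, ∀ w ∈ U, u * w = w * u
  norm : ∀ h ∈ H, ∀ u ∈ U, h * u * h⁻¹ ∈ U
  cent : ∀ u ∈ U, u ≠ 1 → ∀ g, g * u = u * g → g ∈ U
  free : ∀ h ∈ H, ∀ u ∈ U, u ≠ 1 → h * u * h⁻¹ = u → h = 1
  fusion : ∀ u ∈ U, u ≠ 1 → ∀ g, g * u * g⁻¹ ∈ U → ∃ h ∈ H, g * u * g⁻¹ = h * u * h⁻¹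
  card_sq : Nat.card {u : U // u * u = 1} = Nat.card H + 1
  card_group : Nat.card G = (Nat.card U + 1) * Nat.card U * Nat.card H
  card_inv : Nat.card {x : G // x * x = 1} = (Nat.card U + 1) * Nat.card H + 1

/-! ## The combinatorial core -/

theorem sq_sub_nonneg {ν : ℤ} (hν : ν = 1 ∨ ν = -1 ∨ ν = 0) {P : ℤ} (hP : 0 ≤ P) :
    0 ≤ P * P - ν * P := by
  rcases hν with rfl | rfl | rfl
  · rcases eq_or_lt_of_le hP with rfl | h
    · simp
    · nlinarith
  · nlinarith
  · nlinarith

/-- The vector with square sum and indicator sum both `n + 1`. -/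
theorem fixed_vector {ι : Type*} [Fintype ι] (ν a : ι → ℤ) (hν : ∀ i, ν i = 1 ∨ ν i = -1 ∨ ν i = 0)
    (ha : ∀ i, 0 ≤ a i) {n : ℤ} (h1 : ∑ i, a i * a i = n + 1) (h2 : ∑ i, ν i * a i = n + 1) (i : ι) :
    a i = 0 ∨ (a i = 1 ∧ ν i = 1) := by
  have h := (Finset.sum_eq_zero_iff_of_nonneg fun j _ => sq_sub_nonneg (hν j) (ha j)).mp
    (show ∑ j, (a j * a j - ν j * a j) = 0 by rw [Finset.sum_sub_distrib, h1, h2, sub_self]) i
    (Finset.mem_univ i)
  rw [← sub_mul] at h
  rcases mul_eq_zero.mp h with h' | h'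
  · rcases hν i with hv | hv | hv <;> have := ha i <;> omega
  · exact Or.inl h'

/-- The vectors with square sum `n + 1`, indicator sum `n`, and product `n` with the fixed one. -/
theorem moving_vector {ι : Type*} [Fintype ι] (ν a P : ι → ℤ)
    (hν : ∀ i, ν i = 1 ∨ ν i = -1 ∨ ν i = 0)
    (ha : ∀ i, a i = 0 ∨ (a i = 1 ∧ ν i = 1)) (hP : ∀ i, 0 ≤ P i) {n : ℤ}
    (h2a : ∑ i, ν i * a i = n + 1) (h1 : ∑ i, P i * P i = n + 1) (h2 : ∑ i, ν i * P i = n)
    (h3 : ∑ i, a i * P i = n) :
    ∃ E F, ν E = 1 ∧ a E = 1 ∧ P E = 0 ∧ ν F = 0 ∧ P F = 1 ∧ a F = 0 ∧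
      ∀ i, i ≠ E → i ≠ F → P i = a i := by
  classical
  have hsum : ∑ i, (P i * P i - ν i * P i) = 1 := by rw [Finset.sum_sub_distrib, h1, h2]; ring
  obtain ⟨F, -, hF⟩ : ∃ F ∈ (Finset.univ : Finset ι), P F * P F - ν F * P F ≠ 0 :=
    Finset.exists_ne_zero_of_sum_ne_zero (by rw [hsum]; exact one_ne_zero)
  have hF1 : P F * P F - ν F * P F = 1 := by
    have := sq_sub_nonneg (hν F) (hP F)
    have := Finset.single_le_sum (fun j _ => sq_sub_nonneg (hν j) (hP j)) (Finset.mem_univ F)
    rw [hsum] at this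
    omega
  obtain ⟨hFP, hFν⟩ : P F = 1 ∧ ν F = 0 := by
    rw [← sub_mul, Int.mul_eq_one_iff_eq_one_or_neg_one] at hF1
    have := hP F
    rcases hF1 with ⟨e1, e2⟩ | ⟨e1, e2⟩ <;> omega
  have hrest : ∀ i, i ≠ F → P i = 0 ∨ (P i = 1 ∧ ν i = 1) := by
    intro i hi
    have hle := Finset.add_le_sum (fun j _ => sq_sub_nonneg (hν j) (hP j)) (Finset.mem_univ i)
      (Finset.mem_univ F) hi
    have := sq_sub_nonneg (hν i) (hP i)
    have h : P i * P i - ν i * P i = 0 := by omega
    rw [← sub_mul] at h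
    rcases mul_eq_zero.mp h with h' | h'
    · rcases hν i with hv | hv | hv <;> have := hP i <;> omega
    · exact Or.inl h'
  have haF : a F = 0 := (ha F).resolve_right fun h => by omega
  have hle : ∀ i, a i * P i ≤ ν i * P i := fun i => by
    rcases eq_or_ne i F with rfl | hi
    · simp [haF, hFν]
    · rcases hrest i hi with h | ⟨h, hv⟩
      · simp [h]
      · rw [h, hv]; rcases ha i with h' | ⟨h', -⟩ <;> simp [h']
  have hsub : ∀ i, i ≠ F → P i = 1 → a i = 1 := by
    intro i hi h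
    have he := (Finset.sum_eq_sum_iff_of_le fun j _ => hle j).mp (h3.trans h2.symm) i (Finset.mem_univ i)
    rcases hrest i hi with h' | ⟨-, hv⟩
    · omega
    · simpa [h, hv] using he
  have hd : ∀ i, 0 ≤ ν i * a i - ν i * P i := fun i => by
    rcases eq_or_ne i F with rfl | hi
    · simp [hFν]
    · rcases hrest i hi with h | ⟨h, hv⟩
      · rcases ha i with h' | ⟨h', hv'⟩ <;> simp [h, h', *]
      · simp [h, hv, hsub i hi h]
  have hsum' : ∑ i, (ν i * a i - ν i * P i) = 1 := by rw [Finset.sum_sub_distrib, h2a, h2]; ring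
  obtain ⟨E, -, hE⟩ : ∃ E ∈ (Finset.univ : Finset ι), ν E * a E - ν E * P E ≠ 0 :=
    Finset.exists_ne_zero_of_sum_ne_zero (by rw [hsum']; exact one_ne_zero)
  have hEF : E ≠ F := fun h => hE (by simp [h, hFν])
  obtain ⟨hEa, hEν⟩ : a E = 1 ∧ ν E = 1 := by
    rcases ha E with h | h
    · exfalso
      rcases hrest E hEF with h' | ⟨h', -⟩
      · simp [h, h'] at hE
      · have := hsub E hEF h'; omega
    · exact h
  have hEP : P E = 0 := by
    rcases hrest E hEF with h | ⟨h, -⟩
    · exact h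
    · simp [hEa, hEν, h] at hE
  refine ⟨E, F, hEν, hEa, hEP, hFν, hFP, haF, fun i hiE hiF => ?_⟩
  have hle2 := Finset.add_le_sum (fun j _ => hd j) (Finset.mem_univ i) (Finset.mem_univ E) hiE
  have := hd i
  rw [hsum', hEa, hEν, hEP] at hle2
  rcases ha i with h | ⟨h, hv⟩
  · rcases hrest i hiF with h' | ⟨h', -⟩
    · omega
    · have := hsub i hiF h'; omega
  · rw [h, hv] at hle2 this; omega

/-- Two moving vectors omit the same entry, unless they share their non-real entry. -/
theorem product_eq {ι : Type*} [Fintype ι] (a P Q : ι → ℤ) {n : ℤ} (h1 : ∑ i, a i * a i = n + 1)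
    {E F E' F' : ι} (hEE : E ≠ E') (hFF : F ≠ F') (hEF : E ≠ F) (hEF' : E ≠ F') (hE'F : E' ≠ F)
    (hE'F' : E' ≠ F') (hE : a E = 1) (hE' : a E' = 1) (hF : a F = 0) (hF' : a F' = 0)
    (hPE : P E = 0) (hQE : Q E' = 0)
    (hP : ∀ i, i ≠ E → i ≠ F → P i = a i) (hQ : ∀ i, i ≠ E' → i ≠ F' → Q i = a i) :
    ∑ i, P i * Q i = n - 1 := by
  classical
  have key : ∀ i, P i * Q i = a i * a i - (if i = E then 1 else 0) - (if i = E' then 1 else 0) := by
    intro i
    by_cases h1 : i = E
    · subst h1; rw [hPE, if_pos rfl, if_neg hEE, hE]; ring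
    by_cases h2 : i = E'
    · subst h2; rw [hQE, if_neg h1, if_pos rfl, hE']; ring
    rw [if_neg h1, if_neg h2]
    by_cases h3 : i = F
    · subst h3; rw [hQ i h2 (fun e => hFF e), hF]; ring
    by_cases h4 : i = F'
    · subst h4; rw [hP i h1 h3, hF']; ring
    rw [hP i h1 h3, hQ i h2 h4]; ring
  simp only [key, Finset.sum_sub_distrib, Finset.sum_ite_eq', Finset.mem_univ, if_true, h1]
  ring

/-! ## The characters -/

variable {U H : Subgroup G}

/-- Conjugation by an element of `H`, as an endomorphism of `U`. -/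
def cj (hS : Setting U H) (h : H) : U →* U where
  toFun u := ⟨(h : G) * u * (h : G)⁻¹, hS.norm h h.2 u u.2⟩
  map_one' := Subtype.ext (by simp)
  map_mul' u w := Subtype.ext (by simp [mul_assoc])

@[simp] theorem cj_coe (hS : Setting U H) (h : H) (u : U) :
    ((cj hS h u : U) : G) = (h : G) * u * (h : G)⁻¹ := rfl

theorem cj_cj (hS : Setting U H) (h k : H) (u : U) : cj hS h (cj hS k u) = cj hS (h * k) u :=
  Subtype.ext (by simp [mul_assoc])

theorem cj_one (hS : Setting U H) (u : U) : cj hS 1 u = u := Subtype.ext (by simp)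

variable [Fintype G] [Fintype U]

/-- Inner product of a restricted character with a linear character of `U`. -/
noncomputable def mult (ψ : U →* ℂˣ) (χ : IrrCharacter G) : ℂ :=
  classInner (fun u : U => (χ : G → ℂ) u) (fun u => (ψ u : ℂ))

theorem exists_mult (ψ : U →* ℂˣ) (χ : IrrCharacter G) : ∃ k : ℕ, mult ψ χ = k :=
  exists_nat_classInner (isCharacter_restrict U (isCharacter_of_isIrr χ.2)) (isCharacter_monoidHom ψ)

/-- The multiplicity as an integer. -/
noncomputable def N (ψ : U →* ℂˣ) (χ : IrrCharacter G) : ℤ := (exists_mult ψ χ).choose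

theorem N_nonneg (ψ : U →* ℂˣ) (χ : IrrCharacter G) : 0 ≤ N ψ χ := Int.natCast_nonneg _

theorem N_cast (ψ : U →* ℂˣ) (χ : IrrCharacter G) : (N ψ χ : ℂ) = mult ψ χ := by
  rw [(exists_mult ψ χ).choose_spec, N, Int.cast_natCast]

theorem conj_hom (ψ : U →* ℂˣ) (u : U) : conj (ψ u : ℂ) = (ψ⁻¹ u : ℂˣ) := by
  have h := irr_inv (G := U) ⟨fun u => (ψ u : ℂ), isIrrCharacter_monoidHom ψ⟩ u
  simp only at h
  rw [← h, MonoidHom.inv_apply, map_inv]

theorem exists_indicator (χ : IrrCharacter G) :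
    ∃ ν : ℤ, (ν = 1 ∨ ν = -1 ∨ ν = 0) ∧ indicator (χ : G → ℂ) = ν ∧
      (ν = 0 → conjPerm χ ≠ χ) := by
  rcases indicator_cases χ.2 with ⟨-, h | h⟩ | ⟨⟨g, hg⟩, h⟩
  · exact ⟨1, Or.inl rfl, by simp [h], by simp⟩
  · exact ⟨-1, Or.inr (Or.inl rfl), by simp [h], by simp⟩
  · refine ⟨0, Or.inr (Or.inr rfl), by simp [h], fun _ hc => hg ?_⟩
    have := congrFun (congrArg Subtype.val hc) g
    rw [conjPerm_apply] at this
    exact Complex.conj_eq_iff_im.mp this

/-- The indicator as an integer. -/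
noncomputable def nu (χ : IrrCharacter G) : ℤ := (exists_indicator χ).choose

theorem nu_cases (χ : IrrCharacter G) : nu χ = 1 ∨ nu χ = -1 ∨ nu χ = 0 :=
  (exists_indicator χ).choose_spec.1

theorem nu_cast (χ : IrrCharacter G) : (nu χ : ℂ) = indicator (χ : G → ℂ) :=
  (exists_indicator χ).choose_spec.2.1.symm

theorem nu_zero {χ : IrrCharacter G} (h : nu χ = 0) : conjPerm χ ≠ χ :=
  (exists_indicator χ).choose_spec.2.2 h

theorem mult_inv (ψ : U →* ℂˣ) (χ : IrrCharacter G) : N ψ⁻¹ χ = N ψ (conjPerm χ) := by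
  have h : (N ψ⁻¹ χ : ℂ) = conj (N ψ (conjPerm χ) : ℂ) := by
    rw [N_cast, N_cast, mult, mult, classInner, classInner, map_mul, map_sum]
    simp only [map_inv₀, Complex.conj_natCast, map_mul, Complex.conj_conj, conjPerm_apply, ← conj_hom]
  rw [map_intCast] at h
  exact_mod_cast h

theorem mult_comp (hS : Setting U H) (ψ : U →* ℂˣ) (h : H) (χ : IrrCharacter G) :
    N (ψ.comp (cj hS h)) χ = N ψ χ := by
  have e : (N (ψ.comp (cj hS h)) χ : ℂ) = N ψ χ := by
    rw [N_cast, N_cast, mult, mult, classInner, classInner]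
    congr 1
    refine Fintype.sum_equiv
      ⟨cj hS h, cj hS h⁻¹, fun u => by rw [cj_cj, inv_mul_cancel, cj_one],
        fun u => by rw [cj_cj, mul_inv_cancel, cj_one]⟩ _ _ fun u => ?_
    simp only [MonoidHom.comp_apply, Equiv.coe_fn_mk, cj_coe]
    rw [isClassFunction_irr χ (u : G) (h : G)]
  exact_mod_cast e

theorem cent_card (hS : Setting U H) {u : U} (hu : u ≠ 1) :
    Nat.card (Subgroup.centralizer ({(u : G)} : Set G)) = Nat.card U := by
  congr 1
  rw [show Subgroup.centralizer ({(u : G)} : Set G) = U from SetLike.ext fun g =>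
    ⟨fun hg => hS.cent u u.2 (fun e => hu (Subtype.ext e)) g (Subgroup.mem_centralizer_singleton_iff.mp hg),
      fun hg => Subgroup.mem_centralizer_singleton_iff.mpr (hS.comm g hg u u.2)⟩]

theorem sum_conj (hS : Setting U H) [Fintype H] {w : U} (hw : w ≠ 1) (f : U → ℂ)
    [DecidableRel (IsConj : G → G → Prop)] :
    (∑ u : U, if IsConj (u : G) w then f u else 0) = ∑ h : H, f (cj hS h w) := by
  classical
  have hw' : (w : G) ≠ 1 := fun e => hw (Subtype.ext e)
  rw [← Finset.sum_filter]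
  symm
  refine Finset.sum_bij (fun h _ => cj hS h w) ?_ ?_ ?_ (fun _ _ => rfl)
  · intro h _
    simp only [Finset.mem_filter, Finset.mem_univ, true_and, cj_coe]
    exact (isConj_iff.mpr ⟨(h : G), rfl⟩).symm
  · intro h _ k _ e
    have e' : cj hS (h⁻¹ * k) w = w := by rw [← cj_cj, ← e, cj_cj, inv_mul_cancel, cj_one]
    have := hS.free _ (h⁻¹ * k).2 w w.2 hw' (congrArg Subtype.val e')
    exact (inv_mul_eq_one.mp (Subtype.ext this))
  · intro u hu
    simp only [Finset.mem_filter, Finset.mem_univ, true_and] at hu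
    obtain ⟨g, hg⟩ := isConj_iff.mp hu.symm
    obtain ⟨h, hh, e⟩ := hS.fusion w w.2 hw' g (by rw [hg]; exact u.2)
    exact ⟨⟨h, hh⟩, Finset.mem_univ _, Subtype.ext (e.symm.trans hg)⟩

theorem sum_hom (f : U →* ℂˣ) [Decidable (f = 1)] :
    ∑ u : U, (f u : ℂ) = if f = 1 then (Nat.card U : ℂ) else 0 := by
  classical
  by_cases h : f = 1
  · subst h; simp [Nat.card_eq_fintype_card]
  · rw [if_neg h]
    have := sum_hom_units ((Units.coeHom ℂ).comp f)
    rw [if_neg fun e => h (MonoidHom.ext fun u => Units.ext (DFunLike.congr_fun e u))] at this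
    simpa using this

/-- The Gram matrix of the restrictions to `U`. -/
theorem gram (hS : Setting U H) [Fintype H] (ψ φ : U →* ℂˣ) [DecidablePred fun h : H => φ = ψ.comp (cj hS h)] :
    ∑ χ : IrrCharacter G, N ψ χ * N φ χ =
      Nat.card H + (Finset.univ.filter fun h : H => φ = ψ.comp (cj hS h)).card := by
  classical
  have hq : (Nat.card U : ℂ) ≠ 0 := Nat.cast_ne_zero.mpr Nat.card_pos.ne'
  suffices h : ∑ χ : IrrCharacter G, (N ψ χ : ℂ) * (N φ χ : ℂ) =
      Nat.card H + (Finset.univ.filter fun h : H => φ = ψ.comp (cj hS h)).card by exact_mod_cast h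
  have hconj : ∀ χ, (N φ χ : ℂ) = conj (mult φ χ) := fun χ => by
    rw [← N_cast, map_intCast]
  have hinner : ∀ w : U, w ≠ 1 → ∑ u : U, conj (ψ u : ℂ) * (φ w : ℂ) *
      (∑ χ : IrrCharacter G, (χ : G → ℂ) u * conj ((χ : G → ℂ) w)) =
      (Nat.card U : ℂ) * ∑ h : H, ((φ * (ψ.comp (cj hS h))⁻¹) w : ℂ) := by
    intro w hw
    simp only [column_orthogonality, cent_card hS hw, mul_ite, mul_zero]
    rw [sum_conj hS hw, Finset.mul_sum]
    refine Finset.sum_congr rfl fun h _ => ?_
    rw [conj_hom, MonoidHom.mul_apply, Units.val_mul, MonoidHom.inv_apply, MonoidHom.inv_apply,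
      MonoidHom.comp_apply]
    ring
  have hone : ∑ u : U, conj (ψ u : ℂ) * (φ 1 : ℂ) *
      (∑ χ : IrrCharacter G, (χ : G → ℂ) u * conj ((χ : G → ℂ) ((1 : U) : G))) = (Nat.card G : ℂ) := by
    rw [Finset.sum_eq_single (1 : U)]
    · simp only [column_orthogonality, map_one, Units.val_one, OneMemClass.coe_one, one_mul]
      rw [if_pos (IsConj.refl 1), show Subgroup.centralizer ({1} : Set G) = ⊤ from
        SetLike.ext fun g => by simp [Subgroup.mem_centralizer_singleton_iff], Subgroup.card_top]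
    · intro u _ hu
      simp only [column_orthogonality, OneMemClass.coe_one]
      rw [if_neg, mul_zero]
      rw [isConj_one_left]
      exact fun e => hu (Subtype.ext e)
    · simp
  calc ∑ χ : IrrCharacter G, (N ψ χ : ℂ) * (N φ χ : ℂ)
      = (Nat.card U : ℂ)⁻¹ * (Nat.card U : ℂ)⁻¹ * ∑ w : U, ∑ u : U, conj (ψ u : ℂ) * (φ w : ℂ) *
          (∑ χ : IrrCharacter G, (χ : G → ℂ) u * conj ((χ : G → ℂ) w)) := by
        simp only [hconj, N_cast, mult, classInner, map_mul, map_inv₀, Complex.conj_natCast, map_sum,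
          Complex.conj_conj, Finset.mul_sum, Finset.sum_mul]
        rw [Finset.sum_comm]
        refine Finset.sum_congr rfl fun w _ => ?_
        rw [Finset.sum_comm]
        exact Finset.sum_congr rfl fun u _ => Finset.sum_congr rfl fun χ _ => by ring
    _ = (Nat.card U : ℂ)⁻¹ * (Nat.card U : ℂ)⁻¹ * ((Nat.card G : ℂ) + (Nat.card U : ℂ) *
          ∑ h : H, ((if φ = ψ.comp (cj hS h) then (Nat.card U : ℂ) else 0) - 1)) := by
        congr 1
        rw [← Finset.add_sum_erase _ _ (Finset.mem_univ (1 : U)), hone,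
          Finset.sum_congr rfl (fun w hw => hinner w (Finset.mem_erase.mp hw).1), ← Finset.mul_sum,
          Finset.sum_comm]
        congr 2
        refine Finset.sum_congr rfl fun h _ => ?_
        rw [Finset.sum_erase_eq_sub (Finset.mem_univ _), sum_hom, map_one, Units.val_one]
        congr 1
        exact if_congr (mul_inv_eq_one (G := U →* ℂˣ)) rfl rfl
    _ = _ := by
        rw [hS.card_group, Finset.sum_sub_distrib, ← Finset.sum_filter, Finset.sum_const, nsmul_eq_mul,
          Finset.sum_const, Finset.card_univ, nsmul_eq_mul, ← Nat.card_eq_fintype_card]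
        push_cast
        field_simp
        ring

/-- The indicator sum against a linear character of `U`. -/
theorem fs (hS : Setting U H) (ψ : U →* ℂˣ) [Decidable (ψ ^ 2 = 1)] :
    ∑ χ : IrrCharacter G, nu χ * N ψ χ = Nat.card H + (if ψ ^ 2 = 1 then 1 else 0) := by
  classical
  have hq : (Nat.card U : ℂ) ≠ 0 := Nat.cast_ne_zero.mpr Nat.card_pos.ne'
  suffices h : ∑ χ : IrrCharacter G, (nu χ : ℂ) * (N ψ χ : ℂ) =
      Nat.card H + (if ψ ^ 2 = 1 then 1 else 0) by exact_mod_cast h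
  have hroot : ∀ u : U, (Nat.card {x : G // x * x = (u : G)} : ℂ) =
      (∑ x : U, if x * x = u then (1 : ℂ) else 0) +
        (if u = 1 then (Nat.card U : ℂ) * Nat.card H else 0) := by
    intro u
    have hU : (∑ x : U, if x * x = u then (1 : ℂ) else 0) = (Nat.card {x : U // x * x = u} : ℂ) := by
      rw [Nat.card_eq_fintype_card, Fintype.card_subtype, Finset.sum_boole]
    rw [hU]
    by_cases hu : u = 1
    · subst hu
      rw [if_pos rfl, OneMemClass.coe_one, hS.card_inv, hS.card_sq]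
      push_cast
      ring
    · rw [if_neg hu, add_zero]
      congr 1
      refine Nat.card_congr
        { toFun := fun x => ⟨⟨x.1, hS.cent u u.2 (fun e => hu (Subtype.ext e)) x.1
            (by simp only [← x.2, mul_assoc])⟩, Subtype.ext x.2⟩
          invFun := fun x => ⟨(x.1 : G), congrArg Subtype.val x.2⟩
          left_inv := fun x => rfl
          right_inv := fun x => rfl }
  calc ∑ χ : IrrCharacter G, (nu χ : ℂ) * (N ψ χ : ℂ)
      = (Nat.card U : ℂ)⁻¹ * ∑ u : U, (Nat.card {x : G // x * x = (u : G)} : ℂ) * (ψ⁻¹ u : ℂˣ) := by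
        simp only [nu_cast, N_cast, mult, classInner, SquareRoots.card_sqrt, Finset.mul_sum,
          Finset.sum_mul, conj_hom]
        rw [Finset.sum_comm]
        exact Finset.sum_congr rfl fun u _ => Finset.sum_congr rfl fun χ _ => by ring
    _ = (Nat.card U : ℂ)⁻¹ * ((∑ x : U, ((ψ⁻¹ ^ 2) x : ℂ)) + (Nat.card U : ℂ) * Nat.card H) := by
        congr 1
        simp only [hroot, add_mul, Finset.sum_add_distrib, Finset.sum_mul, ite_mul, one_mul, zero_mul]
        rw [Finset.sum_comm]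
        simp only [Finset.sum_ite_eq, Finset.sum_ite_eq', Finset.mem_univ, if_true, map_one,
          Units.val_one, mul_one]
        congr 1
        exact Finset.sum_congr rfl fun x _ => by rw [map_mul, pow_two, MonoidHom.mul_apply]
    _ = _ := by
        rw [sum_hom, if_congr (inv_eq_one (a := ψ ^ 2) |> fun h => (inv_pow ψ 2).symm ▸ h) rfl rfl]
        split_ifs <;> field_simp <;> ring

theorem free_dual (hS : Setting U H) {ψ : U →* ℂˣ} (hψ : ψ ≠ 1) {h : H}
    (he : ψ = ψ.comp (cj hS h)) : h = 1 := by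
  by_contra hh
  apply hψ
  have hcom : ∀ a b : U, a * b = b * a := fun a b => Subtype.ext (hS.comm a a.2 b b.2)
  have hinj : Function.Injective fun u : U => cj hS h u * u⁻¹ := by
    intro u w e
    by_contra hne
    apply hh
    have e' : cj hS h (w⁻¹ * u) = w⁻¹ * u := by
      rw [map_mul, map_inv]
      have e1 : cj hS h u = cj hS h w * (w⁻¹ * u) := by
        rw [← mul_assoc, ← inv_mul_cancel_right (cj hS h u) u]
        simp only at e
        rw [e]
      rw [e1, inv_mul_cancel_left]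
    exact Subtype.ext (hS.free h h.2 _ (w⁻¹ * u).2
      (fun e0 => hne (inv_mul_eq_one.mp (Subtype.ext e0)).symm) (congrArg Subtype.val e'))
  refine MonoidHom.ext fun v => ?_
  obtain ⟨u, rfl⟩ := (Finite.injective_iff_surjective.mp hinj) v
  rw [map_mul, map_inv, MonoidHom.one_apply, mul_inv_eq_one]
  exact (DFunLike.congr_fun he u).symm

/-- Linear characters of order two and of larger order. -/
theorem exists_duals {G : Type*} [Group G] [Finite G] {U H : Subgroup G} (hS : Setting U H) {u₀ : G}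
    (hu₀ : u₀ ∈ U) (hu₀2 : u₀ * u₀ ≠ 1) :
    (∃ f : U →* ℂˣ, f ^ 2 = 1 ∧ f ≠ 1) ∧ ∃ f : U →* ℂˣ, f ^ 2 ≠ 1 := by
  letI : CommGroup U :=
    { (inferInstance : Group U) with mul_comm := fun a b => Subtype.ext (hS.comm a a.2 b b.2) }
  have e : (U →* ℂˣ) ≃* U := (CommGroup.monoidHom_mulEquiv_of_hasEnoughRootsOfUnity U ℂ).some
  refine ⟨?_, e.symm ⟨u₀, hu₀⟩, fun h => hu₀2 ?_⟩
  · haveI : Nontrivial {u : U // u * u = 1} := Finite.one_lt_card_iff_nontrivial.mp (by
      rw [hS.card_sq]; have := Nat.card_pos (α := H); omega)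
    obtain ⟨⟨x, hx⟩, hx1⟩ := exists_ne (⟨1, one_mul 1⟩ : {u : U // u * u = 1})
    refine ⟨e.symm x, e.injective ?_,
      fun h => hx1 (Subtype.ext (e.symm.injective (h.trans (map_one _).symm)))⟩
    rw [map_pow, e.apply_symm_apply, map_one, pow_two, hx]
  · have h' := congrArg e h
    rw [map_pow, e.apply_symm_apply, map_one, pow_two] at h'
    exact congrArg Subtype.val h'

/-- A self-centralising TI subgroup with these counts in a simple group has exponent two. -/
theorem exponent_two {G : Type*} [Group G] [Finite G] [IsSimpleGroup G] {U H : Subgroup G}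
    (hS : Setting U H) : ∀ u ∈ U, u * u = 1 := by
  classical
  haveI : Fintype G := Fintype.ofFinite G
  haveI : Fintype U := Fintype.ofFinite U
  haveI : Fintype H := Fintype.ofFinite H
  by_contra hne
  push Not at hne
  obtain ⟨u₀, hu₀, hu₀2⟩ := hne
  obtain ⟨⟨ψ₂, hψ₂, hψ₂1⟩, ψ, hψ⟩ := exists_duals hS hu₀ hu₀2
  -- the Gram relations
  have hself : ∀ f : U →* ℂˣ, f ≠ 1 → ∑ χ : IrrCharacter G, N f χ * N f χ = Nat.card H + 1 := by
    intro f hf
    rw [gram hS f f]
    congr 2
    rw [Finset.card_eq_one]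
    refine ⟨1, Finset.ext fun h => ?_⟩
    simp only [Finset.mem_filter, Finset.mem_univ, true_and, Finset.mem_singleton]
    exact ⟨free_dual hS hf, fun e => by subst e; exact MonoidHom.ext fun u => by simp [cj_one]⟩
  have hoff : ∀ f g : U →* ℂˣ, (∀ h, g ≠ f.comp (cj hS h)) →
      ∑ χ : IrrCharacter G, N f χ * N g χ = Nat.card H := by
    intro f g hfg
    rw [gram hS f g, Finset.filter_eq_empty_iff.mpr fun h _ => hfg h, Finset.card_empty,
      Nat.cast_zero, add_zero]
  have hfs2 : ∑ χ : IrrCharacter G, nu χ * N ψ₂ χ = Nat.card H + 1 := by rw [fs hS, if_pos hψ₂]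
  have hA := fixed_vector nu (N ψ₂) nu_cases (N_nonneg ψ₂) (hself ψ₂ hψ₂1) hfs2
  have hmove : ∀ f : U →* ℂˣ, f ^ 2 ≠ 1 → ∃ E F, nu E = 1 ∧ N ψ₂ E = 1 ∧ N f E = 0 ∧ nu F = 0 ∧
      N f F = 1 ∧ N ψ₂ F = 0 ∧ ∀ i, i ≠ E → i ≠ F → N f i = N ψ₂ i := by
    intro f hf
    refine moving_vector nu (N ψ₂) (N f) nu_cases hA (N_nonneg f) hfs2
      (hself f fun h => hf (by subst h; exact MonoidHom.ext fun u => by simp)) ?_ (hoff _ _ fun h hh => hf ?_)
    · rw [fs hS, if_neg hf, add_zero]
    · rw [hh, show (ψ₂.comp (cj hS h)) ^ 2 = (ψ₂ ^ 2).comp (cj hS h) from rfl, hψ₂,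
        MonoidHom.one_comp]
  obtain ⟨E, F, hEν, hEa, hEP, hFν, hFP, hFa, hP⟩ := hmove ψ hψ
  have hc : conjPerm E = E := by
    rcases indicator_cases E.2 with ⟨hr, -⟩ | ⟨-, h0⟩
    · exact Subtype.ext (funext fun g => Complex.conj_eq_iff_im.mpr (hr g))
    · exfalso
      rw [← nu_cast, hEν] at h0
      norm_num at h0
  -- `E` misses every character of order above two
  have hall : ∀ f : U →* ℂˣ, f ^ 2 ≠ 1 → N f E = 0 := by
    intro f hf
    by_cases h1 : ∃ h, f = ψ.comp (cj hS h)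
    · obtain ⟨h, rfl⟩ := h1; rw [mult_comp, hEP]
    by_cases h2 : ∃ h, f = (ψ⁻¹).comp (cj hS h)
    · obtain ⟨h, rfl⟩ := h2; rw [mult_comp, mult_inv, hc, hEP]
    push Not at h1 h2
    obtain ⟨E', F', hEν', hEa', hEP', hFν', hFP', hFa', hQ⟩ := hmove f hf
    by_contra hfE
    have hne : E ≠ E' := fun h => hfE (h ▸ hEP')
    have hd : ∀ A B : IrrCharacter G, nu A = 1 → nu B = 0 → A ≠ B := fun A B hA hB h => by
      rw [h] at hA; omega
    have hF : F = F' := by
      by_contra hFF
      have := product_eq (N ψ₂) (N ψ) (N f) (hself ψ₂ hψ₂1) hne hFF (hd _ _ hEν hFν)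
        (hd _ _ hEν hFν') (hd _ _ hEν' hFν) (hd _ _ hEν' hFν') hEa hEa' hFa hFa' hEP hEP' hP hQ
      rw [hoff ψ f h1] at this
      omega
    have hψi : ψ⁻¹ ^ 2 ≠ 1 := fun h => hψ (MonoidHom.ext fun u => by simpa using DFunLike.congr_fun h u)
    obtain ⟨E₁, F₁, hEν₁, hEa₁, hEP₁, hFν₁, hFP₁, hFa₁, hP₁⟩ := hmove ψ⁻¹ hψi
    have hE₁ : E = E₁ := by
      by_contra h
      have hEi : N ψ⁻¹ E = 0 := by rw [mult_inv, hc, hEP]
      rw [hP₁ E h (hd _ _ hEν hFν₁), hEa] at hEi
      exact one_ne_zero hEi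
    have hF₁ : F₁ = F' := by
      by_contra hFF
      have := product_eq (N ψ₂) (N ψ⁻¹) (N f) (hself ψ₂ hψ₂1) (hE₁ ▸ hne) hFF (hd _ _ hEν₁ hFν₁)
        (hd _ _ hEν₁ hFν') (hd _ _ hEν' hFν₁) (hd _ _ hEν' hFν') hEa₁ hEa' hFa₁ hFa' hEP₁ hEP' hP₁ hQ
      rw [hoff ψ⁻¹ f h2] at this
      omega
    rw [hF₁, ← hF, mult_inv] at hFP₁
    have hcF : conjPerm F ≠ E := fun h => by
      have := congrArg conjPerm h
      rw [show conjPerm (conjPerm F) = F from Subtype.ext (funext fun g => Complex.conj_conj _),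
        hc] at this
      exact hd _ _ hEν hFν this.symm
    rw [hP _ hcF (nu_zero hFν)] at hFP₁
    rcases hA (conjPerm F) with h | ⟨h, hv⟩
    · omega
    · rcases indicator_cases (conjPerm F).2 with ⟨hr, -⟩ | ⟨-, h0⟩
      · exact nu_zero hFν (Subtype.ext (funext fun g => Complex.conj_eq_iff_im.mpr (by
          simpa [conjPerm_apply] using hr g)))
      · rw [← nu_cast, hv] at h0
        norm_num at h0
  -- so `E` is trivial on the squares of `U`
  have hsq : (E : G → ℂ) (u₀ * u₀) = (E : G → ℂ) 1 := by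
    have hres := classFunction_expansion (G := U) (f := fun u : U => (E : G → ℂ) u)
      (fun a b => isClassFunction_irr E (a : G) (b : G))
    have hterm : ∀ ξ : IrrCharacter U, classInner (fun u : U => (E : G → ℂ) u) (ξ : U → ℂ) *
        (ξ : U → ℂ) (⟨u₀, hu₀⟩ * ⟨u₀, hu₀⟩) =
        classInner (fun u : U => (E : G → ℂ) u) (ξ : U → ℂ) * (ξ : U → ℂ) 1 := by
      intro ξ
      have hdeg := degree_one_of_comm (fun a b : U => Subtype.ext (hS.comm a a.2 b b.2)) ξ
      set f := linearHom (isCharacter_of_isIrr ξ.2) hdeg with hf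
      have hξ : (ξ : U → ℂ) = fun u => (f u : ℂ) := rfl
      by_cases hf2 : f ^ 2 = 1
      · rw [hξ]
        simp only [map_mul, map_one]
        rw [← pow_two, ← MonoidHom.pow_apply, hf2, MonoidHom.one_apply]
      · rw [hξ, show classInner (fun u : U => (E : G → ℂ) u) (fun u => (f u : ℂ)) = mult f E from rfl,
          ← N_cast, hall f hf2, Int.cast_zero, zero_mul, zero_mul]
    have e1 := congrFun hres (⟨u₀, hu₀⟩ * ⟨u₀, hu₀⟩)
    have e2 := congrFun hres 1
    simp only [Finset.sum_apply, Pi.smul_apply, smul_eq_mul] at e1 e2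
    rw [Finset.sum_congr rfl fun ξ _ => hterm ξ, ← e2] at e1
    exact e1
  obtain ⟨K, hKn, hK, -⟩ := exists_kernel (isCharacter_of_isIrr E.2)
  have hKtop : K = ⊤ := by
    rcases hKn.eq_bot_or_eq_top with h | h
    · exact absurd ((Subgroup.eq_bot_iff_forall _).mp h _ ((hK _).mpr hsq)) hu₀2
    · exact h
  -- but then its restriction is orthogonal to `ψ₂`
  have hzero : mult ψ₂ E = 0 := by
    rw [mult, classInner]
    simp only [fun u : U => (hK (u : G)).mp (hKtop ▸ Subgroup.mem_top _), conj_hom, ← Finset.mul_sum]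
    rw [sum_hom, if_neg fun h => hψ₂1 (MonoidHom.ext fun u => by simpa using DFunLike.congr_fun h u), mul_zero, mul_zero]
  rw [← N_cast, hEa] at hzero
  norm_num at hzero

end CfsgLib.Char.TIAbelianTwo
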