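import Cfsg.Agent.Lib.Char.TIKernel
import Cfsg.Agent.Lib.Char.Table

/-!
# The exceptional family of a self-centralising abelian TI subgroup, with values

For a subgroup `X` which is the centraliser of each of its nonidentity elements, the irreducible
characters fall into a family of `(|X| - 1)/e` characters whose differences are induced from the
normaliser, and the rest, which are constant on the nonidentity elements of `X`.
-/

set_option autoImplicit false
set_option linter.style.haveILetI false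
set_option linter.unusedSectionVars false

namespace CfsgLib.Char

open Cfsg
open scoped ComplexConjugate

variable {G : Type*} [Group G] [Fintype G]

/-- An irreducible character constant on `X \ {1}`, `X` nontrivial abelian: the constant is an
integer congruent to the degree modulo `|X|`. -/
theorem exists_int_of_constant (X : Subgroup G) (hab : ∀ a ∈ X, ∀ b ∈ X, a * b = b * a)
    (hX : X ≠ ⊥) (χ : IrrCharacter G) {c : ℂ} (hc : ∀ x ∈ X, x ≠ 1 → (χ : G → ℂ) x = c) {d : ℕ}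
    (hd : (χ : G → ℂ) 1 = d) : ∃ k : ℤ, c = k ∧ (Nat.card X : ℤ) ∣ (d : ℤ) - k := by
  classical
  have hab' : ∀ a b : X, a * b = b * a := fun a b => Subtype.ext (hab _ a.2 _ b.2)
  haveI : Nontrivial X := (Subgroup.nontrivial_iff_ne_bot X).mpr hX
  have hcc : (1 : ℕ) < Nat.card (ConjClasses X) := by
    rw [Nat.card_congr (Equiv.ofBijective (ConjClasses.mk : X → _) ⟨fun x y h => by
      obtain ⟨g, hg⟩ := isConj_iff.mp (ConjClasses.mk_eq_mk_iff_isConj.mp h)
      rw [hab' g x, mul_inv_cancel_right] at hg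
      exact hg, ConjClasses.mk_surjective⟩).symm]
    exact Finite.one_lt_card
  obtain ⟨lam, hlam⟩ : ∃ lam : IrrCharacter X, (lam : X → ℂ) ≠ fun _ => 1 := by
    by_contra h
    push Not at h
    rw [← card_irr_eq_card_conjClasses] at hcc
    haveI : Subsingleton (IrrCharacter X) := ⟨fun a b => Subtype.ext ((h a).trans (h b).symm)⟩
    exact absurd hcc (Finite.card_le_one_iff_subsingleton.mpr ‹_›).not_gt
  have hl1 : (lam : X → ℂ) 1 = 1 := degree_one_of_comm hab' lam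
  have ha : (Nat.card X : ℂ) ≠ 0 := Nat.cast_ne_zero.mpr Nat.card_pos.ne'
  have hres := isCharacter_restrict X (isCharacter_of_isIrr χ.2)
  have key : ∀ θ : IrrCharacter X, (θ : X → ℂ) 1 = 1 →
      classInner (fun x : X => (χ : G → ℂ) x) (θ : X → ℂ) * (Nat.card X : ℂ) =
        (d : ℂ) - c + c * ∑ x : X, conj ((θ : X → ℂ) x) := by
    intro θ hθ
    rw [classInner, mul_comm, mul_inv_cancel_left₀ ha, Finset.mul_sum,
      Finset.sum_congr rfl (g := fun x => c * conj ((θ : X → ℂ) x) +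
        (if x = 1 then (d : ℂ) - c else 0)) fun x _ => ?_]
    · rw [Finset.sum_add_distrib, Finset.sum_ite_eq' Finset.univ (1 : X), if_pos (Finset.mem_univ _)]
      ring
    · by_cases hx : x = 1
      · subst hx
        rw [OneMemClass.coe_one, hd, hθ, map_one, if_pos rfl]
        ring
      · rw [hc _ x.2 (fun e => hx (Subtype.ext e)), if_neg hx, add_zero]
  have h0 : ∑ x : X, conj ((lam : X → ℂ) x) = 0 := by
    have h := classInner_irr_ne (φ := fun _ : X => (1 : ℂ)) isIrrCharacter_one lam.2 (Ne.symm hlam)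
    rw [classInner, mul_eq_zero, or_iff_right (inv_ne_zero ha)] at h
    simpa using h
  let tr : IrrCharacter X := ⟨fun _ => 1, isIrrCharacter_one⟩
  obtain ⟨n₀, hn₀⟩ := exists_nat_classInner hres (isCharacter_of_isIrr tr.2)
  obtain ⟨n₁, hn₁⟩ := exists_nat_classInner hres (isCharacter_of_isIrr lam.2)
  have e0 := key tr rfl
  have e1 := key lam hl1
  rw [hn₀] at e0
  rw [hn₁, h0, mul_zero, add_zero] at e1
  simp only [tr, map_one, Finset.sum_const, Finset.card_univ, nsmul_eq_mul, mul_one,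
    ← Nat.card_eq_fintype_card] at e0
  have hk : c = (((n₀ : ℤ) - n₁ : ℤ) : ℂ) := by
    push_cast
    refine mul_right_cancel₀ ha ?_
    linear_combination e1 - e0
  refine ⟨(n₀ : ℤ) - n₁, hk, n₁, ?_⟩
  have h2 : (((d : ℤ) - ((n₀ : ℤ) - n₁) : ℤ) : ℂ) = (((Nat.card X : ℤ) * n₁ : ℤ) : ℂ) := by
    rw [Int.cast_sub, Int.cast_natCast, ← hk, Int.cast_mul, Int.cast_natCast, Int.cast_natCast]
    linear_combination -e1
  exact_mod_cast h2

/-- The exceptional family of a self-centralising abelian TI subgroup. -/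
theorem exists_family [DecidableEq G] (X : Subgroup G) [Fintype X]
    (hcent : ∀ x ∈ X, x ≠ 1 → Subgroup.centralizer ({x} : Set G) = X) (hX : X ≠ ⊥) {e : ℕ}
    (hN : Nat.card ↥(Subgroup.normalizer (X : Set G)) = e * Nat.card X) :
    ∃ Fam : Finset (IrrCharacter G), e * Fam.card + 1 = Nat.card X ∧
      (∀ φ : IrrCharacter G, φ ∉ Fam → ∀ x ∈ X, ∀ y ∈ X, x ≠ 1 → y ≠ 1 →
        (φ : G → ℂ) x = (φ : G → ℂ) y) ∧
      (∀ φ ∈ Fam, ∀ ψ ∈ Fam, ∀ g : G, (∀ h : G, h * g * h⁻¹ ∈ X → g = 1) →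
        (φ : G → ℂ) g = (ψ : G → ℂ) g) ∧
      (∀ φ ∈ Fam, ∀ ψ ∈ Fam, (∀ x ∈ X, ∀ y ∈ X, x ≠ 1 → y ≠ 1 →
        (φ : G → ℂ) x - (ψ : G → ℂ) x = (φ : G → ℂ) y - (ψ : G → ℂ) y) → φ = ψ) ∧
      (1 + e < Nat.card X → e < (Nat.card X - e) * (Nat.card X - 1) → ∀ φ ∈ Fam,
        ¬ ∀ x ∈ X, ∀ y ∈ X, x ≠ 1 → y ≠ 1 → (φ : G → ℂ) x = (φ : G → ℂ) y) ∧
      ((Nat.card X : ℝ) - 1) * ((Nat.card X : ℝ) - e) - e ≤
        ∑ φ ∈ Fam, ∑ x : X, if (x : G) = 1 then 0 else Complex.normSq ((φ : G → ℂ) (x : G)) := by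
  classical
  set N : Subgroup G := Subgroup.normalizer (X : Set G) with hNdef
  haveI : Fintype N := Fintype.ofFinite _
  haveI : (X.subgroupOf N).Normal := Subgroup.normal_subgroupOf_of_le_normalizer le_rfl
  have hXN : X ≤ N := Subgroup.le_normalizer
  have hab : ∀ a ∈ X, ∀ b ∈ X, a * b = b * a := by
    intro a ha b hb
    by_cases h : b = 1
    · simp [h]
    · exact Subgroup.mem_centralizer_singleton_iff.mp ((hcent b hb h).symm ▸ ha)
  have hTI : ∀ g : G, g ∉ N → ∀ k ∈ X, g * k * g⁻¹ ∈ X → k = 1 := by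
    intro g hg k hk hgk
    by_contra hk1
    have hk2 : g * k * g⁻¹ ≠ 1 := fun h => hk1 (conj_eq_one_iff.mp h)
    refine hg (Subgroup.mem_normalizer_fintype fun c hc => ?_)
    rw [SetLike.mem_coe] at hc ⊢
    rw [← hcent _ hgk hk2, Subgroup.mem_centralizer_singleton_iff]
    have h := hab c hc k hk
    calc g * c * g⁻¹ * (g * k * g⁻¹) = g * (c * k) * g⁻¹ := by group
      _ = g * (k * c) * g⁻¹ := by rw [h]
      _ = g * k * g⁻¹ * (g * c * g⁻¹) := by group
  set K := X.subgroupOf N with hK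
  have hC' : ∀ k ∈ K, k ≠ 1 → ∀ x : N, x * k = k * x → x ∈ K := by
    intro k hk hk1 x hx
    show (x : G) ∈ X
    rw [← hcent _ hk (fun h => hk1 (Subtype.ext h)), Subgroup.mem_centralizer_singleton_iff]
    exact congrArg Subtype.val hx
  have hab' : ∀ a b : K, a * b = b * a := fun a b =>
    Subtype.ext (Subtype.ext (hab _ a.2 _ b.2))
  have hKcard : Nat.card K = Nat.card X :=
    Nat.card_congr (Subgroup.subgroupOfEquivOfLe hXN).toEquiv
  have hKidx : K.index = e := by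
    have h := K.card_mul_index
    rw [hKcard, hN, mul_comm e] at h
    exact Nat.eq_of_mul_eq_mul_left Nat.card_pos h
  set a := Nat.card X with ha_def
  haveI : Nontrivial X := (Subgroup.nontrivial_iff_ne_bot X).mpr hX
  have ha2 : 2 ≤ a := Finite.one_lt_card
  have hepos : 0 < e := by
    rcases Nat.eq_zero_or_pos e with h | h
    · rw [h, zero_mul] at hN; exact absurd hN Nat.card_pos.ne'
    · exact h
  -- the relevant characters of the normaliser
  let P : IrrCharacter N → Prop := fun χ =>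
    ∃ k : N, (k : G) ∈ X ∧ (χ : N → ℂ) k ≠ (χ : N → ℂ) 1
  let Rel : Finset (IrrCharacter N) := Finset.univ.filter P
  have hRel : ∀ χ, χ ∈ Rel ↔ P χ := fun χ => by simp [Rel]
  have hvan : ∀ χ ∈ Rel, ∀ x : N, (x : G) ∉ X → (χ : N → ℂ) x = 0 := fun χ hχ x hx =>
    vanish_off_of_nonconstant K hC' χ.2 ((hRel χ).mp hχ) hx
  have hdeg : ∀ χ ∈ Rel, (χ : N → ℂ) 1 = (e : ℂ) := fun χ hχ => by
    rw [degree_of_nonconstant K hC' hab' χ.2 ((hRel χ).mp hχ), hKidx]
  have hnon : ∀ χ, χ ∉ Rel → ∀ x : N, (x : G) ∈ X → (χ : N → ℂ) x = (χ : N → ℂ) 1 := by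
    intro χ hχ x hx
    by_contra h
    exact hχ ((hRel χ).mpr ⟨x, hx, h⟩)
  -- transfer of sums
  have hsumX : ∀ f : N → ℂ, (∀ x : N, (x : G) ∉ X → f x = 0) →
      ∑ x : N, f x = ∑ x : X, f ⟨x, hXN x.2⟩ := by
    intro f hf
    refine (Fintype.sum_of_injective (fun x : X => (⟨x, hXN x.2⟩ : N))
      (fun u w h => Subtype.ext (congrArg Subtype.val h :)) _ _ (fun x hx => ?_) fun x => rfl).symm
    exact hf x fun h => hx ⟨⟨x, h⟩, rfl⟩
  have hNc : (Nat.card N : ℂ) = (e : ℂ) * a := by rw [hN]; push_cast; rfl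
  have hNne : (Nat.card N : ℂ) ≠ 0 := Nat.cast_ne_zero.mpr Nat.card_pos.ne'
  have hzero : ∀ χ ∈ Rel, ∑ x : X, (χ : N → ℂ) ⟨x, hXN x.2⟩ = 0 := by
    intro χ hχ
    rw [← hsumX _ (hvan χ hχ)]
    have hne : (χ : N → ℂ) ≠ fun _ => 1 := fun h => by
      obtain ⟨k, -, hk'⟩ := (hRel χ).mp hχ
      rw [h] at hk'
      exact hk' rfl
    have h := classInner_irr_ne χ.2 (isIrrCharacter_one (G := N)) hne
    rw [classInner, mul_eq_zero, or_iff_right (inv_ne_zero hNne)] at h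
    simpa using h
  have hsq : ∀ χ ∈ Rel,
      ∑ x : X, (χ : N → ℂ) ⟨x, hXN x.2⟩ * conj ((χ : N → ℂ) ⟨x, hXN x.2⟩) = (e : ℂ) * a := by
    intro χ hχ
    rw [← hsumX (fun x => (χ : N → ℂ) x * conj ((χ : N → ℂ) x))
      (fun x hx => by simp [hvan χ hχ x hx]), ← hNc]
    have h := classInner_irr_self χ.2
    rw [classInner, inv_mul_eq_iff_eq_mul₀ hNne, mul_one] at h
    exact h
  -- the two counting identities
  obtain ⟨S, hS⟩ : ∃ S : ℂ, S = ∑ χ ∈ Relᶜ, (χ : N → ℂ) 1 * (χ : N → ℂ) 1 := ⟨_, rfl⟩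
  have hreg : ∀ x : X, (x : G) ≠ 1 →
      (e : ℂ) * ∑ χ ∈ Rel, (χ : N → ℂ) ⟨x, hXN x.2⟩ + S = 0 := by
    intro x hx
    have h := sum_degree_mul_irr (G := N) ⟨x, hXN x.2⟩
    rw [if_neg (fun h => hx (congrArg Subtype.val h :)), ← Finset.sum_add_sum_compl Rel] at h
    rw [hS, Finset.mul_sum, ← h]
    congr 1
    · exact Finset.sum_congr rfl fun χ hχ => by rw [hdeg χ hχ]
    · refine Finset.sum_congr rfl fun χ hχ => ?_
      rw [hnon χ (Finset.mem_compl.mp hχ) ⟨x, hXN x.2⟩ x.2]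
  have htot : S + (Rel.card : ℂ) * (e * e) = (e : ℂ) * a := by
    have h := sum_sq_degree (G := N)
    rw [← Finset.sum_add_sum_compl Rel, Finset.sum_congr rfl fun χ hχ => by rw [hdeg χ hχ],
      Finset.sum_const, nsmul_eq_mul, hNc] at h
    rw [hS]
    simp only [pow_two] at h
    linear_combination h
  have hone : ∑ x : X, (if (x : G) = 1 then (0 : ℂ) else 1) = (a : ℂ) - 1 := by
    rw [Finset.sum_congr rfl (g := fun x : X => 1 - if x = 1 then (1 : ℂ) else 0) fun x _ => by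
      by_cases hx : x = 1
      · simp [hx]
      · simp [hx],
      Finset.sum_sub_distrib, Finset.sum_ite_eq' Finset.univ (1 : X), if_pos (Finset.mem_univ _),
      Finset.sum_const, Finset.card_univ, nsmul_eq_mul, mul_one, ← Nat.card_eq_fintype_card]
  have hcard : e * Rel.card + 1 = a := by
    have h : ((a : ℂ) - 1) * S = (Rel.card : ℂ) * (e * e) := by
      have hs : ∑ x : X, ((e : ℂ) * ∑ χ ∈ Rel, (χ : N → ℂ) ⟨x, hXN x.2⟩ + S) =
          (e : ℂ) * ((Rel.card : ℂ) * e) + S := by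
        rw [Finset.sum_eq_single (1 : X)]
        · congr 2
          rw [Finset.sum_congr rfl fun χ hχ => ?_, Finset.sum_const, nsmul_eq_mul]
          exact hdeg χ hχ
        · exact fun x _ hx => hreg x (fun h => hx (Subtype.ext h))
        · simp
      rw [Finset.sum_add_distrib, ← Finset.mul_sum, Finset.sum_comm, Finset.sum_congr rfl hzero,
        Finset.sum_const_zero, mul_zero, zero_add, Finset.sum_const, Finset.card_univ, nsmul_eq_mul,
        ← Nat.card_eq_fintype_card] at hs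
      linear_combination hs
    have he : (e : ℂ) ≠ 0 := Nat.cast_ne_zero.mpr hepos.ne'
    have ha0 : (a : ℂ) ≠ 0 := Nat.cast_ne_zero.mpr (by omega)
    have h2 : ((e * Rel.card + 1 : ℕ) : ℂ) = (a : ℂ) := by
      push_cast
      refine mul_left_cancel₀ (mul_ne_zero he ha0) ?_
      linear_combination ((a : ℂ) - 1) * htot - h
    exact_mod_cast h2
  -- exceptional characters
  have hne : Rel.Nonempty := by
    rw [← Finset.card_pos]
    by_contra h
    rw [show Rel.card = 0 by omega] at hcard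
    omega
  obtain ⟨χ₀, hχ₀⟩ := hne
  obtain ⟨ε, hε, θ, hθirr, hθinj, hind⟩ := exceptional_of_ti N (X : Set G) hTI
    (⟨χ₀, hχ₀⟩ : {χ : IrrCharacter N // χ ∈ Rel}) (fun χ => (χ.1 : N → ℂ)) (fun χ => χ.1.2)
    (fun i j h => Subtype.ext (Subtype.ext h))
    (fun i j x hx => by rw [hvan _ i.2 x hx, hvan _ j.2 x hx])
    (fun i j => by rw [hdeg _ i.2, hdeg _ j.2])
  let Θ : {χ : IrrCharacter N // χ ∈ Rel} → IrrCharacter G := fun i => ⟨θ i, hθirr i⟩
  have hΘ : Function.Injective Θ := fun i j h => hθinj (congrArg Subtype.val h)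
  have hεε : ε * ε = 1 := by rcases hε with h | h <;> simp [h]
  have hεconj : conj ε = ε := by rcases hε with h | h <;> simp [h]
  -- coefficients
  have hcoef : ∀ (φ : IrrCharacter G) (i j : {χ : IrrCharacter N // χ ∈ Rel}),
      classInner (fun n : N => (φ : G → ℂ) n) (i.1 : N → ℂ) -
        classInner (fun n : N => (φ : G → ℂ) n) (j.1 : N → ℂ) =
      ε * ((if φ = Θ i then 1 else 0) - (if φ = Θ j then 1 else 0)) := by
    intro φ i j
    have h := frobenius_reciprocity N ((i.1 : N → ℂ) - (j.1 : N → ℂ)) (isClassFunction_irr φ)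
    rw [indFun_sub, hind, classInner_smul_left, classInner_sub_left, classInner_sub_left] at h
    rw [show θ i = ((Θ i : IrrCharacter G) : G → ℂ) from rfl,
      show θ j = ((Θ j : IrrCharacter G) : G → ℂ) from rfl, classInner_coe, classInner_coe] at h
    rw [← classInner_conj_symm (i.1 : N → ℂ), ← classInner_conj_symm (j.1 : N → ℂ), ← map_sub, ← h,
      map_mul, hεconj, map_sub]
    congr 1
    congr 1 <;> split_ifs with h1 h2 h2 <;>
      first | exact map_one _ | exact map_zero _ | exact absurd h1.symm h2 | exact absurd h2.symm h1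
  -- values on `X`
  have hval : ∀ φ : IrrCharacter G, ∃ γ : ℂ, ∀ x : X, (x : G) ≠ 1 → (φ : G → ℂ) x =
      (∑ i : {χ : IrrCharacter N // χ ∈ Rel},
        if φ = Θ i then ε * (i.1 : N → ℂ) ⟨x, hXN x.2⟩ else 0) + γ := by
    intro φ
    set u : IrrCharacter N → ℂ := fun χ => classInner (fun n : N => (φ : G → ℂ) n) (χ : N → ℂ)
      with hu
    set c₀ : ℂ := u χ₀ - ε * (if φ = Θ ⟨χ₀, hχ₀⟩ then 1 else 0) with hc₀
    refine ⟨c₀ * (-S / e) + ∑ χ ∈ Relᶜ, u χ * (χ : N → ℂ) 1, fun x hx => ?_⟩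
    have he := congrFun (classFunction_expansion
      (isClassFunction_restrict N (isClassFunction_irr φ))) ⟨x, hXN x.2⟩
    simp only [Finset.sum_apply, Pi.smul_apply, smul_eq_mul] at he
    rw [he, ← Finset.sum_add_sum_compl Rel, ← add_assoc]
    congr 1
    · rw [← Finset.sum_coe_sort Rel,
        Finset.sum_congr rfl (g := fun i : {χ : IrrCharacter N // χ ∈ Rel} =>
          (if φ = Θ i then ε * (i.1 : N → ℂ) ⟨x, hXN x.2⟩ else 0) +
            c₀ * (i.1 : N → ℂ) ⟨x, hXN x.2⟩) fun i _ => ?_]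
      · rw [Finset.sum_add_distrib, ← Finset.mul_sum]
        congr 2
        rw [Finset.sum_coe_sort Rel (fun χ => (χ : N → ℂ) ⟨x, hXN x.2⟩),
          eq_div_iff (Nat.cast_ne_zero.mpr hepos.ne')]
        linear_combination hreg x hx
      · have h := hcoef φ i ⟨χ₀, hχ₀⟩
        have hi : u i.1 = c₀ + ε * (if φ = Θ i then 1 else 0) := by
          rw [hc₀]; linear_combination h
        show u i.1 * _ = _
        rw [hi]
        split_ifs <;> ring
    · refine Finset.sum_congr rfl fun χ hχ => ?_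
      show u χ * _ = _
      rw [hnon χ (Finset.mem_compl.mp hχ) ⟨x, hXN x.2⟩ x.2]
  have hvalfam : ∀ k : {χ : IrrCharacter N // χ ∈ Rel}, ∃ γ : ℂ, ∀ x : X, (x : G) ≠ 1 →
      (Θ k : G → ℂ) x = ε * (k.1 : N → ℂ) ⟨x, hXN x.2⟩ + γ := by
    intro k
    obtain ⟨γ, hγ⟩ := hval (Θ k)
    refine ⟨γ, fun x hx => ?_⟩
    rw [hγ x hx, Finset.sum_eq_single k, if_pos rfl]
    · exact fun i _ hi => if_neg fun h => hi (hΘ h).symm
    · simp
  -- pieces of sums over `X \ {1}`
  have hne1 : ∀ f : X → ℂ, ∑ x : X, (if (x : G) = 1 then 0 else f x) = (∑ x : X, f x) - f 1 := by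
    intro f
    rw [Finset.sum_congr rfl (g := fun x : X => f x - if x = 1 then f x else 0) fun x _ => by
      by_cases hx : x = 1
      · simp [hx]
      · simp [hx],
      Finset.sum_sub_distrib, Finset.sum_ite_eq' Finset.univ (1 : X), if_pos (Finset.mem_univ _)]
  have hk1 : ∀ k : {χ : IrrCharacter N // χ ∈ Rel},
      (k.1 : N → ℂ) (⟨((1 : X) : G), hXN (1 : X).2⟩ : N) = (e : ℂ) := fun k => hdeg _ k.2
  have hchi : ∀ k : {χ : IrrCharacter N // χ ∈ Rel},
      ∑ x : X, (if (x : G) = 1 then 0 else (k.1 : N → ℂ) ⟨x, hXN x.2⟩) = -(e : ℂ) := by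
    intro k
    rw [hne1 (fun x => (k.1 : N → ℂ) ⟨x, hXN x.2⟩), hzero _ k.2, hk1, zero_sub]
  have hchi2 : ∀ k : {χ : IrrCharacter N // χ ∈ Rel},
      ∑ x : X, (if (x : G) = 1 then 0 else (k.1 : N → ℂ) ⟨x, hXN x.2⟩ *
        conj ((k.1 : N → ℂ) ⟨x, hXN x.2⟩)) = (e : ℂ) * ((a : ℂ) - e) := by
    intro k
    rw [hne1 (fun x => (k.1 : N → ℂ) ⟨x, hXN x.2⟩ * conj ((k.1 : N → ℂ) ⟨x, hXN x.2⟩)),
      hsq _ k.2, hk1, Complex.conj_natCast]
    ring
  obtain ⟨x₀, hx₀⟩ := exists_ne (1 : X)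
  have hx₀' : (x₀ : G) ≠ 1 := fun h => hx₀ (Subtype.ext h)
  refine ⟨Finset.univ.image Θ, ?_, ?_, ?_, ?_, ?_, ?_⟩
  · rw [Finset.card_image_of_injective _ hΘ, Finset.card_univ, Fintype.card_coe]
    exact hcard
  · intro φ hφ x hx y hy hx1 hy1
    obtain ⟨γ, hγ⟩ := hval φ
    have h0 : ∀ i, φ ≠ Θ i := fun i h => hφ (Finset.mem_image.mpr ⟨i, Finset.mem_univ _, h.symm⟩)
    have hx' := hγ ⟨x, hx⟩ hx1
    have hy' := hγ ⟨y, hy⟩ hy1
    simp only [if_neg (h0 _), Finset.sum_const_zero, zero_add] at hx' hy'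
    exact hx'.trans hy'.symm
  · intro φ hφ ψ hψ g hg
    obtain ⟨i, -, rfl⟩ := Finset.mem_image.mp hφ
    obtain ⟨j, -, rfl⟩ := Finset.mem_image.mp hψ
    show θ i g = θ j g
    have h := congrFun (hind i j) g
    rw [Pi.smul_apply, smul_eq_mul, Pi.sub_apply, Pi.sub_apply, ← Pi.sub_apply (indFun N _),
      ← indFun_sub] at h
    have h0 : indFun N ((i.1 : N → ℂ) - (j.1 : N → ℂ)) g = 0 := by
      simp only [indFun]
      refine mul_eq_zero_of_right _ (Finset.sum_eq_zero fun y _ => ?_)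
      by_cases hy : y⁻¹ * g * y ∈ N
      · rw [extendByZero_mem _ _ hy]
        by_cases hyX : y⁻¹ * g * y ∈ X
        · have hg1 : g = 1 := hg y⁻¹ (by rwa [inv_inv])
          have hy1 : (⟨y⁻¹ * g * y, hy⟩ : N) = 1 := Subtype.ext (by simp [hg1])
          rw [hy1, Pi.sub_apply, hdeg _ i.2, hdeg _ j.2, sub_self]
        · rw [Pi.sub_apply, hvan _ i.2 _ hyX, hvan _ j.2 _ hyX, sub_self]
      · exact extendByZero_notMem _ _ hy
    rw [h0] at h
    have hε0 : ε ≠ 0 := by rintro rfl; simp at hεε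
    exact sub_eq_zero.mp ((mul_eq_zero.mp h.symm).resolve_left hε0)
  · intro φ hφ ψ hψ hc
    obtain ⟨i, -, rfl⟩ := Finset.mem_image.mp hφ
    obtain ⟨j, -, rfl⟩ := Finset.mem_image.mp hψ
    obtain ⟨γi, hi⟩ := hvalfam i
    obtain ⟨γj, hj⟩ := hvalfam j
    have hd : ∀ x : X, (x : G) ≠ 1 →
        (i.1 : N → ℂ) ⟨x, hXN x.2⟩ - (j.1 : N → ℂ) ⟨x, hXN x.2⟩ =
        (i.1 : N → ℂ) ⟨x₀, hXN x₀.2⟩ - (j.1 : N → ℂ) ⟨x₀, hXN x₀.2⟩ := by
      intro x hx
      have h := hc x x.2 x₀ x₀.2 hx hx₀'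
      rw [hi x hx, hj x hx, hi x₀ hx₀', hj x₀ hx₀'] at h
      linear_combination ε * h -
        ((i.1 : N → ℂ) ⟨x, hXN x.2⟩ - (j.1 : N → ℂ) ⟨x, hXN x.2⟩ -
          ((i.1 : N → ℂ) ⟨x₀, hXN x₀.2⟩ - (j.1 : N → ℂ) ⟨x₀, hXN x₀.2⟩)) * hεε
    obtain ⟨δ, hδ⟩ : ∃ δ : ℂ, δ = (i.1 : N → ℂ) ⟨x₀, hXN x₀.2⟩ - (j.1 : N → ℂ) ⟨x₀, hXN x₀.2⟩ :=
      ⟨_, rfl⟩
    have hδ0 : δ = 0 := by
      have h : ∑ x : X, (if (x : G) = 1 then (0 : ℂ) else
          (i.1 : N → ℂ) ⟨x, hXN x.2⟩ - (j.1 : N → ℂ) ⟨x, hXN x.2⟩) = 0 := by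
        rw [hne1 (fun x => (i.1 : N → ℂ) ⟨x, hXN x.2⟩ - (j.1 : N → ℂ) ⟨x, hXN x.2⟩),
          Finset.sum_sub_distrib, hzero _ i.2, hzero _ j.2, hk1, hk1]
        ring
      rw [Finset.sum_congr rfl (g := fun x : X => δ * if (x : G) = 1 then 0 else 1) fun x _ => ?_,
        ← Finset.mul_sum, hone, mul_eq_zero] at h
      · refine h.resolve_right (sub_ne_zero.mpr ?_)
        exact_mod_cast (show a ≠ 1 by omega)
      · split_ifs with hx
        · rw [mul_zero]
        · rw [hδ, hd x hx, mul_one]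
    refine congrArg Θ (Subtype.ext (Subtype.ext (funext fun n => ?_)))
    by_cases hn : (n : G) ∈ X
    · by_cases hn1 : (n : G) = 1
      · have : n = 1 := Subtype.ext hn1
        subst this
        rw [hdeg _ i.2, hdeg _ j.2]
      · have h := hd ⟨n, hn⟩ hn1
        rw [← hδ, hδ0] at h
        exact sub_eq_zero.mp h
    · rw [hvan _ i.2 n hn, hvan _ j.2 n hn]
  · intro _ hbig φ hφ hc
    obtain ⟨k, -, rfl⟩ := Finset.mem_image.mp hφ
    obtain ⟨γ, hγ⟩ := hvalfam k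
    obtain ⟨δ, hδ⟩ : ∃ δ : ℂ, δ = (k.1 : N → ℂ) ⟨x₀, hXN x₀.2⟩ := ⟨_, rfl⟩
    have hd : ∀ x : X, (x : G) ≠ 1 → (k.1 : N → ℂ) ⟨x, hXN x.2⟩ = δ := by
      intro x hx
      have h := hc x x.2 x₀ x₀.2 hx hx₀'
      rw [hγ x hx, hγ x₀ hx₀'] at h
      rw [hδ]
      linear_combination ε * h -
        ((k.1 : N → ℂ) ⟨x, hXN x.2⟩ - (k.1 : N → ℂ) ⟨x₀, hXN x₀.2⟩) * hεε
    have h1 := hchi k
    rw [Finset.sum_congr rfl (g := fun x : X => δ * if (x : G) = 1 then 0 else 1) fun x _ => ?_,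
      ← Finset.mul_sum, hone] at h1
    swap
    · split_ifs with hx
      · rw [mul_zero]
      · rw [hd x hx, mul_one]
    have h2 := hchi2 k
    rw [Finset.sum_congr rfl (g := fun x : X => δ * conj δ * if (x : G) = 1 then 0 else 1)
      fun x _ => ?_, ← Finset.mul_sum, hone] at h2
    swap
    · split_ifs with hx
      · rw [mul_zero]
      · rw [hd x hx, mul_one]
    have h3 : conj δ * ((a : ℂ) - 1) = -(e : ℂ) := by
      have := congrArg conj h1
      simpa using this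
    have h4 : ((((a : ℤ) - e) * ((a : ℤ) - 1) : ℤ) : ℂ) = ((e : ℤ) : ℂ) := by
      push_cast
      refine mul_left_cancel₀ (Nat.cast_ne_zero.mpr hepos.ne' : (e : ℂ) ≠ 0) ?_
      linear_combination (conj δ * ((a : ℂ) - 1)) * h1 - ((a : ℂ) - 1) * h2 - (e : ℂ) * h3
    have h5 : ((a : ℤ) - e) * ((a : ℤ) - 1) = e := by exact_mod_cast h4
    have h6 : e ≤ a := by
      by_contra h
      rw [Nat.sub_eq_zero_of_le (by omega), zero_mul] at hbig
      exact Nat.not_lt_zero _ hbig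
    have h7 : ((a - e) * (a - 1) : ℕ) = e := by
      zify [h6, show 1 ≤ a by omega]; exact h5
    omega
  · -- the norm bound
    have hk : ∀ k : {χ : IrrCharacter N // χ ∈ Rel},
        (e : ℝ) * ((a : ℝ) - e) - (e : ℝ) ^ 2 / ((a : ℝ) - 1) ≤
        ∑ x : X, if (x : G) = 1 then 0 else Complex.normSq ((Θ k : G → ℂ) (x : G)) := by
      intro k
      obtain ⟨γ, hγ⟩ := hvalfam k
      have hC : ∀ x : X, ((if (x : G) = 1 then (0 : ℝ) else
          Complex.normSq ((Θ k : G → ℂ) (x : G)) : ℝ) : ℂ) =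
          (if (x : G) = 1 then 0 else (k.1 : N → ℂ) ⟨x, hXN x.2⟩ *
            conj ((k.1 : N → ℂ) ⟨x, hXN x.2⟩)) +
          ε * conj γ * (if (x : G) = 1 then 0 else (k.1 : N → ℂ) ⟨x, hXN x.2⟩) +
          ε * γ * conj (if (x : G) = 1 then 0 else (k.1 : N → ℂ) ⟨x, hXN x.2⟩) +
          γ * conj γ * (if (x : G) = 1 then 0 else 1) := by
        intro x
        by_cases hx : (x : G) = 1
        · rw [if_pos hx, if_pos hx, if_pos hx, if_pos hx]; simp
        · rw [if_neg hx, if_neg hx, if_neg hx, if_neg hx, hγ x hx, ← Complex.mul_conj, map_add,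
            map_mul, hεconj]
          linear_combination
            ((k.1 : N → ℂ) ⟨x, hXN x.2⟩ * conj ((k.1 : N → ℂ) ⟨x, hXN x.2⟩)) * hεε
      have hsum : ((∑ x : X, (if (x : G) = 1 then (0 : ℝ) else
          Complex.normSq ((Θ k : G → ℂ) (x : G))) : ℝ) : ℂ) =
          (((e : ℝ) * ((a : ℝ) - e) - 2 * (e : ℝ) * (ε * γ).re +
            Complex.normSq γ * ((a : ℝ) - 1) : ℝ) : ℂ) := by
        rw [Complex.ofReal_sum, Finset.sum_congr rfl fun x _ => hC x, Finset.sum_add_distrib,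
          Finset.sum_add_distrib, Finset.sum_add_distrib, ← Finset.mul_sum, ← Finset.mul_sum,
          ← Finset.mul_sum, ← map_sum, hchi, hchi2, hone, map_neg, Complex.conj_natCast]
        push_cast
        rw [← Complex.mul_conj, Complex.re_eq_add_conj, map_mul, hεconj]
        ring
      rw [Complex.ofReal_inj.mp hsum]
      have ha1 : (0 : ℝ) < (a : ℝ) - 1 := by
        rw [sub_pos]; exact_mod_cast (show 1 < a by omega)
      have hre : (ε * γ).re ^ 2 ≤ Complex.normSq γ := by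
        have hn : Complex.normSq ε = 1 := by rcases hε with h | h <;> simp [h]
        have h2 := Complex.re_sq_le_normSq (ε * γ)
        rw [Complex.normSq_mul, hn, one_mul] at h2
        rw [pow_two]; exact h2
      rw [sub_le_iff_le_add]
      have key : 2 * (e : ℝ) * (ε * γ).re ≤
          Complex.normSq γ * ((a : ℝ) - 1) + (e : ℝ) ^ 2 / ((a : ℝ) - 1) := by
        rw [← sub_le_iff_le_add', le_div_iff₀ ha1]
        nlinarith [sq_nonneg ((e : ℝ) - ((a : ℝ) - 1) * (ε * γ).re),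
          mul_le_mul_of_nonneg_left hre (mul_self_nonneg ((a : ℝ) - 1))]
      linarith
    rw [Finset.sum_image fun i _ j _ h => hΘ h]
    refine le_trans (le_of_eq ?_) (Finset.sum_le_sum fun k _ => hk k)
    rw [Finset.sum_const, Finset.card_univ, Fintype.card_coe, nsmul_eq_mul]
    have hcr : (e : ℝ) * Rel.card = (a : ℝ) - 1 := by
      rw [eq_sub_iff_add_eq]; exact_mod_cast hcard
    have ha1 : (a : ℝ) - 1 ≠ 0 := sub_ne_zero.mpr (by exact_mod_cast (show a ≠ 1 by omega))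
    field_simp
    linear_combination (-((a : ℝ) - e) * ((a : ℝ) - 1) + (e : ℝ)) * hcr

end CfsgLib.Char
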