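import Cfsg.Agent.Lib.Char.FrobeniusGroup
import Cfsg.Agent.Lib.Char.Artin
import Cfsg.Agent.Lib.Char.TI

/-!
# Characters that are not constant on a self-centralising TI kernel
-/

set_option autoImplicit false

namespace CfsgLib.Char

open Cfsg

variable {G : Type*} [Group G] [Fintype G] (K : Subgroup G) [hK : K.Normal]

/-- An irreducible character not constant on a normal subgroup containing the centralisers of its
nonidentity elements is induced from it. -/
theorem exists_induced_of_nonconstant (hC : ∀ k ∈ K, k ≠ 1 → ∀ x : G, x * k = k * x → x ∈ K)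
    {χ : G → ℂ} (hχ : IsIrrCharacter G χ) (hnc : ∃ k : G, k ∈ K ∧ χ k ≠ χ 1) :
    ∃ τ : K → ℂ, IsIrrCharacter K τ ∧ τ ≠ (fun _ => 1) ∧ indFun K τ = χ := by
  classical
  have hcl := isClassFunction_of_isCharacter (isCharacter_of_isIrr hχ)
  obtain ⟨τ, hτ, hτ1, hne⟩ : ∃ τ : K → ℂ, IsIrrCharacter K τ ∧ τ ≠ (fun _ => 1) ∧
      classInner (fun k : K => χ k) τ ≠ 0 := by
    by_contra h
    push_neg at h
    obtain ⟨k, hk, hχk⟩ := hnc
    have he := classFunction_expansion (isClassFunction_restrict K hcl)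
    have hval : ∀ x : K, χ x = χ ((1 : K) : G) := by
      intro x
      rw [congrFun he x, congrFun he 1, Finset.sum_apply, Finset.sum_apply]
      refine Finset.sum_congr rfl fun ψ _ => ?_
      by_cases hψ : (ψ : K → ℂ) = fun _ => 1
      · simp [hψ]
      · simp [h _ ψ.2 hψ]
    exact hχk (hval ⟨k, hk⟩)
  have hirr := irreducible_induced_of_centralizer K hC hτ hτ1
  refine ⟨τ, hτ, hτ1, ?_⟩
  by_contra hneq
  apply hne
  rw [← classInner_conj_symm, ← frobenius_reciprocity K τ hcl,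
    classInner_irr_ne hirr hχ hneq, map_zero]

theorem vanish_off_of_nonconstant (hC : ∀ k ∈ K, k ≠ 1 → ∀ x : G, x * k = k * x → x ∈ K)
    {χ : G → ℂ} (hχ : IsIrrCharacter G χ) (hnc : ∃ k : G, k ∈ K ∧ χ k ≠ χ 1) {x : G}
    (hx : x ∉ K) : χ x = 0 := by
  obtain ⟨τ, -, -, rfl⟩ := exists_induced_of_nonconstant K hC hχ hnc
  exact indFun_notMem_of_normal K τ hx

theorem degree_of_nonconstant (hC : ∀ k ∈ K, k ≠ 1 → ∀ x : G, x * k = k * x → x ∈ K)
    (hab : ∀ a b : K, a * b = b * a) {χ : G → ℂ} (hχ : IsIrrCharacter G χ)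
    (hnc : ∃ k : G, k ∈ K ∧ χ k ≠ χ 1) : χ 1 = (K.index : ℂ) := by
  obtain ⟨τ, hτ, -, rfl⟩ := exists_induced_of_nonconstant K hC hχ hnc
  rw [indFun_one, show τ 1 = 1 from degree_one_of_comm hab ⟨τ, hτ⟩, mul_one]

end CfsgLib.Char
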