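import Mathlib

/-!
# Integral vectors of small norm meeting pairwise in one point
-/

set_option autoImplicit false

namespace CfsgLib.Char.TIVectors

variable {ι : Type*} [Fintype ι]

theorem abs_le_one {D : ι → ℤ} (h : ∑ i, D i * D i ≤ 3) (i : ι) : D i = 0 ∨ D i = 1 ∨ D i = -1 := by
  have h1 := Finset.single_le_sum (f := fun j => D j * D j) (fun j _ => mul_self_nonneg (D j))
    (Finset.mem_univ i)
  have h1 : D i * D i ≤ 3 := h1.trans h
  have h2 : -1 ≤ D i := by nlinarith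
  have h3 : D i ≤ 1 := by nlinarith
  omega

theorem card_supp [DecidableEq ι] {D : ι → ℤ} (h : ∑ i, D i * D i = 2) :
    (Finset.univ.filter fun i => D i ≠ 0).card = 2 := by
  have e : ∀ i, D i * D i = if D i ≠ 0 then (1 : ℤ) else 0 := fun i => by
    rcases abs_le_one (by rw [h]; norm_num) i with h' | h' | h' <;> simp [h']
  rw [Finset.sum_congr rfl (fun i _ => e i), Finset.sum_boole] at h
  exact_mod_cast h

/-- Two norm two vectors with product one meet in one point, where they agree. -/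
theorem inter_supp [DecidableEq ι] {D E : ι → ℤ} (hD : ∑ i, D i * D i = 2) (hE : ∑ i, E i * E i = 2)
    (h : ∑ i, D i * E i = 1) : ∃ p, D p * E p = 1 ∧ ∀ i, D i ≠ 0 → E i ≠ 0 → i = p := by
  set S := Finset.univ.filter fun i => D i ≠ 0 ∧ E i ≠ 0 with hS
  have hD1 := fun i => abs_le_one (D := D) (by rw [hD]; norm_num) i
  have hE1 := fun i => abs_le_one (D := E) (by rw [hE]; norm_num) i
  have hsum : ∑ i ∈ S, D i * E i = 1 := by
    rw [← h, hS, Finset.sum_filter]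
    refine Finset.sum_congr rfl fun i _ => ?_
    split_ifs with hi
    · rfl
    · rw [not_and_or, not_not, not_not] at hi
      rcases hi with hi | hi <;> simp [hi]
  have hle : S.card ≤ 2 := (card_supp hD).symm ▸ Finset.card_le_card fun i hi => by
    simp only [hS, Finset.mem_filter, Finset.mem_univ, true_and] at hi ⊢
    exact hi.1
  have hterm : ∀ i ∈ S, D i * E i = 1 ∨ D i * E i = -1 := by
    intro i hi
    simp only [hS, Finset.mem_filter, Finset.mem_univ, true_and] at hi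
    rcases hD1 i with a | a | a <;> rcases hE1 i with b | b | b <;> simp_all
  have hmem : ∀ i, D i ≠ 0 → E i ≠ 0 → i ∈ S := fun i a b => by simp [hS, a, b]
  obtain h0 | h1 | h2 : S.card = 0 ∨ S.card = 1 ∨ S.card = 2 := by omega
  · rw [Finset.card_eq_zero.mp h0] at hsum; simp at hsum
  · obtain ⟨p, hp⟩ := Finset.card_eq_one.mp h1
    rw [hp, Finset.sum_singleton] at hsum
    exact ⟨p, hsum, fun i a b => Finset.mem_singleton.mp (hp ▸ hmem i a b)⟩
  · obtain ⟨a, b, hab, hp⟩ := Finset.card_eq_two.mp h2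
    rw [hp, Finset.sum_pair hab] at hsum
    rcases hterm a (by simp [hp]) with x | x <;> rcases hterm b (by simp [hp]) with y | y <;> omega

/-- A large family of norm two vectors with pairwise products one has a common entry. -/
theorem common_entry {α : Type*} [DecidableEq ι] (A : Finset α) (D : α → ι → ℤ) (R : α → α → Prop)
    (hR : ∀ s ∈ A, ∀ t ∈ A, R s t → D s = D t)
    (hbig : ∀ s₁ ∈ A, ∀ s₂ ∈ A, ∀ s₃ ∈ A, ∃ t ∈ A, ¬ R s₁ t ∧ ¬ R s₂ t ∧ ¬ R s₃ t)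
    (hD : ∀ s ∈ A, ∑ i, D s i * D s i = 2)
    (hDD : ∀ s ∈ A, ∀ t ∈ A, ¬ R s t → ∑ i, D s i * D t i = 1) (hA : A.Nonempty) :
    ∃ p v, (v = 1 ∨ v = -1) ∧ ∀ s ∈ A, D s p = v ∧
      ∀ t ∈ A, ¬ R s t → ∀ i, D s i ≠ 0 → D t i ≠ 0 → i = p := by
  obtain ⟨s₁, hs₁⟩ := hA
  obtain ⟨s₂, hs₂, h12, -, -⟩ := hbig s₁ hs₁ s₁ hs₁ s₁ hs₁
  have h12e := hDD s₁ hs₁ s₂ hs₂ h12
  obtain ⟨p, hp, hpu⟩ := inter_supp (hD s₁ hs₁) (hD s₂ hs₂) h12e
  have hp1 : D s₁ p = 1 ∧ D s₂ p = 1 ∨ D s₁ p = -1 ∧ D s₂ p = -1 := by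
    rwa [Int.mul_eq_one_iff_eq_one_or_neg_one] at hp
  have hsupp : ∀ s ∈ A, D s p ≠ 0 := by
    intro s hs h0
    have hn1 : ¬ R s₁ s := fun h => by rw [hR s₁ hs₁ s hs h, h0, zero_mul] at hp; exact zero_ne_one hp
    have hn2 : ¬ R s₂ s := fun h => by rw [hR s₂ hs₂ s hs h, h0, mul_zero] at hp; exact zero_ne_one hp
    obtain ⟨b, hb, -⟩ := inter_supp (hD s₁ hs₁) (hD s hs) (hDD s₁ hs₁ s hs hn1)
    obtain ⟨c, hc, -⟩ := inter_supp (hD s₂ hs₂) (hD s hs) (hDD s₂ hs₂ s hs hn2)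
    have hb0 : D s₁ b ≠ 0 ∧ D s b ≠ 0 := mul_ne_zero_iff.mp (by rw [hb]; exact one_ne_zero)
    have hc0 : D s₂ c ≠ 0 ∧ D s c ≠ 0 := mul_ne_zero_iff.mp (by rw [hc]; exact one_ne_zero)
    have hp0 : D s₁ p ≠ 0 ∧ D s₂ p ≠ 0 := mul_ne_zero_iff.mp (by rw [hp]; exact one_ne_zero)
    have hbp : b ≠ p := fun h => hb0.2 (h ▸ h0)
    have hcp : c ≠ p := fun h => hc0.2 (h ▸ h0)
    have hbc : b ≠ c := fun h => hbp (hpu b hb0.1 (h ▸ hc0.1))
    obtain ⟨t, ht, ht1, ht2, ht3⟩ := hbig s₁ hs₁ s₂ hs₂ s hs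
    have key : ∀ r ∈ A, ¬ R r t → ∀ x y : ι, x ≠ y → D r x ≠ 0 → D r y ≠ 0 →
        (D t x ≠ 0 ∧ D t y = 0) ∨ (D t x = 0 ∧ D t y ≠ 0) := by
      intro r hr hrt x y hxy hx hy
      obtain ⟨w, hw, hwu⟩ := inter_supp (hD r hr) (hD t ht) (hDD r hr t ht hrt)
      have hw0 := mul_ne_zero_iff.mp (show D r w * D t w ≠ 0 by rw [hw]; exact one_ne_zero)
      have hwxy : w = x ∨ w = y := by
        by_contra hh
        push Not at hh
        have h3 : ({w, x, y} : Finset ι).card ≤ 2 := (card_supp (hD r hr)) ▸ Finset.card_le_card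
          (fun i hi => by
            simp only [Finset.mem_insert, Finset.mem_singleton] at hi
            rcases hi with rfl | rfl | rfl <;> simp [hw0.1, hx, hy])
        rw [Finset.card_eq_three.mpr ⟨w, x, y, hh.1, hh.2, hxy, rfl⟩] at h3
        omega
      rcases hwxy with rfl | rfl
      · exact Or.inl ⟨hw0.2, of_not_not fun hh => hxy (hwu y hy hh).symm⟩
      · exact Or.inr ⟨of_not_not fun hh => hxy (hwu x hx hh), hw0.2⟩
    have k1 := key s₁ hs₁ ht1 p b hbp.symm hp0.1 hb0.1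
    have k2 := key s₂ hs₂ ht2 p c hcp.symm hp0.2 hc0.1
    have k3 := key s hs ht3 b c hbc hb0.2 hc0.2
    by_cases hh : D t p = 0 <;> simp [hh] at k1 k2 <;> simp_all
  refine ⟨p, D s₁ p, hp1.imp And.left And.left, fun s hs => ⟨?_, fun t ht hst i hi hi' => ?_⟩⟩
  · by_cases h : R s₁ s
    · rw [hR s₁ hs₁ s hs h]
    · obtain ⟨w, hw, hwu⟩ := inter_supp (hD s₁ hs₁) (hD s hs) (hDD s₁ hs₁ s hs h)
      have := hwu p (hsupp s₁ hs₁) (hsupp s hs)
      rw [← this, Int.mul_eq_one_iff_eq_one_or_neg_one] at hw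
      rcases hw with ⟨x, y⟩ | ⟨x, y⟩ <;> rw [x, y]
  · obtain ⟨w, -, hwu⟩ := inter_supp (hD s hs) (hD t ht) (hDD s hs t ht hst)
    exact (hwu i hi hi').trans (hwu p (hsupp s hs) (hsupp t ht)).symm

end CfsgLib.Char.TIVectors
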