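import Cfsg.Agent.Lib.Char.TINilpotentGram
import Cfsg.Agent.Lib.Char.TIVectors

/-!
# An exceptional character of a self-centralising TI subgroup

If `U` has many linear characters compared with `|H|` and the smaller degrees carry enough weight,
some irreducible character of `G` restricts to `U` as the orbit of a linear character.
-/

set_option autoImplicit false
set_option linter.unusedSectionVars false
set_option linter.style.haveILetI false

namespace CfsgLib.Char.TINilpotent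

open Cfsg
open scoped ComplexConjugate CfsgLib.Char

variable {G : Type*} [Group G] [Fintype G] {U H : Subgroup G} [Fintype U] [Fintype H]

/-- The difference with a multiple of the reference character. -/
noncomputable def V (t₀ θ : IrrCharacter U) (χ : IrrCharacter G) : ℤ := N θ χ - deg θ * N t₀ χ

theorem V_rel {hS : Setting U H} {t₀ θ φ : IrrCharacter U} (h : Rel hS θ φ) :
    (V t₀ φ : IrrCharacter G → ℤ) = V t₀ θ :=
  funext fun χ => by rw [V, V, h.deg_eq, h.N_eq]

/-- The shape of a coherent difference. -/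
def Good (t₀ θ : IrrCharacter U) (P : IrrCharacter G) : Prop :=
  ∃ F, F ≠ P ∧ ∃ ε : ℤ, (ε = 1 ∨ ε = -1) ∧ V t₀ θ P = -(deg θ : ℤ) ∧ V t₀ θ F = ε ∧
    ∀ χ, χ ≠ P → χ ≠ F → V t₀ θ χ = 0

theorem V_mul (hS : Setting U H) {t₀ θ s : IrrCharacter U} (h0 : t₀ ≠ triv) (hl : deg t₀ = 1)
    (hs : ¬ Rel hS t₀ s) (hθ : ¬ Rel hS t₀ θ) (hθs : ¬ Rel hS θ s) :
    ∑ χ : IrrCharacter G, V t₀ θ χ * V t₀ s χ = deg θ * deg s := by
  simp only [V, sub_mul, mul_sub, Finset.sum_sub_distrib]
  have e1 : ∑ χ : IrrCharacter G, N θ χ * ((deg s : ℤ) * N t₀ χ) =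
      deg s * (Nat.card H * deg θ * deg t₀) := by
    rw [← gram_off hS (fun h => hθ h.symm), Finset.mul_sum]
    exact Finset.sum_congr rfl fun χ _ => by ring
  have e2 : ∑ χ : IrrCharacter G, (deg θ : ℤ) * N t₀ χ * N s χ =
      deg θ * (Nat.card H * deg t₀ * deg s) := by
    rw [← gram_off hS hs, Finset.mul_sum]
    exact Finset.sum_congr rfl fun χ _ => by ring
  have e3 : ∑ χ : IrrCharacter G, (deg θ : ℤ) * N t₀ χ * ((deg s : ℤ) * N t₀ χ) =
      deg θ * deg s * (Nat.card H * deg t₀ * deg t₀ + 1) := by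
    rw [← gram_self hS h0, Finset.mul_sum]
    exact Finset.sum_congr rfl fun χ _ => by ring
  rw [e1, e2, e3, gram_off hS hθs, hl]
  push_cast
  ring

theorem V_sq (hS : Setting U H) {t₀ θ : IrrCharacter U} (h0 : t₀ ≠ triv) (hl : deg t₀ = 1)
    (hθ0 : θ ≠ triv) (hθ : ¬ Rel hS t₀ θ) :
    ∑ χ : IrrCharacter G, V t₀ θ χ * V t₀ θ χ = deg θ * deg θ + 1 := by
  simp only [V, sub_mul, mul_sub, Finset.sum_sub_distrib]
  have e1 : ∑ χ : IrrCharacter G, N θ χ * ((deg θ : ℤ) * N t₀ χ) =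
      deg θ * (Nat.card H * deg θ * deg t₀) := by
    rw [← gram_off hS (fun h => hθ h.symm), Finset.mul_sum]
    exact Finset.sum_congr rfl fun χ _ => by ring
  have e2 : ∑ χ : IrrCharacter G, (deg θ : ℤ) * N t₀ χ * N θ χ =
      deg θ * (Nat.card H * deg t₀ * deg θ) := by
    rw [← gram_off hS hθ, Finset.mul_sum]
    exact Finset.sum_congr rfl fun χ _ => by ring
  have e3 : ∑ χ : IrrCharacter G, (deg θ : ℤ) * N t₀ χ * ((deg θ : ℤ) * N t₀ χ) =
      deg θ * deg θ * (Nat.card H * deg t₀ * deg t₀ + 1) := by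
    rw [← gram_self hS h0, Finset.mul_sum]
    exact Finset.sum_congr rfl fun χ _ => by ring
  rw [e1, e2, e3, gram_self hS hθ0, hl]
  push_cast
  ring

theorem V_sq_triv (hS : Setting U H) {t₀ : IrrCharacter U} (h0 : t₀ ≠ triv) (hl : deg t₀ = 1) :
    ∑ χ : IrrCharacter G, V t₀ triv χ * V t₀ triv χ = Nat.card H + 1 := by
  simp only [V, deg_triv, Nat.cast_one, one_mul, sub_mul, mul_sub, Finset.sum_sub_distrib]
  have e1 : ∑ χ : IrrCharacter G, N (triv : IrrCharacter U) χ * N t₀ χ = Nat.card H := by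
    rw [gram_off hS (not_rel_triv h0), deg_triv, hl]; push_cast; ring
  have e2 : ∑ χ : IrrCharacter G, N t₀ χ * N (triv : IrrCharacter U) χ = Nat.card H := by
    rw [← e1]; exact Finset.sum_congr rfl fun χ _ => mul_comm _ _
  rw [e1, e2, gram_triv hS, gram_self hS h0, hl]
  push_cast
  ring

/-- The weight of the coherent characters bounds the multiplicity in the exceptional character. -/
theorem step (hS : Setting U H) {t₀ : IrrCharacter U} (h0 : t₀ ≠ triv) (hl : deg t₀ = 1)
    {P : IrrCharacter G} (hP : N t₀ P = 1) (θ : IrrCharacter U) (hθ : ¬ Rel hS t₀ θ) (B : ℤ)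
    (hB : ∑ χ : IrrCharacter G, V t₀ θ χ * V t₀ θ χ = B) (T : Finset (IrrCharacter U))
    (hT : ∀ s ∈ T, Good t₀ s P ∧ ¬ Rel hS t₀ s ∧ ¬ Rel hS θ s) :
    N θ P * N θ P * (∑ s ∈ T, (deg s : ℤ) * deg s) ≤
      Nat.card H * (B - (N θ P - deg θ) * (N θ P - deg θ)) := by
  classical
  set c := N θ P with hc
  have hVP : V t₀ θ P = c - deg θ := by rw [V, hP, mul_one]
  haveI : Nonempty (IrrCharacter G) := ⟨P⟩
  choose! F hF ε hε hsP hsF hs0 using fun s hs => (hT s hs).1
  have hval : ∀ s ∈ T, V t₀ θ (F s) * V t₀ θ (F s) = c * c * ((deg s : ℤ) * deg s) := by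
    intro s hs
    have h := V_mul hS h0 hl (hT s hs).2.1 hθ (hT s hs).2.2
    rw [← Finset.add_sum_erase _ _ (Finset.mem_univ P), Finset.sum_eq_single_of_mem (F s)
      (Finset.mem_erase.mpr ⟨hF s hs, Finset.mem_univ _⟩)
      (fun χ hχ hne => by rw [hs0 s hs χ (Finset.ne_of_mem_erase hχ) hne, mul_zero]),
      hVP, hsP s hs, hsF s hs] at h
    have e : V t₀ θ (F s) = ε s * ((deg s : ℤ) * c) := by
      rcases hε s hs with he | he <;> rw [he] at h ⊢ <;> linarith
    rw [e]
    rcases hε s hs with he | he <;> rw [he] <;> ring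
  have hfib : ∀ χ, (T.filter fun s => F s = χ).card ≤ Nat.card H := by
    intro χ
    rcases (T.filter fun s => F s = χ).eq_empty_or_nonempty with he | ⟨s, hs⟩
    · simp [he]
    refine (Finset.card_le_card fun t ht => ?_).trans (card_orb_le hS s)
    rw [Finset.mem_filter] at hs ht
    rw [mem_orb]
    by_contra hne
    have h := V_mul hS h0 hl (hT t ht.1).2.1 (hT s hs.1).2.1 hne
    have hst : F t = F s := ht.2.trans hs.2.symm
    rw [← Finset.add_sum_erase _ _ (Finset.mem_univ P), Finset.sum_eq_single_of_mem (F s)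
      (Finset.mem_erase.mpr ⟨hF s hs.1, Finset.mem_univ _⟩)
      (fun x hx hn => by rw [hs0 s hs.1 x (Finset.ne_of_mem_erase hx) hn, zero_mul]),
      hsP s hs.1, hsP t ht.1, hsF s hs.1, ← hst, hsF t ht.1] at h
    rcases hε s hs.1 with a | a <;> rcases hε t ht.1 with b | b <;> rw [a, b] at h <;> linarith
  calc c * c * ∑ s ∈ T, (deg s : ℤ) * deg s = ∑ s ∈ T, V t₀ θ (F s) * V t₀ θ (F s) := by
        rw [Finset.mul_sum]; exact Finset.sum_congr rfl fun s hs => (hval s hs).symm
    _ = ∑ χ ∈ Finset.univ.erase P, ((T.filter fun s => F s = χ).card : ℤ) * (V t₀ θ χ * V t₀ θ χ) := by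
        rw [← Finset.sum_fiberwise_of_maps_to (g := F)
          (fun s hs => Finset.mem_erase.mpr ⟨hF s hs, Finset.mem_univ _⟩)]
        refine Finset.sum_congr rfl fun χ _ => ?_
        rw [Finset.sum_congr rfl (fun s hs => by rw [(Finset.mem_filter.mp hs).2] :
          ∀ s ∈ T.filter (fun s => F s = χ), V t₀ θ (F s) * V t₀ θ (F s) = V t₀ θ χ * V t₀ θ χ),
          Finset.sum_const, nsmul_eq_mul]
    _ ≤ ∑ χ ∈ Finset.univ.erase P, (Nat.card H : ℤ) * (V t₀ θ χ * V t₀ θ χ) :=
        Finset.sum_le_sum fun χ _ => mul_le_mul_of_nonneg_right (by exact_mod_cast hfib χ) (mul_self_nonneg _)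
    _ = _ := by
        rw [← Finset.mul_sum, Finset.sum_erase_eq_sub (Finset.mem_univ P), hB, hVP]

/-- A vector with the prescribed norm and entry at `P` is coherent. -/
theorem good_of_zero (hS : Setting U H) {t₀ θ : IrrCharacter U} (h0 : t₀ ≠ triv) (hl : deg t₀ = 1)
    (hθ0 : θ ≠ triv) (hθ : ¬ Rel hS t₀ θ) {P : IrrCharacter G} (hP : N t₀ P = 1) (hc : N θ P = 0) :
    Good t₀ θ P := by
  classical
  have hVP : V t₀ θ P = -(deg θ : ℤ) := by rw [V, hP, hc]; ring
  have hrest : ∑ χ ∈ Finset.univ.erase P, V t₀ θ χ * V t₀ θ χ = 1 := by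
    rw [Finset.sum_erase_eq_sub (Finset.mem_univ P), V_sq hS h0 hl hθ0 hθ, hVP]; ring
  obtain ⟨F, hF, hF0⟩ := Finset.exists_ne_zero_of_sum_ne_zero (by rw [hrest]; exact one_ne_zero)
  have hle : V t₀ θ F * V t₀ θ F ≤ 1 :=
    hrest ▸ Finset.single_le_sum (f := fun χ => V t₀ θ χ * V t₀ θ χ) (fun χ _ => mul_self_nonneg _) hF
  have hF1 : V t₀ θ F * V t₀ θ F = 1 := le_antisymm hle
    (Int.add_one_le_iff.mpr (lt_of_le_of_ne (mul_self_nonneg _) (Ne.symm hF0)))
  refine ⟨F, Finset.ne_of_mem_erase hF, V t₀ θ F, mul_self_eq_one_iff.mp hF1, hVP, rfl,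
    fun χ hχP hχF => ?_⟩
  have h2 := Finset.add_le_sum (f := fun χ => V t₀ θ χ * V t₀ θ χ) (fun χ _ => mul_self_nonneg _)
    (Finset.mem_erase.mpr ⟨hχP, Finset.mem_univ χ⟩) hF hχF
  simp only [hrest, hF1] at h2
  exact mul_self_eq_zero.mp (le_antisymm (by linarith) (mul_self_nonneg _))

/-- The exceptional character. -/
theorem exceptional (hS : Setting U H) {t₀ : IrrCharacter U} (h0 : t₀ ≠ triv) (hl : deg t₀ = 1)
    (hlin : Nat.card H * (2 * Nat.card H + 3) ≤
      ({φ : IrrCharacter U | φ ≠ triv ∧ deg φ = 1} : Set (IrrCharacter U)).ncard)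
    (hweight : ∀ θ : IrrCharacter U, 1 < deg θ → ∀ T : Finset (IrrCharacter U),
      (∀ φ, φ ∈ T ↔ φ ≠ triv ∧ deg φ < deg θ) →
        Nat.card H * (2 * deg θ + 2) ≤ ∑ φ ∈ T, deg φ * deg φ) :
    ∃ P : IrrCharacter G, N t₀ P = 1 ∧ ∀ θ : IrrCharacter U, N θ P ≠ 0 → Rel hS t₀ θ := by
  classical
  set k := Nat.card H with hk
  have hk1 : 1 ≤ k := Nat.card_pos
  set A : Finset (IrrCharacter U) :=
    Finset.univ.filter fun φ => φ ≠ triv ∧ deg φ = 1 ∧ ¬ Rel hS t₀ φ with hA
  have memA : ∀ {φ}, φ ∈ A ↔ φ ≠ triv ∧ deg φ = 1 ∧ ¬ Rel hS t₀ φ := by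
    intro φ; simp [hA]
  have hAcard : k * (2 * k + 2) ≤ A.card := by
    rw [Set.ncard_eq_toFinset_card'] at hlin
    have hsub : ({φ : IrrCharacter U | φ ≠ triv ∧ deg φ = 1} : Set (IrrCharacter U)).toFinset ⊆
        A ∪ orb hS t₀ := fun φ hφ => by
      simp only [Set.mem_toFinset, Set.mem_ofPred_eq] at hφ
      rw [Finset.mem_union, mem_orb, memA]
      tauto
    have := (Finset.card_le_card hsub).trans (Finset.card_union_le _ _)
    have := card_orb_le hS t₀
    nlinarith
  have hD : ∀ s ∈ A, ∑ χ : IrrCharacter G, V t₀ s χ * V t₀ s χ = 2 := fun s hs => by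
    rw [V_sq hS h0 hl (memA.mp hs).1 (memA.mp hs).2.2, (memA.mp hs).2.1]; rfl
  have hDD : ∀ s ∈ A, ∀ t ∈ A, ¬ Rel hS s t → ∑ χ : IrrCharacter G, V t₀ s χ * V t₀ t χ = 1 :=
    fun s hs t ht h => by
      rw [V_mul hS h0 hl (memA.mp ht).2.2 (memA.mp hs).2.2 h, (memA.mp hs).2.1, (memA.mp ht).2.1]; rfl
  obtain ⟨P, v, hv, hcom⟩ := TIVectors.common_entry A (V t₀) (Rel hS)
    (fun s _ t _ h => (V_rel h).symm) (by
      intro a _ b _ c _
      by_contra hno
      push Not at hno
      have hsub : A ⊆ orb hS a ∪ orb hS b ∪ orb hS c := fun t ht => by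
        simp only [Finset.mem_union, mem_orb]
        have := hno t ht
        tauto
      have := (Finset.card_le_card hsub).trans (Finset.card_union_le _ _)
      have := Finset.card_union_le (orb hS a) (orb hS b)
      have := card_orb_le hS a
      have := card_orb_le hS b
      have := card_orb_le hS c
      nlinarith) hD hDD (Finset.card_pos.mp (lt_of_lt_of_le (by positivity) hAcard))
  -- the second entries
  have hsecond : ∀ s ∈ A, ∃ q, q ≠ P ∧ V t₀ s q ≠ 0 ∧ ∀ χ, χ ≠ P → χ ≠ q → V t₀ s χ = 0 := by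
    intro s hs
    have h2 := TIVectors.card_supp (hD s hs)
    have hPmem : P ∈ Finset.univ.filter fun χ => V t₀ s χ ≠ 0 := by
      rw [Finset.mem_filter, (hcom s hs).1]; rcases hv with rfl | rfl <;> simp
    have h1 : ((Finset.univ.filter fun χ => V t₀ s χ ≠ 0).erase P).card = 1 := by
      rw [Finset.card_erase_of_mem hPmem, h2]
    obtain ⟨q, hq⟩ := Finset.card_eq_one.mp h1
    have hq' := Finset.mem_singleton_self q
    rw [← hq, Finset.mem_erase, Finset.mem_filter] at hq'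
    refine ⟨q, hq'.1, hq'.2.2, fun χ hχ hχq => by_contra fun h => hχq ?_⟩
    rw [← Finset.mem_singleton, ← hq, Finset.mem_erase, Finset.mem_filter]
    exact ⟨hχ, Finset.mem_univ _, h⟩
  haveI : Nonempty (IrrCharacter G) := ⟨P⟩
  choose! q hqP hq0 hq using hsecond
  have hA0 : ∀ s ∈ A, ∑ χ : IrrCharacter G, V t₀ s χ * N t₀ χ = -1 := fun s hs => by
    simp only [V, sub_mul, Finset.sum_sub_distrib, mul_assoc, ← Finset.mul_sum]
    rw [gram_off hS fun h => (memA.mp hs).2.2 h.symm, gram_self hS h0, (memA.mp hs).2.1, hl]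
    push_cast
    ring
  obtain ⟨s, hs, hsq⟩ : ∃ s ∈ A, N t₀ (q s) = 0 := by
    by_contra hno
    push Not at hno
    have hfib : A.card ≤ k * (A.image q).card := by
      refine Finset.card_le_mul_card_image _ _ fun χ hχ => ?_
      obtain ⟨s, hs, rfl⟩ := Finset.mem_image.mp hχ
      refine (Finset.card_le_card fun t ht => ?_).trans (card_orb_le hS s)
      rw [Finset.mem_filter] at ht
      rw [mem_orb]
      by_contra hne
      exact hqP s hs ((hcom s hs).2 t ht.1 hne (q s) (hq0 s hs) (ht.2 ▸ hq0 t ht.1))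
    have hbound : ((A.image q).card : ℤ) ≤ k + 1 := by
      have h := gram_self hS h0
      rw [hl] at h
      calc ((A.image q).card : ℤ) = ∑ χ ∈ A.image q, (1 : ℤ) := by simp
        _ ≤ ∑ χ ∈ A.image q, N t₀ χ * N t₀ χ := Finset.sum_le_sum fun χ hχ => by
            obtain ⟨s, hs, rfl⟩ := Finset.mem_image.mp hχ
            have := hno s hs
            have := N_nonneg t₀ (q s)
            have h1 : 1 ≤ N t₀ (q s) := by omega
            nlinarith
        _ ≤ ∑ χ : IrrCharacter G, N t₀ χ * N t₀ χ := Finset.sum_le_sum_of_subset_of_nonneg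
            (Finset.subset_univ _) fun χ _ _ => mul_self_nonneg _
        _ = k + 1 := by rw [h]; push_cast; ring
    have : (A.image q).card ≤ k + 1 := by exact_mod_cast hbound
    nlinarith
  have hsum := hA0 s hs
  rw [Finset.sum_eq_single P (fun χ _ hχ => by
    by_cases h : χ = q s
    · rw [h, hsq, mul_zero]
    · rw [hq s hs χ hχ h, zero_mul]) (by simp), (hcom s hs).1] at hsum
  obtain ⟨rfl, hP⟩ : v = -1 ∧ N t₀ P = 1 := by
    have := N_nonneg t₀ P
    rcases hv with rfl | rfl <;> constructor <;> linarith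
  have hgood : ∀ d, ∀ θ : IrrCharacter U, deg θ = d → θ ≠ triv → ¬ Rel hS t₀ θ → Good t₀ θ P := by
    intro d
    induction d using Nat.strong_induction_on with
    | _ d ih =>
      intro θ hd hθ0 hθ
      by_cases h1 : deg θ = 1
      · have hsA : θ ∈ A := memA.mpr ⟨hθ0, h1, hθ⟩
        refine ⟨q θ, hqP θ hsA, V t₀ θ (q θ), ?_, by rw [(hcom θ hsA).1, h1]; rfl, rfl, hq θ hsA⟩
        exact (TIVectors.abs_le_one (by rw [hD θ hsA]; norm_num) (q θ)).resolve_left (hq0 θ hsA)
      refine good_of_zero hS h0 hl hθ0 hθ hP ?_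
      set T : Finset (IrrCharacter U) := Finset.univ.filter fun φ => φ ≠ triv ∧ deg φ < deg θ with hT
      have hT' : ∀ φ, φ ∈ T ↔ φ ≠ triv ∧ deg φ < deg θ := fun φ => by simp [hT]
      have hw := hweight θ (by have := deg_pos θ; omega) T hT'
      have hst := step hS h0 hl hP θ hθ _ (V_sq hS h0 hl hθ0 hθ) (T \ orb hS t₀) (by
        intro s hs
        rw [Finset.mem_sdiff, hT', mem_orb] at hs
        exact ⟨ih (deg s) (hd ▸ hs.1.2) s rfl hs.1.1 hs.2, hs.2,
          fun h => by have := h.deg_eq; omega⟩)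
      have hsplit : (∑ φ ∈ T, deg φ * deg φ) ≤ (∑ φ ∈ T \ orb hS t₀, deg φ * deg φ) + k := by
        rw [← Finset.sum_inter_add_sum_sdiff T (orb hS t₀), add_comm]
        refine Nat.add_le_add_left ?_ _
        calc ∑ φ ∈ T ∩ orb hS t₀, deg φ * deg φ = ∑ φ ∈ T ∩ orb hS t₀, 1 :=
              Finset.sum_congr rfl fun φ hφ => by
                rw [(mem_orb.mp (Finset.mem_inter.mp hφ).2).deg_eq, hl]
          _ ≤ k := by
              rw [Finset.sum_const, smul_eq_mul, mul_one]
              exact (Finset.card_le_card Finset.inter_subset_right).trans (card_orb_le hS t₀)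
      have hw' : (k : ℤ) * (2 * deg θ + 2) ≤ (∑ φ ∈ T \ orb hS t₀, (deg φ : ℤ) * deg φ) + k := by
        exact_mod_cast hw.trans hsplit
      by_contra hc
      have hc1 : 1 ≤ N θ P := by have := N_nonneg θ P; omega
      have hkpos : (0 : ℤ) < k := by exact_mod_cast hk1
      have h3 : (k : ℤ) * (N θ P * N θ P * (2 * deg θ + 2)) ≤ k * (1 + 2 * N θ P * deg θ) := by
        linear_combination mul_le_mul_of_nonneg_left hw' (mul_self_nonneg (N θ P)) + hst
      have h4 := le_of_mul_le_mul_left h3 hkpos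
      have h5 : N θ P * deg θ ≤ N θ P * N θ P * deg θ :=
        mul_le_mul_of_nonneg_right (le_mul_of_one_le_right (N_nonneg θ P) hc1) (Int.natCast_nonneg _)
      nlinarith
  refine ⟨P, hP, fun θ hθ => by_contra fun hrel => hθ ?_⟩
  by_cases h1 : θ = triv
  · subst h1
    have hst := step hS h0 hl hP triv (fun h => not_rel_triv h0 h.symm) _ (V_sq_triv hS h0 hl) A
      fun s hs => ⟨hgood _ s rfl (memA.mp hs).1 (memA.mp hs).2.2, (memA.mp hs).2.2,
        not_rel_triv (memA.mp hs).1⟩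
    have hsum : ∑ s ∈ A, (deg s : ℤ) * deg s = A.card := by
      rw [Finset.sum_congr rfl (fun s hs => by rw [(memA.mp hs).2.1]; rfl :
        ∀ s ∈ A, (deg s : ℤ) * deg s = 1), Finset.sum_const, nsmul_eq_mul, mul_one]
    rw [hsum, deg_triv] at hst
    have hA' : (k : ℤ) * (2 * k + 2) ≤ A.card := by exact_mod_cast hAcard
    by_contra hc
    have hc1 : 1 ≤ N (triv : IrrCharacter U) P := by have := N_nonneg (triv : IrrCharacter U) P; omega
    have hkpos : (0 : ℤ) < k := by exact_mod_cast hk1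
    push_cast at hst
    nlinarith [mul_le_mul_of_nonneg_left hA' (mul_self_nonneg (N (triv : IrrCharacter U) P))]
  · obtain ⟨F, -, ε, -, hVP, -, -⟩ := hgood _ θ rfl h1 hrel
    rw [V, hP] at hVP
    linarith

end CfsgLib.Char.TINilpotent
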