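import Cfsg.Agent.Lib.Char.Table
import Cfsg.Agent.Lib.Char.Counting
import Cfsg.Agent.Lib.Char.Artin
import Cfsg.Agent.Lib.Char.Constituents

/-!
# The Gram matrix of restrictions to a self-centralising TI subgroup

`H` acts without fixed points on `U` and induces the fusion of `U`.
-/

set_option autoImplicit false
set_option linter.unusedSectionVars false
set_option linter.style.haveILetI false

namespace CfsgLib.Char.TINilpotent

open Cfsg
open scoped ComplexConjugate CfsgLib.Char

variable {G : Type*} [Group G]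

/-- Hypotheses. -/
structure Setting (U H : Subgroup G) : Prop where
  norm : ∀ h ∈ H, ∀ u ∈ U, h * u * h⁻¹ ∈ U
  cent : ∀ u ∈ U, u ≠ 1 → ∀ g, g * u = u * g → g ∈ U
  free : ∀ h ∈ H, ∀ u ∈ U, u ≠ 1 → h * u * h⁻¹ = u → h = 1
  fusion : ∀ u ∈ U, u ≠ 1 → ∀ g, g * u * g⁻¹ ∈ U → ∃ w ∈ U, ∃ h ∈ H, g = w * h
  ne_bot : U ≠ ⊥
  card_group : Nat.card G = (Nat.card U + 1) * Nat.card U * Nat.card H

variable {U H : Subgroup G}

theorem Setting.inter (hS : Setting U H) {g : G} (hU : g ∈ U) (hH : g ∈ H) : g = 1 := by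
  by_contra hg
  exact hg (hS.free g hH g hU hg (by group))

/-- Conjugation by an element of `H`. -/
def cj (hS : Setting U H) (h : H) : U ≃* U where
  toFun u := ⟨(h : G) * u * (h : G)⁻¹, hS.norm h h.2 u u.2⟩
  invFun u := ⟨(h : G)⁻¹ * u * h, by simpa using hS.norm (h : G)⁻¹ (H.inv_mem h.2) u u.2⟩
  left_inv u := Subtype.ext (by simp [mul_assoc])
  right_inv u := Subtype.ext (by simp [mul_assoc])
  map_mul' u w := Subtype.ext (by simp [mul_assoc])

@[simp] theorem cj_coe (hS : Setting U H) (h : H) (u : U) :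
    ((cj hS h u : U) : G) = (h : G) * u * (h : G)⁻¹ := rfl

theorem cj_cj (hS : Setting U H) (h k : H) (u : U) : cj hS h (cj hS k u) = cj hS (h * k) u :=
  Subtype.ext (by simp [mul_assoc])

theorem cj_one (hS : Setting U H) (u : U) : cj hS 1 u = u := Subtype.ext (by simp)

variable [Fintype G] [Fintype U] [Fintype H]

/-- The action of `H` on the characters of `U`. -/
noncomputable def rot (hS : Setting U H) (h : H) (θ : IrrCharacter U) : IrrCharacter U :=
  ⟨fun u => (θ : U → ℂ) (cj hS h u),
    isIrrCharacter_comp_mulEquiv (cj hS h) θ.2⟩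

@[simp] theorem rot_apply (hS : Setting U H) (h : H) (θ : IrrCharacter U) (u : U) :
    (rot hS h θ : U → ℂ) u = (θ : U → ℂ) (cj hS h u) := rfl

theorem rot_rot (hS : Setting U H) (h k : H) (θ : IrrCharacter U) :
    rot hS h (rot hS k θ) = rot hS (k * h) θ :=
  Subtype.ext (funext fun u => by simp only [rot_apply, cj_cj])

theorem rot_one (hS : Setting U H) (θ : IrrCharacter U) : rot hS 1 θ = θ :=
  Subtype.ext (funext fun u => by rw [rot_apply, cj_one])

/-- The trivial character. -/
noncomputable def triv : IrrCharacter U := ⟨fun _ => 1, isIrrCharacter_one⟩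

theorem rot_triv (hS : Setting U H) (h : H) : rot hS h triv = triv := rfl

/-- Being in the same orbit. -/
def Rel (hS : Setting U H) (θ φ : IrrCharacter U) : Prop := ∃ h : H, rot hS h θ = φ

theorem Rel.symm {hS : Setting U H} {θ φ : IrrCharacter U} (h : Rel hS θ φ) : Rel hS φ θ := by
  obtain ⟨h, rfl⟩ := h
  exact ⟨h⁻¹, by rw [rot_rot, mul_inv_cancel, rot_one]⟩

theorem Rel.trans {hS : Setting U H} {θ φ χ : IrrCharacter U} (h : Rel hS θ φ) (h' : Rel hS φ χ) :
    Rel hS θ χ := by
  obtain ⟨h, rfl⟩ := h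
  obtain ⟨k, rfl⟩ := h'
  exact ⟨h * k, by rw [rot_rot]⟩

theorem Rel.refl (hS : Setting U H) (θ : IrrCharacter U) : Rel hS θ θ := ⟨1, rot_one hS θ⟩

theorem not_rel_triv {hS : Setting U H} {θ : IrrCharacter U} (hθ : θ ≠ triv) : ¬ Rel hS triv θ := by
  rintro ⟨h, e⟩
  exact hθ (e.symm.trans (rot_triv hS h))

/-- Only the trivial character is fixed by a nontrivial element of `H`. -/
theorem free_irr (hS : Setting U H) {θ : IrrCharacter U} (hθ : θ ≠ triv) {h : H}
    (he : rot hS h θ = θ) : h = 1 := by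
  classical
  by_contra hh
  let σ : Equiv.Perm (IrrCharacter U) :=
    ⟨rot hS h⁻¹, rot hS h, fun x => by rw [rot_rot, inv_mul_cancel, rot_one],
      fun x => by rw [rot_rot, mul_inv_cancel, rot_one]⟩
  let τ : Equiv.Perm (ConjClasses U) :=
    ⟨ConjClasses.map (cj hS h).toMonoidHom, ConjClasses.map (cj hS h⁻¹).toMonoidHom,
      fun C => by
        obtain ⟨u, rfl⟩ := ConjClasses.exists_rep C
        exact congrArg ConjClasses.mk (by
          show cj hS h⁻¹ (cj hS h u) = u
          rw [cj_cj, inv_mul_cancel, cj_one]),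
      fun C => by
        obtain ⟨u, rfl⟩ := ConjClasses.exists_rep C
        exact congrArg ConjClasses.mk (by
          show cj hS h (cj hS h⁻¹ u) = u
          rw [cj_cj, mul_inv_cancel, cj_one])⟩
  have hb := brauer_perm σ τ (by
    intro χ g g' hg
    have hc : IsConj g' (cj hS h g) := ConjClasses.mk_eq_mk_iff_isConj.mp hg
    rw [eq_of_isConj (isClassFunction_irr (σ χ)) hc]
    show (χ : U → ℂ) (cj hS h⁻¹ (cj hS h g)) = _
    rw [cj_cj, inv_mul_cancel, cj_one])
  have h1 : Nat.card {C : ConjClasses U // τ C = C} = 1 := by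
    rw [Nat.card_eq_one_iff_unique]
    refine ⟨⟨fun ⟨C, hC⟩ ⟨C', hC'⟩ => Subtype.ext ?_⟩, ⟨ConjClasses.mk 1, by
      show ConjClasses.mk (cj hS h 1) = _
      rw [map_one]⟩⟩
    suffices ∀ C, τ C = C → C = ConjClasses.mk 1 from (this C hC).trans (this C' hC').symm
    intro D hD
    obtain ⟨u, rfl⟩ := ConjClasses.exists_rep D
    by_cases hu : u = 1
    · rw [hu]
    exfalso
    obtain ⟨v, hv⟩ := isConj_iff.mp (ConjClasses.mk_eq_mk_iff_isConj.mp (show
      ConjClasses.mk (cj hS h u) = ConjClasses.mk u from hD))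
    have hcm : ((v : G) * h) * u = u * ((v : G) * h) := by
      have e := congrArg (Subtype.val : U → G) hv
      simp only [Subgroup.coe_mul, Subgroup.coe_inv, cj_coe] at e
      rw [← mul_inv_eq_iff_eq_mul, mul_inv_rev]
      rw [← mul_assoc] at e
      simpa [mul_assoc] using e
    have hm : (v : G) * h ∈ U := hS.cent u u.2 (fun e => hu (Subtype.ext e)) _ hcm
    exact hh (Subtype.ext (hS.inter (by simpa using U.mul_mem (U.inv_mem v.2) hm) h.2))
  have h2 : Nontrivial {χ : IrrCharacter U // σ χ = χ} :=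
    ⟨⟨θ, by show rot hS h⁻¹ θ = θ; conv_lhs => rw [← he]; rw [rot_rot, mul_inv_cancel, rot_one]⟩,
      ⟨triv, rot_triv hS h⁻¹⟩, fun e => hθ (congrArg Subtype.val e)⟩
  have h3 := Finite.one_lt_card (α := {χ : IrrCharacter U // σ χ = χ})
  omega

theorem exists_mult (θ : IrrCharacter U) (χ : IrrCharacter G) :
    ∃ k : ℕ, classInner (fun u : U => (χ : G → ℂ) u) (θ : U → ℂ) = k :=
  exists_nat_classInner (isCharacter_restrict U (isCharacter_of_isIrr χ.2)) (isCharacter_of_isIrr θ.2)

/-- Multiplicity of a character of `U` in a restricted character of `G`. -/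
noncomputable def N (θ : IrrCharacter U) (χ : IrrCharacter G) : ℤ := (exists_mult θ χ).choose

theorem N_nonneg (θ : IrrCharacter U) (χ : IrrCharacter G) : 0 ≤ N θ χ := Int.natCast_nonneg _

theorem N_cast (θ : IrrCharacter U) (χ : IrrCharacter G) :
    (N θ χ : ℂ) = classInner (fun u : U => (χ : G → ℂ) u) (θ : U → ℂ) := by
  rw [(exists_mult θ χ).choose_spec, N, Int.cast_natCast]

/-- The degree of a character of `U`. -/
noncomputable def deg (θ : IrrCharacter U) : ℕ := (exists_nat_degree_irr θ.2).choose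

theorem deg_cast (θ : IrrCharacter U) : (θ : U → ℂ) 1 = deg θ :=
  (exists_nat_degree_irr θ.2).choose_spec.2

theorem deg_pos (θ : IrrCharacter U) : 0 < deg θ := (exists_nat_degree_irr θ.2).choose_spec.1

theorem deg_triv : deg (triv : IrrCharacter U) = 1 := by
  rw [← Nat.cast_inj (R := ℂ), ← deg_cast, Nat.cast_one]
  rfl

theorem deg_rot (hS : Setting U H) (h : H) (θ : IrrCharacter U) : deg (rot hS h θ) = deg θ := by
  have e : ((deg (rot hS h θ) : ℕ) : ℂ) = deg θ := by
    rw [← deg_cast, ← deg_cast, rot_apply, map_one]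
  exact_mod_cast e

theorem Rel.deg_eq {hS : Setting U H} {θ φ : IrrCharacter U} (h : Rel hS θ φ) : deg φ = deg θ := by
  obtain ⟨h, rfl⟩ := h
  exact deg_rot hS h θ

theorem N_rot (hS : Setting U H) (h : H) (θ : IrrCharacter U) (χ : IrrCharacter G) :
    N (rot hS h θ) χ = N θ χ := by
  have e : (N (rot hS h θ) χ : ℂ) = N θ χ := by
    rw [N_cast, N_cast, classInner, classInner]
    congr 1
    refine Fintype.sum_equiv (cj hS h).toEquiv _ _ fun u => ?_
    simp only [rot_apply, MulEquiv.toEquiv_eq_coe, MulEquiv.coe_toEquiv, cj_coe]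
    rw [isClassFunction_irr χ (u : G) (h : G)]
  exact_mod_cast e

theorem Rel.N_eq {hS : Setting U H} {θ φ : IrrCharacter U} (h : Rel hS θ φ) :
    N φ = (N θ : IrrCharacter G → ℤ) := by
  obtain ⟨h, rfl⟩ := h
  exact funext (N_rot hS h θ)

/-- Summing over the conjugates in `U`, weighted by the centralizer orders. -/
theorem sum_conj (hS : Setting U H) {w : U} (hw : w ≠ 1) (θ : IrrCharacter U) :
    (∑ u : U, conj ((θ : U → ℂ) u) *
      ∑ χ : IrrCharacter G, (χ : G → ℂ) u * conj ((χ : G → ℂ) w)) =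
      (Nat.card U : ℂ) * ∑ h : H, conj ((rot hS h θ : U → ℂ) w) := by
  classical
  have hw' : (w : G) ≠ 1 := fun e => hw (Subtype.ext e)
  have hfib : ∀ u : U, (∑ χ : IrrCharacter G, (χ : G → ℂ) u * conj ((χ : G → ℂ) w)) =
      ((Finset.univ.filter fun g : G => g * w * g⁻¹ = (u : G)).card : ℂ) := by
    intro u
    rw [column_orthogonality]
    split_ifs with hc
    · obtain ⟨g₀, hg₀⟩ := isConj_iff.mp hc.symm
      congr 1
      rw [Nat.card_eq_fintype_card, Fintype.card_subtype]
      refine Finset.card_bij (fun c _ => g₀ * c) ?_ (fun _ _ _ _ e => mul_left_cancel e) ?_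
      · intro c hc'
        simp only [Finset.mem_filter, Finset.mem_univ, true_and,
          Subgroup.mem_centralizer_singleton_iff] at hc' ⊢
        rw [← hg₀, show g₀ * c * (w : G) * (g₀ * c)⁻¹ = g₀ * (c * w) * c⁻¹ * g₀⁻¹ by group, hc']
        group
      · intro g hg
        simp only [Finset.mem_filter, Finset.mem_univ, true_and] at hg
        refine ⟨g₀⁻¹ * g, ?_, by rw [mul_inv_cancel_left]⟩
        simp only [Finset.mem_filter, Finset.mem_univ, true_and, Subgroup.mem_centralizer_singleton_iff]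
        have e := mul_inv_eq_iff_eq_mul.mp (hg.trans hg₀.symm)
        rw [mul_assoc, e]
        group
    · rw [Finset.filter_eq_empty_iff.mpr fun g _ hg => hc (isConj_iff.mpr ⟨g, hg⟩).symm,
        Finset.card_empty, Nat.cast_zero]
  simp only [hfib]
  have hin : ∀ p : U × H, ((p.1 : G) * (p.2 : G)) * w * ((p.1 : G) * (p.2 : G))⁻¹ ∈ U := fun p => by
    rw [show (p.1 : G) * (p.2 : G) * (w : G) * ((p.1 : G) * (p.2 : G))⁻¹ =
      p.1 * ((p.2 : G) * w * (p.2 : G)⁻¹) * (p.1 : G)⁻¹ by group]
    exact U.mul_mem (U.mul_mem p.1.2 (hS.norm _ p.2.2 w w.2)) (U.inv_mem p.1.2)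
  calc ∑ u : U, conj ((θ : U → ℂ) u) * ((Finset.univ.filter fun g : G => g * w * g⁻¹ = (u : G)).card : ℂ)
      = ∑ g ∈ (Finset.univ.filter fun g : G => g * w * g⁻¹ ∈ U),
          (if hg : g * (w : G) * g⁻¹ ∈ U then conj ((θ : U → ℂ) ⟨_, hg⟩) else 0) := by
        rw [← Finset.sum_fiberwise_of_maps_to (g := fun g : G =>
          if hg : g * (w : G) * g⁻¹ ∈ U then (⟨_, hg⟩ : U) else 1) (t := (Finset.univ : Finset U))
          (fun _ _ => Finset.mem_univ _)]
        refine Finset.sum_congr rfl fun u _ => ?_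
        rw [Finset.filter_filter, mul_comm, ← nsmul_eq_mul, ← Finset.sum_const]
        refine Finset.sum_congr (Finset.filter_congr fun g _ => ⟨fun e => ?_, ?_⟩) fun g hg => ?_
        · have hm : g * w * g⁻¹ ∈ U := e.symm ▸ u.2
          exact ⟨hm, by rw [dif_pos hm]; exact Subtype.ext e⟩
        · rintro ⟨hm, e⟩
          rw [dif_pos hm] at e
          exact congrArg Subtype.val e
        · simp only [Finset.mem_filter] at hg
          rw [dif_pos hg.2.1]
          congr 2
          have := hg.2.2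
          rw [dif_pos hg.2.1] at this
          exact congrArg (θ : U → ℂ) this.symm
    _ = ∑ p : U × H, conj ((θ : U → ℂ) ⟨_, hin p⟩) := by
        symm
        refine Finset.sum_bij (fun p _ => (p.1 : G) * (p.2 : G)) ?_ ?_ ?_ ?_
        · intro p _
          simpa using hin p
        · intro p _ p' _ e
          have hU : (p'.1 : G)⁻¹ * p.1 = (p'.2 : G) * (p.2 : G)⁻¹ := by
            rw [eq_mul_inv_iff_mul_eq, mul_assoc, e, inv_mul_cancel_left]
          have h1 := hS.inter (U.mul_mem (U.inv_mem p'.1.2) p.1.2)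
            (hU ▸ H.mul_mem p'.2.2 (H.inv_mem p.2.2))
          have h2 : (p'.2 : G) * (p.2 : G)⁻¹ = 1 := hU ▸ h1
          exact Prod.ext (Subtype.ext (inv_mul_eq_one.mp h1).symm) (Subtype.ext (mul_inv_eq_one.mp h2).symm)
        · intro g hg
          simp only [Finset.mem_filter, Finset.mem_univ, true_and] at hg
          obtain ⟨x, hx, h, hh, rfl⟩ := hS.fusion w w.2 hw' g hg
          exact ⟨(⟨x, hx⟩, ⟨h, hh⟩), Finset.mem_univ _, rfl⟩
        · intro p _
          rw [dif_pos (hin p)]
    _ = ∑ p : U × H, conj ((rot hS p.2 θ : U → ℂ) w) := by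
        refine Finset.sum_congr rfl fun p _ => congrArg conj ?_
        rw [rot_apply, ← isClassFunction_irr θ (cj hS p.2 w) p.1]
        refine congrArg (θ : U → ℂ) (Subtype.ext ?_)
        simp only [Subgroup.coe_mul, Subgroup.coe_inv, cj_coe]
        group
    _ = _ := by
        rw [Fintype.sum_prod_type]
        dsimp only
        rw [Finset.sum_const, nsmul_eq_mul, Finset.card_univ, Nat.card_eq_fintype_card]

/-- The Gram matrix. -/
theorem gram (hS : Setting U H) (θ φ : IrrCharacter U) [DecidablePred fun h : H => rot hS h θ = φ] :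
    ∑ χ : IrrCharacter G, N θ χ * N φ χ =
      Nat.card H * deg θ * deg φ + (Finset.univ.filter fun h : H => rot hS h θ = φ).card := by
  classical
  have hq : (Nat.card U : ℂ) ≠ 0 := Nat.cast_ne_zero.mpr Nat.card_pos.ne'
  suffices h : ∑ χ : IrrCharacter G, (N θ χ : ℂ) * (N φ χ : ℂ) =
      Nat.card H * deg θ * deg φ + (Finset.univ.filter fun h : H => rot hS h θ = φ).card by
    exact_mod_cast h
  have hconj : ∀ χ, (N φ χ : ℂ) = conj (classInner (fun u : U => (χ : G → ℂ) u) (φ : U → ℂ)) :=
    fun χ => by rw [← N_cast, map_intCast]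
  have hone : ∑ u : U, conj ((θ : U → ℂ) u) *
      (∑ χ : IrrCharacter G, (χ : G → ℂ) u * conj ((χ : G → ℂ) ((1 : U) : G))) =
      (deg θ : ℂ) * (Nat.card G : ℂ) := by
    rw [Finset.sum_eq_single (1 : U)]
    · simp only [column_orthogonality, OneMemClass.coe_one]
      rw [if_pos (IsConj.refl 1), deg_cast, Complex.conj_natCast,
        show Subgroup.centralizer ({1} : Set G) = ⊤ from
          SetLike.ext fun g => by simp [Subgroup.mem_centralizer_singleton_iff], Subgroup.card_top]
    · intro u _ hu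
      simp only [column_orthogonality, OneMemClass.coe_one]
      rw [if_neg, mul_zero]
      rw [isConj_one_left]
      exact fun e => hu (Subtype.ext e)
    · simp
  have horth : ∀ h : H, ∑ w : U, (φ : U → ℂ) w * conj ((rot hS h θ : U → ℂ) w) =
      if rot hS h θ = φ then (Nat.card U : ℂ) else 0 := by
    intro h
    have := classInner_coe φ (rot hS h θ)
    rw [classInner, inv_mul_eq_iff_eq_mul₀ hq] at this
    rw [this, mul_ite, mul_one, mul_zero]
    exact if_congr eq_comm rfl rfl
  calc ∑ χ : IrrCharacter G, (N θ χ : ℂ) * (N φ χ : ℂ)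
      = (Nat.card U : ℂ)⁻¹ * (Nat.card U : ℂ)⁻¹ * ∑ w : U, (φ : U → ℂ) w * ∑ u : U, conj ((θ : U → ℂ) u) *
          (∑ χ : IrrCharacter G, (χ : G → ℂ) u * conj ((χ : G → ℂ) w)) := by
        simp only [hconj, N_cast, classInner, map_mul, map_inv₀, Complex.conj_natCast, map_sum,
          Complex.conj_conj, Finset.mul_sum, Finset.sum_mul]
        rw [Finset.sum_comm]
        refine Finset.sum_congr rfl fun w _ => ?_
        rw [Finset.sum_comm]
        exact Finset.sum_congr rfl fun u _ => Finset.sum_congr rfl fun χ _ => by ring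
    _ = (Nat.card U : ℂ)⁻¹ * (Nat.card U : ℂ)⁻¹ * ((deg φ : ℂ) * ((deg θ : ℂ) * (Nat.card G : ℂ)) +
          (Nat.card U : ℂ) * ∑ h : H,
            ((if rot hS h θ = φ then (Nat.card U : ℂ) else 0) - (deg φ : ℂ) * deg θ)) := by
        congr 1
        rw [← Finset.add_sum_erase _ _ (Finset.mem_univ (1 : U)), hone, deg_cast φ,
          Finset.sum_congr (s₁ := Finset.univ.erase (1 : U)) rfl
            (fun w hw => congrArg ((φ : U → ℂ) w * ·) (sum_conj hS (Finset.mem_erase.mp hw).1 θ))]
        congr 1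
        simp only [Finset.mul_sum, ← horth, Finset.sum_sub_distrib]
        rw [Finset.sum_comm, ← Finset.sum_sub_distrib]
        rw [Finset.mul_sum]
        refine Finset.sum_congr rfl fun h _ => ?_
        rw [Finset.sum_erase_eq_sub (Finset.mem_univ _), rot_apply, map_one, deg_cast φ, deg_cast θ,
          Complex.conj_natCast, mul_sub, Finset.mul_sum]
        congr 1
        · exact Finset.sum_congr rfl fun x _ => by ring
        · ring
    _ = _ := by
        rw [hS.card_group, Finset.sum_sub_distrib, ← Finset.sum_filter, Finset.sum_const, nsmul_eq_mul,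
          Finset.sum_const, Finset.card_univ, nsmul_eq_mul, ← Nat.card_eq_fintype_card]
        push_cast
        field_simp
        ring

theorem gram_self (hS : Setting U H) {θ : IrrCharacter U} (hθ : θ ≠ triv) :
    ∑ χ : IrrCharacter G, N θ χ * N θ χ = Nat.card H * deg θ * deg θ + 1 := by
  classical
  rw [gram hS θ θ]
  congr 1
  rw [Nat.cast_eq_one, Finset.card_eq_one]
  refine ⟨1, Finset.ext fun h => ?_⟩
  simp only [Finset.mem_filter, Finset.mem_univ, true_and, Finset.mem_singleton]
  exact ⟨free_irr hS hθ, fun e => e ▸ rot_one hS θ⟩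

theorem gram_off (hS : Setting U H) {θ φ : IrrCharacter U} (h : ¬ Rel hS θ φ) :
    ∑ χ : IrrCharacter G, N θ χ * N φ χ = Nat.card H * deg θ * deg φ := by
  classical
  rw [gram hS θ φ, Finset.filter_eq_empty_iff.mpr fun x _ e => h ⟨x, e⟩, Finset.card_empty,
    Nat.cast_zero, add_zero]

theorem gram_triv (hS : Setting U H) :
    ∑ χ : IrrCharacter G, N (triv : IrrCharacter U) χ * N (triv : IrrCharacter U) χ = 2 * Nat.card H := by
  classical
  rw [gram hS triv (triv : IrrCharacter U), Finset.filter_true_of_mem fun h _ => rot_triv hS h, Finset.card_univ,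
    Nat.card_eq_fintype_card, deg_triv]
  ring

/-- The orbit of a character. -/
noncomputable def orb (hS : Setting U H) (θ : IrrCharacter U) : Finset (IrrCharacter U) := by
  classical exact Finset.univ.image fun h : H => rot hS h θ

theorem mem_orb {hS : Setting U H} {θ φ : IrrCharacter U} : φ ∈ orb hS θ ↔ Rel hS θ φ := by
  classical
  simp [orb, Rel]

theorem card_orb_le (hS : Setting U H) (θ : IrrCharacter U) : (orb hS θ).card ≤ Nat.card H := by
  classical
  exact Finset.card_image_le.trans (by rw [Finset.card_univ, Nat.card_eq_fintype_card])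

theorem card_orb (hS : Setting U H) {θ : IrrCharacter U} (hθ : θ ≠ triv) :
    (orb hS θ).card = Nat.card H := by
  classical
  rw [orb, Finset.card_image_of_injective _ fun h k e => ?_, Finset.card_univ, Nat.card_eq_fintype_card]
  have := free_irr hS hθ (h := h * k⁻¹) (by rw [← rot_rot, show rot hS h θ = rot hS k θ from e, rot_rot,
    mul_inv_cancel, rot_one])
  exact mul_inv_eq_one.mp this

/-- An invariant set of nontrivial characters has cardinality a multiple of `|H|`. -/
theorem dvd_card_invariant (hS : Setting U H) (S : Finset (IrrCharacter U))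
    (hne : ∀ θ ∈ S, θ ≠ triv) (hinv : ∀ θ ∈ S, ∀ h : H, rot hS h θ ∈ S) : Nat.card H ∣ S.card := by
  classical
  rw [Finset.card_eq_sum_card_image (fun θ => orb hS θ) S]
  refine Finset.dvd_sum fun O hO => ?_
  obtain ⟨θ, hθ, rfl⟩ := Finset.mem_image.mp hO
  have e : (S.filter fun φ => orb hS φ = orb hS θ) = orb hS θ := by
    ext φ
    rw [Finset.mem_filter]
    constructor
    · rintro ⟨-, h⟩
      rw [← h]
      exact mem_orb.mpr (Rel.refl hS φ)
    · intro h
      obtain ⟨x, rfl⟩ := mem_orb.mp h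
      refine ⟨hinv θ hθ x, Finset.ext fun ψ => ?_⟩
      rw [mem_orb, mem_orb]
      exact ⟨fun h' => Rel.trans ⟨x, rfl⟩ h', fun h' => Rel.trans (Rel.symm ⟨x, rfl⟩) h'⟩
  rw [e, card_orb hS (hne θ hθ)]

end CfsgLib.Char.TINilpotent
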