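import Cfsg.Agent.Lib.Char.TwoClassSupport
import Cfsg.Agent.Lib.FrobCompl.Fpf

/-!
# Gagola: the support is the `p`-core exactly for doubly transitive Frobenius groups
-/

set_option autoImplicit false
set_option linter.unusedSectionVars false
set_option linter.style.haveILetI false

namespace CfsgLib.TwoClass

open Cfsg CfsgLib.Char
open scoped ComplexConjugate CfsgLib.Char Pointwise

variable {G : Type*} [Group G] [Finite G] {p : ℕ} [hp : Fact p.Prime]

theorem pCore_le_sylow (P : Sylow p G) : pCore p G ≤ P := by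
  refine sSup_le fun L hL => ?_
  haveI := hL.1
  obtain ⟨Q, hQ⟩ := hL.2.exists_le_sylow
  obtain ⟨g, rfl⟩ := MulAction.exists_smul_eq G Q P
  intro x hx
  refine ⟨g⁻¹ * x * g, hQ ?_, by simp [mul_assoc]⟩
  simpa using hL.1.conj_mem x hx g⁻¹

variable {χ : IrrCharacter G} {N : Subgroup G} [N.Normal]

namespace Setting

variable (h : Setting χ N)
include h

/-- If `N` is a self-centralising abelian group then it is a Sylow subgroup. -/
theorem sylow_le (hG : 2 < Nat.card G) (hNp : IsPGroup p N)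
    (hC : Subgroup.centralizer (N : Set G) ≤ N) (P : Sylow p G) : (P : Subgroup G) ≤ N := by
  classical
  obtain ⟨k, n, hn0, hn, -, -, hcard, hcent⟩ := h.exists_pow hG hNp
  obtain ⟨q, hq, hab, hexp⟩ := h.exists_prime
  obtain ⟨c, hc, hc1⟩ := h.exists_mem
  have hpc : ∀ z ∈ N, z ≠ 1 → ∀ g : G, g * z = z * g → orderOf g ∣ p ^ (2 * k + n) := by
    intro z hz hz1 g hg
    have hgm : g ∈ Subgroup.centralizer ({z} : Set G) :=
      Subgroup.mem_centralizer_iff.mpr fun y hy => by rw [Set.mem_singleton_iff.mp hy, hg]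
    rw [← hcent z hz hz1, ← Subgroup.orderOf_mk g hgm]
    exact orderOf_dvd_natCard _
  rcases hp.out.eq_two_or_odd with hp2 | hpodd
  · -- characteristic two
    subst hp2
    have hq2 : q = 2 := by
      obtain ⟨j, hj⟩ := hNp ⟨c, hc⟩
      have h1 : orderOf c ∣ 2 ^ j := orderOf_dvd_of_pow_eq_one (congrArg Subtype.val hj)
      haveI := Fact.mk hq
      have h2 : orderOf c = q := orderOf_eq_prime (hexp c hc) hc1
      rw [h2] at h1
      exact (Nat.prime_dvd_prime_iff_eq hq Nat.prime_two).mp (hq.dvd_of_dvd_pow h1)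
    subst hq2
    by_contra hP
    have hbar : ∃ x : G, x ∉ N ∧ x * x ∈ N := by
      obtain ⟨y, hyP, hyN⟩ := SetLike.not_le_iff_exists.mp hP
      obtain ⟨j, hj⟩ := P.isPGroup' ⟨y, hyP⟩
      have hjN : y ^ 2 ^ j ∈ N := by
        rw [show y ^ 2 ^ j = 1 from congrArg Subtype.val hj]; exact N.one_mem
      clear hj
      induction j with
      | zero => exact absurd (by simpa using hjN) hyN
      | succ j ih =>
        by_cases h' : y ^ 2 ^ j ∈ N
        · exact ih h'
        · exact ⟨y ^ 2 ^ j, h', by rw [← pow_add, ← two_mul, ← pow_succ']; exact hjN⟩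
    obtain ⟨x, hxN, hxx⟩ := hbar
    have hx4 : x ^ 2 ^ 2 = 1 := by
      rw [show (2 : ℕ) ^ 2 = 2 * 2 by norm_num, pow_mul, sq x]
      exact hexp _ hxx
    have hxp : IsPGroup 2 (Subgroup.zpowers x) := by
      rintro ⟨_, i, rfl⟩
      refine ⟨2, Subtype.ext ?_⟩
      show (x ^ i) ^ (2 ^ 2 : ℕ) = 1
      rw [← zpow_natCast, ← zpow_mul, mul_comm, zpow_mul, zpow_natCast, hx4, one_zpow]
    have hNmax : ∀ L : Subgroup G, L.Normal → IsPGroup 2 L → x ∉ L := by
      intro L hLn hLp hxL
      haveI := hLn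
      have hLN : L ⊔ N ≤ N := by
        have hLNp : IsPGroup 2 ↥(L ⊔ N) := hLp.to_sup_of_normal_right hNp
        intro a ha
        by_contra haN
        -- the 2-group `L ⊔ N` centralises a nontrivial element of `N`, so all of `N`
        apply haN
        apply hC
        rw [Subgroup.mem_centralizer_iff]
        intro m hm
        haveI : (N.subgroupOf (L ⊔ N)).Normal := inferInstance
        have hne : N.subgroupOf (L ⊔ N) ≠ ⊥ := by
          rw [Ne, Subgroup.subgroupOf_eq_bot, disjoint_iff]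
          intro e
          exact h.ne_bot (by rwa [inf_eq_left.mpr le_sup_right] at e)
        obtain ⟨z, hzN, hzc, hzo⟩ := exists_central_of_normal hLNp _ hne
        have hz1 : (z : G) ≠ 1 := fun e => by
          rw [show z = 1 from Subtype.ext e, orderOf_one] at hzo; norm_num at hzo
        rcases eq_or_ne m 1 with rfl | hm1
        · simp
        obtain ⟨g, hg⟩ := isConj_iff.mp (h.cls z (Subgroup.mem_subgroupOf.mp hzN) m hm hz1 hm1)
        have hga : g⁻¹ * a * g ∈ L ⊔ N := by
          simpa using (inferInstance : (L ⊔ N).Normal).conj_mem a ha g⁻¹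
        have hcomm : (g⁻¹ * a * g) * z = z * (g⁻¹ * a * g) :=
          congrArg Subtype.val (Subgroup.mem_center_iff.mp hzc ⟨_, hga⟩)
        rw [← hg]
        calc g * z * g⁻¹ * a = g * (z * (g⁻¹ * a * g)) * g⁻¹ := by group
          _ = g * (g⁻¹ * a * g * z) * g⁻¹ := by rw [hcomm]
          _ = a * (g * z * g⁻¹) := by group
      exact hxN (hLN (Subgroup.mem_sup_left hxL))
    obtain ⟨g, hg⟩ := Baer.exists_conj_not_isPGroup hxp hNmax
    set y := g * x * g⁻¹ with hy
    let π := QuotientGroup.mk' N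
    have hyy : y * y ∈ N := by
      rw [hy, show g * x * g⁻¹ * (g * x * g⁻¹) = g * (x * x) * g⁻¹ by group]
      exact (inferInstance : N.Normal).conj_mem _ hxx g
    have hπx : π x * π x = 1 := by rw [← map_mul]; exact (QuotientGroup.eq_one_iff _).mpr hxx
    have hπy : π y * π y = 1 := by rw [← map_mul]; exact (QuotientGroup.eq_one_iff _).mpr hyy
    have hinv : π x * π (x * y) * (π x)⁻¹ = (π (x * y))⁻¹ := by
      rw [map_mul, mul_inv_rev, ← mul_assoc, hπx, one_mul, inv_eq_of_mul_eq_one_left hπy]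
    set s := 2 ^ (orderOf (x * y)).factorization 2 with hs
    set hh := (x * y) ^ s with hhh
    have hodd : ¬ 2 ∣ orderOf hh := by
      rw [hhh, orderOf_pow_of_dvd (Nat.two_pow_pos _).ne' (Nat.ordProj_dvd _ _)]
      exact Nat.not_dvd_ordCompl Nat.prime_two (orderOf_pos _).ne'
    have hh1 : hh ≠ 1 := by
      intro e
      apply hg
      have hzp : IsPGroup 2 (Subgroup.zpowers (π (x * y))) := by
        rintro ⟨_, i, rfl⟩
        refine ⟨(orderOf (x * y)).factorization 2, Subtype.ext ?_⟩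
        show (π (x * y) ^ i) ^ s = 1
        rw [← zpow_natCast, ← zpow_mul, mul_comm, zpow_mul, zpow_natCast, ← map_pow, ← hhh, e,
          map_one, one_zpow]
      have hxp' : IsPGroup 2 (Subgroup.zpowers (π x)) := by
        rw [← MonoidHom.map_zpowers]; exact hxp.map _
      have hnorm : Subgroup.zpowers (π x) ≤
          Subgroup.normalizer (Subgroup.zpowers (π (x * y)) : Set (G ⧸ N)) := by
        rw [Subgroup.zpowers_le, Subgroup.mem_normalizer_iff]
        have hx' : (π x)⁻¹ = π x := inv_eq_of_mul_eq_one_left hπx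
        have key : ∀ z ∈ Subgroup.zpowers (π (x * y)),
            π x * z * (π x)⁻¹ ∈ Subgroup.zpowers (π (x * y)) := by
          rintro _ ⟨i, rfl⟩
          exact ⟨-i, show π (x * y) ^ (-i) = _ by rw [← conj_zpow, hinv, inv_zpow, zpow_neg]⟩
        refine fun z => ⟨key z, fun hz => ?_⟩
        have hmem := key _ hz
        rw [show π x * (π x * z * (π x)⁻¹) * (π x)⁻¹ = π x * π x * z * ((π x)⁻¹ * (π x)⁻¹) by group,
          hπx, ← mul_inv_rev, hπx, inv_one, mul_one, one_mul] at hmem
        exact hmem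
      have hsup := hxp'.to_sup_of_normal_right' hzp hnorm
      refine (hsup.comap_of_ker_isPGroup π (by rw [QuotientGroup.ker_mk']; exact hNp)).to_le ?_
      rw [Subgroup.closure_le]
      rintro a (rfl | rfl)
      · exact Subgroup.mem_sup_left (Subgroup.mem_zpowers _)
      · rw [SetLike.mem_coe, Subgroup.mem_comap]
        have hxy : π y = π x * π (x * y) := by rw [map_mul π x y, ← mul_assoc, hπx, one_mul]
        rw [hxy]
        exact Subgroup.mul_mem_sup (Subgroup.mem_zpowers _) (Subgroup.mem_zpowers _)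
    have hfix : ∀ m ∈ N, hh * m = m * hh → m = 1 := by
      intro m hm hcomm
      by_contra hm1
      have h1 := hpc m hm hm1 hh hcomm
      obtain ⟨j, -, hj⟩ := (Nat.dvd_prime_pow Nat.prime_two).mp h1
      rcases Nat.eq_zero_or_pos j with rfl | hj0
      · exact hh1 (orderOf_eq_one_iff.mp (by simpa using hj))
      · exact hodd (hj ▸ dvd_pow_self 2 hj0.ne')
    have hm0 : hh * (x * hh * x⁻¹) ∈ N := by
      rw [← QuotientGroup.eq_one_iff]
      show π (hh * (x * hh * x⁻¹)) = 1
      rw [map_mul, map_mul, map_mul, map_inv, hhh, map_pow, ← conj_pow, hinv, inv_pow,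
        mul_inv_cancel]
    let φ : N → N := fun m => ⟨hh * (m : G)⁻¹ * hh⁻¹ * m,
      N.mul_mem ((inferInstance : N.Normal).conj_mem _ (N.inv_mem m.2) hh) m.2⟩
    have hφ : Function.Injective φ := by
      intro m m' e
      have e' : hh * (m : G)⁻¹ * hh⁻¹ * m = hh * (m' : G)⁻¹ * hh⁻¹ * m' := congrArg Subtype.val e
      have hcomm : hh * ((m' : G) * (m : G)⁻¹) = (m' : G) * (m : G)⁻¹ * hh := by
        calc hh * ((m' : G) * (m : G)⁻¹) = hh * m' * hh⁻¹ * (hh * (m : G)⁻¹ * hh⁻¹ * m) * (m : G)⁻¹ * hh := by group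
          _ = hh * m' * hh⁻¹ * (hh * (m' : G)⁻¹ * hh⁻¹ * m') * (m : G)⁻¹ * hh := by rw [e']
          _ = (m' : G) * (m : G)⁻¹ * hh := by group
      exact (Subtype.ext (mul_inv_eq_one.mp (hfix _ (N.mul_mem m'.2 (N.inv_mem m.2)) hcomm))).symm
    obtain ⟨m, hm⟩ := Finite.surjective_of_injective hφ ⟨_, hm0⟩
    have hm' : hh * (m : G)⁻¹ * hh⁻¹ * m = hh * (x * hh * x⁻¹) := congrArg Subtype.val hm
    set a := (m : G) * x with ha
    have hainv : a * hh * a⁻¹ = hh⁻¹ := by
      calc a * hh * a⁻¹ = (m : G) * hh⁻¹ * (hh * (x * hh * x⁻¹)) * (m : G)⁻¹ := by rw [ha]; group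
        _ = (m : G) * hh⁻¹ * (hh * (m : G)⁻¹ * hh⁻¹ * m) * (m : G)⁻¹ := by rw [hm']
        _ = hh⁻¹ := by group
    have haN : a ∉ N := fun hmem => hxN (by simpa [ha] using N.mul_mem (N.inv_mem m.2) hmem)
    have haa : a * a ∈ N := by
      rw [← QuotientGroup.eq_one_iff]
      show π (a * a) = 1
      rw [map_mul, ha, map_mul, show π (m : G) = 1 from (QuotientGroup.eq_one_iff _).mpr m.2,
        one_mul, hπx]
    have ha2 : a * a = 1 := hfix _ haa (by
      have h3 : a * a * hh * (a * a)⁻¹ = hh := by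
        calc a * a * hh * (a * a)⁻¹ = a * (a * hh * a⁻¹) * a⁻¹ := by group
          _ = (a * hh * a⁻¹)⁻¹ := by rw [conj_inv, hainv]
          _ = hh := by rw [hainv, inv_inv]
      exact (mul_inv_eq_iff_eq_mul.mp h3).symm)
    refine haN (hC (Subgroup.mem_centralizer_iff.mpr fun z hz => ?_))
    obtain ⟨b, hb⟩ := isConj_iff.mp (h.isConj_coset haN hz).symm
    have h4 : (a * z) * (a * z) = 1 := by
      rw [← hb, show b * a * b⁻¹ * (b * a * b⁻¹) = b * (a * a) * b⁻¹ by group, ha2, mul_one,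
        mul_inv_cancel]
    have hz2 : z * z = 1 := by rw [← sq]; exact hexp z hz
    calc z * a = (a * z) * (a * z) * (z * a) := by rw [h4, one_mul]
      _ = a * z * a * (z * z) * a := by group
      _ = a * z * (a * a) := by rw [hz2]; group
      _ = a * z := by rw [ha2, mul_one]
  · -- odd characteristic
    have hNodd : ¬ 2 ∣ Nat.card N := by
      rw [hn]
      intro h2
      have := Nat.prime_two.dvd_of_dvd_pow h2
      have := (Nat.prime_dvd_prime_iff_eq Nat.prime_two hp.out).mp this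
      omega
    have hev : 2 ∣ Nat.card G := by
      rw [hcard]
      refine Dvd.dvd.mul_left ?_ _
      omega
    haveI := Fact.mk Nat.prime_two
    obtain ⟨t, ht⟩ := exists_prime_orderOf_dvd_card' 2 hev
    have htN : t ∉ N := fun hm => hNodd (ht ▸ (Subgroup.orderOf_mk t hm ▸ orderOf_dvd_natCard _))
    have ht2 : t * t = 1 := by rw [← sq, ← ht]; exact pow_orderOf_eq_one t
    have htinv : t⁻¹ = t := inv_eq_of_mul_eq_one_left ht2
    have hinvN : ∀ z ∈ N, t * z * t⁻¹ = z⁻¹ := by
      intro z hz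
      have htz : t * z * t⁻¹ ∈ N := (inferInstance : N.Normal).conj_mem z hz t
      by_contra hne
      have h1 : t * (z * (t * z * t⁻¹)) * t⁻¹ = z * (t * z * t⁻¹) := by
        calc t * (z * (t * z * t⁻¹)) * t⁻¹ = (t * z * t⁻¹) * (t * t * z * (t * t)⁻¹) := by group
          _ = (t * z * t⁻¹) * z := by rw [ht2]; group
          _ = z * (t * z * t⁻¹) := hab _ htz _ hz
      have h2 := hpc _ (N.mul_mem hz htz) (fun e => hne (eq_inv_of_mul_eq_one_right e)) t
        (mul_inv_eq_iff_eq_mul.mp h1)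
      rw [ht] at h2
      exact hNodd (hn ▸ dvd_pow (Nat.prime_two.dvd_of_dvd_pow h2) hn0.ne')
    have hsq : ∀ z ∈ N, ∃ m ∈ N, m * m = z := by
      intro z hz
      have hinj : Function.Injective (fun m : N => m ^ 2) := by
        have hco : (Nat.card N).Coprime 2 :=
          (Nat.Prime.coprime_iff_not_dvd Nat.prime_two).mpr hNodd |>.symm
        exact (powCoprime hco).injective
      obtain ⟨m, hm⟩ := Finite.surjective_of_injective hinj ⟨z, hz⟩
      exact ⟨m, m.2, by rw [← sq]; exact congrArg Subtype.val hm⟩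
    have hdec : ∀ g : G, ∃ m ∈ N, (m⁻¹ * g) * t = t * (m⁻¹ * g) := by
      intro g
      have hu : g * t * g⁻¹ * t⁻¹ ∈ N := by
        refine hC (Subgroup.mem_centralizer_iff.mpr fun z hz => ?_)
        have h1 : g⁻¹ * z * g ∈ N := by
          simpa using (inferInstance : N.Normal).conj_mem z hz g⁻¹
        have h2 : g * t * g⁻¹ * z * (g * t * g⁻¹)⁻¹ = z⁻¹ := by
          calc g * t * g⁻¹ * z * (g * t * g⁻¹)⁻¹ = g * (t * (g⁻¹ * z * g) * t⁻¹) * g⁻¹ := by group
            _ = z⁻¹ := by rw [hinvN _ h1]; group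
        have htz : t⁻¹ * z * t = z⁻¹ := by
          have h4 := hinvN z hz
          rw [htinv] at h4 ⊢
          exact h4
        have h3 : g * t * g⁻¹ * t⁻¹ * z * (g * t * g⁻¹ * t⁻¹)⁻¹ = z := by
          calc g * t * g⁻¹ * t⁻¹ * z * (g * t * g⁻¹ * t⁻¹)⁻¹
              = g * t * g⁻¹ * (t⁻¹ * z * t) * (g * t * g⁻¹)⁻¹ := by group
            _ = (g * t * g⁻¹ * z * (g * t * g⁻¹)⁻¹)⁻¹ := by rw [htz]; group
            _ = z := by rw [h2, inv_inv]
        exact (mul_inv_eq_iff_eq_mul.mp h3).symm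
      obtain ⟨m, hmN, hm⟩ := hsq _ hu
      refine ⟨m, hmN, ?_⟩
      have h5 : g * t * g⁻¹ = m * t * m⁻¹ := by
        have h6 : t * m⁻¹ * t⁻¹ = m := by rw [hinvN _ (N.inv_mem hmN), inv_inv]
        calc g * t * g⁻¹ = m * m * t := by rw [hm]; group
          _ = m * (t * m⁻¹ * t⁻¹) * t := by rw [h6]
          _ = m * t * m⁻¹ := by group
      calc m⁻¹ * g * t = m⁻¹ * (g * t * g⁻¹) * g := by group
        _ = t * (m⁻¹ * g) := by rw [h5]; group
    have hdis : ∀ z ∈ N, z * t = t * z → z = 1 := by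
      intro z hz hcomm
      by_contra hz1
      have h2 := hpc z hz hz1 t hcomm.symm
      rw [ht] at h2
      exact hNodd (hn ▸ dvd_pow (Nat.prime_two.dvd_of_dvd_pow h2) hn0.ne')
    by_contra hP
    obtain ⟨y, hyP, hyN⟩ := SetLike.not_le_iff_exists.mp hP
    have hNP := h.le_sylow hNp P
    obtain ⟨m, hmN, hm⟩ := hdec y
    set x := m⁻¹ * y with hx
    have hxP : x ∈ (P : Subgroup G) := (P : Subgroup G).mul_mem (hNP (N.inv_mem hmN)) hyP
    have hxN : x ∉ N := fun hmem => hyN (by simpa [hx] using N.mul_mem hmN hmem)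
    have hne : N.subgroupOf (P : Subgroup G) ≠ ⊥ := by
      rw [Ne, Subgroup.subgroupOf_eq_bot, disjoint_iff, inf_eq_left.mpr hNP]
      exact h.ne_bot
    obtain ⟨z, hzN, hzc, hzo⟩ := exists_central_of_normal P.isPGroup' _ hne
    have hzx : x * (z : G) = (z : G) * x :=
      congrArg Subtype.val (Subgroup.mem_center_iff.mp hzc ⟨x, hxP⟩)
    let φ : N → N := fun u => ⟨x⁻¹ * u * x * (u : G)⁻¹, N.mul_mem (by
      simpa using (inferInstance : N.Normal).conj_mem (u : G) u.2 x⁻¹) (N.inv_mem u.2)⟩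
    have hsurj : Function.Surjective φ := by
      intro w
      obtain ⟨g, hg⟩ := isConj_iff.mp (h.isConj_coset hxN w.2).symm
      obtain ⟨u, huN, hu⟩ := hdec g
      refine ⟨⟨u, huN⟩, Subtype.ext ?_⟩
      set h' := u⁻¹ * g with hh'
      have hge : g = u * h' := by rw [hh']; group
      have hd : h' * x * h'⁻¹ * x⁻¹ = 1 := by
        refine hdis _ ?_ ?_
        · have e1 : h' * x * h'⁻¹ * x⁻¹ = u⁻¹ * (g * x * g⁻¹) * u * x⁻¹ := by rw [hh']; group
          rw [e1, hg, show u⁻¹ * (x * w) * u * x⁻¹ = u⁻¹ * (x * ((w : G) * u) * x⁻¹) by group]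
          exact N.mul_mem (N.inv_mem huN)
            ((inferInstance : N.Normal).conj_mem _ (N.mul_mem w.2 huN) x)
        · have c1 : Commute h' t := hu
          have c2 : Commute x t := hm
          exact (((c1.mul_left c2).mul_left c1.inv_left).mul_left c2.inv_left)
      show x⁻¹ * u * x * u⁻¹ = w
      have hd' : h' * x * h'⁻¹ = x := mul_inv_eq_one.mp hd
      calc x⁻¹ * u * x * u⁻¹ = x⁻¹ * (u * (h' * x * h'⁻¹) * u⁻¹) := by rw [hd']; group
        _ = x⁻¹ * (g * x * g⁻¹) := by rw [hge]; group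
        _ = w := by rw [hg]; group
    have hinj := Finite.injective_iff_surjective.mpr hsurj
    have hφz : φ ⟨z, Subgroup.mem_subgroupOf.mp hzN⟩ = φ 1 := Subtype.ext (by
      show x⁻¹ * (z : G) * x * (z : G)⁻¹ = x⁻¹ * ((1 : N) : G) * x * ((1 : N) : G)⁻¹
      rw [mul_assoc x⁻¹, ← hzx]; simp)
    have := congrArg Subtype.val (hinj hφz)
    rw [show z = 1 from Subtype.ext this, orderOf_one] at hzo
    exact hp.out.ne_one hzo.symm

end Setting

end CfsgLib.TwoClass
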