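import Cfsg.Agent.Lib.Char.Constituents
import Cfsg.Agent.Lib.Char.Kernel
import Cfsg.Agent.Lib.Blocks.Inflate
import Cfsg.Agent.Lib.Baer.Basic
import Cfsg.Prelude.Def_Solvable

/-!
# Irreducible characters which are nonzero on exactly two classes (Gagola characters)
-/

set_option autoImplicit false
set_option linter.unusedSectionVars false
set_option linter.style.haveILetI false

namespace CfsgLib.TwoClass

open Cfsg CfsgLib.Char
open scoped ComplexConjugate CfsgLib.Char

variable {G : Type*} [Group G]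

/-- The trivial irreducible character. -/
noncomputable def one (G : Type*) [Group G] : IrrCharacter G :=
  ⟨fun g => (((1 : G →* ℂˣ) g : ℂˣ) : ℂ), isIrrCharacter_monoidHom 1⟩

theorem one_apply (g : G) : (one G : G → ℂ) g = 1 := by simp [one]

/-- A function supported on `1` and a set on which it is constant. -/
theorem sum_of_support [Fintype G] (P : G → Prop) (h1 : ¬ P 1) {f : G → ℂ} {v : ℂ}
    (hv : ∀ g, P g → f g = v) (h0 : ∀ g, g ≠ 1 → ¬ P g → f g = 0) :
    ∑ g, f g = f 1 + (Nat.card {g : G // P g} : ℂ) * v := by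
  classical
  rw [← Finset.add_sum_erase _ _ (Finset.mem_univ (1 : G))]
  congr 1
  have e : ∑ g ∈ Finset.univ.erase (1 : G), f g =
      ∑ g ∈ Finset.univ.filter P, f g := by
    symm
    refine Finset.sum_subset (fun g hg => Finset.mem_erase.mpr
      ⟨fun e => h1 (e ▸ (Finset.mem_filter.mp hg).2), Finset.mem_univ _⟩) fun g hg hg' => ?_
    exact h0 g (Finset.mem_erase.mp hg).1 fun hP => hg' (Finset.mem_filter.mpr ⟨Finset.mem_univ _, hP⟩)
  rw [e, Finset.sum_congr rfl fun g hg => hv g (Finset.mem_filter.mp hg).2, Finset.sum_const,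
    nsmul_eq_mul, Nat.card_eq_fintype_card, Fintype.card_subtype]

/-- The situation of an irreducible character whose support is a normal subgroup in which all
non-identity elements are conjugate. -/
structure Setting (χ : IrrCharacter G) (N : Subgroup G) : Prop where
  supp : ∀ g, g ∈ N ↔ (χ : G → ℂ) g ≠ 0
  ne_bot : N ≠ ⊥
  cls : ∀ x ∈ N, ∀ y ∈ N, x ≠ 1 → y ≠ 1 → IsConj x y
  other : ∀ ψ : IrrCharacter G, ψ ≠ χ → ∀ n ∈ N, (ψ : G → ℂ) n = (ψ : G → ℂ) 1

theorem exists_setting [Finite G] (hG : 2 < Nat.card G) (χ : IrrCharacter G)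
    (hχ : Nat.card {C : ConjClasses G // ∃ g ∈ C.carrier, (χ : G → ℂ) g ≠ 0} = 2) :
    ∃ N : Subgroup G, N.Normal ∧ Setting χ N := by
  classical
  haveI := Fintype.ofFinite G
  have hd0 := irr_degree_ne_zero χ.2
  obtain ⟨⟨C, hC⟩, hne, huniq⟩ := (Nat.card_eq_two_iff'
    (⟨ConjClasses.mk 1, 1, ConjClasses.mem_carrier_mk, hd0⟩ :
      {C : ConjClasses G // ∃ g ∈ C.carrier, (χ : G → ℂ) g ≠ 0})).mp hχ
  obtain ⟨c, hcC, hc⟩ := hC
  have hC' : C = ConjClasses.mk c := (ConjClasses.mem_carrier_iff_mk_eq.mp hcC).symm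
  have hc1 : c ≠ 1 := by
    rintro rfl
    exact hne (Subtype.ext hC')
  have hsupp : ∀ g, g ≠ 1 → ¬ IsConj g c → (χ : G → ℂ) g = 0 := by
    intro g hg1 hgc
    by_contra hg
    by_cases e : ConjClasses.mk g = ConjClasses.mk 1
    · exact hg1 (isConj_one_left.mp (ConjClasses.mk_eq_mk_iff_isConj.mp e))
    · have := huniq ⟨ConjClasses.mk g, g, ConjClasses.mem_carrier_mk, hg⟩
        fun h => e (congrArg Subtype.val h)
      exact hgc (ConjClasses.mk_eq_mk_iff_isConj.mp ((congrArg Subtype.val this).trans hC'))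
  have hinner : ∀ ψ : IrrCharacter G, classInner (ψ : G → ℂ) (χ : G → ℂ) * (Nat.card G : ℂ) =
      (ψ : G → ℂ) 1 * conj ((χ : G → ℂ) 1) +
        (Nat.card {g : G // IsConj g c} : ℂ) * ((ψ : G → ℂ) c * conj ((χ : G → ℂ) c)) := by
    intro ψ
    rw [classInner, mul_comm, ← mul_assoc,
      mul_inv_cancel₀ (Nat.cast_ne_zero.mpr Nat.card_pos.ne'), one_mul]
    refine sum_of_support (fun g => IsConj g c) (fun h => hc1 (isConj_one_left.mp h.symm)) (fun g hg => ?_)
      fun g hg1 hgc => ?_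
    · rw [eq_of_isConj (isClassFunction_irr ψ) hg, eq_of_isConj (isClassFunction_irr χ) hg]
    · rw [hsupp g hg1 hgc, map_zero, mul_zero]
  have hone : one G ≠ χ := by
    intro e
    have hall : ∀ g, g ≠ 1 → IsConj g c := fun g hg => by
      by_contra hgc
      have := hsupp g hg hgc
      rw [← e, one_apply] at this
      exact one_ne_zero this
    have hm : Nat.card {g : G // IsConj g c} = Nat.card G - 1 := by
      rw [Nat.card_eq_fintype_card, Fintype.card_subtype, Nat.card_eq_fintype_card]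
      have : (Finset.univ.filter fun g : G => IsConj g c) = Finset.univ.erase 1 := by
        ext g
        simp only [Finset.mem_filter, Finset.mem_univ, true_and, Finset.mem_erase, and_true]
        exact ⟨fun h h1 => hc1 (isConj_one_left.mp (h1 ▸ h.symm)), hall g⟩
      rw [this, Finset.card_erase_of_mem (Finset.mem_univ _), Finset.card_univ]
    rw [card_isConj_eq_index] at hm
    have hd : Nat.card G - 1 ∣ Nat.card G := hm ▸ Subgroup.index_dvd_card _
    have := Nat.le_of_dvd one_pos ((Nat.dvd_sub hd (dvd_refl (Nat.card G - 1))).trans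
      (by rw [Nat.sub_sub_self (by omega)]))
    omega
  have hker : ∀ ψ : IrrCharacter G, ψ ≠ χ → (ψ : G → ℂ) c = (ψ : G → ℂ) 1 := by
    intro ψ hψ
    have h1 := hinner (one G)
    have h2 := hinner ψ
    rw [classInner_irr_ne (one G).2 χ.2 (fun e => hone (Subtype.ext e)), zero_mul, one_apply,
      one_apply] at h1
    rw [classInner_irr_ne ψ.2 χ.2 (fun e => hψ (Subtype.ext e)), zero_mul] at h2
    have h3 : ((ψ : G → ℂ) 1 - (ψ : G → ℂ) c) * conj ((χ : G → ℂ) 1) = 0 := by
      linear_combination (ψ : G → ℂ) c * h1 - h2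
    rcases mul_eq_zero.mp h3 with h | h
    · exact (sub_eq_zero.mp h).symm
    · exact absurd (by simpa using h) hd0
  choose K hKn hKmem hKmul using fun ψ : IrrCharacter G => exists_kernel (isCharacter_of_isIrr ψ.2)
  let N : Subgroup G := ⨅ (ψ : IrrCharacter G) (_ : ψ ≠ χ), K ψ
  have hNmem : ∀ g, g ∈ N ↔ ∀ ψ : IrrCharacter G, ψ ≠ χ → (ψ : G → ℂ) g = (ψ : G → ℂ) 1 := by
    intro g
    simp only [N, Subgroup.mem_iInf, hKmem]
  have hNn : N.Normal := ⟨fun n hn g => (hNmem _).mpr fun ψ hψ => by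
    rw [isClassFunction_irr ψ n g]; exact (hNmem n).mp hn ψ hψ⟩
  have hcN : c ∈ N := (hNmem c).mpr hker
  have hconj : ∀ x ∈ N, x ≠ 1 → IsConj x c := by
    intro x hx hx1
    refine (isConj_iff_irr_agree x c).mpr fun ψ => ?_
    by_cases e : ψ = χ
    · subst e
      have h1 := sum_degree_mul_irr x
      have h2 := sum_degree_mul_irr c
      rw [if_neg hx1] at h1
      rw [if_neg hc1] at h2
      rw [Fintype.sum_eq_add_sum_compl ψ] at h1 h2
      have h3 : ∑ φ ∈ {ψ}ᶜ, (φ : G → ℂ) 1 * (φ : G → ℂ) x =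
          ∑ φ ∈ {ψ}ᶜ, (φ : G → ℂ) 1 * (φ : G → ℂ) c := Finset.sum_congr rfl fun φ hφ => by
        have hφ' : φ ≠ ψ := by simpa using hφ
        rw [(hNmem x).mp hx φ hφ', hker φ hφ']
      exact mul_left_cancel₀ hd0 (by linear_combination h1 - h2 - h3)
    · rw [(hNmem x).mp hx ψ e, hker ψ e]
  refine ⟨N, hNn, fun g => ⟨fun hg => ?_, fun hg => ?_⟩, fun h => ?_, fun x hx y hy hx1 hy1 =>
    (hconj x hx hx1).trans (hconj y hy hy1).symm, fun ψ hψ n hn => (hNmem n).mp hn ψ hψ⟩
  · rcases eq_or_ne g 1 with rfl | hg1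
    · exact hd0
    · rw [eq_of_isConj (isClassFunction_irr χ) (hconj g hg hg1)]; exact hc
  · rcases eq_or_ne g 1 with rfl | hg1
    · exact N.one_mem
    · by_contra hgN
      by_cases hgc : IsConj g c
      · obtain ⟨a, ha⟩ := isConj_iff.mp hgc.symm
        exact hgN (ha ▸ hNn.conj_mem c hcN a)
      · exact hg (hsupp g hg1 hgc)
  · exact hc1 ((Subgroup.mem_bot).mp (h ▸ hcN))

namespace Setting

variable {χ : IrrCharacter G} {N : Subgroup G} [N.Normal] (h : Setting χ N)
include h

theorem eq_zero {g : G} (hg : g ∉ N) : (χ : G → ℂ) g = 0 := by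
  by_contra hne
  exact hg ((h.supp g).mpr hne)

theorem exists_mem : ∃ c ∈ N, c ≠ 1 := (N.bot_or_exists_ne_one).resolve_left h.ne_bot

theorem le_of_normal (K : Subgroup G) [hK : K.Normal] {z : G} (hzK : z ∈ K) (hzN : z ∈ N)
    (hz : z ≠ 1) : N ≤ K := by
  intro n hn
  rcases eq_or_ne n 1 with rfl | hn1
  · exact K.one_mem
  · obtain ⟨a, ha⟩ := isConj_iff.mp (h.cls z hzN n hn hz hn1)
    exact ha ▸ hK.conj_mem z hzK a

theorem minimal [Finite G] (K : Subgroup G) [hK : K.Normal] (hK1 : K ≠ ⊥) : N ≤ K := by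
  classical
  haveI := Fintype.ofFinite G
  obtain ⟨k, hk, hk1⟩ := (K.bot_or_exists_ne_one).resolve_left hK1
  obtain ⟨c, hc, hc1⟩ := h.exists_mem
  by_cases hχK : (χ : G → ℂ) k = (χ : G → ℂ) 1
  · exact h.le_of_normal K hk ((h.supp k).mpr (hχK ▸ irr_degree_ne_zero χ.2)) hk1
  · have hagree : ∀ η : IrrCharacter (G ⧸ K), (η : G ⧸ K → ℂ) (c : G ⧸ K) = (η : G ⧸ K → ℂ) 1 := by
      intro η
      let ψ := Blocks.inflate (QuotientGroup.mk' K) (QuotientGroup.mk'_surjective K) η
      have hψ : ψ ≠ χ := fun e => hχK (by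
        rw [← e]
        show (η : G ⧸ K → ℂ) (k : G ⧸ K) = (η : G ⧸ K → ℂ) ((1 : G) : G ⧸ K)
        rw [(QuotientGroup.eq_one_iff k).mpr hk, QuotientGroup.mk_one])
      exact h.other ψ hψ c hc
    exact h.le_of_normal K ((QuotientGroup.eq_one_iff c).mp (eq_one_of_forall_irr hagree)) hc hc1

theorem exists_prime [Finite G] :
    ∃ p : ℕ, p.Prime ∧ (∀ a ∈ N, ∀ b ∈ N, a * b = b * a) ∧ (∀ a ∈ N, a ^ p = 1) := by
  obtain ⟨p, hp, hpN⟩ := Nat.exists_prime_and_dvd ((Subgroup.one_lt_card_iff_ne_bot N).mpr h.ne_bot).ne'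
  haveI := Fact.mk hp
  obtain ⟨x, hx⟩ := exists_prime_orderOf_dvd_card' p hpN
  have hx1 : (x : G) ≠ 1 := fun e => hp.ne_one (by
    rw [← hx, ← Subgroup.orderOf_coe, e, orderOf_one])
  have hexp : ∀ a ∈ N, a ^ p = 1 := by
    intro a ha
    rcases eq_or_ne a 1 with rfl | ha1
    · exact one_pow p
    · obtain ⟨b, rfl⟩ := isConj_iff.mp (h.cls x x.2 a ha hx1 ha1)
      have : (x : G) ^ p = 1 := by
        rw [← hx, ← Subgroup.orderOf_coe]; exact pow_orderOf_eq_one _
      rw [conj_pow, this, mul_one, mul_inv_cancel]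
  have hNp : IsPGroup p N := fun a => ⟨1, Subtype.ext (by simpa using hexp a a.2)⟩
  haveI : Nontrivial N := (Subgroup.nontrivial_iff_ne_bot N).mpr h.ne_bot
  haveI := hNp.center_nontrivial
  obtain ⟨z, hz⟩ := exists_ne (1 : Subgroup.center N)
  haveI : ((Subgroup.center N).map N.subtype).Normal :=
    ConjAct.normal_of_characteristic_of_normal
  have hle := h.le_of_normal ((Subgroup.center N).map N.subtype)
    (Subgroup.mem_map_of_mem _ z.2) (z : N).2 fun e => hz (Subtype.ext (Subtype.ext e))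
  refine ⟨p, hp, fun a ha b hb => ?_, hexp⟩
  obtain ⟨a', ha', rfl⟩ := hle ha
  exact congrArg Subtype.val ((Subgroup.mem_center_iff.mp ha' ⟨b, hb⟩).symm)

variable [Finite G]

theorem card_nonone : Nat.card {g : G // g ∈ N ∧ g ≠ 1} = Nat.card N - 1 := by
  classical
  haveI := Fintype.ofFinite G
  rw [Nat.card_eq_fintype_card, Fintype.card_subtype, Nat.card_eq_fintype_card,
    Fintype.card_subtype]
  have : (Finset.univ.filter fun g : G => g ∈ N ∧ g ≠ 1) =
      (Finset.univ.filter fun g : G => g ∈ N).erase 1 := by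
    ext g; simp [and_comm]
  rw [this, Finset.card_erase_of_mem (Finset.mem_filter.mpr ⟨Finset.mem_univ _, N.one_mem⟩)]

theorem card_isConj {c : G} (hc : c ∈ N) (hc1 : c ≠ 1) :
    Nat.card {g : G // IsConj g c} = Nat.card N - 1 := by
  rw [← h.card_nonone]
  refine Nat.card_congr (Equiv.subtypeEquivRight fun g => ⟨fun hg => ?_, fun hg => h.cls g hg.1 c hc hg.2 hc1⟩)
  obtain ⟨a, rfl⟩ := isConj_iff.mp hg.symm
  refine ⟨(inferInstance : N.Normal).conj_mem c hc a, fun e => hc1 ?_⟩
  simpa using e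

theorem two_le_card : 2 ≤ Nat.card N := (Subgroup.one_lt_card_iff_ne_bot N).mpr h.ne_bot

theorem one_ne (hN : N ≠ ⊤) : one G ≠ χ := by
  intro e
  exact hN (eq_top_iff.mpr fun g _ => (h.supp g).mpr (by rw [← e, one_apply]; exact one_ne_zero))

theorem ne_top (hG : 2 < Nat.card G) : N ≠ ⊤ := by
  intro e
  obtain ⟨c, hc, hc1⟩ := h.exists_mem
  have h1 := h.card_isConj hc hc1
  rw [card_isConj_eq_index, e, Subgroup.card_top] at h1
  have hd : Nat.card G - 1 ∣ Nat.card G := h1 ▸ Subgroup.index_dvd_card _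
  have := Nat.le_of_dvd one_pos ((Nat.dvd_sub hd (dvd_refl (Nat.card G - 1))).trans
    (by rw [Nat.sub_sub_self (by omega)]))
  omega

/-- The invariant `e`: the degree is `e (|N| - 1)` and the value on `N` is `-e`. -/
theorem exists_e (hG : 2 < Nat.card G) :
    ∃ e : ℕ, 0 < e ∧ (χ : G → ℂ) 1 = ((e * (Nat.card N - 1) : ℕ) : ℂ) ∧
      (∀ n ∈ N, n ≠ 1 → (χ : G → ℂ) n = -(e : ℂ)) ∧
      Nat.card G = e * e * Nat.card N * (Nat.card N - 1) ∧
      ∀ n ∈ N, n ≠ 1 → Nat.card (Subgroup.centralizer ({n} : Set G)) = e * e * Nat.card N := by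
  classical
  haveI := Fintype.ofFinite G
  obtain ⟨c, hc, hc1⟩ := h.exists_mem
  obtain ⟨d, hd⟩ := exists_nat_degree (isCharacter_of_isIrr χ.2)
  set a := (χ : G → ℂ) c with ha
  have hval : ∀ n, n ∈ N ∧ n ≠ 1 → (χ : G → ℂ) n = a := fun n hn =>
    eq_of_isConj (isClassFunction_irr χ) (h.cls n hn.1 c hc hn.2 hc1)
  have hzero : ∀ n : G, n ≠ 1 → ¬ (n ∈ N ∧ n ≠ 1) → (χ : G → ℂ) n = 0 := fun n hn1 hn =>
    h.eq_zero fun hN => hn ⟨hN, hn1⟩
  have hm : ((Nat.card N - 1 : ℕ) : ℂ) ≠ 0 := Nat.cast_ne_zero.mpr (by have := h.two_le_card; omega)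
  have hsum : (d : ℂ) + ((Nat.card N - 1 : ℕ) : ℂ) * a = 0 := by
    have h0 := classInner_irr_ne χ.2 (one G).2 fun e => h.one_ne (h.ne_top hG) (Subtype.ext e).symm
    simp only [classInner, one_apply, map_one, mul_one] at h0
    rw [sum_of_support (fun n => n ∈ N ∧ n ≠ 1) (by simp) hval hzero, h.card_nonone, hd] at h0
    exact (mul_eq_zero.mp h0).resolve_left (inv_ne_zero (Nat.cast_ne_zero.mpr Nat.card_pos.ne'))
  have hdiv : Nat.card N - 1 ∣ d := by
    refine dvd_of_isIntegral_div (by have := h.two_le_card; omega) ?_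
    have : (d : ℂ) / ((Nat.card N - 1 : ℕ) : ℂ) = -a := by
      rw [div_eq_iff hm]; linear_combination hsum
    rw [this]
    exact (isIntegral_value (isCharacter_of_isIrr χ.2) c).neg
  obtain ⟨e, he⟩ := hdiv
  have hae : a = -(e : ℂ) := by
    apply mul_left_cancel₀ hm
    rw [he, Nat.cast_mul] at hsum
    linear_combination hsum
  have hd0 : d ≠ 0 := fun e0 => irr_degree_ne_zero χ.2 (by rw [hd, e0]; simp)
  have he0 : 0 < e := Nat.pos_of_ne_zero fun e0 => hd0 (by rw [he, e0, mul_zero])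
  have hnorm := classInner_irr_self χ.2
  rw [classInner, sum_of_support (fun n => n ∈ N ∧ n ≠ 1) (by simp)
      (v := a * conj a) (fun n hn => by rw [hval n hn])
      (fun n hn1 hn => by rw [hzero n hn1 hn, zero_mul]),
    h.card_nonone, hd, hae, map_neg, Complex.conj_natCast, Complex.conj_natCast,
    inv_mul_eq_one₀ (Nat.cast_ne_zero.mpr Nat.card_pos.ne')] at hnorm
  have hcard : Nat.card G = e * e * Nat.card N * (Nat.card N - 1) := by
    obtain ⟨m, hm2⟩ : ∃ m, Nat.card N = m + 1 := ⟨Nat.card N - 1, by have := h.two_le_card; omega⟩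
    rw [hm2, Nat.add_sub_cancel] at hnorm he ⊢
    have : (Nat.card G : ℂ) = ((e * e * (m + 1) * m : ℕ) : ℂ) := by
      rw [hnorm, he]; push_cast; ring
    exact_mod_cast this
  refine ⟨e, he0, by rw [hd, he, mul_comm], fun n hn hn1 => (hval n ⟨hn, hn1⟩).trans hae, hcard,
    fun n hn hn1 => ?_⟩
  have hi := h.card_isConj hn hn1
  rw [card_isConj_eq_index] at hi
  have := (Subgroup.centralizer ({n} : Set G)).card_mul_index
  rw [hi, hcard] at this
  exact Nat.eq_of_mul_eq_mul_right (by have := h.two_le_card; omega) this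

variable {p : ℕ} [hp : Fact p.Prime]

/-- The invariant `e` is a power of `p`. -/
theorem exists_pow (hG : 2 < Nat.card G) (hNp : IsPGroup p N) :
    ∃ k n : ℕ, 0 < n ∧ Nat.card N = p ^ n ∧
      (χ : G → ℂ) 1 = ((p ^ k * (Nat.card N - 1) : ℕ) : ℂ) ∧
      (∀ x ∈ N, x ≠ 1 → (χ : G → ℂ) x = -((p ^ k : ℕ) : ℂ)) ∧
      Nat.card G = p ^ (2 * k + n) * (Nat.card N - 1) ∧
      ∀ x ∈ N, x ≠ 1 → Nat.card (Subgroup.centralizer ({x} : Set G)) = p ^ (2 * k + n) := by
  classical
  haveI := Fintype.ofFinite G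
  obtain ⟨n, hn⟩ := hNp.exists_card_eq
  have hn0 : 0 < n := Nat.pos_of_ne_zero fun e => by
    have := h.two_le_card; rw [hn, e, pow_zero] at this; omega
  obtain ⟨e, he0, hd, hval, hcard, hcent⟩ := h.exists_e hG
  obtain ⟨k, hk⟩ : ∃ k, e = p ^ k := by
    refine ⟨e.factorization p, Nat.eq_pow_of_factorization_eq_single he0.ne' ?_⟩
    ext r
    rcases eq_or_ne r p with rfl | hrp
    · rw [Finsupp.single_eq_same]
    rw [Finsupp.single_eq_of_ne hrp]
    by_cases hr : r.Prime
    swap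
    · exact Nat.factorization_eq_zero_of_not_prime _ hr
    haveI := Fact.mk hr
    obtain ⟨c, hc, hc1⟩ := h.exists_mem
    let S : Sylow r (Subgroup.centralizer ({c} : Set G)) := default
    set R : Subgroup G := (S : Subgroup _).map (Subgroup.centralizer ({c} : Set G)).subtype with hR
    have hRcard : Nat.card R = r ^ (2 * e.factorization r) := by
      rw [hR, Subgroup.card_map_of_injective (Subgroup.subtype_injective _), S.card_eq_multiplicity, hcent c hc hc1, hn]
      congr 1
      rw [Nat.factorization_mul (by positivity) (pow_ne_zero _ hp.out.ne_zero),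
        Nat.factorization_mul he0.ne' he0.ne', hp.out.factorization_pow]
      simp [Finsupp.single_eq_of_ne hrp, two_mul]
    have hRcomm : ∀ (a : R) (b : Subgroup.zpowers c), Commute (a : G) (b : G) := by
      rintro ⟨a, a', ha', rfl⟩ ⟨b, i, rfl⟩
      have : Commute ((a' : Subgroup.centralizer ({c} : Set G)) : G) c :=
        (Subgroup.mem_centralizer_iff.mp a'.2 c rfl).symm
      exact this.zpow_right i
    let f : R × Subgroup.zpowers c →* G :=
      MonoidHom.noncommCoprod R.subtype (Subgroup.zpowers c).subtype hRcomm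
    obtain ⟨lam, hlam⟩ : ∃ lam : Subgroup.zpowers c →* ℂˣ, lam ⟨c, Subgroup.mem_zpowers c⟩ ≠ 1 := by
      letI : CommGroup (Subgroup.zpowers c) := IsMulCommutative.instCommGroup
      exact CommGroup.exists_apply_ne_one_of_hasEnoughRootsOfUnity _ _
        (fun e => hc1 (congrArg Subtype.val e))
    let μ : R × Subgroup.zpowers c →* ℂˣ := lam.comp (MonoidHom.snd _ _)
    obtain ⟨m, ρ, hρ⟩ := isCharacter_of_isIrr χ.2
    have hχf : IsCharacter (R × Subgroup.zpowers c) fun u => (χ : G → ℂ) (f u) :=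
      ⟨m, ρ.comp f, by rw [← hρ]; rfl⟩
    obtain ⟨j, hj⟩ := exists_nat_classInner hχf (isCharacter_of_isIrr (isIrrCharacter_monoidHom μ))
    have hlam0 : ∑ u : Subgroup.zpowers c, ((lam u : ℂˣ) : ℂ) = 0 := by
      have h1 : ((lam ⟨c, Subgroup.mem_zpowers c⟩ : ℂˣ) : ℂ) *
          ∑ u : Subgroup.zpowers c, ((lam u : ℂˣ) : ℂ) =
          ∑ u : Subgroup.zpowers c, ((lam u : ℂˣ) : ℂ) := by
        rw [Finset.mul_sum]
        refine Fintype.sum_equiv (Equiv.mulLeft ⟨c, Subgroup.mem_zpowers c⟩) _ _ fun u => ?_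
        simp
      by_contra hne
      exact hlam (Units.ext (by simpa using (mul_eq_right₀ hne).mp h1))
    have hcN : Subgroup.zpowers c ≤ N := Subgroup.zpowers_le.mpr hc
    have hsum : ∑ u : R × Subgroup.zpowers c, (χ : G → ℂ) (f u) * conj ((μ u : ℂˣ) : ℂ) =
        ((e * Nat.card N : ℕ) : ℂ) := by
      rw [Fintype.sum_prod_type, Finset.sum_eq_single (1 : R)]
      rotate_left
      · intro a _ ha
        refine Finset.sum_eq_zero fun u _ => ?_
        rw [h.eq_zero (g := f (a, u)), zero_mul]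
        intro hmem
        have haN : (a : G) ∈ N := by
          have := N.mul_mem hmem (N.inv_mem (hcN u.2))
          simpa [f, MonoidHom.noncommCoprod] using this
        apply ha
        have h1 : orderOf a = 1 := by
          have hd1 : orderOf a ∣ Nat.card N := by
            rw [← Subgroup.orderOf_coe, ← Subgroup.orderOf_mk (a : G) haN]
            exact orderOf_dvd_natCard _
          have hd2 : orderOf a ∣ Nat.card R := orderOf_dvd_natCard a
          rw [hn] at hd1; rw [hRcard] at hd2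
          exact Nat.eq_one_of_dvd_coprimes
            (Nat.coprime_pow_primes _ _ hp.out hr (Ne.symm hrp)) hd1 hd2
        exact orderOf_eq_one_iff.mp h1
      · simp
      have hone : ∀ u : Subgroup.zpowers c, f (1, u) = (u : G) := fun u => by simp [f, MonoidHom.noncommCoprod]
      simp only [hone, μ, MonoidHom.comp_apply, MonoidHom.coe_snd]
      rw [← Finset.add_sum_erase _ _ (Finset.mem_univ (1 : Subgroup.zpowers c))]
      have hrest : ∀ u ∈ (Finset.univ : Finset (Subgroup.zpowers c)).erase 1,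
          (χ : G → ℂ) u * conj ((lam u : ℂˣ) : ℂ) = -(e : ℂ) * conj ((lam u : ℂˣ) : ℂ) := by
        intro u hu
        rw [hval u (hcN u.2) fun e => (Finset.mem_erase.mp hu).1 (Subtype.ext e)]
      rw [Finset.sum_congr rfl hrest, ← Finset.mul_sum, ← map_sum]
      have hr' : ∑ u ∈ (Finset.univ : Finset (Subgroup.zpowers c)).erase 1,
          ((lam u : ℂˣ) : ℂ) = -1 := by
        rw [Finset.sum_erase_eq_sub (Finset.mem_univ _), hlam0, map_one]; simp
      rw [hr', map_one]
      simp only [OneMemClass.coe_one, Units.val_one, map_one, mul_one, map_neg]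
      rw [hd]
      have h2 : 1 ≤ Nat.card N := Nat.card_pos
      push_cast [h2]
      ring
    have hdvd : Nat.card R * Nat.card (Subgroup.zpowers c) ∣ e * Nat.card N := by
      refine ⟨j, ?_⟩
      have hj' := hj
      simp only [classInner] at hj'
      rw [hsum, inv_mul_eq_iff_eq_mul₀ (Nat.cast_ne_zero.mpr Nat.card_pos.ne'), Nat.card_prod]
        at hj'
      exact_mod_cast hj'
    have h3 : r ^ (2 * e.factorization r) ∣ e := by
      rw [← hRcard]
      refine Nat.Coprime.dvd_of_dvd_mul_right ?_ ((dvd_mul_right _ _).trans hdvd)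
      rw [hRcard, hn]
      exact Nat.coprime_pow_primes _ _ hr hp.out hrp
    have := (hr.pow_dvd_iff_le_factorization he0.ne').mp h3
    omega
  subst hk
  refine ⟨k, n, hn0, hn, hd, hval, ?_, fun x hx hx1 => ?_⟩
  · rw [hcard, hn, ← pow_add, ← pow_add, two_mul]
  · rw [hcent x hx hx1, hn, ← pow_add, ← pow_add, two_mul]

theorem pow_eq_card_sylow {k n : ℕ} (hn0 : 0 < n) (hn : Nat.card N = p ^ n)
    (hG : Nat.card G = p ^ (2 * k + n) * (Nat.card N - 1)) :
    p ^ (Nat.card G).factorization p = p ^ (2 * k + n) := by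
  have h1 : ¬ p ∣ Nat.card N - 1 := fun hdvd => by
    have h2 : p ∣ Nat.card N := hn ▸ dvd_pow_self p hn0.ne'
    have := Nat.dvd_sub h2 hdvd
    rw [Nat.sub_sub_self Nat.card_pos] at this
    exact hp.out.not_dvd_one this
  have h0 : Nat.card N - 1 ≠ 0 := fun e => h1 (e ▸ dvd_zero p)
  rw [hG, Nat.factorization_mul (pow_ne_zero _ hp.out.ne_zero) h0, hp.out.factorization_pow]
  simp [Nat.factorization_eq_zero_of_not_dvd h1]

theorem le_sylow (hNp : IsPGroup p N) (P : Sylow p G) : N ≤ P := by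
  obtain ⟨Q, hQ⟩ := hNp.exists_le_sylow
  obtain ⟨g, rfl⟩ := MulAction.exists_smul_eq G Q P
  intro x hx
  refine ⟨g⁻¹ * x * g, hQ ?_, by simp [mul_assoc]⟩
  simpa using (inferInstance : N.Normal).conj_mem x hx g⁻¹

/-- Elements outside `N` in the same coset are conjugate. -/
theorem isConj_coset {x n : G} (hx : x ∉ N) (hn : n ∈ N) : IsConj (x * n) x := by
  classical
  refine (isConj_iff_irr_agree _ _).mpr fun ψ => ?_
  by_cases e : ψ = χ
  · subst e
    rw [h.eq_zero hx, h.eq_zero fun hm => hx (by simpa using N.mul_mem hm (N.inv_mem hn))]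
  · obtain ⟨η, rfl⟩ := Blocks.exists_inflate_eq_of_ker N ψ (h.other ψ e)
    show (η : G ⧸ N → ℂ) ((x * n : G) : G ⧸ N) = (η : G ⧸ N → ℂ) (x : G ⧸ N)
    rw [QuotientGroup.mk_mul, (QuotientGroup.eq_one_iff n).mpr hn, mul_one]

theorem card_centralizer_of_notMem {x : G} (hx : x ∉ N) :
    Nat.card (Subgroup.centralizer ({x} : Set G)) =
      Nat.card (Subgroup.centralizer ({(x : G ⧸ N)} : Set (G ⧸ N))) := by
  have h1 := Blocks.index_centralizer_eq_fiber_mul (QuotientGroup.mk' N)
    (QuotientGroup.mk'_surjective N) x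
  have h2 : Nat.card {g : G // IsConj x g ∧ (QuotientGroup.mk' N) g = (QuotientGroup.mk' N) x} =
      Nat.card N := by
    refine Nat.card_congr
      { toFun := fun g => ⟨x⁻¹ * g.1, QuotientGroup.eq.mp g.2.2.symm⟩
        invFun := fun n => ⟨x * n, (h.isConj_coset hx n.2).symm, by
          simp [QuotientGroup.mk'_apply, (QuotientGroup.eq_one_iff (n : G)).mpr n.2]⟩
        left_inv := fun g => Subtype.ext (by simp)
        right_inv := fun n => Subtype.ext (by simp) }
  rw [h2] at h1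
  have h3 := (Subgroup.centralizer ({x} : Set G)).card_mul_index
  have h4 := (Subgroup.centralizer ({(x : G ⧸ N)} : Set (G ⧸ N))).card_mul_index
  rw [h1, Subgroup.card_eq_card_quotient_mul_card_subgroup N, ← h4] at h3
  simp only [QuotientGroup.mk'_apply] at h3
  refine Nat.eq_of_mul_eq_mul_right (m := Nat.card N *
    (Subgroup.centralizer ({(x : G ⧸ N)} : Set (G ⧸ N))).index) ?_ (h3.trans (by ring))
  exact Nat.mul_pos Nat.card_pos (Nat.pos_of_ne_zero Subgroup.index_ne_zero_of_finite)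

/-- A `p`-subgroup centralising an element outside `N` has order at most `|G|_p / |N|`. -/
theorem card_mul_le {x : G} (hx : x ∉ N) (Q : Subgroup G)
    (hQx : Q ≤ Subgroup.centralizer ({x} : Set G)) :
    Nat.card Q * Nat.card N ∣ Nat.card G := by
  have h1 := Subgroup.card_dvd_of_le hQx
  rw [h.card_centralizer_of_notMem hx] at h1
  rw [Subgroup.card_eq_card_quotient_mul_card_subgroup N]
  exact Nat.mul_dvd_mul_right (h1.trans (Subgroup.card_subgroup_dvd_card _)) _

end Setting

end CfsgLib.TwoClass
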