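import Cfsg.Agent.Lib.Char.SquareRoots
import Cfsg.Agent.Lib.PSolvable.Omega

/-!
# Real linear characters of a two-group
-/

set_option autoImplicit false

namespace CfsgLib.Char.TwoGroupLinear

open Cfsg
open scoped ComplexConjugate CfsgLib.Char

/-- A finite commutative two-group with at most two square roots of the identity is cyclic. -/
theorem isCyclic_of_sq {A : Type*} [CommGroup A] [Finite A] (hA : IsPGroup 2 A)
    (h2 : Nat.card {x : A // x ^ 2 = 1} ≤ 2) : IsCyclic A := by
  classical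
  haveI : Fintype A := Fintype.ofFinite A
  haveI : Fact (Nat.Prime 2) := ⟨Nat.prime_two⟩
  rw [Nat.card_eq_fintype_card, Fintype.card_subtype] at h2
  have key : ∀ i : ℕ, (Finset.univ.filter fun a : A => a ^ 2 ^ i = 1).card ≤ 2 ^ i := by
    intro i
    induction i with
    | zero => exact Finset.card_le_one.mpr (fun a ha b hb => by simp_all)
    | succ i ih =>
      refine le_trans (Finset.card_le_mul_card_image (f := fun a : A => a ^ 2) _ 2 fun b hb => ?_) ?_
      · obtain ⟨a₀, -, rfl⟩ := Finset.mem_image.mp hb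
        refine le_trans (Finset.card_le_card_of_injOn (fun a => a * a₀⁻¹) (fun a ha => ?_)
          (fun a _ b _ e => mul_right_cancel e)) h2
        have ha' := (Finset.mem_filter.mp ha).2
        simp only [Finset.coe_filter, Finset.mem_univ, true_and, Set.mem_setOf_eq]
        rw [mul_pow, ha', inv_pow, mul_inv_cancel]
      · rw [pow_succ', mul_le_mul_iff_right₀ (by norm_num)]
        refine le_trans (Finset.card_le_card fun b hb => ?_) ih
        obtain ⟨a, ha, rfl⟩ := Finset.mem_image.mp hb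
        simp only [Finset.mem_filter, Finset.mem_univ, true_and] at ha ⊢
        rw [← pow_mul, pow_succ'] at *
        exact ha
  refine isCyclic_of_card_pow_eq_one_le fun n hn => ?_
  obtain ⟨N, hN⟩ := IsPGroup.iff_card.mp hA
  obtain ⟨i, -, hi⟩ := (Nat.dvd_prime_pow Nat.prime_two).mp (Nat.gcd_dvd_right n (2 ^ N))
  refine le_trans (Finset.card_le_card fun a ha => ?_)
    ((key i).trans (Nat.le_of_dvd hn (hi ▸ Nat.gcd_dvd_left n (2 ^ N))))
  simp only [Finset.mem_filter, Finset.mem_univ, true_and] at ha ⊢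
  rw [← hi, ← orderOf_dvd_iff_pow_eq_one]
  exact Nat.dvd_gcd (orderOf_dvd_of_pow_eq_one ha) (hN ▸ orderOf_dvd_natCard a)

variable {G : Type*} [Group G] [Finite G]

theorem isCyclic_of_abelianization (hG : IsPGroup 2 G) (h : IsCyclic (Abelianization G)) :
    IsCyclic G := by
  haveI : Fact (Nat.Prime 2) := ⟨Nat.prime_two⟩
  obtain ⟨a, ha⟩ := h.exists_generator
  obtain ⟨g, rfl⟩ := QuotientGroup.mk_surjective a
  refine isCyclic_iff_exists_zpowers_eq_top.mpr ⟨g, frattini_nongenerating ?_⟩
  rw [eq_top_iff]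
  intro x _
  obtain ⟨k, hk⟩ := Subgroup.mem_zpowers_iff.mp (ha (QuotientGroup.mk x))
  have hmem : (g ^ k)⁻¹ * x ∈ commutator G := QuotientGroup.eq.mp
    ((QuotientGroup.mk_zpow (commutator G) g k).trans hk)
  rw [show x = g ^ k * ((g ^ k)⁻¹ * x) by group]
  exact Subgroup.mul_mem _ (Subgroup.mem_sup_left (Subgroup.zpow_mem _ (Subgroup.mem_zpowers g) k))
    (Subgroup.mem_sup_right ((PSolvable.commutator_le_frattini hG).1 hmem))

/-- The group of linear characters. -/
theorem finite_hom : Finite (G →* ℂˣ) := Finite.of_equiv _ (linearEquiv (G := G))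

theorem linear_dual (hG : IsPGroup 2 G) :
    IsPGroup 2 (G →* ℂˣ) ∧ Nat.card (G →* ℂˣ) = (commutator G).index ∧
      (IsCyclic (G →* ℂˣ) → IsCyclic G) := by
  haveI : Fact (Nat.Prime 2) := ⟨Nat.prime_two⟩
  haveI : Finite (Abelianization G) := Finite.of_surjective _ QuotientGroup.mk_surjective
  have e := (CommGroup.monoidHom_mulEquiv_of_hasEnoughRootsOfUnity (Abelianization G) ℂ).some
  refine ⟨fun f => ?_, (Nat.card_congr (linearEquiv (G := G))).symm.trans card_linear, fun hc => ?_⟩
  · obtain ⟨k, hk⟩ := IsPGroup.iff_card.mp hG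
    refine ⟨k, MonoidHom.ext fun g => ?_⟩
    rw [MonoidHom.pow_apply, ← map_pow, ← hk, pow_card_eq_one', map_one, MonoidHom.one_apply]
  · refine isCyclic_of_abelianization hG ?_
    let f : (G →* ℂˣ) →* (Abelianization G →* ℂˣ) :=
      { toFun := Abelianization.lift
        map_one' := Abelianization.hom_ext _ _ (MonoidHom.ext fun g => by simp)
        map_mul' := fun a b => Abelianization.hom_ext _ _ (MonoidHom.ext fun g => by simp) }
    exact isCyclic_of_surjective (e.toMonoidHom.comp f) (e.surjective.comp Abelianization.lift.surjective)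

theorem four_dvd_real_linear (hG : IsPGroup 2 G) (hcyc : ¬ IsCyclic G) :
    4 ∣ Nat.card {χ : IrrCharacter G // (χ : G → ℂ) 1 = 1 ∧ ∀ g, ((χ : G → ℂ) g).im = 0} := by
  classical
  haveI : Fact (Nat.Prime 2) := ⟨Nat.prime_two⟩
  haveI := finite_hom (G := G)
  obtain ⟨hP, -, hcy⟩ := linear_dual hG
  let S : Subgroup (G →* ℂˣ) :=
    { carrier := {f | f ^ 2 = 1}
      one_mem' := one_pow 2
      mul_mem' := fun {a b} (ha : a ^ 2 = 1) (hb : b ^ 2 = 1) => by
        refine MonoidHom.ext fun g => ?_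
        have h1 : a g ^ 2 = 1 := DFunLike.congr_fun ha g
        have h2 : b g ^ 2 = 1 := DFunLike.congr_fun hb g
        show (a g * b g) ^ 2 = 1
        rw [mul_pow, h1, h2, one_mul]
      inv_mem' := fun {a} (ha : a ^ 2 = 1) => by
        refine MonoidHom.ext fun g => ?_
        have h1 : a g ^ 2 = 1 := DFunLike.congr_fun ha g
        show (a g)⁻¹ ^ 2 = 1
        rw [inv_pow, h1, inv_one] }
  have hbij : Nat.card {χ : IrrCharacter G // (χ : G → ℂ) 1 = 1 ∧ ∀ g, ((χ : G → ℂ) g).im = 0} =
      Nat.card S := by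
    refine Nat.card_congr ((Equiv.subtypeSubtypeEquivSubtypeInter
      (fun χ : IrrCharacter G => (χ : G → ℂ) 1 = 1)
      (fun χ => ∀ g, ((χ : G → ℂ) g).im = 0)).symm.trans
      (Equiv.subtypeEquiv linearEquiv fun χ => ?_))
    show _ ↔ linearEquiv χ ^ 2 = 1
    have hinv : ∀ g : G, ((linearEquiv χ g⁻¹ : ℂˣ) : ℂ) = conj ((linearEquiv χ g : ℂˣ) : ℂ) :=
      fun g => irr_inv χ.1 g
    constructor
    · intro h
      refine MonoidHom.ext fun g => Units.ext ?_
      have h1 := hinv g
      rw [show conj ((linearEquiv χ g : ℂˣ) : ℂ) = ((linearEquiv χ g : ℂˣ) : ℂ) from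
        Complex.conj_eq_iff_im.mpr (h g), map_inv] at h1
      have h2 := Units.ext h1
      rw [inv_eq_iff_mul_eq_one] at h2
      simp [sq, h2]
    · intro h g
      refine Complex.conj_eq_iff_im.mp ((hinv g).symm.trans ?_)
      have h2 : linearEquiv χ g * linearEquiv χ g = 1 := by rw [← sq]; exact DFunLike.congr_fun h g
      rw [map_inv, inv_eq_of_mul_eq_one_left h2]
      rfl
  rw [hbij]
  obtain ⟨k, hk⟩ := IsPGroup.iff_card.mp (hP.to_subgroup S)
  rw [hk]
  rcases k with _ | _ | k
  · exact absurd (hcy (isCyclic_of_sq hP (le_trans (le_of_eq hk) (by norm_num)))) hcyc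
  · exact absurd (hcy (isCyclic_of_sq hP (le_trans (le_of_eq hk) (by norm_num)))) hcyc
  · exact ⟨2 ^ k, by ring⟩

theorem four_le_abelianization (hG : IsPGroup 2 G) (hcyc : ¬ IsCyclic G) :
    4 ≤ (commutator G).index := by
  haveI : Fintype G := Fintype.ofFinite G
  rw [← card_linear]
  haveI : Nonempty {χ : IrrCharacter G // (χ : G → ℂ) 1 = 1 ∧ ∀ g, ((χ : G → ℂ) g).im = 0} :=
    ⟨⟨⟨fun _ => 1, isIrrCharacter_one⟩, rfl, fun _ => Complex.one_im⟩⟩
  exact (Nat.le_of_dvd Nat.card_pos (four_dvd_real_linear hG hcyc)).trans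
    (Nat.card_le_card_of_injective (fun χ => ⟨χ.1, χ.2.1⟩)
      fun a b h => Subtype.ext (Subtype.ext_iff.mp h :))

end CfsgLib.Char.TwoGroupLinear
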