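import Cfsg.Agent.Lib.Char.CyclicTI
import Cfsg.Agent.S1510

/-!
# The exceptional characters of a type-P-like group
-/

set_option autoImplicit false

namespace CfsgLib.Char.CyclicTI

open Cfsg
open scoped ComplexConjugate CfsgLib.Char

variable {L : Type*} [Group L] [Fintype L] {W₁ W₂ : Subgroup L}

omit [Fintype L] in
theorem classInner_hom' [Fintype ↥(W₁ ⊔ W₂)] (f g : ↥(W₁ ⊔ W₂) →* ℂˣ) [Decidable (f = g)] :
    classInner (fun w => (f w : ℂ)) (fun w => (g w : ℂ)) = if f = g then 1 else 0 := by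
  classical
  rw [classInner_hom]
  convert rfl

/-- A function orthogonal to the differences inside the columns vanishes off `W₂`. -/
theorem eq_zero_of_orth_columns [Fintype ↥(W₁ ⊔ W₂)] [IsMulCommutative ↥(W₁ ⊔ W₂)]
    (hdisj : W₁ ⊓ W₂ = ⊥) (hcomm : ∀ a ∈ W₁, ∀ b ∈ W₂, a * b = b * a)
    (R : ↥(W₁ ⊔ W₂) → ℂ)
    (h : ∀ (φ : TrivR W₁ W₂) (ψ : TrivL W₁ W₂),
      classInner R (fun w => ((φ.1 * ψ.1) w : ℂ)) = classInner R (fun w => (ψ.1 w : ℂ)))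
    (v : ↥(W₁ ⊔ W₂)) (hv : (v : L) ∉ W₂) : R v = 0 := by
  classical
  haveI : Fintype (TrivR W₁ W₂) := Fintype.ofFinite _
  haveI : Fintype (TrivL W₁ W₂) := Fintype.ofFinite _
  have e : ∀ (φ : ↥(W₁ ⊔ W₂) →* ℂˣ) (w : ↥(W₁ ⊔ W₂)), conj (φ w : ℂ) = ((φ w⁻¹ : ℂˣ) : ℂ) := by
    intro φ w
    have hfin : IsOfFinOrder (φ w : ℂˣ) := φ.isOfFinOrder (isOfFinOrder_of_finite w)
    have hn : ‖(φ w : ℂ)‖ = 1 := by
      obtain ⟨n, hn0, hn⟩ := isOfFinOrder_iff_pow_eq_one.mp hfin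
      refine Complex.norm_eq_one_of_pow_eq_one (n := n) ?_ hn0.ne'
      rw [← Units.val_pow_eq_pow_val, hn, Units.val_one]
    rw [map_inv, Units.val_inv_eq_inv_val, Complex.inv_eq_conj hn]
  have hker : ∀ w : ↥(W₁ ⊔ W₂),
      ∑ φ : TrivR W₁ W₂, ∑ ψ : TrivL W₁ W₂, (φ.1 v : ℂ) * (ψ.1 v : ℂ) * conj ((φ.1 * ψ.1) w : ℂ) =
      if w = v then (Nat.card (TrivR W₁ W₂) : ℂ) * Nat.card (TrivL W₁ W₂) else 0 := by
    intro w
    have ht : ∀ (φ : TrivR W₁ W₂) (ψ : TrivL W₁ W₂),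
        (φ.1 v : ℂ) * (ψ.1 v : ℂ) * conj ((φ.1 * ψ.1) w : ℂ) =
          (φ.1 (v * w⁻¹) : ℂ) * (ψ.1 (v * w⁻¹) : ℂ) := by
      intro φ ψ
      rw [MonoidHom.mul_apply, Units.val_mul, map_mul (starRingEnd ℂ), e, e, map_mul, map_mul,
        Units.val_mul, Units.val_mul]
      ring
    simp only [ht]
    rw [← Finset.sum_mul_sum, sum_triv W₂, sum_triv W₁]
    by_cases hwv : w = v
    · subst hwv
      rw [if_pos rfl, if_pos, if_pos] <;> simp [W₁.one_mem, W₂.one_mem]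
    · rw [if_neg hwv]
      split_ifs with h2 h1
      · exfalso
        apply hwv
        have hb : ((v * w⁻¹ : ↥(W₁ ⊔ W₂)) : L) ∈ W₁ ⊓ W₂ := ⟨h1, h2⟩
        rw [hdisj, Subgroup.mem_bot] at hb
        have : v * w⁻¹ = 1 := Subtype.ext hb
        exact (mul_inv_eq_one.mp this).symm
      all_goals simp
  have h0 : ∑ ψ : TrivL W₁ W₂, ∑ φ : TrivR W₁ W₂, (φ.1 v : ℂ) * (ψ.1 v : ℂ) *
      classInner R (fun w => ((φ.1 * ψ.1) w : ℂ)) = 0 := by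
    refine Finset.sum_eq_zero fun ψ _ => ?_
    simp only [h]
    rw [← Finset.sum_mul, ← Finset.sum_mul, sum_triv W₂ v, if_neg hv, zero_mul, zero_mul]
  rw [Finset.sum_comm] at h0
  simp only [classInner, Finset.mul_sum] at h0
  rw [Finset.sum_congr rfl fun φ _ => Finset.sum_comm, Finset.sum_comm] at h0
  have h1 : ∑ w : ↥(W₁ ⊔ W₂), (Nat.card ↥(W₁ ⊔ W₂) : ℂ)⁻¹ * R w *
      ∑ φ : TrivR W₁ W₂, ∑ ψ : TrivL W₁ W₂,
        (φ.1 v : ℂ) * (ψ.1 v : ℂ) * conj ((φ.1 * ψ.1) w : ℂ) = 0 := by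
    rw [← h0]
    refine Finset.sum_congr rfl fun w _ => ?_
    simp only [Finset.mul_sum]
    refine Finset.sum_congr rfl fun φ _ => Finset.sum_congr rfl fun ψ _ => ?_
    ring
  simp only [hker] at h1
  have hN : (Nat.card ↥(W₁ ⊔ W₂) : ℂ) ≠ 0 := Nat.cast_ne_zero.mpr Nat.card_pos.ne'
  haveI : Nonempty (TrivR W₁ W₂) := ⟨⟨1, fun _ _ => rfl⟩⟩
  haveI : Nonempty (TrivL W₁ W₂) := ⟨⟨1, fun _ _ => rfl⟩⟩
  simpa [mul_ite, Finset.sum_ite_eq', hN, Nat.card_pos.ne'] using h1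

/-- The part of `W` outside `W₂` is TI with respect to `W`. -/
theorem ti_off_right (K : Subgroup L) [hK : K.Normal] (hKW₁ : K ⊓ W₁ = ⊥) (hKW₁' : K ⊔ W₁ = ⊤)
    (hW₁c : IsCyclic W₁) (hW : IsSelfNormalizingCyclic W₁ W₂)
    (hcop : (Nat.card W₁).Coprime (Nat.card W₂))
    (hC : ∀ x ∈ W₁, x ≠ 1 → K ⊓ Subgroup.centralizer ({x} : Set L) = W₂) :
    ∀ g : L, g ∉ W₁ ⊔ W₂ → ∀ t ∈ (↑(W₁ ⊔ W₂) : Set L) \ (↑W₂ : Set L),
      g * t * g⁻¹ ∈ (↑(W₁ ⊔ W₂) : Set L) \ (↑W₂ : Set L) → t = 1 := by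
  intro g hg t ht hs
  exfalso
  have hcomm := comm_of hW
  obtain ⟨n, hn1, hn2⟩ := Nat.chineseRemainder hcop 1 0
  have hpart : ∀ x ∈ W₁ ⊔ W₂, x ^ n ∈ W₁ ∧ (x ^ n = 1 → x ∈ W₂) := by
    intro x hx
    obtain ⟨p, q, hp, hq, hpq, -, -⟩ := exists_proj (disj_of hW) hcomm
    set a := (p ⟨x, hx⟩ : L)
    set b := (q ⟨x, hx⟩ : L)
    have e : a * b = x := congrArg Subtype.val (hpq ⟨x, hx⟩)
    have hx' : x ^ n = a := by
      rw [← e, (show Commute a b from hcomm a (hp _) b (hq _)).mul_pow,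
        pow_eq_self_of_modEq_one (Subgroup.orderOf_dvd_natCard _ (hp _)) hn1,
        orderOf_dvd_iff_pow_eq_one.mp
          ((Subgroup.orderOf_dvd_natCard _ (hq _)).trans (Nat.modEq_zero_iff_dvd.mp hn2)), mul_one]
    refine ⟨hx' ▸ hp _, fun h1 => ?_⟩
    rw [← e, ← hx', h1, one_mul]
    exact hq _
  obtain ⟨ha, ha1⟩ := hpart t ht.1
  obtain ⟨hga, -⟩ := hpart _ hs.1
  rw [conj_pow] at hga
  have hane : t ^ n ≠ 1 := fun h => ht.2 (ha1 h)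
  obtain ⟨k, hk, w, hw, rfl⟩ :=
    Subgroup.mem_sup_of_normal_left.mp (show g ∈ K ⊔ W₁ by rw [hKW₁']; trivial)
  have hwa : w * t ^ n * w⁻¹ = t ^ n := by
    haveI := hW₁c
    have h := congrArg Subtype.val ((IsCyclic.commGroup (α := W₁)).mul_comm ⟨w, hw⟩ ⟨t ^ n, ha⟩)
    simp only [Subgroup.coe_mul] at h
    rw [h, mul_inv_cancel_right]
  have hka : k * t ^ n * k⁻¹ ∈ W₁ := by
    have e2 : k * w * t ^ n * (k * w)⁻¹ = k * (w * t ^ n * w⁻¹) * k⁻¹ := by group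
    rw [e2, hwa] at hga
    exact hga
  have hcm : k * t ^ n * k⁻¹ * (t ^ n)⁻¹ ∈ K ⊓ W₁ := by
    refine ⟨?_, W₁.mul_mem hka (W₁.inv_mem ha)⟩
    have e2 : k * t ^ n * k⁻¹ * (t ^ n)⁻¹ = k * (t ^ n * k⁻¹ * (t ^ n)⁻¹) := by group
    rw [e2]
    exact K.mul_mem hk (hK.conj_mem _ (K.inv_mem hk) _)
  rw [hKW₁, Subgroup.mem_bot, mul_inv_eq_one, mul_inv_eq_iff_eq_mul] at hcm
  have hkW₂ : k ∈ W₂ := by
    rw [← hC _ ha hane]
    exact ⟨hk, Subgroup.mem_centralizer_singleton_iff.mpr hcm⟩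
  exact hg (Subgroup.mul_mem _ (Subgroup.mem_sup_right hkW₂) (Subgroup.mem_sup_left hw))

theorem exists_exceptional (K : Subgroup L) [hK : K.Normal] (hKW₁ : K ⊓ W₁ = ⊥)
    (hKW₁' : K ⊔ W₁ = ⊤) (hW₁ : W₁ ≠ ⊥) (hW₁c : IsCyclic W₁)
    (hHall : Nat.Coprime (Nat.card W₁) W₁.index) (hW₂ : W₂ ≠ ⊥) (hW₂c : IsCyclic W₂)
    (hW₂K : W₂ ≤ K) (hC : ∀ x ∈ W₁, x ≠ 1 → K ⊓ Subgroup.centralizer ({x} : Set L) = W₂)
    (hodd : Odd (Nat.card ↥(W₁ ⊔ W₂))) :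
    ∃ (μ : (↥(W₁ ⊔ W₂) →* ℂˣ) → (L → ℂ)) (δ : (↥(W₁ ⊔ W₂) →* ℂˣ) → ℂ),
      Function.Injective μ ∧ (∀ ω, IsIrrCharacter L (μ ω)) ∧ (∀ ω, δ ω = 1 ∨ δ ω = -1) ∧
      (∀ ω ω' : ↥(W₁ ⊔ W₂) →* ℂˣ, (∀ w : ↥(W₁ ⊔ W₂), (w : L) ∈ W₂ → ω w = ω' w) → δ ω = δ ω' ∧
        indFun (W₁ ⊔ W₂) (fun w => (ω w : ℂ) - (ω' w : ℂ)) = δ ω • (μ ω - μ ω')) ∧
      (∀ ω, ∀ w : ↥(W₁ ⊔ W₂), (w : L) ∉ W₂ → μ ω w = δ ω * (ω w : ℂ)) ∧
      (∀ θ : L → ℂ, IsIrrCharacter L θ → (∀ ω, θ ≠ μ ω) →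
        ∀ w : ↥(W₁ ⊔ W₂), (w : L) ∉ W₂ → θ w = 0) ∧
      (∀ ω, ∃ n : ℤ, μ ω 1 - δ ω = n * (Nat.card W₁ : ℂ)) := by
  classical
  have hW : IsSelfNormalizingCyclic W₁ W₂ :=
    Agent.S1510.result K W₁ W₂ hKW₁ hKW₁' hW₁ hW₁c hHall hW₂ hW₂c hW₂K hC hodd
  haveI := commutative_of hW
  have hdisj := disj_of hW
  have hcomm := comm_of hW
  have hcop : (Nat.card W₁).Coprime (Nat.card W₂) := by
    have hidx : W₁.index = Nat.card K :=
      (Subgroup.isComplement'_of_disjoint_and_mul_eq_univ (disjoint_iff.mpr hKW₁) (by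
        rw [← Subgroup.normal_mul, hKW₁', Subgroup.coe_top])).index_eq_card
    exact hHall.coprime_dvd_right (hidx ▸ Subgroup.card_dvd_of_le hW₂K)
  haveI : Fintype ↥(W₁ ⊔ W₂) := Fintype.ofFinite _
  set T : Set L := (↑(W₁ ⊔ W₂) : Set L) \ (↑W₂ : Set L) with hT
  have hTI := ti_off_right K hKW₁ hKW₁' hW₁c hW hcop hC
  let oR : TrivR W₁ W₂ := ⟨1, fun _ _ => rfl⟩
  let lin : (↥(W₁ ⊔ W₂) →* ℂˣ) → (↥(W₁ ⊔ W₂) → ℂ) := fun ω w => (ω w : ℂ)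
  have linj : Function.Injective lin := fun a b h => MonoidHom.ext fun w => Units.ext (congrFun h w)
  have hex : ∀ ψ : TrivL W₁ W₂, ∃ ε : ℂ, (ε = 1 ∨ ε = -1) ∧ ∃ θ : TrivR W₁ W₂ → L → ℂ,
      (∀ i, IsIrrCharacter L (θ i)) ∧ Function.Injective θ ∧
      ∀ i j, indFun (W₁ ⊔ W₂) (lin (i.1 * ψ.1)) - indFun (W₁ ⊔ W₂) (lin (j.1 * ψ.1)) =
        ε • (θ i - θ j) := fun ψ =>
    exceptional_of_ti (W₁ ⊔ W₂) T hTI oR (fun i => lin (i.1 * ψ.1))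
      (fun i => isIrrCharacter_monoidHom (i.1 * ψ.1))
      (fun i j h => Subtype.ext (split_unique i.2 j.2 ψ.2 ψ.2 (linj h)).1)
      (fun i j x hx => by
        have hx2 : (x : L) ∈ W₂ := by
          by_contra h
          exact hx ⟨x.2, h⟩
        simp [lin, i.2 x hx2, j.2 x hx2])
      (fun i j => by simp [lin])
  choose ε hε θ hθirr hθinj hθind using hex
  choose pR pL hsplit using exists_split (W₁ := W₁) (W₂ := W₂) hdisj hcomm
  have hp : ∀ (φ : TrivR W₁ W₂) (ψ : TrivL W₁ W₂), pR (φ.1 * ψ.1) = φ ∧ pL (φ.1 * ψ.1) = ψ := by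
    intro φ ψ
    obtain ⟨e1, e2⟩ := split_unique φ.2 (pR (φ.1 * ψ.1)).2 ψ.2 (pL (φ.1 * ψ.1)).2 (hsplit _)
    exact ⟨Subtype.ext e1.symm, Subtype.ext e2.symm⟩
  -- inner products between differences
  have hdiff : ∀ (ω ω' η η' : ↥(W₁ ⊔ W₂) →* ℂˣ),
      (∀ w : ↥(W₁ ⊔ W₂), (w : L) ∈ W₂ → ω w = ω' w) →
      (∀ w : ↥(W₁ ⊔ W₂), (w : L) ∈ W₂ → η w = η' w) →
      classInner (indFun (W₁ ⊔ W₂) (lin ω - lin ω')) (indFun (W₁ ⊔ W₂) (lin η - lin η')) =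
        (if ω = η then 1 else 0) - (if ω = η' then 1 else 0) -
          ((if ω' = η then 1 else 0) - (if ω' = η' then 1 else 0)) := by
    intro ω ω' η η' h h'
    have hvan : ∀ {a b : ↥(W₁ ⊔ W₂) →* ℂˣ}, (∀ w : ↥(W₁ ⊔ W₂), (w : L) ∈ W₂ → a w = b w) →
        ∀ w : ↥(W₁ ⊔ W₂), (w : L) ∉ T → (lin a - lin b) w = 0 := by
      intro a b hab w hw
      have hw2 : (w : L) ∈ W₂ := by
        by_contra h
        exact hw ⟨w.2, h⟩
      simp [lin, hab w hw2]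
    rw [classInner_indFun_of_ti (W₁ ⊔ W₂) T hTI _ _
      (isClassFunction_of_isGeneralized (isGeneralized_sub
        (isGeneralized_of_isCharacter (isCharacter_monoidHom η))
        (isGeneralized_of_isCharacter (isCharacter_monoidHom η'))))
      (hvan h) (hvan h') (by simp [lin]), classInner_sub_left, classInner_sub_right, classInner_sub_right]
    simp only [lin, classInner_hom']
  -- the images of different columns differ
  obtain ⟨a0, b0, hab0⟩ : ∃ a b : TrivR W₁ W₂, a ≠ b := by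
    haveI : Nontrivial (TrivR W₁ W₂) := Finite.one_lt_card_iff_nontrivial.mp (by
      rw [(card_trivR hdisj hcomm).1]; exact (Subgroup.one_lt_card_iff_ne_bot W₁).mpr hW₁)
    exact exists_pair_ne _
  have hneq : ∀ ψ ψ' : TrivL W₁ W₂, ψ ≠ ψ' → ∀ a c, θ ψ a ≠ θ ψ' c := by
    intro ψ ψ' hψ a c e
    obtain ⟨b, hb⟩ : ∃ b : TrivR W₁ W₂, b ≠ a := by
      by_cases h : a0 = a
      · exact ⟨b0, fun h' => hab0 (h.trans h'.symm)⟩
      · exact ⟨a0, h⟩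
    obtain ⟨d, hd⟩ : ∃ d : TrivR W₁ W₂, d ≠ c := by
      by_cases h : a0 = c
      · exact ⟨b0, fun h' => hab0 (h.trans h'.symm)⟩
      · exact ⟨a0, h⟩
    have ne : ∀ x y : TrivR W₁ W₂, x.1 * ψ.1 ≠ y.1 * ψ'.1 := fun x y h =>
      hψ (Subtype.ext (split_unique x.2 y.2 ψ.2 ψ'.2 h).2)
    have h0 := hdiff (a.1 * ψ.1) (b.1 * ψ.1) (c.1 * ψ'.1) (d.1 * ψ'.1)
      (fun w hw => by simp [a.2 w hw, b.2 w hw]) (fun w hw => by simp [c.2 w hw, d.2 w hw])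
    rw [if_neg (ne a c), if_neg (ne a d), if_neg (ne b c), if_neg (ne b d), sub_zero, indFun_sub,
      indFun_sub, hθind ψ a b, hθind ψ' c d, classInner_smul_left, classInner_smul_right] at h0
    have hne0 : ∀ z : ℂ, (z = 1 ∨ z = -1) → z ≠ 0 := by rintro z (rfl | rfl) <;> norm_num
    rw [sub_zero, mul_eq_zero, mul_eq_zero, map_eq_zero] at h0
    have h1 := (h0.resolve_left (hne0 _ (hε ψ))).resolve_left (hne0 _ (hε ψ'))
    rw [classInner_sub_left, classInner_sub_right, classInner_sub_right,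
      classInner_irr (hθirr ψ a) (hθirr ψ' c), classInner_irr (hθirr ψ a) (hθirr ψ' d),
      classInner_irr (hθirr ψ b) (hθirr ψ' c), classInner_irr (hθirr ψ b) (hθirr ψ' d), if_pos e,
      if_neg (fun h => hd (hθinj ψ' (h.symm.trans e))),
      if_neg (fun h => hb (hθinj ψ (h.trans e.symm)))] at h1
    split_ifs at h1 <;> norm_num at h1
  set μ : (↥(W₁ ⊔ W₂) →* ℂˣ) → (L → ℂ) := fun ω => θ (pL ω) (pR ω) with hμ
  set δ : (↥(W₁ ⊔ W₂) →* ℂˣ) → ℂ := fun ω => ε (pL ω) with hδ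
  have hμirr : ∀ ω, IsIrrCharacter L (μ ω) := fun ω => hθirr _ _
  have hμinj : Function.Injective μ := by
    intro ω ω' h
    by_cases hc : pL ω = pL ω'
    · have h' : θ (pL ω') (pR ω) = θ (pL ω') (pR ω') := by rw [← hc]; exact h.trans (by rw [hμ, hc])
      rw [hsplit ω, hsplit ω', hc, hθinj _ h']
    · exact absurd h (hneq _ _ hc _ _)
  have hcol : ∀ ω ω' : ↥(W₁ ⊔ W₂) →* ℂˣ, (∀ w : ↥(W₁ ⊔ W₂), (w : L) ∈ W₂ → ω w = ω' w) →
      δ ω = δ ω' ∧ indFun (W₁ ⊔ W₂) (lin ω - lin ω') = δ ω • (μ ω - μ ω') := by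
    intro ω ω' h
    have hc : pL ω = pL ω' := by
      refine Subtype.ext (hom_ext_of_agree (fun w hw => by rw [(pL ω).2 w hw, (pL ω').2 w hw]) fun w hw => ?_)
      have := h w hw
      rw [hsplit ω, hsplit ω', MonoidHom.mul_apply, MonoidHom.mul_apply, (pR ω).2 w hw,
        (pR ω').2 w hw, one_mul, one_mul] at this
      exact this
    refine ⟨by simp [hδ, hc], ?_⟩
    have := hθind (pL ω) (pR ω) (pR ω')
    rw [← hsplit ω, hc, ← hsplit ω', ← indFun_sub] at this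
    simp only [hμ, hδ, hc]
    exact this
  have hperp : ∀ (θ₀ : L → ℂ), IsClassFunction L θ₀ → ∀ (c : ℂ) (ω₀ : ↥(W₁ ⊔ W₂) →* ℂˣ),
      (∀ ω ω' : ↥(W₁ ⊔ W₂) →* ℂˣ, (∀ w : ↥(W₁ ⊔ W₂), (w : L) ∈ W₂ → ω w = ω' w) →
        classInner θ₀ (δ ω • (μ ω - μ ω')) =
          c * ((if ω₀ = ω then 1 else 0) - (if ω₀ = ω' then 1 else 0))) →
      ∀ w : ↥(W₁ ⊔ W₂), (w : L) ∉ W₂ → θ₀ w = c * (ω₀ w : ℂ) := by
    intro θ₀ hθ₀ c ω₀ h w hw
    have := eq_zero_of_orth_columns hdisj hcomm ((fun v : ↥(W₁ ⊔ W₂) => θ₀ v) - c • lin ω₀)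
      (fun φ ψ => ?_) w hw
    · simpa [lin, sub_eq_zero] using this
    · have hag : ∀ v : ↥(W₁ ⊔ W₂), (v : L) ∈ W₂ → (φ.1 * ψ.1) v = ψ.1 v := fun v hv => by
        simp [φ.2 v hv]
      show classInner _ (lin (φ.1 * ψ.1)) = classInner _ (lin ψ.1)
      rw [← sub_eq_zero, ← classInner_sub_right, classInner_sub_left,
        ← frobenius_reciprocity' _ _ hθ₀, (hcol _ _ hag).2, h _ _ hag, classInner_smul_left,
        classInner_sub_right]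
      simp only [lin, classInner_hom']
      ring
  have hval : ∀ ω, ∀ w : ↥(W₁ ⊔ W₂), (w : L) ∉ W₂ → μ ω w = δ ω * (ω w : ℂ) := by
    intro ω₀
    refine hperp (μ ω₀) (isClassFunction_of_isCharacter (isCharacter_of_isIrr (hμirr ω₀))) (δ ω₀) ω₀
      fun ω ω' h => ?_
    rw [classInner_smul_right, classInner_sub_right, classInner_irr (hμirr _) (hμirr _),
      classInner_irr (hμirr _) (hμirr _)]
    have hconj : conj (δ ω) = δ ω := by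
      rcases hε (pL ω) with h | h <;> simp [hδ, h]
    rw [hconj]
    simp only [hμinj.eq_iff]
    split_ifs with h1 h2 h2
    · subst h1; ring
    · subst h1; ring
    · subst h2; rw [(hcol ω _ h).1]
    · ring
  refine ⟨μ, δ, hμinj, hμirr, fun ω => hε _, fun ω ω' h => ⟨(hcol ω ω' h).1, (hcol ω ω' h).2⟩, hval,
    fun θ₀ hθ₀ hne w hw => ?_, fun ω => ?_⟩
  · have := hperp θ₀ (isClassFunction_of_isCharacter (isCharacter_of_isIrr hθ₀)) 0 1 (fun ω ω' _ => by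
      rw [classInner_smul_right, classInner_sub_right, classInner_irr_ne hθ₀ (hμirr _) (hne _),
        classInner_irr_ne hθ₀ (hμirr _) (hne _)]
      ring) w hw
    simpa using this
  · haveI : Fintype W₁ := Fintype.ofFinite _
    set ι : W₁ →* ↥(W₁ ⊔ W₂) := Subgroup.inclusion le_sup_left
    have hδgen : IsGeneralizedCharacter W₁ (fun x => δ ω * (ω (ι x) : ℂ)) := by
      have h := isGeneralized_of_isCharacter (isCharacter_monoidHom (ω.comp ι))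
      rcases hε (pL ω) with e | e
      · have e' : (fun x : W₁ => δ ω * (ω (ι x) : ℂ)) = fun x => ((ω.comp ι) x : ℂ) := by
          funext x; simp [hδ, e]
        rwa [e']
      · have e' : (fun x : W₁ => δ ω * (ω (ι x) : ℂ)) = -fun x => ((ω.comp ι) x : ℂ) := by
          funext x; simp [hδ, e]
        rw [e']; exact isGeneralized_neg h
    obtain ⟨n, hn⟩ := exists_int_classInner
      (isGeneralized_sub (isGeneralized_restrict W₁ (isGeneralized_of_isIrr (hμirr ω))) hδgen)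
      isGeneralized_one
    refine ⟨n, ?_⟩
    rw [classInner, Finset.sum_eq_single (1 : W₁) (fun x _ hx => ?_) (by simp)] at hn
    · have hN : (Nat.card W₁ : ℂ) ≠ 0 := Nat.cast_ne_zero.mpr Nat.card_pos.ne'
      simp only [Pi.sub_apply, OneMemClass.coe_one, map_one, Units.val_one, mul_one] at hn
      rw [inv_mul_eq_iff_eq_mul₀ hN] at hn
      rw [mul_comm, ← hn]
    · have hx2 : ((ι x : ↥(W₁ ⊔ W₂)) : L) ∉ W₂ := fun h => hx (Subtype.ext (by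
        have h' : (x : L) ∈ W₁ ⊓ W₂ := ⟨x.2, h⟩
        rwa [hdisj, Subgroup.mem_bot] at h'))
      have := hval ω (ι x) hx2
      simp only [Pi.sub_apply]
      rw [show μ ω (x : L) = δ ω * (ω (ι x) : ℂ) from this, sub_self, zero_mul]

end CfsgLib.Char.CyclicTI
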