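import Cfsg.Agent.Lib.Char.Galois
import Cfsg.Agent.Lib.Char.Table

/-!
# The field generated by the values at one element

Two sets of algebraic numbers generate the same field iff they are fixed by the same embeddings.
An embedding fixes every character value at `g` iff its exponent `k` has `g ^ k` conjugate to `g`.
-/

set_option autoImplicit false
set_option linter.unusedSectionVars false

namespace CfsgLib.Char.ValueField

open Cfsg Polynomial
open scoped CfsgLib.Char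

/-- The embedding fixes all elements of `S`. -/
def Fixes (ψ : QBar →ₐ[ℚ] ℂ) (S : Set ℂ) : Prop := ∀ z : QBar, (z : ℂ) ∈ S → ψ z = z

theorem mem_adjoin_of_fixed {S : Set ℂ} (hS : ∀ z ∈ S, z ∈ QBar) (z : QBar)
    (h : ∀ ψ : QBar →ₐ[ℚ] ℂ, Fixes ψ S → ψ z = z) :
    (z : ℂ) ∈ IntermediateField.adjoin ℚ S := by
  set S' : Set QBar := Subtype.val ⁻¹' S with hS'
  set F := IntermediateField.adjoin ℚ S' with hF
  have hint : IsIntegral F z :=
    ((Algebra.IsAlgebraic.isAlgebraic (R := ℚ) z).isIntegral).tower_top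
  have : Algebra.IsAlgebraic F QBar := Algebra.IsAlgebraic.tower_top (K := ℚ) F
  have hroots : (minpoly F z).rootSet ℂ ⊆ {(z : ℂ)} := by
    rw [← Algebra.IsAlgebraic.range_eval_eq_rootSet_minpoly]
    rintro _ ⟨ψ, rfl⟩
    refine h (ψ.restrictScalars ℚ) fun w hw => ?_
    exact ψ.commutes ⟨w, IntermediateField.subset_adjoin ℚ S' hw⟩
  have hcard := Polynomial.card_rootSet_eq_natDegree (K := ℂ) (minpoly.irreducible hint).separable
    (IsAlgClosed.splits _)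
  have hle : Fintype.card ((minpoly F z).rootSet ℂ) ≤ 1 := by
    have := Set.card_le_card hroots
    simpa using this
  have hdeg : (minpoly F z).natDegree = 1 := by
    have := minpoly.natDegree_pos hint
    omega
  obtain ⟨q, hq⟩ := minpoly.natDegree_eq_one_iff.mp hdeg
  have hm : (z : ℂ) ∈ F.map QBar.val := ⟨z, by rw [← hq]; exact q.2, rfl⟩
  have hm' : (z : ℂ) ∈ IntermediateField.adjoin ℚ (QBar.val '' S') :=
    (IntermediateField.adjoin_map ℚ S' QBar.val).le hm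
  refine IntermediateField.adjoin.mono ℚ _ _ ?_ hm'
  rintro _ ⟨w, hw, rfl⟩
  exact hw

theorem fixes_adjoin {S : Set ℂ} (hS : ∀ z ∈ S, z ∈ QBar) {ψ : QBar →ₐ[ℚ] ℂ} (h : Fixes ψ S) :
    Fixes ψ (IntermediateField.adjoin ℚ S : Set ℂ) := by
  intro z hz
  have hle : IntermediateField.adjoin ℚ S ≤ QBar := IntermediateField.adjoin_le_iff.mpr hS
  have heq : ψ.comp (IntermediateField.inclusion hle) = (IntermediateField.adjoin ℚ S).val :=
    IntermediateField.adjoin_algHom_ext ℚ fun w hw => h _ hw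
  exact DFunLike.congr_fun heq ⟨z, hz⟩

theorem fixes_iff_of_adjoin_eq {S T : Set ℂ} (hS : ∀ z ∈ S, z ∈ QBar) (hT : ∀ z ∈ T, z ∈ QBar)
    (h : IntermediateField.adjoin ℚ S = IntermediateField.adjoin ℚ T) (ψ : QBar →ₐ[ℚ] ℂ) :
    Fixes ψ S ↔ Fixes ψ T := by
  constructor <;> intro hf z hz
  · exact fixes_adjoin hS hf z (h ▸ IntermediateField.subset_adjoin ℚ T hz)
  · exact fixes_adjoin hT hf z (h.symm ▸ IntermediateField.subset_adjoin ℚ S hz)

theorem adjoin_eq_of_fixes_iff {S T : Set ℂ} (hS : ∀ z ∈ S, z ∈ QBar) (hT : ∀ z ∈ T, z ∈ QBar)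
    (h : ∀ ψ : QBar →ₐ[ℚ] ℂ, Fixes ψ S ↔ Fixes ψ T) :
    IntermediateField.adjoin ℚ S = IntermediateField.adjoin ℚ T := by
  refine le_antisymm (IntermediateField.adjoin_le_iff.mpr fun z hz => ?_)
    (IntermediateField.adjoin_le_iff.mpr fun z hz => ?_)
  · exact mem_adjoin_of_fixed hT ⟨z, hS z hz⟩ fun ψ hψ => (h ψ).mpr hψ _ hz
  · exact mem_adjoin_of_fixed hS ⟨z, hT z hz⟩ fun ψ hψ => (h ψ).mp hψ _ hz

variable {G : Type*} [Group G] [Finite G]

/-- The character values at `g`. -/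
def values (g : G) : Set ℂ := {z : ℂ | ∃ χ : IrrCharacter G, (χ : G → ℂ) g = z}

theorem values_mem (g : G) : ∀ z ∈ values g, z ∈ QBar := by
  rintro _ ⟨χ, rfl⟩
  exact value_mem (isCharacter_of_isIrr χ.2) g

variable (G) in
/-- `ψ` raises the roots of unity of order dividing the group order to the power `k`. -/
structure HasExponent (ψ : QBar →ₐ[ℚ] ℂ) (k : ℕ) : Prop where
  coprime : k.Coprime (Nat.card G)
  roots : ∀ z : QBar, (z : ℂ) ^ Nat.card G = 1 → ψ z = (z : ℂ) ^ k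
  values : ∀ {χ : G → ℂ} (hχ : IsCharacter G χ) (g : G), ψ (value hχ g) = χ (g ^ k)

theorem hasExponent_of_root {ζ : QBar} (hζ : IsPrimitiveRoot (ζ : ℂ) (Nat.card G))
    {ψ : QBar →ₐ[ℚ] ℂ} {k : ℕ} (hk : k.Coprime (Nat.card G)) (hψ : ψ ζ = (ζ : ℂ) ^ k) :
    HasExponent G ψ k := by
  refine ⟨hk, fun z hz => ?_, fun hχ g => map_value_of_pow hζ ψ hψ hχ g⟩
  haveI : NeZero (Nat.card G) := ⟨Nat.card_pos.ne'⟩
  obtain ⟨i, -, hi⟩ := hζ.eq_pow_of_pow_eq_one hz
  have : z = ζ ^ i := Subtype.ext (by push_cast; exact hi.symm)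
  rw [this, map_pow]
  push_cast
  rw [hψ, ← pow_mul, ← pow_mul, mul_comm]

variable (G) in
theorem exists_hasExponent (ψ : QBar →ₐ[ℚ] ℂ) : ∃ k : ℕ, HasExponent G ψ k := by
  obtain ⟨ζ, hζ⟩ := exists_primitiveRoot_qbar (Nat.card G) Nat.card_pos.ne'
  have h2 : IsPrimitiveRoot ζ (Nat.card G) :=
    IsPrimitiveRoot.of_map_of_injective (f := algebraMap QBar ℂ) hζ (algebraMap QBar ℂ).injective
  have h3 : IsPrimitiveRoot (ψ ζ) (Nat.card G) := h2.map_of_injective ψ.injective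
  haveI : NeZero (Nat.card G) := ⟨Nat.card_pos.ne'⟩
  obtain ⟨k, _, hk, hke⟩ := (hζ.isPrimitiveRoot_iff).mp h3
  exact ⟨k, hasExponent_of_root hζ hk hke.symm⟩

theorem exists_embedding_of_coprime {k : ℕ} (hk : k.Coprime (Nat.card G)) :
    ∃ ψ : QBar →ₐ[ℚ] ℂ, HasExponent G ψ k := by
  obtain ⟨ζ, hζ⟩ := exists_primitiveRoot_qbar (Nat.card G) Nat.card_pos.ne'
  have hmem : (ζ : ℂ) ^ k ∈ (minpoly ℚ ζ).rootSet ℂ := by
    have hmin : minpoly ℚ ζ = minpoly ℚ (ζ : ℂ) :=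
      (minpoly.algebraMap_eq (algebraMap QBar ℂ).injective ζ).symm
    rw [hmin, Polynomial.mem_rootSet]
    refine ⟨minpoly.ne_zero ((hζ.isIntegral Nat.card_pos).tower_top), ?_⟩
    have h1 := Polynomial.cyclotomic_eq_minpoly_rat hζ Nat.card_pos
    haveI : NeZero ((Nat.card G : ℕ) : ℂ) := ⟨Nat.cast_ne_zero.mpr Nat.card_pos.ne'⟩
    have h2 := (Polynomial.isRoot_cyclotomic_iff).mpr (hζ.pow_of_coprime k hk)
    rw [← h1, Polynomial.aeval_def, ← Polynomial.eval_map, Polynomial.map_cyclotomic]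
    exact h2
  rw [← Algebra.IsAlgebraic.range_eval_eq_rootSet_minpoly] at hmem
  obtain ⟨ψ, hψ⟩ := hmem
  exact ⟨ψ, hasExponent_of_root hζ hk hψ⟩

/-- An embedding fixes the values at `g` iff its exponent sends `g` to a conjugate. -/
theorem fixes_values_iff {ψ : QBar →ₐ[ℚ] ℂ} {k : ℕ} (h : HasExponent G ψ k) (g : G) :
    Fixes ψ (values g) ↔ IsConj (g ^ k) g := by
  rw [isConj_iff_irr_agree]
  constructor
  · intro hf χ
    rw [← h.values (isCharacter_of_isIrr χ.2) g]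
    exact hf (value (isCharacter_of_isIrr χ.2) g) ⟨χ, rfl⟩
  · rintro hc z ⟨χ, hχ⟩
    have e : z = value (isCharacter_of_isIrr χ.2) g := Subtype.ext hχ.symm
    rw [e, h.values, hc χ]
    rfl

/-- An embedding fixes `ζ + ζ ^ r` iff its exponent permutes the two roots. -/
theorem fixes_pair_iff {N : ℕ} [NeZero N] {ζ : ℂ} (hζ : IsPrimitiveRoot ζ N)
    (hN : N ∣ Nat.card G) {r : ℕ} (hrr : ζ ^ (r * r) = ζ)
    {ψ : QBar →ₐ[ℚ] ℂ} {k : ℕ} (h : HasExponent G ψ k) (hkr : ζ ^ (k * (r + 1)) = ζ ^ (r + 1)) :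
    Fixes ψ {ζ + ζ ^ r} ↔ ζ ^ k = ζ ∨ ζ ^ k = ζ ^ r := by
  have hQ : ζ ∈ QBar := mem_qbar_of_isIntegral (hζ.isIntegral (NeZero.pos N))
  have h1 : ζ ^ Nat.card G = 1 := by
    obtain ⟨c, hc⟩ := hN; rw [hc, pow_mul, hζ.pow_eq_one, one_pow]
  have hval : ψ ((⟨ζ, hQ⟩ : QBar) + ⟨ζ, hQ⟩ ^ r) = ζ ^ k + ζ ^ (k * r) := by
    rw [map_add, map_pow, h.roots ⟨ζ, hQ⟩ h1, pow_mul]
  constructor
  · intro hf
    have h2 := hf ((⟨ζ, hQ⟩ : QBar) + ⟨ζ, hQ⟩ ^ r) (by simp)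
    rw [hval] at h2
    simp only [AddMemClass.coe_add, SubmonoidClass.coe_pow] at h2
    have h3 : (ζ ^ k - ζ) * (ζ ^ k - ζ ^ r) = 0 := by
      rw [mul_add_one k r, pow_add, pow_succ] at hkr
      linear_combination (ζ ^ k) * h2 - hkr
    rcases mul_eq_zero.mp h3 with h4 | h4
    · exact Or.inl (sub_eq_zero.mp h4)
    · exact Or.inr (sub_eq_zero.mp h4)
  · intro hor z hz
    have e : z = (⟨ζ, hQ⟩ : QBar) + ⟨ζ, hQ⟩ ^ r := Subtype.ext (by simpa using hz)
    rw [e, hval]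
    simp only [AddMemClass.coe_add, SubmonoidClass.coe_pow]
    rcases hor with h4 | h4
    · rw [pow_mul, h4]
    · rw [pow_mul, h4, ← pow_mul, hrr, add_comm]

end CfsgLib.Char.ValueField
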