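import Cfsg.Agent.Lib.Char.DegreeThreeSixty
import Cfsg.Agent.Lib.Char.Kernel
import Cfsg.Agent.Lib.Char.Table
import Cfsg.Agent.Lib.Char.AltSquare
import Cfsg.Agent.Lib.Blocks.Inflate

/-!
# An element at which every irreducible character is zero or four less than its degree

If `χ u = 0` or `χ 1 - χ u = 4` for every non-principal irreducible `χ`, then `G` has a normal
subgroup `K` of index 60 such that all the elements outside `K` with square in `K` are conjugate
to `u`, whose centraliser has order 4.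
-/

set_option autoImplicit false
set_option linter.unusedSectionVars false
set_option linter.style.haveILetI false

namespace CfsgLib.Char.MinusFour

open Cfsg Module
open scoped ComplexConjugate CfsgLib.Char

variable {G : Type*} [Group G] [Fintype G]

/-- The principal character. -/
noncomputable def pr : IrrCharacter G := ⟨fun _ => 1, isIrrCharacter_one⟩

open CfsgLib.FSCount in
/-- The symmetric square of a character is a character. -/
theorem isCharacter_symmSquare {χ : G → ℂ} (hχ : IsCharacter G χ) :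
    IsCharacter G fun g => (χ g * χ g + χ (g * g)) / 2 := by
  obtain ⟨n, ρ, rfl⟩ := hχ
  set σ := congr ρ with hσ
  set τ := flipMap n with hτ
  have hτσ : ∀ g, τ * σ g = σ g * τ := by
    intro g
    ext1 X
    show (LinearMap.toMatrix' (ρ g) * X * (LinearMap.toMatrix' (ρ g)).transpose).transpose =
      LinearMap.toMatrix' (ρ g) * X.transpose * (LinearMap.toMatrix' (ρ g)).transpose
    simp [Matrix.transpose_mul, Matrix.mul_assoc]
  have hττ : τ * τ = 1 := by ext1 X; rfl
  set Q : Module.End ℂ (Matrix (Fin n) (Fin n) ℂ) := (2 : ℂ)⁻¹ • (1 + τ) with hQ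
  have hQQ : Q * Q = Q := by
    show ((2 : ℂ)⁻¹ • (1 + τ)) * ((2 : ℂ)⁻¹ • (1 + τ)) = _
    rw [smul_mul_assoc, mul_smul_comm, smul_smul, add_mul, one_mul, mul_add, mul_one, hττ]
    module
  have hQσ : ∀ g, σ g * Q = Q * σ g := fun g => by
    rw [hQ, mul_smul_comm, smul_mul_assoc, mul_add, add_mul, mul_one, one_mul, hτσ]
  let W : Subrepresentation σ :=
    { toSubmodule := LinearMap.range Q
      apply_mem_toSubmodule := by
        rintro g _ ⟨X, rfl⟩
        exact ⟨σ g X, (LinearMap.congr_fun (hQσ g) X).symm⟩ }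
  have hc := isCharacter_character W.toRepresentation
  have he : W.toRepresentation.character =
      fun g => (ρ.character g * ρ.character g + ρ.character (g * g)) / 2 := by
    funext g
    have hmem : ∀ X, (σ g * Q) X ∈ W.toSubmodule :=
      fun X => ⟨σ g X, (LinearMap.congr_fun (hQσ g) X).symm⟩
    have h1 : W.toRepresentation g = (σ g * Q).restrict fun X _ => hmem X := by
      refine LinearMap.ext fun X => Subtype.ext ?_
      obtain ⟨Y, hY⟩ := X.2
      show σ g (X : Matrix (Fin n) (Fin n) ℂ) = σ g (Q (X : Matrix (Fin n) (Fin n) ℂ))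
      rw [← hY, ← Module.End.mul_apply Q Q, hQQ]
    show LinearMap.trace ℂ _ (W.toRepresentation g) = _
    rw [h1, LinearMap.trace_restrict_eq_of_forall_mem _ _ hmem, hQ, mul_smul_comm, map_smul, mul_add,
      mul_one, map_add, ← hτσ, hσ, trace_congr, hτ, trace_flip_congr, smul_eq_mul]
    ring
  exact he ▸ hc

/-- Removing a constituent. -/
theorem isCharacter_sub_constituent {φ : G → ℂ} (hφ : IsCharacter G φ) {ξ : IrrCharacter G}
    (h : classInner φ (ξ : G → ℂ) ≠ 0) : IsCharacter G (φ - (ξ : G → ℂ)) := by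
  classical
  have hcf : IsClassFunction G (φ - (ξ : G → ℂ)) := fun a b => by
    simp only [Pi.sub_apply, isClassFunction_of_isCharacter hφ a b, isClassFunction_irr ξ a b]
  rw [isCharacter_iff_classInner hcf]
  intro ζ
  obtain ⟨n, hn⟩ := exists_nat_classInner hφ (isCharacter_of_isIrr ζ.2)
  rw [classInner_sub_left, classInner_coe, hn]
  by_cases e : ξ = ζ
  · subst e
    refine ⟨n - 1, ?_⟩
    have : n ≠ 0 := fun h0 => h (by rw [hn, h0, Nat.cast_zero])
    rw [if_pos rfl, Nat.cast_sub (Nat.one_le_iff_ne_zero.mpr this), Nat.cast_one]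
  · exact ⟨n, by rw [if_neg e, sub_zero]⟩

theorem eq_zero_of_degree_zero {φ : G → ℂ} (hφ : IsCharacter G φ) (h : φ 1 = 0) : φ = 0 := by
  obtain ⟨n, ρ, rfl⟩ := hφ
  rw [Representation.char_one, Module.finrank_fin_fun, Nat.cast_eq_zero] at h
  subst h
  funext g
  show LinearMap.trace ℂ (Fin 0 → ℂ) (ρ g) = 0
  rw [Subsingleton.elim (ρ g) 0, map_zero]

/-- Characters with a common constituent are not orthogonal. -/
theorem classInner_ne_zero_of_common {φ ψ : G → ℂ} (hφ : IsCharacter G φ) (hψ : IsCharacter G ψ)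
    {ξ : IrrCharacter G} (h₁ : classInner φ (ξ : G → ℂ) ≠ 0) (h₂ : classInner ψ (ξ : G → ℂ) ≠ 0) :
    classInner φ ψ ≠ 0 := by
  classical
  obtain ⟨a, ha⟩ := exists_multiplicities hφ
  obtain ⟨b, hb⟩ := exists_multiplicities hψ
  have e1 : (a ξ : ℂ) ≠ 0 := by rwa [ha, classInner_sum_smul_irr] at h₁
  have e2 : (b ξ : ℂ) ≠ 0 := by rwa [hb, classInner_sum_smul_irr] at h₂
  rw [ha, hb, classInner_sum_smul_sum_smul]
  simp only [Complex.conj_natCast]
  rw [← Finset.sum_congr rfl fun ζ _ => Nat.cast_mul (a ζ) (b ζ), ← Nat.cast_sum, Nat.cast_ne_zero]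
  intro h0
  have := (Finset.sum_eq_zero_iff.mp h0) ξ (Finset.mem_univ ξ)
  rcases Nat.mul_eq_zero.mp this with h | h
  · exact e1 (by rw [h, Nat.cast_zero])
  · exact e2 (by rw [h, Nat.cast_zero])

/-- A constituent of degree one less than the degree leaves a principal constituent. -/
theorem principal_of_pred {φ : G → ℂ} (hφ : IsCharacter G φ)
    (hlin : ∀ χ : IrrCharacter G, (χ : G → ℂ) 1 = 1 → χ = pr) {ξ : IrrCharacter G}
    (h : classInner φ (ξ : G → ℂ) ≠ 0) {n : ℕ} (hn : (ξ : G → ℂ) 1 = n) (hφn : φ 1 = (n + 1 : ℕ)) :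
    classInner φ (fun _ => (1 : ℂ)) ≠ 0 := by
  classical
  have hr := isCharacter_sub_constituent hφ h
  have h1 : (φ - (ξ : G → ℂ)) 1 = 1 := by
    rw [Pi.sub_apply, hφn, hn]; push_cast; ring
  have he : φ - (ξ : G → ℂ) = fun _ => (1 : ℂ) :=
    congrArg Subtype.val (hlin ⟨_, isIrrCharacter_of_degree_one hr h1⟩ h1)
  obtain ⟨m, hm⟩ := exists_nat_classInner (isCharacter_of_isIrr ξ.2) (isCharacter_one (G := G))
  rw [show φ = (ξ : G → ℂ) + fun _ => (1 : ℂ) by rw [← he]; abel, classInner_add_left, hm,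
    classInner_irr_self isIrrCharacter_one, ← Nat.cast_one, ← Nat.cast_add, Nat.cast_ne_zero]
  omega

/-- An irreducible character trivial on `K` comes from the quotient. -/
theorem exists_descend (K : Subgroup G) [K.Normal] (χ : IrrCharacter G)
    (h : ∀ k ∈ K, (χ : G → ℂ) k = (χ : G → ℂ) 1) :
    ∃ η : IrrCharacter (G ⧸ K), (χ : G → ℂ) = fun g : G => (η : G ⧸ K → ℂ) (g : G ⧸ K) := by
  obtain ⟨n, ρ, hρ, e⟩ := χ.2
  have hK : K ≤ MonoidHom.ker (ρ : G →* Module.End ℂ (Fin n → ℂ)) := fun k hk => by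
    rw [MonoidHom.mem_ker]
    refine (character_eq_finrank_iff ρ k).mp ?_
    rw [← Representation.char_one ρ, e]
    exact h k hk
  let ρ' : Representation ℂ (G ⧸ K) (Fin n → ℂ) := QuotientGroup.lift K ρ hK
  have h' : ρ'.comp (QuotientGroup.mk' K) = ρ := MonoidHom.ext fun g => rfl
  have hirr : ρ'.IsIrreducible :=
    (CfsgLib.Blocks.isIrreducible_comp_of_surjective ρ' _ (QuotientGroup.mk'_surjective K)).mp
      (h'.symm ▸ hρ)
  exact ⟨⟨ρ'.character, n, ρ', hirr, rfl⟩, by rw [← e]; rfl⟩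

/-- The hypothesis. -/
structure Hyp (u : G) : Prop where
  ne_one : u ≠ 1
  values : ∀ χ : IrrCharacter G, χ ≠ pr →
    ((χ : G → ℂ) 1 - (χ : G → ℂ) u = 4 ∨ (χ : G → ℂ) u = 0)

variable {u : G} (hH : Hyp u)
include hH

theorem value_ne_degree {χ : IrrCharacter G} (hχ : χ ≠ pr) : (χ : G → ℂ) u ≠ (χ : G → ℂ) 1 := by
  intro h
  rcases hH.values χ hχ with h' | h'
  · rw [h, sub_self] at h'; norm_num at h'
  · exact irr_degree_ne_zero χ.2 (h ▸ h')

theorem notMem_of_normal (N : Subgroup G) [N.Normal] (hN : N ≠ ⊤) : u ∉ N := by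
  classical
  intro hu
  obtain ⟨q, hq⟩ : ∃ q : G ⧸ N, q ≠ 1 := by
    by_contra hno
    push Not at hno
    exact hN (eq_top_iff.mpr fun g _ => (QuotientGroup.eq_one_iff g).mp (hno g))
  obtain ⟨η, hη⟩ : ∃ η : IrrCharacter (G ⧸ N), (η : G ⧸ N → ℂ) q ≠ (η : G ⧸ N → ℂ) 1 := by
    by_contra hno
    push Not at hno
    exact hq (eq_one_of_forall_irr hno)
  obtain ⟨g, rfl⟩ := QuotientGroup.mk'_surjective N q
  let χ := CfsgLib.Blocks.inflate (QuotientGroup.mk' N) (QuotientGroup.mk'_surjective N) η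
  refine value_ne_degree hH (χ := χ) (fun he => hη ?_) ?_
  · have e : ∀ x, (η : G ⧸ N → ℂ) (QuotientGroup.mk' N x) = 1 := fun x =>
      congrFun (congrArg Subtype.val he) x
    rw [e g, ← map_one (QuotientGroup.mk' N), e 1]
  · show (η : G ⧸ N → ℂ) (QuotientGroup.mk' N u) = (η : G ⧸ N → ℂ) (QuotientGroup.mk' N 1)
    rw [map_one, show QuotientGroup.mk' N u = 1 from (QuotientGroup.eq_one_iff u).mpr hu]

theorem linear_eq_pr (χ : IrrCharacter G) (h1 : (χ : G → ℂ) 1 = 1) : χ = pr := by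
  by_contra hne
  obtain ⟨n, ρ, hρ, e⟩ := χ.2
  have hn : n = 1 := by
    rw [← e, Representation.char_one, Module.finrank_fin_fun] at h1
    exact_mod_cast h1
  have hb := norm_character_le ρ u
  rw [e, Module.finrank_fin_fun, hn] at hb
  have hlin := linear_mul (isCharacter_of_isIrr χ.2) h1
  rcases hH.values χ hne with h | h
  · rw [h1] at h
    rw [show (χ : G → ℂ) u = -3 by linear_combination -h] at hb
    norm_num at hb
  · have := hlin u u⁻¹
    rw [mul_inv_cancel, h1, h, zero_mul] at this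
    exact one_ne_zero this

theorem perfect : commutator G = ⊤ := by
  have h := card_linear (G := G)
  have hsub : Subsingleton {χ : IrrCharacter G // (χ : G → ℂ) 1 = 1} :=
    ⟨fun a b => Subtype.ext ((linear_eq_pr hH a.1 a.2).trans (linear_eq_pr hH b.1 b.2).symm)⟩
  refine Subgroup.index_eq_one.mp ?_
  rw [← h]
  exact le_antisymm (Finite.card_le_one_iff_subsingleton.mpr hsub)
    (Nat.one_le_iff_ne_zero.mpr (h ▸ Subgroup.index_ne_zero_of_finite))

theorem norm_value_ne {χ : IrrCharacter G} (hχ : χ ≠ pr) {f : ℕ} (hf : (χ : G → ℂ) 1 = f) :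
    ‖(χ : G → ℂ) u‖ ≠ f := by
  intro h
  obtain ⟨n, ρ, hρ, e⟩ := χ.2
  have hn : n = f := by
    rw [← e, Representation.char_one, Module.finrank_fin_fun] at hf
    exact_mod_cast hf
  obtain ⟨ω, hω⟩ := (norm_character_eq_iff ρ u).mp (by rw [e, h, Module.finrank_fin_fun, hn])
  obtain ⟨K, hK, hmem, -⟩ := exists_kernel (isCharacter_of_isIrr χ.2)
  haveI := hK
  have hmem' : ∀ g, ρ g = 1 → g ∈ K := fun g hg => by
    rw [hmem, ← e]
    exact ((character_eq_finrank_iff ρ g).mpr hg).trans (Representation.char_one ρ).symm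
  have hcent : QuotientGroup.mk' K u ∈ Subgroup.center (G ⧸ K) := by
    rw [Subgroup.mem_center_iff]
    intro q
    obtain ⟨g, rfl⟩ := QuotientGroup.mk'_surjective K q
    rw [← map_mul, ← map_mul, QuotientGroup.mk'_eq_mk']
    refine ⟨(g * u)⁻¹ * (u * g), hmem' _ ?_, by group⟩
    have hcomm : ρ (u * g) = ρ (g * u) := by
      rw [map_mul, map_mul, hω]
      ext v
      simp [map_smul]
    rw [map_mul, hcomm, ← map_mul, inv_mul_cancel, map_one]
  have hN : (Subgroup.center (G ⧸ K)).comap (QuotientGroup.mk' K) = ⊤ :=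
    not_not.mp fun hne => notMem_of_normal hH _ hne (Subgroup.mem_comap.mpr hcent)
  have hle : commutator G ≤ K := by
    rw [commutator_def, Subgroup.commutator_le]
    intro a _ b _
    rw [← QuotientGroup.eq_one_iff, ← QuotientGroup.mk'_apply, map_commutatorElement,
      commutatorElement_eq_one_iff_mul_comm]
    have := Subgroup.mem_center_iff.mp (Subgroup.mem_comap.mp (hN ▸ Subgroup.mem_top a))
    exact (this _).symm
  rw [perfect hH, top_le_iff] at hle
  exact value_ne_degree hH hχ ((hmem u).mp (hle ▸ Subgroup.mem_top u))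

/-- The possible values. -/
theorem cases {χ : IrrCharacter G} (hχ : χ ≠ pr) :
    ∃ f : ℕ, 2 ≤ f ∧ (χ : G → ℂ) 1 = f ∧
      ((χ : G → ℂ) u = 0 ∨ (f = 3 ∧ (χ : G → ℂ) u = -1) ∨
        (5 ≤ f ∧ (χ : G → ℂ) u = ((f - 4 : ℕ) : ℂ))) := by
  obtain ⟨f, hf0, hf⟩ := exists_nat_degree_irr χ.2
  have hf2 : 2 ≤ f := by
    by_contra hlt
    exact hχ (linear_eq_pr hH χ (by rw [hf, show f = 1 by omega, Nat.cast_one]))
  refine ⟨f, hf2, hf, ?_⟩
  rcases hH.values χ hχ with h | h
  · rw [hf] at h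
    have hv : (χ : G → ℂ) u = (f : ℂ) - 4 := by linear_combination -h
    rcases (by omega : f = 2 ∨ f = 3 ∨ f = 4 ∨ 5 ≤ f) with e | e | e | e
    · exfalso
      refine norm_value_ne hH hχ hf ?_
      rw [hv, e]; norm_num
    · exact Or.inr (Or.inl ⟨e, by rw [hv, e]; norm_num⟩)
    · exact Or.inl (by rw [hv, e]; norm_num)
    · exact Or.inr (Or.inr ⟨e, by rw [hv, Nat.cast_sub (by omega)]; norm_num⟩)
  · exact Or.inl h

theorem big_of_pos {χ : IrrCharacter G} (hχ : χ ≠ pr) (hpos : 0 < ((χ : G → ℂ) u).re) :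
    ∃ f : ℕ, 5 ≤ f ∧ (χ : G → ℂ) 1 = f ∧ (χ : G → ℂ) u = ((f - 4 : ℕ) : ℂ) := by
  obtain ⟨f, -, hf, h | ⟨-, h⟩ | ⟨h5, h⟩⟩ := cases hH hχ
  · rw [h] at hpos; norm_num at hpos
  · rw [h] at hpos; norm_num at hpos
  · exact ⟨f, h5, hf, h⟩

theorem exists_pos_constituent {φ : G → ℂ} (hφ : IsCharacter G φ) {D : ℕ} (hD : φ 1 = D)
    (hone : classInner φ (fun _ => (1 : ℂ)) = 0) (hpos : 0 < (φ u).re) :
    ∃ (ξ : IrrCharacter G) (f : ℕ), ξ ≠ pr ∧ classInner φ (ξ : G → ℂ) ≠ 0 ∧ 5 ≤ f ∧ f ≤ D ∧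
      f + 1 ≠ D ∧ (ξ : G → ℂ) 1 = f ∧ 0 < ((ξ : G → ℂ) u).re := by
  classical
  obtain ⟨m, hm⟩ := exists_multiplicities hφ
  have hval : (φ u).re = ∑ ψ : IrrCharacter G, (m ψ : ℝ) * ((ψ : G → ℂ) u).re := by
    rw [hm]
    simp [Finset.sum_apply, Complex.re_sum, Complex.mul_re]
  obtain ⟨ξ, -, hξ⟩ := Finset.exists_lt_of_sum_lt
    (show ∑ ψ : IrrCharacter G, (0 : ℝ) < ∑ ψ : IrrCharacter G, (m ψ : ℝ) * ((ψ : G → ℂ) u).re by
      rw [← hval]; simpa using hpos)
  have hm0 : (m ξ : ℂ) ≠ 0 := by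
    intro h0
    rw [Nat.cast_eq_zero.mp h0] at hξ
    simp at hξ
  have hin : classInner φ (ξ : G → ℂ) ≠ 0 := by rwa [hm, classInner_sum_smul_irr]
  have hpos' : 0 < ((ξ : G → ℂ) u).re := (pos_iff_pos_of_mul_pos hξ).mp (by
    have : m ξ ≠ 0 := fun h => hm0 (by rw [h, Nat.cast_zero])
    exact_mod_cast Nat.pos_of_ne_zero this)
  have hne : ξ ≠ pr := by rintro rfl; exact hin hone
  obtain ⟨f, h5, hf, -⟩ := big_of_pos hH hne hpos'
  refine ⟨ξ, f, hne, hin, h5, ?_, fun hp => ?_, hf, hpos'⟩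
  · obtain ⟨r, hr⟩ := exists_nat_degree (isCharacter_sub_constituent hφ hin)
    rw [Pi.sub_apply, hD, hf, sub_eq_iff_eq_add, ← Nat.cast_add, Nat.cast_inj] at hr
    omega
  · exact principal_of_pred hφ (linear_eq_pr hH) hin hf (by rw [hD, hp]) hone

theorem irr_of_small {φ : G → ℂ} (hφ : IsCharacter G φ) {D : ℕ} (hD : φ 1 = D) (hD6 : D ≤ 6)
    (hone : classInner φ (fun _ => (1 : ℂ)) = 0) (hpos : 0 < (φ u).re) :
    IsIrrCharacter G φ := by
  obtain ⟨ξ, f, -, hin, h5, hle, hne, hf, -⟩ := exists_pos_constituent hH hφ hD hone hpos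
  have hfD : f = D := by omega
  have := eq_zero_of_degree_zero (isCharacter_sub_constituent hφ hin)
    (by rw [Pi.sub_apply, hD, hf, hfD, sub_self])
  rw [sub_eq_zero.mp this]
  exact ξ.2

open _root_.Classical in
/-- The characters of degree three with a non-zero value at `u`. -/
noncomputable def threes (u : G) : Finset (IrrCharacter G) :=
  Finset.univ.filter fun χ => (χ : G → ℂ) 1 = 3 ∧ (χ : G → ℂ) u ≠ 0

open _root_.Classical in
/-- The characters with a positive value at `u`. -/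
noncomputable def bigs (u : G) : Finset (IrrCharacter G) :=
  Finset.univ.filter fun χ => χ ≠ pr ∧ 0 < ((χ : G → ℂ) u).re

omit hH in
theorem mem_threes {χ : IrrCharacter G} :
    χ ∈ threes u ↔ (χ : G → ℂ) 1 = 3 ∧ (χ : G → ℂ) u ≠ 0 := by
  classical simp [threes]

omit hH in
theorem mem_bigs {χ : IrrCharacter G} :
    χ ∈ bigs u ↔ χ ≠ pr ∧ 0 < ((χ : G → ℂ) u).re := by
  classical simp [bigs]

omit hH in
theorem ne_pr_of_three {χ : IrrCharacter G} (h : (χ : G → ℂ) 1 = 3) : χ ≠ pr := by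
  rintro rfl
  change (1 : ℂ) = 3 at h
  norm_num at h

theorem value_three {χ : IrrCharacter G} (hχ : χ ∈ threes u) : (χ : G → ℂ) u = -1 := by
  rw [mem_threes] at hχ
  obtain ⟨f, -, hf, h | ⟨-, h⟩ | ⟨h5, -⟩⟩ := cases hH (ne_pr_of_three hχ.1)
  · exact absurd h hχ.2
  · exact h
  · exfalso
    rw [hχ.1] at hf
    have : (3 : ℕ) = f := by exact_mod_cast hf
    omega

/-- Sums over the irreducible characters weighted by the value at `u`. -/
theorem sum_split (a : IrrCharacter G → ℂ) :
    ∑ χ : IrrCharacter G, a χ * conj ((χ : G → ℂ) u) =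
      a pr - ∑ χ ∈ threes u, a χ + ∑ χ ∈ bigs u, a χ * (χ : G → ℂ) u := by
  classical
  have hpr : pr ∉ threes u := fun h => ne_pr_of_three (mem_threes.mp h).1 rfl
  have hd : Disjoint (threes u) (bigs u) := Finset.disjoint_left.mpr fun χ h h' => by
    have := (mem_bigs.mp h').2
    rw [value_three hH h] at this
    norm_num at this
  have hpr' : pr ∉ bigs u := fun h => (mem_bigs.mp h).1 rfl
  rw [← Finset.sum_subset (Finset.subset_univ (insert pr (threes u ∪ bigs u)))
    (fun χ _ hχ => ?_), Finset.sum_insert (by simp [hpr, hpr']), Finset.sum_union hd,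
    show conj (((pr : IrrCharacter G) : G → ℂ) u) = 1 by simp [pr], mul_one,
    Finset.sum_congr rfl fun (χ : IrrCharacter G) hχ => show a χ * conj ((χ : G → ℂ) u) = -a χ by
      rw [value_three hH hχ]; simp,
    Finset.sum_congr rfl fun (χ : IrrCharacter G) hχ => show a χ * conj ((χ : G → ℂ) u) = a χ * (χ : G → ℂ) u by
      obtain ⟨f, -, -, h⟩ := big_of_pos hH (mem_bigs.mp hχ).1 (mem_bigs.mp hχ).2
      rw [h, Complex.conj_natCast],
    Finset.sum_neg_distrib]
  · ring
  · simp only [Finset.mem_insert, Finset.mem_union, not_or] at hχ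
    obtain ⟨f, -, hf, h | ⟨h3, h⟩ | ⟨h5, h⟩⟩ := cases hH hχ.1
    · rw [h, map_zero, mul_zero]
    · exact absurd (mem_threes.mpr ⟨by rw [hf, h3, Nat.cast_ofNat], by rw [h]; norm_num⟩) hχ.2.1
    · refine absurd (mem_bigs.mpr ⟨hχ.1, ?_⟩) hχ.2.2
      rw [h, Complex.natCast_re]
      exact_mod_cast (by omega : 0 < f - 4)

/-- The degree of a character as a natural number. -/
noncomputable def dg (χ : IrrCharacter G) : ℕ :=
  Classical.choose (exists_nat_degree_irr χ.2)

omit hH in
theorem degree_eq (χ : IrrCharacter G) : (χ : G → ℂ) 1 = dg χ :=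
  (Classical.choose_spec (exists_nat_degree_irr χ.2)).2

theorem big_spec {χ : IrrCharacter G} (hχ : χ ∈ bigs u) :
    5 ≤ dg χ ∧ (χ : G → ℂ) u = ((dg χ - 4 : ℕ) : ℂ) := by
  obtain ⟨f, h5, hf, h⟩ := big_of_pos hH (mem_bigs.mp hχ).1 (mem_bigs.mp hχ).2
  rw [degree_eq, Nat.cast_inj] at hf
  exact hf ▸ ⟨h5, h⟩

/-- The degree equation. -/
theorem degree_equation :
    (∑ χ ∈ bigs u, dg χ * (dg χ - 4)) + 1 = 3 * (threes u).card := by
  classical
  have h := column_orthogonality (1 : G) u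
  rw [if_neg (fun hc => hH.ne_one (isConj_one_right.mp hc)), sum_split hH,
    Finset.sum_congr rfl fun (χ : IrrCharacter G) hχ => (mem_threes.mp hχ).1,
    Finset.sum_congr rfl fun (χ : IrrCharacter G) hχ => show (χ : G → ℂ) 1 * (χ : G → ℂ) u =
      ((dg χ * (dg χ - 4) : ℕ) : ℂ) by rw [degree_eq, (big_spec hH hχ).2, Nat.cast_mul],
    ← Nat.cast_sum, Finset.sum_const, nsmul_eq_mul,
    show ((pr : IrrCharacter G) : G → ℂ) 1 = 1 from rfl] at h
  have h' : (((∑ χ ∈ bigs u, dg χ * (dg χ - 4)) + 1 : ℕ) : ℂ) = ((3 * (threes u).card : ℕ) : ℂ) := by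
    push_cast at h ⊢
    linear_combination h
  exact_mod_cast h'

omit hH in
theorem exists_rep_three {χ : IrrCharacter G} (h : (χ : G → ℂ) 1 = 3) :
    ∃ ρ : Representation ℂ G (Fin 3 → ℂ), ρ.IsIrreducible ∧ ρ.character = (χ : G → ℂ) := by
  obtain ⟨n, ρ, hρ, e⟩ := χ.2
  rw [← e, Representation.char_one, Module.finrank_fin_fun] at h
  have hn : n = 3 := by exact_mod_cast h
  subst hn
  exact ⟨ρ, hρ, e⟩

theorem sq_three {χ : IrrCharacter G} (h : (χ : G → ℂ) 1 = 3) (g : G) :
    (χ : G → ℂ) g * (χ : G → ℂ) g = (χ : G → ℂ) (g * g) + 2 * conj ((χ : G → ℂ) g) := by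
  obtain ⟨ρ, -, e⟩ := exists_rep_three h
  rw [← e]
  exact ThreeSixty.sq_eq ρ (perfect hH) g

theorem value_sq {χ : IrrCharacter G} (hχ : χ ∈ threes u) : (χ : G → ℂ) (u * u) = 3 := by
  have h := sq_three hH (mem_threes.mp hχ).1 u
  rw [value_three hH hχ, map_neg, map_one] at h
  linear_combination -h

/-- The symmetric square less the conjugate. -/
theorem isCharacter_sym {χ : IrrCharacter G} (h : (χ : G → ℂ) 1 = 3) :
    IsCharacter G fun g => (χ : G → ℂ) g * (χ : G → ℂ) g - conj ((χ : G → ℂ) g) := by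
  rw [show (fun g => (χ : G → ℂ) g * (χ : G → ℂ) g - conj ((χ : G → ℂ) g)) =
    fun g => ((χ : G → ℂ) g * (χ : G → ℂ) g + (χ : G → ℂ) (g * g)) / 2 from funext fun g => by
      linear_combination (1 / 2 : ℂ) * sq_three hH h g]
  exact isCharacter_symmSquare (isCharacter_of_isIrr χ.2)

omit hH in
theorem classInner_mul_one (φ ψ : G → ℂ) :
    classInner (fun g => φ g * ψ g) (fun _ => (1 : ℂ)) = classInner φ (fun g => conj (ψ g)) := by
  simp [classInner]

omit hH in
/-- Moving factors between the two sides. -/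
theorem classInner_mul_mul (a b c d : G → ℂ) :
    classInner (fun g => a g * b g) (fun g => c g * d g) =
      classInner (fun g => a g * conj (c g)) (fun g => d g * conj (b g)) := by
  simp only [classInner, map_mul, Complex.conj_conj]
  congr 1
  exact Finset.sum_congr rfl fun g _ => by ring

theorem real_of_three {χ : IrrCharacter G} (hχ : χ ∈ threes u) (g : G) :
    conj ((χ : G → ℂ) g) = (χ : G → ℂ) g := by
  classical
  by_contra hg
  have h3 := (mem_threes.mp hχ).1
  set c : G → ℂ := (χ : G → ℂ) with hc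
  set cb : G → ℂ := fun g => conj (c g) with hcb
  have hirr_cb : IsIrrCharacter G cb := isIrrCharacter_conj χ.2
  have hne : c ≠ cb := fun h => hg (congrFun h g).symm
  have hne' : c ≠ fun _ => (1 : ℂ) := fun h => ne_pr_of_three h3 (Subtype.ext h)
  have hccone : classInner (fun g => c g * c g) (fun _ => (1 : ℂ)) = 0 := by
    rw [classInner_mul_one]; exact classInner_irr_ne χ.2 hirr_cb hne
  -- the symmetric square is irreducible of degree 6
  set S : G → ℂ := fun g => c g * c g - cb g with hS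
  have hSc : IsCharacter G S := isCharacter_sym hH h3
  have hS1 : S 1 = ((6 : ℕ) : ℂ) := by
    simp only [hS, hcb, h3]; norm_num [Complex.conj_ofNat]
  have hSu : S u = 2 := by
    simp only [hS, hcb, hc, value_three hH hχ]; norm_num
  have hcbone : classInner cb (fun _ => (1 : ℂ)) = 0 := by
    refine classInner_irr_ne hirr_cb isIrrCharacter_one fun h => hne' ?_
    funext x
    have := congrArg conj (congrFun h x)
    simpa [hcb] using this
  have hSone : classInner S (fun _ => (1 : ℂ)) = 0 := by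
    rw [show S = (fun g => c g * c g) - cb from rfl, classInner_sub_left, hccone, hcbone, sub_self]
  have hSirr : IsIrrCharacter G S := irr_of_small hH hSc hS1 le_rfl hSone (by rw [hSu]; norm_num)
  have hSne : S ≠ cb := fun h => by
    have := congrFun h 1
    rw [hS1] at this
    simp only [hcb, h3] at this
    norm_num [Complex.conj_ofNat] at this
  -- hence `χ χ̄ = 1 + η` with `η` irreducible of degree 8
  set P : G → ℂ := fun g => c g * cb g with hP
  have hPc : IsCharacter G P :=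
    isCharacter_mul (isCharacter_of_isIrr χ.2) (isCharacter_of_isIrr hirr_cb)
  have hPP : classInner P P = 2 := by
    have h1 : classInner P P = classInner (fun g => c g * c g) (fun g => c g * c g) := by
      simp only [hP, hcb, classInner, map_mul, Complex.conj_conj]
      congr 1
      exact Finset.sum_congr rfl fun g _ => by ring
    rw [h1, show (fun g => c g * c g) = S + cb by funext g; simp [hS], classInner_add_left,
      classInner_add_right, classInner_add_right, classInner_irr_self hSirr,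
      classInner_irr_self hirr_cb, classInner_irr_ne hSirr hirr_cb hSne,
      classInner_irr_ne hirr_cb hSirr (Ne.symm hSne)]
    ring
  have hP1 : classInner P (fun _ => (1 : ℂ)) = 1 := by
    rw [hP, classInner_mul_one]
    simp only [hcb, Complex.conj_conj]
    exact classInner_irr_self χ.2
  have hηc : IsCharacter G (P - (pr : IrrCharacter G)) :=
    isCharacter_sub_constituent hPc (ξ := pr) (by
      show classInner P (fun _ => (1 : ℂ)) ≠ 0
      rw [hP1]; exact one_ne_zero)
  have h1P : classInner (fun _ => (1 : ℂ)) P = 1 := by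
    rw [← classInner_conj_symm, hP1, map_one]
  have hηirr : IsIrrCharacter G (P - (pr : IrrCharacter G)) := isIrr_of_norm_one hηc (by
    show classInner (P - fun _ => (1 : ℂ)) (P - fun _ => (1 : ℂ)) = 1
    rw [classInner_sub_left, classInner_sub_right, classInner_sub_right, hPP, hP1, h1P,
      classInner_irr_self isIrrCharacter_one]
    ring)
  let η : IrrCharacter G := ⟨_, hηirr⟩
  have hη8 : (η : G → ℂ) 1 = ((8 : ℕ) : ℂ) := by
    show P 1 - 1 = _
    simp only [hP, hcb, h3]; norm_num [Complex.conj_ofNat]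
  -- products with `χ` have different constituents of large degree
  let cbI : IrrCharacter G := ⟨cb, hirr_cb⟩
  let prod : IrrCharacter G → G → ℂ := fun ψ g => c g * (ψ : G → ℂ) g
  have hprodc : ∀ ψ, IsCharacter G (prod ψ) := fun ψ =>
    isCharacter_mul (isCharacter_of_isIrr χ.2) (isCharacter_of_isIrr ψ.2)
  have hbig : ∀ ψ ∈ (threes u).erase cbI, ∃ ξ ∈ bigs u, classInner (prod ψ) (ξ : G → ℂ) ≠ 0 := by
    intro ψ hψ
    rw [Finset.mem_erase] at hψ
    obtain ⟨ξ, f, hξ, hin, -, -, -, -, hpos⟩ := exists_pos_constituent hH (hprodc ψ) (D := 9)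
      (show c 1 * (ψ : G → ℂ) 1 = _ by rw [h3, (mem_threes.mp hψ.2).1]; norm_num)
      (by
        show classInner (fun g => c g * (ψ : G → ℂ) g) (fun _ => (1 : ℂ)) = 0
        rw [classInner_mul_one]
        refine classInner_irr_ne χ.2 (isIrrCharacter_conj ψ.2) fun h => hψ.1 (Subtype.ext ?_)
        funext x
        have := congrArg conj (congrFun h x)
        simpa [hcb] using this.symm)
      (by show 0 < (c u * (ψ : G → ℂ) u).re; rw [hc, value_three hH hχ, value_three hH hψ.2]; norm_num)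
    exact ⟨ξ, mem_bigs.mpr ⟨hξ, hpos⟩, hin⟩
  choose! B hB hBin using hbig
  have horth : ∀ ψ ∈ threes u, ∀ ψ' ∈ threes u, ψ ≠ ψ' →
      classInner (prod ψ) (prod ψ') = 0 := by
    intro ψ hψ ψ' hψ' hd
    set φ : G → ℂ := fun g => (ψ' : G → ℂ) g * conj ((ψ : G → ℂ) g) with hφ
    have hφc : IsCharacter G φ :=
      isCharacter_mul (isCharacter_of_isIrr ψ'.2) (isCharacter_conj (isCharacter_of_isIrr ψ.2))
    have hφone : classInner φ (fun _ => (1 : ℂ)) = 0 := by
      rw [hφ, classInner_mul_one]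
      simp only [Complex.conj_conj]
      exact classInner_irr_ne ψ'.2 ψ.2 fun h => hd (Subtype.ext h.symm)
    have hφη : classInner φ (η : G → ℂ) = 0 := by
      by_contra hne0
      refine principal_of_pred hφc (linear_eq_pr hH) hne0 hη8 ?_ hφone
      simp only [hφ, (mem_threes.mp hψ).1, (mem_threes.mp hψ').1]
      norm_num [Complex.conj_ofNat]
    show classInner (fun g => c g * (ψ : G → ℂ) g) (fun g => c g * (ψ' : G → ℂ) g) = 0
    rw [classInner_mul_mul, ← classInner_conj_symm, show (fun g => c g * conj (c g)) =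
      (η : G → ℂ) + fun _ => (1 : ℂ) by funext x; simp [η, hP, hcb, pr], classInner_add_right,
      show (fun g => (ψ' : G → ℂ) g * conj ((ψ : G → ℂ) g)) = φ from rfl, hφη, hφone, add_zero,
      map_zero]
  have hinj : Set.InjOn B ((threes u).erase cbI) := by
    intro ψ hψ ψ' hψ' he
    by_contra hd
    refine classInner_ne_zero_of_common (hprodc ψ) (hprodc ψ') (hBin ψ hψ) ?_
      (horth ψ (Finset.mem_of_mem_erase hψ) ψ' (Finset.mem_of_mem_erase hψ') hd)
    rw [he]
    exact hBin ψ' hψ'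
  have hcard : ((threes u).erase cbI).card ≤ (bigs u).card :=
    Finset.card_le_card_of_injOn B (fun ψ hψ => hB ψ hψ) hinj
  have hcard' : (threes u).card - 1 ≤ ((threes u).erase cbI).card := Finset.pred_card_le_card_erase
  have h5 : (bigs u).card * 5 ≤ ∑ ξ ∈ bigs u, dg ξ * (dg ξ - 4) := by
    rw [← smul_eq_mul, ← Finset.sum_const]
    refine Finset.sum_le_sum fun ξ hξ => ?_
    have := (big_spec hH hξ).1
    nlinarith [show 1 ≤ dg ξ - 4 by omega]
  have hSmem : (⟨S, hSirr⟩ : IrrCharacter G) ∈ bigs u := by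
    refine mem_bigs.mpr ⟨fun h => ?_, by show 0 < (S u).re; rw [hSu]; norm_num⟩
    have := congrFun (congrArg Subtype.val h) 1
    change S 1 = 1 at this
    rw [hS1] at this
    norm_num at this
  have hd6 : dg (⟨S, hSirr⟩ : IrrCharacter G) = 6 := by
    have := degree_eq (⟨S, hSirr⟩ : IrrCharacter G)
    change S 1 = _ at this
    rw [hS1, Nat.cast_inj] at this
    exact this.symm
  have h12 := Finset.single_le_sum (f := fun ξ => dg ξ * (dg ξ - 4)) (fun _ _ => Nat.zero_le _) hSmem
  simp only [hd6] at h12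
  have := degree_equation hH
  omega

theorem exists_sigma {χ : IrrCharacter G} (hχ : χ ∈ threes u) :
    ∃ σ : IrrCharacter G, σ ∈ bigs u ∧ (σ : G → ℂ) 1 = 5 ∧ (σ : G → ℂ) u = 1 ∧
      ∀ g, (χ : G → ℂ) g * (χ : G → ℂ) g = (σ : G → ℂ) g + (χ : G → ℂ) g + 1 := by
  classical
  have h3 := (mem_threes.mp hχ).1
  have hr := real_of_three hH hχ
  have hS := isCharacter_sym hH h3
  have hS1 : classInner (fun g => (χ : G → ℂ) g * (χ : G → ℂ) g - conj ((χ : G → ℂ) g))
      (fun _ => (1 : ℂ)) = 1 := by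
    rw [show (fun g => (χ : G → ℂ) g * (χ : G → ℂ) g - conj ((χ : G → ℂ) g)) =
      (fun g => (χ : G → ℂ) g * (χ : G → ℂ) g) - (χ : G → ℂ) from funext fun g => by simp [hr],
      classInner_sub_left, classInner_mul_one,
      show (fun g => conj ((χ : G → ℂ) g)) = (χ : G → ℂ) from funext hr, classInner_irr_self χ.2,
      classInner_irr_ne χ.2 isIrrCharacter_one fun h => ne_pr_of_three h3 (Subtype.ext h), sub_zero]
  have hσc := isCharacter_sub_constituent hS (ξ := pr) (by
    show classInner _ (fun _ => (1 : ℂ)) ≠ 0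
    rw [hS1]; exact one_ne_zero)
  set s := (fun g => (χ : G → ℂ) g * (χ : G → ℂ) g - conj ((χ : G → ℂ) g)) -
    ((pr : IrrCharacter G) : G → ℂ) with hs
  have hs1 : s 1 = ((5 : ℕ) : ℂ) := by simp only [hs, Pi.sub_apply, h3, pr]; norm_num [Complex.conj_ofNat]
  have hsu : s u = 1 := by simp only [hs, Pi.sub_apply, value_three hH hχ, pr]; norm_num
  have hirr : IsIrrCharacter G s := irr_of_small hH hσc hs1 (by norm_num) (by
    show classInner ((fun g => (χ : G → ℂ) g * (χ : G → ℂ) g - conj ((χ : G → ℂ) g)) -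
      fun _ => (1 : ℂ)) (fun _ => (1 : ℂ)) = 0
    rw [classInner_sub_left, hS1, classInner_irr_self isIrrCharacter_one, sub_self])
    (by rw [hsu]; norm_num)
  refine ⟨⟨s, hirr⟩, mem_bigs.mpr ⟨fun h => ?_, by show 0 < (s u).re; rw [hsu]; norm_num⟩,
    by show s 1 = 5; rw [hs1]; norm_num, hsu, fun g => ?_⟩
  · have := congrFun (congrArg Subtype.val h) 1
    change s 1 = 1 at this
    rw [hs1] at this
    norm_num at this
  · show _ = s g + _ + 1
    simp only [hs, Pi.sub_apply, pr, hr]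
    ring

theorem sigma_unique {χ ψ σ τ : IrrCharacter G} (hχ : χ ∈ threes u) (hψ : ψ ∈ threes u)
    (hσ5 : (σ : G → ℂ) 1 = 5) (hσ : ∀ g, (χ : G → ℂ) g * (χ : G → ℂ) g = (σ : G → ℂ) g + (χ : G → ℂ) g + 1)
    (hτ5 : (τ : G → ℂ) 1 = 5) (hτ : ∀ g, (ψ : G → ℂ) g * (ψ : G → ℂ) g = (τ : G → ℂ) g + (ψ : G → ℂ) g + 1) :
    σ = τ := by
  classical
  by_cases hd : χ = ψ
  · subst hd
    exact Subtype.ext (funext fun g => by linear_combination hτ g - hσ g)
  by_contra hst
  have h3 := (mem_threes.mp hχ).1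
  have h3' := (mem_threes.mp hψ).1
  have hdiff : ∀ {a b : IrrCharacter G}, (a : G → ℂ) 1 ≠ (b : G → ℂ) 1 →
      classInner (a : G → ℂ) (b : G → ℂ) = 0 := fun h =>
    classInner_irr_ne (Subtype.prop _) (Subtype.prop _) fun e => h (congrFun e 1)
  set φ : G → ℂ := fun g => (χ : G → ℂ) g * (ψ : G → ℂ) g with hφ
  have hn : classInner φ φ = 1 := by
    rw [hφ, classInner_mul_mul,
      show (fun g => (χ : G → ℂ) g * conj ((χ : G → ℂ) g)) =
        (σ : G → ℂ) + (χ : G → ℂ) + ((pr : IrrCharacter G) : G → ℂ) from funext fun g => by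
          rw [real_of_three hH hχ, hσ]; rfl,
      show (fun g => (ψ : G → ℂ) g * conj ((ψ : G → ℂ) g)) =
        (τ : G → ℂ) + (ψ : G → ℂ) + ((pr : IrrCharacter G) : G → ℂ) from funext fun g => by
          rw [real_of_three hH hψ, hτ]; rfl]
    simp only [classInner_add_left, classInner_add_right]
    rw [classInner_irr_ne σ.2 τ.2 fun e => hst (Subtype.ext e),
      classInner_irr_ne χ.2 ψ.2 fun e => hd (Subtype.ext e),
      classInner_irr_self (pr : IrrCharacter G).2,
      hdiff (a := σ) (b := ψ) (by rw [hσ5, h3']; norm_num),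
      hdiff (a := σ) (b := pr) (by rw [hσ5]; show (5 : ℂ) ≠ 1; norm_num),
      hdiff (a := χ) (b := τ) (by rw [hτ5, h3]; norm_num),
      hdiff (a := χ) (b := pr) (by rw [h3]; show (3 : ℂ) ≠ 1; norm_num),
      hdiff (a := pr) (b := τ) (by rw [hτ5]; show (1 : ℂ) ≠ 5; norm_num),
      hdiff (a := pr) (b := ψ) (by rw [h3']; show (1 : ℂ) ≠ 3; norm_num)]
    ring
  have hirr := isIrr_of_norm_one
    (isCharacter_mul (isCharacter_of_isIrr χ.2) (isCharacter_of_isIrr ψ.2)) hn
  let ξ : IrrCharacter G := ⟨_, hirr⟩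
  have h9 : (ξ : G → ℂ) 1 = 9 := by
    show (χ : G → ℂ) 1 * (ψ : G → ℂ) 1 = 9
    rw [h3, h3']; norm_num
  have hu1 : (ξ : G → ℂ) u = 1 := by
    show (χ : G → ℂ) u * (ψ : G → ℂ) u = 1
    rw [value_three hH hχ, value_three hH hψ]; norm_num
  have hξ : ξ ≠ pr := fun e => by
    rw [e] at h9
    change (1 : ℂ) = 9 at h9
    norm_num at h9
  rcases hH.values ξ hξ with h | h <;> rw [hu1] at h
  · rw [h9] at h; norm_num at h
  · exact one_ne_zero h

/-- The conclusion of the character-theoretic part. -/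
theorem main : ∃ K : Subgroup G, K.Normal ∧ K.index = 60 ∧ u ∉ K ∧ u * u ∈ K ∧
    Nat.card (Subgroup.centralizer ({u} : Set G)) = 4 ∧
    ∀ g : G, g ∉ K → g * g ∈ K → IsConj g u := by
  classical
  have hdeg := degree_equation hH
  obtain ⟨χ, hχ⟩ : (threes u).Nonempty := by
    rw [← Finset.card_pos]; omega
  obtain ⟨σ, hσm, hσ5, hσu, hσ⟩ := exists_sigma hH hχ
  have hall : ∀ ψ ∈ threes u, ∀ g,
      (ψ : G → ℂ) g * (ψ : G → ℂ) g = (σ : G → ℂ) g + (ψ : G → ℂ) g + 1 := by
    intro ψ hψ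
    obtain ⟨τ, -, hτ5, -, hτ⟩ := exists_sigma hH hψ
    rw [sigma_unique hH hχ hψ hσ5 hσ hτ5 hτ]
    exact hτ
  obtain ⟨K, hKn, hK, -⟩ := exists_kernel (isCharacter_of_isIrr χ.2)
  haveI := hKn
  have h3 := (mem_threes.mp hχ).1
  have hσK : ∀ k ∈ K, (σ : G → ℂ) k = (σ : G → ℂ) 1 := fun k hk => by
    have h := hσ k
    rw [(hK k).mp hk, h3] at h
    rw [hσ5]
    linear_combination -h
  have hthreeK : ∀ ψ ∈ threes u, ∀ k, (σ : G → ℂ) k = 5 → (ψ : G → ℂ) k = 3 := by
    intro ψ hψ k hk
    have h := hall ψ hψ k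
    rw [hk] at h
    have h' : ((ψ : G → ℂ) k - 3) * ((ψ : G → ℂ) k + 2) = 0 := by linear_combination h
    refine sub_eq_zero.mp ((mul_eq_zero.mp h').resolve_right fun h2 => ?_)
    have hsq := sq_three hH (mem_threes.mp hψ).1 k
    rw [show (ψ : G → ℂ) k = -2 by linear_combination h2, map_neg, Complex.conj_ofNat] at hsq
    obtain ⟨ρ, -, e⟩ := exists_rep_three (mem_threes.mp hψ).1
    have hb := norm_character_le ρ (k * k)
    rw [e, Module.finrank_fin_fun, show (ψ : G → ℂ) (k * k) = 8 by linear_combination -hsq] at hb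
    norm_num at hb
  have hKall : ∀ ψ ∈ threes u, ∀ k ∈ K, (ψ : G → ℂ) k = 3 := fun ψ hψ k hk =>
    hthreeK ψ hψ k ((hσK k hk).trans hσ5)
  have huK : u ∉ K := fun h => value_ne_degree hH (ne_pr_of_three h3) ((hK u).mp h)
  -- the quotient has order 60
  have h60 : Nat.card (G ⧸ K) = 60 := by
    obtain ⟨ρ, hρ, e⟩ := exists_rep_three h3
    have hker : K ≤ MonoidHom.ker (ρ : G →* Module.End ℂ (Fin 3 → ℂ)) := fun k hk => by
      rw [MonoidHom.mem_ker]
      refine (character_eq_finrank_iff ρ k).mp ?_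
      rw [← Representation.char_one ρ, e]
      exact (hK k).mp hk
    let ρ' : Representation ℂ (G ⧸ K) (Fin 3 → ℂ) := QuotientGroup.lift K ρ hker
    have h' : ρ'.comp (QuotientGroup.mk' K) = ρ := MonoidHom.ext fun g => rfl
    haveI : ρ'.IsIrreducible :=
      (CfsgLib.Blocks.isIrreducible_comp_of_surjective ρ' _ (QuotientGroup.mk'_surjective K)).mp
        (h'.symm ▸ hρ)
    have hval : ∀ g : G, ρ'.character (g : G ⧸ K) = (χ : G → ℂ) g := fun g => by rw [← e]; rfl
    refine ThreeSixty.card_eq_sixty ρ' ?_ (fun q => ?_) fun q hq => ?_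
    · rw [commutator_def, ← Subgroup.map_top_of_surjective (QuotientGroup.mk' K)
        (QuotientGroup.mk'_surjective K), ← Subgroup.map_commutator, ← commutator_def, perfect hH]
    · induction q using QuotientGroup.induction_on with
      | H g => rw [hval]; exact real_of_three hH hχ g
    · induction q using QuotientGroup.induction_on with
      | H g =>
        refine (QuotientGroup.eq_one_iff g).mpr ((hK g).mpr ?_)
        rw [← e, Representation.char_one]
        exact (character_eq_finrank_iff ρ g).mpr hq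
  -- at most three characters of degree three
  have hb : (threes u).card ≤ 3 := by
    have hmemK : ∀ ψ ∈ threes u ∪ {σ, pr}, ∀ k ∈ K, (ψ : G → ℂ) k = (ψ : G → ℂ) 1 := by
      intro ψ hψ k hk
      simp only [Finset.mem_union, Finset.mem_insert, Finset.mem_singleton] at hψ
      rcases hψ with h | rfl | rfl
      · rw [hKall ψ h k hk, (mem_threes.mp h).1]
      · exact hσK k hk
      · rfl
    haveI : Nonempty (IrrCharacter (G ⧸ K)) := ⟨⟨_, isIrrCharacter_one⟩⟩
    choose! η hη using fun ψ (hψ : ψ ∈ threes u ∪ {σ, pr}) => exists_descend K ψ (hmemK ψ hψ)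
    have hinj : Set.InjOn η (threes u ∪ {σ, pr} : Finset (IrrCharacter G)) := fun a ha b hb e =>
      Subtype.ext (by rw [hη a ha, hη b hb, e])
    haveI : Fintype (G ⧸ K) := Fintype.ofFinite _
    have hsum := sum_sq_degree (G := G ⧸ K)
    rw [h60] at hsum
    have hle : ∑ ψ ∈ threes u ∪ {σ, pr}, dg ψ ^ 2 ≤ 60 := by
      have hnat : (∑ ξ : IrrCharacter (G ⧸ K), dg ξ ^ 2) = 60 := by
        have : ((∑ ξ : IrrCharacter (G ⧸ K), dg ξ ^ 2 : ℕ) : ℂ) = ((60 : ℕ) : ℂ) := by
          push_cast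
          simp only [degree_eq] at hsum
          exact_mod_cast hsum
        exact_mod_cast this
      rw [← hnat, Finset.sum_congr rfl fun ψ hψ => show dg ψ ^ 2 = dg (η ψ) ^ 2 by
        have := congrFun (hη ψ hψ) 1
        rw [QuotientGroup.mk_one, degree_eq, degree_eq, Nat.cast_inj] at this
        rw [this],
        ← Finset.sum_image (f := fun ξ => dg ξ ^ 2) hinj]
      exact Finset.sum_le_sum_of_subset (Finset.subset_univ _)
    have hdg : ∀ {ψ : IrrCharacter G} {n : ℕ}, (ψ : G → ℂ) 1 = n → dg ψ = n := fun h => by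
      rw [degree_eq] at h; exact_mod_cast h
    have hd : Disjoint (threes u) ({σ, pr} : Finset (IrrCharacter G)) := by
      rw [Finset.disjoint_right]
      intro ψ hψ h
      simp only [Finset.mem_insert, Finset.mem_singleton] at hψ
      rcases hψ with rfl | rfl
      · have := (mem_threes.mp h).1
        rw [hσ5] at this
        norm_num at this
      · exact ne_pr_of_three (mem_threes.mp h).1 rfl
    have hσpr : σ ≠ pr := (mem_bigs.mp hσm).1
    rw [Finset.sum_union hd, Finset.sum_pair hσpr, hdg (n := 5) (by rw [hσ5]; norm_num),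
      hdg (ψ := pr) (n := 1) (by show (1 : ℂ) = _; norm_num),
      Finset.sum_congr rfl fun ψ hψ => show dg ψ ^ 2 = 9 by
        rw [hdg (n := 3) (by rw [(mem_threes.mp hψ).1]; norm_num)]; norm_num,
      Finset.sum_const, smul_eq_mul] at hle
    omega
  have hbigs : bigs u = {σ} ∧ (threes u).card = 2 := by
    have hd5 : dg σ = 5 := by
      have := degree_eq σ
      rw [hσ5] at this
      exact_mod_cast this.symm
    rw [← Finset.sum_erase_add _ _ hσm, hd5] at hdeg
    have h5 : ((bigs u).erase σ).card * 5 ≤ ∑ ξ ∈ (bigs u).erase σ, dg ξ * (dg ξ - 4) := by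
      rw [← smul_eq_mul, ← Finset.sum_const]
      refine Finset.sum_le_sum fun ξ hξ => ?_
      have := (big_spec hH (Finset.mem_of_mem_erase hξ)).1
      nlinarith [show 1 ≤ dg ξ - 4 by omega]
    have hcases : (threes u).card = 2 ∧ ((bigs u).erase σ).card = 0 := by
      rcases Nat.eq_zero_or_pos ((bigs u).erase σ).card with h0 | hpos
      · rw [Finset.card_eq_zero.mp h0, Finset.sum_empty] at hdeg
        omega
      · omega
    refine ⟨Finset.eq_singleton_iff_unique_mem.mpr ⟨hσm, fun ξ hξ => ?_⟩, hcases.1⟩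
    by_contra hne
    exact Finset.notMem_empty ξ (Finset.card_eq_zero.mp hcases.2 ▸ Finset.mem_erase.mpr ⟨hne, hξ⟩)
  have hkey : ∀ g : G, g ∉ K → g * g ∈ K →
      ∑ ψ : IrrCharacter G, (ψ : G → ℂ) g * conj ((ψ : G → ℂ) u) = 4 := by
    intro g hg hgg
    have hv : ∀ ψ ∈ threes u, (ψ : G → ℂ) g = -1 := by
      intro ψ hψ
      have h := sq_three hH (mem_threes.mp hψ).1 g
      rw [real_of_three hH hψ, hKall ψ hψ _ hgg] at h
      have h' : ((ψ : G → ℂ) g - 3) * ((ψ : G → ℂ) g + 1) = 0 := by linear_combination h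
      refine eq_neg_of_add_eq_zero_left ((mul_eq_zero.mp h').resolve_left fun h3' => hg ?_)
      rw [hK, h3]
      refine hthreeK χ hχ g ?_
      have h2 := hall ψ hψ g
      rw [sub_eq_zero.mp h3'] at h2
      linear_combination -h2
    have hσg : (σ : G → ℂ) g = 1 := by
      have h2 := hσ g
      rw [hv χ hχ] at h2
      linear_combination -h2
    rw [sum_split hH, hbigs.1, Finset.sum_singleton, hσg, hσu, Finset.sum_congr rfl hv,
      Finset.sum_const, hbigs.2]
    show (1 : ℂ) - _ + _ = 4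
    norm_num
  have huu : u * u ∈ K := (hK _).mpr (by rw [value_sq hH hχ, h3])
  have hC : Nat.card (Subgroup.centralizer ({u} : Set G)) = 4 := by
    have h := column_orthogonality u u
    rw [if_pos (IsConj.refl u), hkey u huK huu] at h
    exact_mod_cast h.symm
  refine ⟨K, hKn, by rw [Subgroup.index]; exact h60, huK, huu, hC, fun g hg hgg => ?_⟩
  by_contra hn
  have h := column_orthogonality g u
  rw [if_neg hn, hkey g hg hgg] at h
  norm_num at h

end CfsgLib.Char.MinusFour
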